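import Groth.Prelude.Def_CoactBr
import Mathlib.AlgebraicGeometry.Group.Affine

/-! Affine schemes over `Spec R` as spectra of algebras. -/

set_option autoImplicit false
universe u

open CategoryTheory MonoidalCategory CartesianMonoidalCategory AlgebraicGeometry Opposite
open scoped TensorProduct

noncomputable section

namespace Groth.Agent.Misc15.AffinePoints

variable {R : Type u} [CommRing R]

theorem pt_surjective {B K : Type u} [CommRing B] [CommRing K] [Algebra R B] [Algebra R K]
    (f : CoactBr.sp R K ⟶ CoactBr.sp R B) : ∃ φ : B →ₐ[R] K, CoactBr.pt φ = f := by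
  let h : B →+* K := (Spec.preimage f.left).hom
  have hc : CommRingCat.ofHom (algebraMap R B) ≫ Spec.preimage f.left = CommRingCat.ofHom (algebraMap R K) := by
    apply Spec.map_injective
    rw [Spec.map_comp, Spec.map_preimage]
    exact Over.w f
  refine ⟨{ h with commutes' := fun r => congr($hc r) }, ?_⟩
  ext1
  rw [CoactBr.pt_left]
  exact Spec.map_preimage f.left

/-- an affine object of `Over (Spec R)` is `Spec` of an algebra -/
theorem exists_sp (X : Over (Spec (CommRingCat.of R))) [IsAffine X.left] :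
    ∃ (A : Type u) (_ : CommRing A) (_ : Algebra R A), Nonempty (CoactBr.sp R A ≅ X) := by
  letI : Algebra R Γ(X.left, ⊤) := (Spec.preimage (X.left.isoSpec.inv ≫ X.hom)).hom.toAlgebra
  exact ⟨Γ(X.left, ⊤), inferInstance, inferInstance, ⟨Over.isoMk X.left.isoSpec.symm (Spec.map_preimage _).symm⟩⟩

local instance braidedAlgSpecOf (R : Type u) [CommRing R] : (algSpec (CommRingCat.of R)).Braided :=
  braidedAlgSpec

/-- `Spec (B ⊗ C) ⟶ Spec B ×_R Spec C` -/
abbrev Q (B C : Type u) [CommRing B] [CommRing C] [Algebra R B] [Algebra R C] :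
    CoactBr.sp R (B ⊗[R] C) ⟶ CoactBr.sp R B ⊗ CoactBr.sp R C :=
  CartesianMonoidalCategory.lift (CoactBr.pt (Algebra.TensorProduct.includeLeft : B →ₐ[R] B ⊗[R] C))
    (CoactBr.pt (Algebra.TensorProduct.includeRight : C →ₐ[R] B ⊗[R] C))

theorem isIso_Q (B C : Type u) [CommRing B] [CommRing C] [Algebra R B] [Algebra R C] : IsIso (Q (R := R) B C) := by
  have e : Q (R := R) B C ≫
        Functor.LaxMonoidal.μ (algSpec (CommRingCat.of R)) (op (.of R B)) (op (.of R C)) = 𝟙 _ := by
    rw [CoactBr.lift_pt_pt, Algebra.TensorProduct.lift_includeLeft_includeRight, CoactBr.pt_id]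
  have hiso : IsIso (Q (R := R) B C ≫
        Functor.LaxMonoidal.μ (algSpec (CommRingCat.of R)) (op (.of R B)) (op (.of R C))) := by
    rw [e]; exact IsIso.id (CoactBr.sp R (B ⊗[R] C))
  have hμ : IsIso (Functor.LaxMonoidal.μ (algSpec (CommRingCat.of R)) (op (.of R B)) (op (.of R C))) :=
    inferInstance
  exact @IsIso.of_isIso_comp_right _ _ _ _ _ (Q (R := R) B C)
    (Functor.LaxMonoidal.μ (algSpec (CommRingCat.of R)) (op (.of R B)) (op (.of R C))) hμ hiso

theorem pt_map_comp_Q {B B' C C' : Type u} [CommRing B] [CommRing B'] [CommRing C] [CommRing C']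
    [Algebra R B] [Algebra R B'] [Algebra R C] [Algebra R C'] (φ : B →ₐ[R] B') (ψ : C →ₐ[R] C') :
    CoactBr.pt (Algebra.TensorProduct.map φ ψ) ≫ Q B C = Q B' C' ≫ (CoactBr.pt φ ⊗ₘ CoactBr.pt ψ) := by
  rw [CartesianMonoidalCategory.comp_lift, CartesianMonoidalCategory.lift_map]
  congr 1 <;> rw [← CoactBr.pt_comp, ← CoactBr.pt_comp] <;> congr 1 <;> ext x <;> simp

end Groth.Agent.Misc15.AffinePoints
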