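import Groth.Agent.Misc15.GenericPoints
import Groth.Agent.H8Top.SchemeBasic
import Mathlib

/-! Separating generic points; disjoint unions of separated opens. -/

universe u

open AlgebraicGeometry CategoryTheory CategoryTheory.Limits TopologicalSpace

namespace Groth.Agent.Misc15

variable {X : Scheme.{u}}

/-- A generic point outside a quasi-compact open is outside its closure. -/
theorem notMem_closure_of_generic [QuasiSeparatedSpace X] {U : X.Opens} (hU : IsCompact (U : Set X))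
    {η : X} (hη : closure ({η} : Set X) ∈ irreducibleComponents (X : Type u)) (h : η ∉ U) :
    η ∉ closure (U : Set X) := by
  intro hmem
  have : QuasiCompact U.ι := ⟨fun V hV hVc => U.ι.isOpenEmbedding.isEmbedding.isCompact_iff.2 (by
    rw [Set.image_preimage_eq_inter_range, U.range_ι]
    exact QuasiSeparatedSpace.inter_isCompact V U hV hVc U.2 hU)⟩
  have h' : η ∈ closure (Set.range U.ι) := by rwa [U.range_ι]
  obtain ⟨z, hz⟩ := H8Top.exists_specializes_of_mem_closure_range U.ι h'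
  exact h ((closure_mem_components_iff η).1 hη _ hz ▸ z.2)

/-- A generic point and any other point that is not a specialization... in an affine ring. -/
theorem exists_disjoint_basicOpen {U : X.Opens} (hU : IsAffineOpen U) {η ξ : X}
    (hη : closure ({η} : Set X) ∈ irreducibleComponents (X : Type u))
    (hξ : closure ({ξ} : Set X) ∈ irreducibleComponents (X : Type u)) (hne : η ≠ ξ)
    (hηU : η ∈ U) (hξU : ξ ∈ U) :
    ∃ a b : Γ(X, U), η ∈ X.basicOpen a ∧ ξ ∈ X.basicOpen b ∧ Disjoint (X.basicOpen a) (X.basicOpen b) := by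
  set P := hU.primeIdealOf ⟨η, hηU⟩
  set Q := hU.primeIdealOf ⟨ξ, hξU⟩
  have hPQ : ¬ P.asIdeal ≤ Q.asIdeal := fun hle => hne (by
    have h1 : (hU.fromSpec P) ⤳ hU.fromSpec Q :=
      ((PrimeSpectrum.le_iff_specializes P Q).1 hle).map hU.fromSpec.continuous
    rw [hU.fromSpec_primeIdealOf, hU.fromSpec_primeIdealOf] at h1
    exact (closure_mem_components_iff ξ).1 hξ η h1)
  have hmem : ∀ {z : X} (hz : z ∈ U) (c : Γ(X, U)),
      z ∈ X.basicOpen c ↔ c ∉ (hU.primeIdealOf ⟨z, hz⟩).asIdeal := by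
    intro z hz c
    have e : hU.primeIdealOf ⟨z, hz⟩ ∈ hU.fromSpec ⁻¹ᵁ X.basicOpen c ↔
        c ∉ (hU.primeIdealOf ⟨z, hz⟩).asIdeal := by rw [hU.fromSpec_preimage_basicOpen]; rfl
    rw [← e]
    show _ ↔ hU.fromSpec _ ∈ X.basicOpen c
    rw [hU.fromSpec_primeIdealOf]
  have hmin : P.asIdeal ∈ minimalPrimes Γ(X, U) := by
    refine ⟨⟨P.isPrime, bot_le⟩, fun q hq hle => ?_⟩
    have h1 : (hU.fromSpec ⟨q, hq.1⟩) ⤳ hU.fromSpec P :=
      ((PrimeSpectrum.le_iff_specializes ⟨q, hq.1⟩ P).1 hle).map hU.fromSpec.continuous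
    rw [hU.fromSpec_primeIdealOf] at h1
    have h2 := (closure_mem_components_iff η).1 hη _ h1
    have h3 := h2.trans (hU.fromSpec_primeIdealOf ⟨η, hηU⟩).symm
    exact (congrArg PrimeSpectrum.asIdeal (hU.fromSpec.isOpenEmbedding.injective h3)).ge
  obtain ⟨b, hbP, hbQ⟩ := Set.not_subset.1 hPQ
  obtain ⟨a, ha, n, hab⟩ : ∃ a ∉ P.asIdeal, ∃ n, a * b ^ n = 0 := by
    haveI : P.asIdeal.IsPrime := P.isPrime
    haveI : Ring.KrullDimLE 0 (Localization.AtPrime P.asIdeal) :=
      Ring.KrullDimLE.of_isLocalization P.asIdeal hmin _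
    have : IsNilpotent (algebraMap Γ(X, U) (Localization.AtPrime P.asIdeal) b) :=
      Ring.KrullDimLE.isNilpotent_iff_mem_maximalIdeal.2
        ((IsLocalization.AtPrime.to_map_mem_maximal_iff _ P.asIdeal b).2 hbP)
    obtain ⟨n, hn⟩ := this
    rw [← map_pow] at hn
    obtain ⟨⟨a, ha⟩, hab⟩ := (IsLocalization.map_eq_zero_iff P.asIdeal.primeCompl _ _).1 hn
    exact ⟨a, ha, n, hab⟩
  refine ⟨a, b, (hmem hηU a).2 ha, (hmem hξU b).2 hbQ, disjoint_iff_inf_le.2 fun z hz => ?_⟩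
  have hzU : z ∈ U := X.basicOpen_le a hz.1
  have := hU.primeIdealOf ⟨z, hzU⟩ |>.isPrime.mem_or_mem (x := a) (y := b ^ n) (by
    rw [hab]; exact zero_mem _)
  rcases this with h | h
  · exact absurd h ((hmem hzU a).1 hz.1)
  · exact absurd (Ideal.IsPrime.mem_of_pow_mem inferInstance n h) ((hmem hzU b).1 hz.2)

theorem exists_disjoint_nhds_pair [QuasiSeparatedSpace X] {η ξ : X}
    (hη : closure ({η} : Set X) ∈ irreducibleComponents (X : Type u))
    (hξ : closure ({ξ} : Set X) ∈ irreducibleComponents (X : Type u)) (hne : η ≠ ξ) :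
    ∃ A B : X.Opens, η ∈ A ∧ ξ ∈ B ∧ Disjoint A B := by
  obtain ⟨U, hU, hηU, -⟩ := exists_isAffineOpen_mem_and_subset (x := η) (U := ⊤) trivial
  by_cases hξU : ξ ∈ U
  · obtain ⟨a, b, ha, hb, hd⟩ := exists_disjoint_basicOpen hU hη hξ hne hηU hξU
    exact ⟨_, _, ha, hb, hd⟩
  · refine ⟨U, ⟨(closure (U : Set X))ᶜ, isClosed_closure.isOpen_compl⟩, hηU,
      notMem_closure_of_generic hU.isCompact hξ hξU, disjoint_iff_inf_le.2 fun z hz => ?_⟩
    exact hz.2 (subset_closure hz.1)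

/-- Pairwise disjoint affine neighbourhoods of finitely many generic points inside a given open. -/
theorem exists_disjoint_affine_nhds [QuasiSeparatedSpace X] {ι : Type*} [Finite ι] (η : ι → X)
    (hη : ∀ i, closure ({η i} : Set X) ∈ irreducibleComponents (X : Type u))
    (hinj : Function.Injective η) (O : X.Opens) (hO : ∀ i, η i ∈ O) :
    ∃ W : ι → X.Opens, (∀ i, IsAffineOpen (W i) ∧ η i ∈ W i ∧ W i ≤ O) ∧
      Pairwise fun i j => Disjoint (W i) (W j) := by
  classical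
  have : ∀ i j, ∃ A B : X.Opens, η i ∈ A ∧ η j ∈ B ∧ (i ≠ j → Disjoint A B) := by
    intro i j
    by_cases h : i = j
    · exact ⟨⊤, ⊤, trivial, trivial, fun h' => absurd h h'⟩
    · obtain ⟨A, B, ha, hb, hd⟩ := exists_disjoint_nhds_pair (hη i) (hη j) (hinj.ne h)
      exact ⟨A, B, ha, hb, fun _ => hd⟩
  choose A B hA hB hd using this
  let M : ι → X.Opens := fun i => ⟨(O : Set X) ∩ ⋂ j, ((A i j : Set X) ∩ (B j i : Set X)),
    O.2.inter (isOpen_iInter_of_finite fun j => (A i j).2.inter (B j i).2)⟩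
  have hM : ∀ i, η i ∈ M i := fun i => ⟨hO i, Set.mem_iInter.2 fun j => ⟨hA i j, hB j i⟩⟩
  choose W hW hmem hle using fun i => exists_isAffineOpen_mem_and_subset (hM i)
  refine ⟨W, fun i => ⟨hW i, hmem i, fun z hz => (hle i hz).1⟩, fun i j hij => ?_⟩
  refine disjoint_iff_inf_le.2 fun z hz => ?_
  exact (hd i j hij).le_bot ⟨(Set.mem_iInter.1 (hle i hz.1).2 j).1, (Set.mem_iInter.1 (hle j hz.2).2 i).2⟩

theorem isSeparated_sup_of_disjoint {A B : X.Opens} [(A : Scheme.{u}).IsSeparated]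
    [(B : Scheme.{u}).IsSeparated] (h : Disjoint A B) : ((A ⊔ B : X.Opens) : Scheme.{u}).IsSeparated := by
  let iA := X.homOfLE (le_sup_left : A ≤ A ⊔ B)
  let iB := X.homOfLE (le_sup_right : B ≤ A ⊔ B)
  have hA : iA.opensRange = (A ⊔ B).ι ⁻¹ᵁ A := X.opensRange_homOfLE _
  have hB : iB.opensRange = (A ⊔ B).ι ⁻¹ᵁ B := X.opensRange_homOfLE _
  obtain ⟨hc⟩ := nonempty_isColimit_binaryCofanMk_of_isCompl iA iB (by
    rw [hA, hB]
    constructor
    · exact disjoint_iff_inf_le.2 fun z hz => h.le_bot ⟨hz.1, hz.2⟩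
    · rw [codisjoint_iff]
      exact top_le_iff.1 fun z _ => z.2)
  let e : ((A ⊔ B : X.Opens) : Scheme.{u}) ≅ ((A : Scheme.{u}) ⨿ (B : Scheme.{u})) :=
    hc.coconePointUniqueUpToIso (colimit.isColimit _)
  let T := terminal Scheme.{u}
  haveI : IsSeparated (coprod.map (terminal.from (A : Scheme.{u})) (terminal.from (B : Scheme.{u}))) :=
    IsZariskiLocalAtTarget.coprodMap (P := @IsSeparated) _ _ inferInstance inferInstance
  haveI : IsAffineHom (coprod.desc (𝟙 T) (𝟙 T)) := inferInstance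
  refine ⟨?_⟩
  have : terminal.from ((A ⊔ B : X.Opens) : Scheme.{u}) = e.hom ≫
      coprod.map (terminal.from _) (terminal.from _) ≫ coprod.desc (𝟙 T) (𝟙 T) :=
    terminal.hom_ext _ _
  rw [this]
  exact (MorphismProperty.cancel_left_of_respectsIso @IsSeparated _ _).2
    (MorphismProperty.comp_mem (W := @IsSeparated) _ _ ‹_› inferInstance)

end Groth.Agent.Misc15
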