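import Mathlib.AlgebraicGeometry.Sites.Representability
import Mathlib.CategoryTheory.Limits.Types.Pullbacks
import Mathlib.CategoryTheory.Limits.FunctorCategory.Shapes.Pullbacks
import Mathlib.CategoryTheory.Sites.Over

/-! A Zariski sheaf on schemes over `S`, mapped to `X`, with representable pieces over an open cover of the image. -/

set_option autoImplicit false
universe u

open CategoryTheory AlgebraicGeometry Opposite

noncomputable section

namespace Groth.Agent.Misc15.OverGlue

variable {S : Scheme.{u}} (F : (Over S)ᵒᵖ ⥤ Type u)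

theorem sigma_ext {T : Scheme.{u}} (p q : Σ s : T ⟶ S, F.obj (op (Over.mk s))) (h : p.1 = q.1)
    (h2 : p.2 = F.map (Over.homMk (𝟙 T) ((Category.id_comp _).trans h.symm) : Over.mk p.1 ⟶ Over.mk q.1).op q.2) :
    p = q := by
  obtain ⟨s, φ⟩ := p
  obtain ⟨t, ψ⟩ := q
  obtain rfl : s = t := h
  have e : (Over.homMk (𝟙 T) (Category.id_comp s) : Over.mk s ⟶ Over.mk s) = 𝟙 (Over.mk s) := rfl
  simp only [e, op_id, F.map_id] at h2
  exact congrArg (Sigma.mk s) h2

theorem map_map {A B C : Over S} (a : A ⟶ B) (b : B ⟶ C) (c : A ⟶ C) (h : a.left ≫ b.left = c.left)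
    (φ : F.obj (op C)) : F.map a.op (F.map b.op φ) = F.map c.op φ := by
  rw [← Functor.map_comp_apply, ← op_comp, show a ≫ b = c from Over.OverMorphism.ext h]

theorem map_self {A : Over S} (a : A ⟶ A) (h : a.left = 𝟙 _) (φ : F.obj (op A)) : F.map a.op φ = φ := by
  rw [show a = 𝟙 A from Over.OverMorphism.ext h, op_id, Functor.map_id_apply]

/-- the total presheaf on schemes -/
def total : Scheme.{u}ᵒᵖ ⥤ Type u where
  obj T := Σ s : unop T ⟶ S, F.obj (op (Over.mk s))
  map {T T'} t := TypeCat.ofHom fun p =>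
    ⟨t.unop ≫ p.1, F.map (Over.homMk t.unop rfl : Over.mk (t.unop ≫ p.1) ⟶ Over.mk p.1).op p.2⟩
  map_id T := ConcreteCategory.hom_ext _ _ fun p => sigma_ext F _ _ (Category.id_comp _) rfl
  map_comp t t' := ConcreteCategory.hom_ext _ _ fun p => sigma_ext F _ _ (Category.assoc _ _ _) (by
    show F.map _ p.2 = F.map _ (F.map _ (F.map _ p.2))
    refine Eq.trans ?_ (congrArg _ (map_map F _ _ (Over.homMk (t'.unop ≫ t.unop) (Category.assoc _ _ _)) rfl p.2)).symm
    exact (map_map F _ _ _ (Category.id_comp _) p.2).symm)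

/-- the base of an element of the total presheaf -/
abbrev base {T : Scheme.{u}} (p : (total F).obj (op T)) : T ⟶ S := p.1

theorem elt_congr {T : Scheme.{u}} {p q : (total F).obj (op T)} (h : p = q) {W : Over S}
    (a : W ⟶ Over.mk (base F p)) (b : W ⟶ Over.mk (base F q)) (hab : a.left = b.left) :
    F.map a.op p.2 = F.map b.op q.2 := by
  subst h
  rw [Over.OverMorphism.ext hab]

variable (hF : Presheaf.IsSheaf (Scheme.zariskiTopology.over S) F)

include hF in
theorem isSheaf_total : Presheaf.IsSheaf Scheme.zariskiTopology.{u} (total F) := by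
  rw [isSheaf_iff_isSheaf_of_type]
  intro T R hR x hx
  have hS := GrothendieckTopology.Subcanonical.isSheaf_of_isRepresentable (J := Scheme.zariskiTopology)
    (yoneda.obj S)
  let y : Presieve.FamilyOfElements (yoneda.obj S) R.arrows := fun W f hf => base F (x f hf)
  have hy : y.Compatible := fun W₁ W₂ W g₁ g₂ f₁ f₂ h₁ h₂ hc => congrArg Sigma.fst (hx g₁ g₂ h₁ h₂ hc)
  obtain ⟨z, hz, hz'⟩ := hS R hR y hy
  let s₀ : T ⟶ S := z
  let R' : Sieve (Over.mk s₀) := (Sieve.overEquiv (Over.mk s₀)).symm R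
  have hR' : R' ∈ (Scheme.zariskiTopology.over S) (Over.mk s₀) :=
    GrothendieckTopology.overEquiv_symm_mem_over _ _ _ hR
  have hb : ∀ {W : Over S} (b : W ⟶ Over.mk s₀) (hb : R b.left), base F (x b.left hb) = W.hom := by
    intro W b hb
    exact (hz b.left hb).symm.trans (Over.w b)
  have hmem : ∀ {W : Over S} (b : W ⟶ Over.mk s₀), R' b → R b.left := fun b h => (Sieve.overEquiv_symm_iff R b).1 h
  let fam : Presieve.FamilyOfElements F R'.arrows := fun W b h =>
    F.map (Over.homMk (𝟙 W.left) ((Category.id_comp _).trans (hb b (hmem b h))) :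
      W ⟶ Over.mk (base F (x b.left (hmem b h)))).op (x b.left (hmem b h)).2
  have hfam : fam.Compatible := by
    intro W₁ W₂ W g₁ g₂ b₁ b₂ h₁ h₂ hc
    have e := hx g₁.left g₂.left (hmem b₁ h₁) (hmem b₂ h₂) (congrArg Over.Hom.left hc)
    have k : ∀ {Wi : Over S} (g : W ⟶ Wi) (bi : Wi ⟶ Over.mk s₀) (hi : R bi.left),
        W.hom = base F ((total F).map g.left.op (x bi.left hi)) := by
      intro Wi g bi hi
      show W.hom = g.left ≫ base F (x bi.left hi)
      rw [hb bi hi]
      exact (Over.w g).symm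
    have e1 := elt_congr F e (W := W) (Over.homMk (𝟙 W.left) ((Category.id_comp _).trans (k g₁ b₁ _).symm))
      (Over.homMk (𝟙 W.left) ((Category.id_comp _).trans (k g₂ b₂ _).symm)) rfl
    show F.map g₁.op (F.map _ _) = F.map g₂.op (F.map _ _)
    change F.map _ (F.map _ _) = F.map _ (F.map _ _) at e1
    let m₁ : W ⟶ Over.mk (base F (x b₁.left (hmem b₁ h₁))) :=
      Over.homMk g₁.left (((congrArg (g₁.left ≫ ·) (hb b₁ _))).trans (Over.w g₁))
    let m₂ : W ⟶ Over.mk (base F (x b₂.left (hmem b₂ h₂))) :=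
      Over.homMk g₂.left (((congrArg (g₂.left ≫ ·) (hb b₂ _))).trans (Over.w g₂))
    refine ((map_map F _ _ m₁ (Category.comp_id _) _).trans ?_).trans (map_map F _ _ m₂ (Category.comp_id _) _).symm
    exact ((map_map F _ _ m₁ (Category.id_comp _) _).symm.trans e1).trans (map_map F _ _ m₂ (Category.id_comp _) _)
  obtain ⟨φ, hφ, hφ'⟩ := ((isSheaf_iff_isSheaf_of_type _ _).1 hF) R' hR' fam hfam
  refine ⟨⟨s₀, φ⟩, fun W f hf => sigma_ext F _ _ (hz f hf) ?_, fun p hp => ?_⟩
  · let b : Over.mk (f ≫ s₀) ⟶ Over.mk s₀ := Over.homMk f rfl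
    exact hφ b ((Sieve.overEquiv_symm_iff R b).2 hf)
  · have h1 : base F p = s₀ := hz' (base F p) fun W f hf => congrArg Sigma.fst (hp f hf)
    obtain ⟨s, ψ⟩ := p
    obtain rfl : s = s₀ := h1
    refine congrArg (Sigma.mk s₀) (hφ' ψ fun W b h => ?_)
    have e1 := elt_congr F (hp b.left (hmem b h)) (W := W)
      (Over.homMk (𝟙 W.left) ((Category.id_comp _).trans (Over.w b)))
      (Over.homMk (𝟙 W.left) ((Category.id_comp _).trans (hb b (hmem b h)))) rfl
    change F.map _ (F.map _ ψ) = _ at e1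
    show F.map b.op ψ = fam b h
    exact (map_map F _ _ b (Category.id_comp _) ψ).symm.trans e1

/-- gluing pieces lying over the opens of a cover -/
theorem exists_representableBy {X : Over S} (p : F ⟶ yoneda.obj X) {ι : Type u} (U : ι → X.left.Opens)
    (hcov : ∀ (T : Over S) (φ : F.obj (op T)),
      ⨆ i, (Over.Hom.left (p.app (op T) φ : T ⟶ X)) ⁻¹ᵁ U i = ⊤)
    (Z : ι → Over S) (j : ∀ i, (yoneda.obj (Z i) : (Over S)ᵒᵖ ⥤ Type u) ⟶ F)
    (hinj : ∀ i (T : Over S) (z z' : T ⟶ Z i), (j i).app (op T) z = (j i).app (op T) z' → z = z')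
    (hsub : ∀ i (T : Over S) (z : T ⟶ Z i),
      Set.range (Over.Hom.left (p.app (op T) ((j i).app (op T) z) : T ⟶ X)) ⊆ (U i : Set X.left))
    (hsurj : ∀ i (T : Over S) (φ : F.obj (op T)),
      Set.range (Over.Hom.left (p.app (op T) φ : T ⟶ X)) ⊆ (U i : Set X.left) →
      ∃ z : T ⟶ Z i, (j i).app (op T) z = φ)
    (hF : Presheaf.IsSheaf (Scheme.zariskiTopology.over S) F) :
    ∃ W : Over S, Nonempty (F.RepresentableBy W) := by
  classical
  have jnat : ∀ i {T T' : Over S} (t : T' ⟶ T) (z : T ⟶ Z i),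
      (j i).app (op T') (t ≫ z) = F.map t.op ((j i).app (op T) z) :=
    fun i T T' t z => ConcreteCategory.congr_hom ((j i).naturality t.op) z
  have jmap : ∀ i {A B : Over S} (t : A ⟶ B) (z : B ⟶ Z i) (z' : A ⟶ Z i), t.left ≫ z.left = z'.left →
      F.map t.op ((j i).app (op B) z) = (j i).app (op A) z' := fun i A B t z z' h =>
    (jnat i t z).symm.trans (congrArg ((j i).app (op A)) (Over.OverMorphism.ext h))
  have pnat : ∀ {T T' : Over S} (t : T' ⟶ T) (φ : F.obj (op T)),
      (p.app (op T') (F.map t.op φ) : T' ⟶ X) = t ≫ p.app (op T) φ :=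
    fun t φ => ConcreteCategory.congr_hom (p.naturality t.op) φ
  let G : Sheaf Scheme.zariskiTopology.{u} (Type u) := ⟨total F, isSheaf_total F hF⟩
  let f : ∀ i, yoneda.obj (Z i).left ⟶ G.1 := fun i =>
    { app := fun T => TypeCat.ofHom fun z =>
        ⟨z ≫ (Z i).hom, (j i).app (op (Over.mk (z ≫ (Z i).hom))) (Over.homMk z rfl)⟩
      naturality := fun T T' t => ConcreteCategory.hom_ext _ _ fun z => sigma_ext F _ _ (Category.assoc _ _ _) (by
        show (j i).app _ _ = F.map _ (F.map _ ((j i).app _ _))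
        let z' : unop T ⟶ (Z i).left := z
        refine Eq.trans ?_ (congrArg _ (jmap i _ _ (Over.homMk (t.unop ≫ z') (Category.assoc _ _ _)) rfl)).symm
        exact (jmap i _ _ _ (Category.id_comp _)).symm) }
  have hf : ∀ i, IsOpenImmersion.presheaf (f i) := by
    intro i
    refine MorphismProperty.relative.of_exists fun T g => ?_
    let e := (g.app (op T)) (𝟙 T)
    let s : T ⟶ S := base F e
    let x : Over.mk s ⟶ X := p.app (op (Over.mk s)) e.2
    let V : T.Opens := x.left ⁻¹ᵁ U i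
    have hg : ∀ (W : Scheme.{u}) (a : W ⟶ T), (g.app (op W)) a = (total F).map a.op e := by
      intro W a
      have h1 : g.app (op W) ((yoneda.obj T).map a.op (𝟙 T)) = (total F).map a.op (g.app (op T) (𝟙 T)) :=
        ConcreteCategory.congr_hom (g.naturality a.op) (𝟙 T)
      have h2 : (yoneda.obj T).map a.op (𝟙 T) = a := Category.comp_id a
      rwa [h2] at h1
    let r : Over.mk (V.ι ≫ s) ⟶ Over.mk s := Over.homMk V.ι rfl
    obtain ⟨z₀, hz₀⟩ := hsurj i _ (F.map r.op e.2) (by
      rw [pnat]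
      rintro _ ⟨v, rfl⟩
      exact v.2)
    refine ⟨V, yoneda.map z₀.left, V.ι, ?_, inferInstance⟩
    refine IsPullback.of_forall_isPullback_app fun W => ?_
    rw [Limits.Types.isPullback_iff]
    refine ⟨?_, fun a b h => (cancel_mono V.ι).1 h.2, fun z a h => ?_⟩
    · refine ConcreteCategory.hom_ext _ _ fun a => ?_
      let a' : unop W ⟶ (V : Scheme.{u}) := a
      refine Eq.trans ?_ (hg _ (a' ≫ V.ι)).symm
      refine sigma_ext F _ _ (by
        show (a' ≫ z₀.left) ≫ (Z i).hom = (a' ≫ V.ι) ≫ s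
        rw [Category.assoc, Over.w z₀, Category.assoc]
        rfl) ?_
      let t : Over.mk ((a' ≫ z₀.left) ≫ (Z i).hom) ⟶ Over.mk (V.ι ≫ s) := Over.homMk a' (by
        show a' ≫ V.ι ≫ s = (a' ≫ z₀.left) ≫ (Z i).hom
        rw [Category.assoc, Over.w z₀]
        rfl)
      let z' : Over.mk ((a' ≫ z₀.left) ≫ (Z i).hom) ⟶ Z i := Over.homMk (a' ≫ z₀.left) rfl
      show (j i).app (op (Over.mk ((a' ≫ z₀.left) ≫ (Z i).hom))) z' = F.map _ (F.map _ e.2)
      refine ((jmap i t z₀ _ rfl).symm.trans (congrArg (F.map t.op) hz₀)).trans ?_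
      refine (map_map F t r (Over.homMk (a' ≫ V.ι) (by
        show (a' ≫ V.ι) ≫ s = (a' ≫ z₀.left) ≫ (Z i).hom
        rw [Category.assoc, Category.assoc, Over.w z₀]
        rfl)) rfl e.2).trans ?_
      exact (map_map F _ _ _ (Category.id_comp _) e.2).symm
    · let z' : unop W ⟶ (Z i).left := z
      let a' : unop W ⟶ T := a
      have hh : (⟨z' ≫ (Z i).hom, (j i).app (op (Over.mk (z' ≫ (Z i).hom))) (Over.homMk z' rfl)⟩ :
          (total F).obj (op (unop W))) = (total F).map a'.op e := h.trans (hg _ a')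
      have hbase : z' ≫ (Z i).hom = a' ≫ s := congrArg Sigma.fst hh
      let ta : Over.mk (z' ≫ (Z i).hom) ⟶ Over.mk s := Over.homMk a' hbase.symm
      let zz : Over.mk (z' ≫ (Z i).hom) ⟶ Z i := Over.homMk z' rfl
      have hkey : (j i).app (op (Over.mk (z' ≫ (Z i).hom))) zz = F.map ta.op e.2 := by
        have e1 := elt_congr F hh (W := Over.mk (z' ≫ (Z i).hom)) (𝟙 _)
          (Over.homMk (𝟙 _) ((Category.id_comp _).trans hbase.symm)) rfl
        change F.map _ _ = F.map _ (F.map _ e.2) at e1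
        exact ((map_self F (𝟙 _) rfl _).symm.trans e1).trans (map_map F _ _ ta (Category.id_comp _) e.2)
      have hr : Set.range a' ⊆ Set.range V.ι := by
        rw [Scheme.Opens.range_ι]
        rintro _ ⟨w, rfl⟩
        refine hsub i _ zz ?_
        rw [hkey, pnat]
        exact ⟨w, rfl⟩
      let a'' := IsOpenImmersion.lift V.ι a' hr
      refine ⟨a'', ?_, IsOpenImmersion.lift_fac _ _ _⟩
      show a'' ≫ z₀.left = z'
      let t : Over.mk (z' ≫ (Z i).hom) ⟶ Over.mk (V.ι ≫ s) := Over.homMk a'' (by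
        show a'' ≫ V.ι ≫ s = z' ≫ (Z i).hom
        rw [IsOpenImmersion.lift_fac_assoc, hbase])
      refine congrArg Over.Hom.left (hinj i _ (t ≫ z₀) zz ?_)
      rw [jnat, hz₀, hkey]
      exact map_map F t r ta (IsOpenImmersion.lift_fac _ _ _) e.2
  have : Presheaf.IsLocallySurjective Scheme.zariskiTopology (Limits.Sigma.desc f) := by
    refine ⟨fun {T} e => ?_⟩
    let e' : (total F).obj (op T) := e
    let s : T ⟶ S := base F e'
    let x : Over.mk s ⟶ X := p.app (op (Over.mk s)) e'.2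
    let V : ι → T.Opens := fun i => x.left ⁻¹ᵁ U i
    refine GrothendieckTopology.superset_covering _ ?_
      (T.openCoverOfIsOpenCover V (.mk (hcov _ _))).mem_grothendieckTopology
    rintro W b ⟨_, c, _, ⟨i⟩, rfl⟩
    let c' : W ⟶ (V i : Scheme.{u}) := c
    let r : Over.mk ((c' ≫ (V i).ι) ≫ s) ⟶ Over.mk s := Over.homMk (c' ≫ (V i).ι) rfl
    obtain ⟨z, hz⟩ := hsurj i _ (F.map r.op e'.2) (by
      rw [pnat]
      rintro _ ⟨v, rfl⟩
      exact (c' v).2)
    refine ⟨(Limits.Sigma.ι (fun i => yoneda.obj (Z i).left) i).app (op W) z.left, ?_⟩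
    refine Eq.trans (ConcreteCategory.congr_hom (congr_app (Limits.Sigma.ι_desc f i) (op W)) z.left) ?_
    refine sigma_ext F _ _ (Over.w z) ?_
    let t : Over.mk (z.left ≫ (Z i).hom) ⟶ Over.mk ((c' ≫ (V i).ι) ≫ s) :=
      Over.homMk (𝟙 W) ((Category.id_comp _).trans (Over.w z).symm)
    show (j i).app (op (Over.mk (z.left ≫ (Z i).hom))) (Over.homMk z.left rfl) = F.map t.op (F.map r.op e'.2)
    exact (jmap i t z _ (Category.id_comp _)).symm.trans (congrArg (F.map t.op) hz)
  let rep := Scheme.LocalRepresentability.representableBy (F := G) (f := f) hf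
  let Wu := (Scheme.LocalRepresentability.glueData (F := G) (f := f) hf).glued
  let univ : (total F).obj (op Wu) := rep.homEquiv (𝟙 Wu)
  have hrep : ∀ {T : Scheme.{u}} (a : T ⟶ Wu), rep.homEquiv a = (total F).map a.op univ := fun {T} a => by
    rw [show univ = rep.homEquiv (𝟙 Wu) from rfl]
    exact (congrArg rep.homEquiv (Category.comp_id a).symm).trans (rep.homEquiv_comp a (𝟙 Wu))
  let W : Over S := Over.mk (base F univ)
  let toF : ∀ {T : Over S}, (T ⟶ W) → F.obj (op T) := fun {T} a => F.map a.op univ.2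
  refine ⟨W, ⟨{ homEquiv := fun {T : Over S} => Equiv.ofBijective toF ⟨fun a b h => ?_, fun φ => ?_⟩
                homEquiv_comp := fun {T T'} t a => ?_ }⟩⟩
  · apply Over.OverMorphism.ext
    refine rep.homEquiv.injective ?_
    rw [hrep, hrep]
    refine sigma_ext F _ _ ((Over.w a).trans (Over.w b).symm) ?_
    show F.map _ univ.2 = F.map _ (F.map _ univ.2)
    let ta : Over.mk (a.left ≫ base F univ) ⟶ T := Over.homMk (𝟙 T.left) ((Category.id_comp _).trans (Over.w a).symm)
    have h' := congrArg (F.map ta.op) h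
    let tb : Over.mk (a.left ≫ base F univ) ⟶ Over.mk (base F univ) :=
      Over.homMk b.left ((Over.w b).trans (Over.w a).symm)
    refine (((map_map F ta a _ (Category.id_comp _) univ.2).symm.trans h').trans
      (map_map F ta b tb (Category.id_comp _) univ.2)).trans (map_map F _ _ tb (Category.id_comp _) univ.2).symm
  · obtain ⟨a, ha⟩ := rep.homEquiv.surjective (⟨T.hom, φ⟩ : (total F).obj (op T.left))
    rw [hrep] at ha
    have hw : a ≫ base F univ = T.hom := congrArg Sigma.fst ha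
    refine ⟨Over.homMk a hw, ?_⟩
    have e1 := elt_congr F ha (W := T) (Over.homMk (𝟙 _) ((Category.id_comp _).trans hw)) (𝟙 T) rfl
    change F.map _ (F.map _ univ.2) = F.map _ φ at e1
    exact ((map_map F _ _ _ (Category.id_comp _) univ.2).symm.trans e1).trans (map_self F (𝟙 T) rfl φ)
  · show F.map (t ≫ a).op univ.2 = F.map t.op (F.map a.op univ.2)
    rw [op_comp, Functor.map_comp_apply]

end Groth.Agent.Misc15.OverGlue
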