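import Mathlib

/-! The specialization map between local rings of a scheme is a localization. -/

universe u

open AlgebraicGeometry CategoryTheory

namespace Groth.Agent.Misc15

/-- `O_{X,x} → O_{X,z}` for `z ⤳ x` is the localization at the elements becoming units. -/
theorem isLocalization_stalkSpecializes {X : Scheme.{u}} {z x : X} (h : z ⤳ x) :
    letI := (X.presheaf.stalkSpecializes h).hom.toAlgebra
    IsLocalization ((IsUnit.submonoid (X.presheaf.stalk z)).comap (X.presheaf.stalkSpecializes h).hom)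
      (X.presheaf.stalk z) := by
  letI := (X.presheaf.stalkSpecializes h).hom.toAlgebra
  obtain ⟨_, ⟨U, hU, rfl⟩, hxU, -⟩ :=
    X.isBasis_affineOpens.exists_subset_of_mem_open (Set.mem_univ x) isOpen_univ
  have hzU : z ∈ U := h.mem_open U.isOpen hxU
  letI := X.presheaf.algebra_section_stalk (⟨x, hxU⟩ : U)
  letI := X.presheaf.algebra_section_stalk (⟨z, hzU⟩ : U)
  haveI : IsLocalization.AtPrime (X.presheaf.stalk x) (hU.primeIdealOf ⟨x, hxU⟩).asIdeal :=
    hU.isLocalization_stalk ⟨x, hxU⟩
  haveI : IsLocalization.AtPrime (X.presheaf.stalk z) (hU.primeIdealOf ⟨z, hzU⟩).asIdeal :=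
    hU.isLocalization_stalk ⟨z, hzU⟩
  haveI : IsScalarTower Γ(X, U) (X.presheaf.stalk x) (X.presheaf.stalk z) :=
    IsScalarTower.of_algebraMap_eq fun a =>
      (TopCat.Presheaf.germ_stalkSpecializes_apply X.presheaf hxU h a).symm
  have hle : (hU.primeIdealOf ⟨x, hxU⟩).asIdeal.primeCompl ≤
      (hU.primeIdealOf ⟨z, hzU⟩).asIdeal.primeCompl := by
    intro a ha
    rw [← IsLocalization.AtPrime.isUnit_to_map_iff (X.presheaf.stalk z)
        (hU.primeIdealOf ⟨z, hzU⟩).asIdeal,
      IsScalarTower.algebraMap_apply Γ(X, U) (X.presheaf.stalk x) (X.presheaf.stalk z)]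
    exact ((IsLocalization.AtPrime.isUnit_to_map_iff (X.presheaf.stalk x)
        (hU.primeIdealOf ⟨x, hxU⟩).asIdeal a).2 ha).map _
  haveI := IsLocalization.isLocalization_of_submonoid_le (X.presheaf.stalk x) (X.presheaf.stalk z)
    (hU.primeIdealOf ⟨x, hxU⟩).asIdeal.primeCompl (hU.primeIdealOf ⟨z, hzU⟩).asIdeal.primeCompl hle
  refine IsLocalization.of_le ((hU.primeIdealOf ⟨z, hzU⟩).asIdeal.primeCompl.map
    (algebraMap Γ(X, U) (X.presheaf.stalk x))) _ ?_ (fun r hr => hr)
  rintro _ ⟨a, ha, rfl⟩
  show IsUnit (algebraMap (X.presheaf.stalk x) (X.presheaf.stalk z) _)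
  rw [← IsScalarTower.algebraMap_apply]
  exact (IsLocalization.AtPrime.isUnit_to_map_iff (X.presheaf.stalk z)
    (hU.primeIdealOf ⟨z, hzU⟩).asIdeal a).2 ha

theorem flat_stalkSpecializes {X : Scheme.{u}} {z x : X} (h : z ⤳ x) :
    (X.presheaf.stalkSpecializes h).hom.Flat := by
  letI := (X.presheaf.stalkSpecializes h).hom.toAlgebra
  haveI := isLocalization_stalkSpecializes h
  exact IsLocalization.flat (X.presheaf.stalk z)
    ((IsUnit.submonoid (X.presheaf.stalk z)).comap (X.presheaf.stalkSpecializes h).hom)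

/-- Surjective stalk maps: the kernel after generization is generated by the kernel before. -/
theorem ker_stalkMap_eq_map {X Y : Scheme.{u}} (i : Y ⟶ X) {z y : Y} (h : z ⤳ y)
    (hi : Function.Surjective (i.stalkMap y).hom) :
    RingHom.ker (i.stalkMap z).hom = (RingHom.ker (i.stalkMap y).hom).map
      (X.presheaf.stalkSpecializes (h.map i.continuous)).hom := by
  have hsq : ∀ a, (i.stalkMap z).hom ((X.presheaf.stalkSpecializes (h.map i.continuous)).hom a) =
      (Y.presheaf.stalkSpecializes h).hom ((i.stalkMap y).hom a) := fun a =>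
    Scheme.Hom.stalkSpecializes_stalkMap_apply i z y h a
  apply le_antisymm
  · intro b hb
    letI := (X.presheaf.stalkSpecializes (h.map i.continuous)).hom.toAlgebra
    haveI := isLocalization_stalkSpecializes (X := X) (h.map i.continuous)
    obtain ⟨⟨a, s⟩, has⟩ := IsLocalization.surj ((IsUnit.submonoid (X.presheaf.stalk (i z))).comap
      (X.presheaf.stalkSpecializes (h.map i.continuous)).hom) b
    simp only [RingHom.algebraMap_toAlgebra] at has
    have h0 : (Y.presheaf.stalkSpecializes h).hom ((i.stalkMap y).hom a) = 0 := by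
      rw [← hsq, ← has, map_mul, RingHom.mem_ker.1 hb, zero_mul]
    letI := (Y.presheaf.stalkSpecializes h).hom.toAlgebra
    haveI := isLocalization_stalkSpecializes (X := Y) h
    obtain ⟨⟨t, ht⟩, hta⟩ := (IsLocalization.map_eq_zero_iff
      ((IsUnit.submonoid (Y.presheaf.stalk z)).comap (Y.presheaf.stalkSpecializes h).hom)
      (Y.presheaf.stalk z) _).1 h0
    obtain ⟨t', rfl⟩ := hi t
    have hu : IsUnit ((X.presheaf.stalkSpecializes (h.map i.continuous)).hom t') := by
      refine isUnit_of_map_unit (i.stalkMap z).hom _ ?_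
      rw [hsq]; exact ht
    have hmem : t' * a ∈ RingHom.ker (i.stalkMap y).hom := by
      rw [RingHom.mem_ker, map_mul]; exact hta
    have := Ideal.mem_map_of_mem (X.presheaf.stalkSpecializes (h.map i.continuous)).hom hmem
    rw [map_mul, ← has, ← mul_assoc, mul_comm _ b, mul_assoc] at this
    exact (Ideal.mul_unit_mem_iff_mem _ (hu.mul s.2)).1 this
  · rw [Ideal.map_le_iff_le_comap]
    intro a ha
    rw [Ideal.mem_comap, RingHom.mem_ker, hsq, RingHom.mem_ker.1 ha, map_zero]

end Groth.Agent.Misc15
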