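import Mathlib.Algebra.MonoidAlgebra.Basic
import Mathlib.RingTheory.RingHom.FaithfullyFlat

/-! A monoid algebra over the algebra of a monoid acting freely with representatives is free. -/

set_option autoImplicit false
universe u

noncomputable section

namespace Groth.Agent.Misc15.FreeMonoidAlgebra

variable {K : Type u} [CommRing K] {P Q : Type} [CommMonoid P] [CommMonoid Q] (f : P →* Q)

/-- `K[Q]` is faithfully flat over `K[P]` as soon as `Q` is a union of free orbits of `P` -/
theorem faithfullyFlat [Nontrivial K] {D : Type} [Nonempty D] (r : D → Q)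
    (h : Function.Bijective fun dp : D × P => r dp.1 * f dp.2) :
    (MonoidAlgebra.mapDomainRingHom K f).FaithfullyFlat := by
  classical
  let φ : MonoidAlgebra K P →+* MonoidAlgebra K Q := MonoidAlgebra.mapDomainRingHom K f
  algebraize [φ]
  let Φ : (D →₀ MonoidAlgebra K P) →ₗ[MonoidAlgebra K P] MonoidAlgebra K Q :=
    Finsupp.linearCombination _ fun d => MonoidAlgebra.single (r d) (1 : K)
  let g : D × P ≃ Q := Equiv.ofBijective _ h
  have key : ∀ v : D →₀ MonoidAlgebra K P, ∀ d p,
      (Φ v).coeff (r d * f p) = (v d).coeff p := by
    intro v d p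
    induction v using Finsupp.induction_linear with
    | zero => simp
    | add v w hv hw => simp [map_add, hv, hw]
    | single e w =>
      induction w using MonoidAlgebra.induction_linear with
      | zero => simp
      | add a b ha hb =>
        rw [Finsupp.single_add, map_add, MonoidAlgebra.coeff_add, Finsupp.add_apply, Finsupp.add_apply, ha, hb,
          MonoidAlgebra.coeff_add, Finsupp.add_apply]
      | single q c =>
        have hΦ : Φ (Finsupp.single e (MonoidAlgebra.single q c)) = MonoidAlgebra.single (r e * f q) c := by
          simp only [Φ, Finsupp.linearCombination_single]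
          show φ (MonoidAlgebra.single q c) * MonoidAlgebra.single (r e) (1 : K) = _
          simp [φ, MonoidAlgebra.single_mul_single, mul_comm (f q)]
        rw [hΦ]
        by_cases hde : e = d
        · subst hde
          by_cases hqp : q = p
          · subst hqp; simp
          · have : r e * f q ≠ r e * f p := fun he => hqp (congrArg Prod.snd (h.1 (a₁ := (e, q)) (a₂ := (e, p)) he))
            simp [this, hqp]
        · have : r e * f q ≠ r d * f p := fun he => hde (congrArg Prod.fst (h.1 (a₁ := (e, q)) (a₂ := (d, p)) he))
          simp [this, hde]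
  have hΦ : Function.Bijective Φ := by
    refine ⟨fun v w hvw => Finsupp.ext fun d => MonoidAlgebra.ext (Finsupp.ext fun p => ?_), fun w => ?_⟩
    · rw [← key v d p, ← key w d p, hvw]
    · induction w using MonoidAlgebra.induction_linear with
      | zero => exact ⟨0, map_zero _⟩
      | add a b ha hb =>
        obtain ⟨v, rfl⟩ := ha
        obtain ⟨v', rfl⟩ := hb
        exact ⟨v + v', map_add _ _ _⟩
      | single q c =>
        obtain ⟨⟨d, p⟩, rfl⟩ := h.2 q
        refine ⟨Finsupp.single d (MonoidAlgebra.single p c), ?_⟩
        simp only [Φ, Finsupp.linearCombination_single]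
        show φ (MonoidAlgebra.single p c) * MonoidAlgebra.single (r d) (1 : K) = _
        simp [φ, MonoidAlgebra.single_mul_single, mul_comm (f p)]
  have : Module.Free (MonoidAlgebra K P) (MonoidAlgebra K Q) := Module.Free.of_equiv (LinearEquiv.ofBijective Φ hΦ)
  have : Nonempty Q := ⟨1⟩
  have : Nontrivial (MonoidAlgebra K Q) := inferInstance
  exact (inferInstance : Module.FaithfullyFlat (MonoidAlgebra K P) (MonoidAlgebra K Q))

end Groth.Agent.Misc15.FreeMonoidAlgebra
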