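import Mathlib
import Groth.Agent.CAlgH3.Depth

/-! Descent of principal ideals along a flat local homomorphism of Noetherian local rings across a point of depth at
least two. -/

set_option autoImplicit false
set_option backward.isDefEq.respectTransparency false
set_option backward.isDefEq.respectTransparency.types false
universe u v

open IsLocalRing TensorProduct

namespace Groth.Agent.Misc15.DivDescent

variable {A : Type u} {B : Type v} [CommRing A] [CommRing B] [Algebra A B]

/-- the colon ideal `(I : a)` -/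
def colon1 (I : Ideal A) (a : A) : Ideal A := Submodule.comap (LinearMap.toSpanSingleton A A a) I

theorem mem_colon1 {I : Ideal A} {a r : A} : r ∈ colon1 I a ↔ r * a ∈ I := Iff.rfl

/-- colon ideals commute with flat extensions -/
theorem mem_map_colon1 [Module.Flat A B] {I : Ideal A} {a : A} {x : B}
    (hx : x * algebraMap A B a ∈ I.map (algebraMap A B)) : x ∈ (colon1 I a).map (algebraMap A B) := by
  let u : A →ₗ[A] A ⧸ I := (Submodule.mkQ I).comp (LinearMap.toSpanSingleton A A a)
  let J : Ideal A := colon1 I a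
  have hex : Function.Exact J.subtype u := by
    intro r
    simp [J, colon1, u, ← map_mul, Ideal.Quotient.eq_zero_iff_mem]
  have hex' := Module.Flat.lTensor_exact B hex
  have h0 : u.lTensor B (x ⊗ₜ[A] (1 : A)) = 0 := by
    apply (Algebra.TensorProduct.quotIdealMapEquivTensorQuot B I).symm.injective
    rw [map_zero, LinearMap.lTensor_tmul]
    simp only [u, LinearMap.comp_apply, Submodule.mkQ_apply, LinearMap.toSpanSingleton_apply, one_smul]
    rw [Ideal.Quotient.mk_eq_mk]
    simpa [Algebra.smul_def, ← Ideal.Quotient.eq_zero_iff_mem, mul_comm] using hx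
  obtain ⟨t, ht⟩ := (hex' _).1 h0
  have : TensorProduct.rid A B (J.subtype.lTensor B t) = x := by rw [ht]; simp
  rw [← this]
  clear ht this h0 hx
  induction t using TensorProduct.induction_on with
  | zero => simp
  | tmul b j =>
    simp only [LinearMap.lTensor_tmul, TensorProduct.rid_tmul, Submodule.coe_subtype, Algebra.smul_def]
    exact Ideal.mul_mem_right _ _ (Ideal.mem_map_of_mem _ j.2)
  | add x y hx hy => simp only [map_add]; exact Ideal.add_mem _ hx hy

/-- descending membership along a prime: if `s c ∈ I B` for some `s ∉ Q` then `t c ∈ I` for some `t ∉ Q ∩ A` -/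
theorem exists_notMem_mul_mem [Module.Flat A B] {I : Ideal A} {c : A} {Q : Ideal B}
    {s : B} (hs : s ∉ Q) (h : s * algebraMap A B c ∈ I.map (algebraMap A B)) :
    ∃ t, algebraMap A B t ∉ Q ∧ t * c ∈ I := by
  by_contra! hne
  exact hs ((Ideal.map_le_iff_le_comap.2 fun t ht => Classical.byContradiction fun hc => hne t hc ht)
    (mem_map_colon1 h))

/-- A flat extension of a regular pair is a regular pair. -/
theorem regular_pair_map [Module.Flat A B] {a b : A} (ha : ∀ x : A, a * x = 0 → x = 0)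
    (hb : ∀ x : A, a ∣ b * x → a ∣ x) :
    (∀ x : B, algebraMap A B a * x = 0 → x = 0) ∧
      ∀ x : B, algebraMap A B a ∣ algebraMap A B b * x → algebraMap A B a ∣ x := by
  constructor
  · intro x hx
    have h := mem_map_colon1 (I := (⊥ : Ideal A)) (a := a) (x := x) (by rw [mul_comm, hx]; exact zero_mem _)
    have : colon1 (⊥ : Ideal A) a = ⊥ := le_bot_iff.1 fun r hr => by
      rw [mem_colon1, Ideal.mem_bot, mul_comm] at hr
      exact Ideal.mem_bot.2 (ha r hr)
    simpa [this] using h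
  · intro x hx
    have h := mem_map_colon1 (I := Ideal.span {a}) (a := b) (x := x)
      (by rw [Ideal.map_span, Set.image_singleton, Ideal.mem_span_singleton, mul_comm]; exact hx)
    have hle : colon1 (Ideal.span {a}) b ≤ Ideal.span {a} := fun r hr => by
      rw [mem_colon1, Ideal.mem_span_singleton, mul_comm] at hr
      exact Ideal.mem_span_singleton.2 (hb r hr)
    have h' := Ideal.map_mono hle h
    rwa [Ideal.map_span, Set.image_singleton, Ideal.mem_span_singleton] at h'

/-- A principal ideal generated by a regular element is saturated w.r.t. a regular pair. -/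
theorem mem_span_of_regular_pair {a b g x : B} (ha : ∀ x : B, a * x = 0 → x = 0)
    (hb : ∀ x : B, a ∣ b * x → a ∣ x) (hg : g ∈ nonZeroDivisors B)
    (hax : a * x ∈ Ideal.span {g}) (hbx : b * x ∈ Ideal.span {g}) : x ∈ Ideal.span {g} := by
  obtain ⟨u, hu⟩ := Ideal.mem_span_singleton'.1 hax
  obtain ⟨v, hv⟩ := Ideal.mem_span_singleton'.1 hbx
  have h1 : b * u = a * v := (mul_cancel_right_mem_nonZeroDivisors hg).1 (by
    rw [mul_assoc, hu, mul_assoc, hv]; ring)
  obtain ⟨w, rfl⟩ := hb u ⟨v, h1⟩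
  refine Ideal.mem_span_singleton'.2 ⟨w, ?_⟩
  refine sub_eq_zero.1 (ha _ ?_)
  rw [mul_sub, ← mul_assoc, hu, sub_self]

/-- an element killed modulo an `m`-saturated ideal by every element of `m`-power is in it -/
theorem mem_of_pow_mul_le {M K : Ideal B} (hK : ∀ x, (∀ r ∈ M, r * x ∈ K) → x ∈ K) {x : B} (n : ℕ)
    (h : ∀ r ∈ M ^ n, r * x ∈ K) : x ∈ K := by
  induction n generalizing x with
  | zero => simpa using h 1 (by simp)
  | succ n ih =>
    refine ih fun r hr => hK _ fun s hs => ?_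
    rw [← mul_assoc, mul_comm s r]
    exact h _ (by rw [pow_succ]; exact Ideal.mul_mem_mul hr hs)

/-- The punctured spectrum determines an `m`-saturated ideal. -/
theorem mem_of_forall_prime [IsNoetherianRing B] {M K : Ideal B} (hK : ∀ x, (∀ r ∈ M, r * x ∈ K) → x ∈ K)
    {x : B} (h : ∀ Q : Ideal B, Q.IsPrime → ¬ M ≤ Q → ∃ t ∉ Q, t * x ∈ K) : x ∈ K := by
  have hrad : M ≤ (colon1 K x).radical := by
    rw [Ideal.radical_eq_sInf]
    refine le_sInf ?_
    rintro Q ⟨hQ, hQp⟩
    by_contra hMQ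
    obtain ⟨t, ht, htx⟩ := h Q hQp hMQ
    exact ht (hQ (mem_colon1.2 htx))
  obtain ⟨n, hn⟩ := Ideal.exists_pow_le_of_le_radical_of_fg hrad (IsNoetherian.noetherian M)
  exact mem_of_pow_mul_le hK n fun r hr => hn hr

variable [IsNoetherianRing A] [IsLocalRing A] [IsNoetherianRing B] [IsLocalRing B]
  [Module.Flat A B] [IsLocalHom (algebraMap A B)]

/-- the ideal of `A` cut out on the punctured spectrum by local generators `c p / 1` -/
def punctIdeal (c : Ideal A → A) : Ideal A where
  carrier := {d | ∀ p : Ideal A, p.IsPrime → p ≠ maximalIdeal A → ∃ s ∉ p, c p ∣ s * d}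
  zero_mem' p hp _ := ⟨1, hp.one_notMem, by simp⟩
  add_mem' := by
    intro d e hd he p hp hpm
    obtain ⟨s, hs, u, hu⟩ := hd p hp hpm
    obtain ⟨t, ht, v, hv⟩ := he p hp hpm
    exact ⟨s * t, fun h => (hp.mem_or_mem h).elim hs ht, t * u + s * v, by
      rw [mul_add, mul_add, mul_assoc, mul_comm t d, ← mul_assoc, hu, mul_assoc s t e, hv]; ring⟩
  smul_mem' := by
    intro r d hd p hp hpm
    obtain ⟨s, hs, u, hu⟩ := hd p hp hpm
    exact ⟨s, hs, r * u, by rw [smul_eq_mul, mul_left_comm, hu, mul_left_comm]⟩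

/-- Descent of `J = (g)` to `A` when it descends on the punctured spectrum of `A`, `A` of depth at least two. -/
theorem exists_descend {a b : A} (hma : a ∈ maximalIdeal A) (hmb : b ∈ maximalIdeal A)
    (ha : ∀ x : A, a * x = 0 → x = 0) (hb : ∀ x : A, a ∣ b * x → a ∣ x)
    {g : B} (hg : g ∈ nonZeroDivisors B) (c : Ideal A → A)
    (hc : ∀ Q : Ideal B, Q.IsPrime → Q.comap (algebraMap A B) ≠ maximalIdeal A →
      (∃ t ∉ Q, g ∣ t * algebraMap A B (c (Q.comap (algebraMap A B)))) ∧
      ∃ t ∉ Q, algebraMap A B (c (Q.comap (algebraMap A B))) ∣ t * g) :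
    ∃ d : A, d ∈ nonZeroDivisors A ∧ punctIdeal c = Ideal.span {d} ∧ Associated (algebraMap A B d) g := by
  obtain ⟨haB, hbB⟩ := regular_pair_map (B := B) ha hb
  let M : Ideal B := (maximalIdeal A).map (algebraMap A B)
  have hmax : ∀ Q : Ideal B, Q.IsPrime → (M ≤ Q ↔ Q.comap (algebraMap A B) = maximalIdeal A) := by
    intro Q hQ
    refine ⟨fun h => ?_, fun h => Ideal.map_le_iff_le_comap.2 h.ge⟩
    exact ((maximalIdeal.isMaximal A).eq_of_le (Ideal.IsPrime.ne_top (hQ.comap _))
      (Ideal.map_le_iff_le_comap.1 h)).symm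
  have hJ : ∀ x : B, (∀ r ∈ M, r * x ∈ Ideal.span {g}) → x ∈ Ideal.span {g} := fun x hx =>
    mem_span_of_regular_pair haB hbB hg (hx _ (Ideal.mem_map_of_mem _ hma)) (hx _ (Ideal.mem_map_of_mem _ hmb))
  -- `I B ⊆ J`
  have h1 : ∀ d ∈ punctIdeal c, algebraMap A B d ∈ Ideal.span {g} := by
    intro d hd
    refine mem_of_forall_prime hJ fun Q hQ hMQ => ?_
    have hp := mt (hmax Q hQ).2 hMQ
    obtain ⟨⟨t, ht, u, hu⟩, -⟩ := hc Q hQ hp
    obtain ⟨s, hs, v, hv⟩ := hd _ (hQ.comap _) hp
    refine ⟨algebraMap A B s * t, fun h => (hQ.mem_or_mem h).elim hs ht, ?_⟩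
    rw [Ideal.mem_span_singleton]
    exact ⟨u * algebraMap A B v, by
      rw [mul_right_comm, ← map_mul, hv, map_mul, mul_comm _ t, ← mul_assoc, hu, mul_assoc]⟩
  have hsurj : ∀ p : Ideal A, p.IsPrime → ∃ Q : Ideal B, Q.IsPrime ∧ Q.comap (algebraMap A B) = p := by
    intro p hp
    have : Module.FaithfullyFlat A B := Module.FaithfullyFlat.of_flat_of_isLocalHom
    obtain ⟨Q, hQ⟩ := PrimeSpectrum.comap_surjective_of_faithfullyFlat (A := A) (B := B) ⟨p, hp⟩
    exact ⟨Q.asIdeal, Q.isPrime, congrArg PrimeSpectrum.asIdeal hQ⟩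
  -- `J ∩ A ⊆ I`
  have h2 : ∀ d : A, algebraMap A B d ∈ Ideal.span {g} → d ∈ punctIdeal c := by
    intro d hd p hp hpm
    obtain ⟨Q, hQ, rfl⟩ := hsurj p hp
    obtain ⟨-, t, ht, u, hu⟩ := hc Q hQ hpm
    obtain ⟨v, hv⟩ := Ideal.mem_span_singleton.1 hd
    obtain ⟨s, hs, hsd⟩ := exists_notMem_mul_mem (I := Ideal.span {c (Q.comap (algebraMap A B))}) (c := d) ht (by
      rw [Ideal.map_span, Set.image_singleton, Ideal.mem_span_singleton]
      exact ⟨u * v, by rw [hv, ← mul_assoc, hu, mul_assoc]⟩)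
    exact ⟨s, hs, Ideal.mem_span_singleton.1 hsd⟩
  -- on the punctured spectrum `c p` lies in `I`
  have h3 : ∀ p : Ideal A, p.IsPrime → p ≠ maximalIdeal A → ∃ s ∉ p, s * c p ∈ punctIdeal c := by
    intro p hp hpm
    by_contra! hne
    have hle : colon1 (punctIdeal c) (c p) ≤ p := fun r hr => Classical.byContradiction fun h => hne r h hr
    let K : Ideal B := colon1 (Ideal.span {g}) (algebraMap A B (c p))
    have hK : K.comap (algebraMap A B) ≤ p := fun r hr => hle (mem_colon1.2 (h2 _ (by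
      rw [map_mul]; exact hr)))
    obtain ⟨q, hq, hqp⟩ := Ideal.exists_minimalPrimes_le hK
    obtain ⟨Q₀, hQ₀, hKQ, hQq⟩ := Ideal.exists_comap_eq_of_mem_minimalPrimes (algebraMap A B) q hq
    have hqm : q ≠ maximalIdeal A := fun h =>
      hpm ((maximalIdeal.isMaximal A).eq_of_le hp.ne_top (h ▸ hqp)).symm
    -- over `q ≤ p` both generators agree
    obtain ⟨Q, hQ, hQp⟩ := hsurj p hp
    obtain ⟨⟨t, ht, u, hu⟩, -⟩ := hc Q hQ (hQp ▸ hpm)
    rw [hQp] at hu
    have := hq.1.1
    have : Q.LiesOver p := ⟨hQp.symm⟩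
    obtain ⟨Q', hQ'le, hQ', hQ'q⟩ := Ideal.exists_ideal_le_liesOver_of_le (S := B) (p := q) (q := p) Q hqp
    have hQ'q' : Q'.comap (algebraMap A B) = q := hQ'q.over.symm
    obtain ⟨-, t', ht', u', hu'⟩ := hc Q' hQ' (hQ'q' ▸ hqm)
    rw [hQ'q'] at hu'
    obtain ⟨s, hs, hsc⟩ := exists_notMem_mul_mem (I := Ideal.span {c q}) (c := c p)
      (fun h => (hQ'.mem_or_mem h).elim ht' (fun h => ht (hQ'le h))) (s := t' * t) (by
      rw [Ideal.map_span, Set.image_singleton, Ideal.mem_span_singleton]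
      exact ⟨u' * u, by rw [mul_assoc, hu, ← mul_assoc, hu', mul_assoc]⟩)
    obtain ⟨w, hw⟩ := Ideal.mem_span_singleton.1 hsc
    obtain ⟨⟨t₀, ht₀, u₀, hu₀⟩, -⟩ := hc Q₀ hQ₀ (hQq ▸ hqm)
    rw [hQq] at hu₀
    have hsQ₀ : algebraMap A B s ∉ Q₀ := fun h => hs (by
      have h' : s ∈ q := hQq ▸ h
      exact (hQ'q' ▸ h' : s ∈ Q'.comap (algebraMap A B)))
    refine hsQ₀ (hQ₀.mem_or_mem (hKQ (x := algebraMap A B s * t₀) ?_) |>.resolve_right ht₀)
    refine mem_colon1.2 (Ideal.mem_span_singleton.2 ⟨u₀ * algebraMap A B w, ?_⟩)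
    rw [mul_right_comm, ← map_mul, hw, map_mul, mul_comm _ t₀, ← mul_assoc, hu₀, mul_assoc]
  -- saturation of `I`
  have h4 : ∀ d : A, (∀ r ∈ maximalIdeal A, r * d ∈ punctIdeal c) → d ∈ punctIdeal c := fun d hd =>
    h2 d (mem_span_of_regular_pair haB hbB hg (by rw [← map_mul]; exact h1 _ (hd a hma))
      (by rw [← map_mul]; exact h1 _ (hd b hmb)))
  -- `J = I B`
  let IB : Ideal B := (punctIdeal c).map (algebraMap A B)
  have hIJ : IB ≤ Ideal.span {g} := Ideal.map_le_iff_le_comap.2 h1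
  have hgI : g ∈ IB := by
    by_cases htop : punctIdeal c = ⊤
    · simp [IB, htop, Ideal.map_top]
    have : Nontrivial (A ⧸ punctIdeal c) := Ideal.Quotient.nontrivial_iff.2 htop
    obtain ⟨e, hem, he⟩ : ∃ e ∈ maximalIdeal A, IsSMulRegular (A ⧸ punctIdeal c) e := by
      refine CAlgH3.exists_regular_iff_notMem_associatedPrimes.2 fun hass => ?_
      obtain ⟨-, x, hx⟩ := isAssociatedPrime_iff.1 hass
      obtain ⟨y, rfl⟩ := Ideal.Quotient.mk_surjective x
      have hkill : ∀ r ∈ maximalIdeal A, r * y ∈ punctIdeal c := fun r hr => by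
        rw [hx, Submodule.mem_colon_singleton, Submodule.mem_bot, Algebra.smul_def, Ideal.Quotient.algebraMap_eq,
          ← map_mul, Ideal.Quotient.eq_zero_iff_mem] at hr
        exact hr
      refine (maximalIdeal.isMaximal A).ne_top (hx.trans ((Ideal.eq_top_iff_one _).2 ?_))
      rw [Submodule.mem_colon_singleton, one_smul, Submodule.mem_bot]
      exact Ideal.Quotient.eq_zero_iff_mem.2 (h4 y hkill)
    have hIB : ∀ x : B, algebraMap A B e * x ∈ IB → x ∈ IB := by
      intro x hx
      have hle : colon1 (punctIdeal c) e ≤ punctIdeal c := fun r hr => by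
        rw [mem_colon1, mul_comm] at hr
        rw [← Ideal.Quotient.eq_zero_iff_mem]
        refine he ?_
        simp only [smul_zero]
        rw [Algebra.smul_def, Ideal.Quotient.algebraMap_eq, ← map_mul]
        exact Ideal.Quotient.eq_zero_iff_mem.2 hr
      exact Ideal.map_mono hle (mem_map_colon1 (by rwa [mul_comm]))
    refine mem_of_forall_prime (M := M) (fun x hx => hIB x (hx _ (Ideal.mem_map_of_mem _ hem))) fun Q hQ hMQ => ?_
    have hp := mt (hmax Q hQ).2 hMQ
    obtain ⟨-, t, ht, u, hu⟩ := hc Q hQ hp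
    obtain ⟨s, hs, hsc⟩ := h3 _ (hQ.comap _) hp
    refine ⟨algebraMap A B s * t, fun h => (hQ.mem_or_mem h).elim hs ht, ?_⟩
    rw [mul_assoc, hu, ← mul_assoc, ← map_mul]
    exact Ideal.mul_mem_right _ _ (Ideal.mem_map_of_mem _ hsc)
  have hIBeq : IB = Ideal.span {g} := le_antisymm hIJ ((Ideal.span_singleton_le_iff_mem _).2 hgI)
  -- a single element of `I` generates
  obtain ⟨d, hdI, hdg⟩ : ∃ d ∈ punctIdeal c, Associated (algebraMap A B d) g := by
    by_contra! hne
    have hle : IB ≤ Ideal.span {g} * maximalIdeal B := by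
      refine Ideal.map_le_iff_le_comap.2 fun d hd => ?_
      obtain ⟨u, hu⟩ := Ideal.mem_span_singleton.1 (h1 d hd)
      rw [Ideal.mem_comap]
      rw [hu]
      refine Ideal.mul_mem_mul (Ideal.mem_span_singleton_self g) ((mem_maximalIdeal u).2 fun hunit => hne d hd ?_)
      exact Associated.symm ⟨hunit.unit, hu.symm⟩
    obtain ⟨z, hz, hzg⟩ := Ideal.mem_span_singleton_mul.1 (hle hgI)
    have h5 : z = 1 := (mul_cancel_left_mem_nonZeroDivisors hg).1 (by rw [hzg, mul_one])
    exact (maximalIdeal.isMaximal B).ne_top ((Ideal.eq_top_iff_one _).2 (h5 ▸ hz))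
  have : Module.FaithfullyFlat A B := Module.FaithfullyFlat.of_flat_of_isLocalHom
  refine ⟨d, ?_, le_antisymm (fun x hx => ?_) ((Ideal.span_singleton_le_iff_mem _).2 hdI), hdg⟩
  · obtain ⟨w, hw⟩ := hdg
    rw [mem_nonZeroDivisors_iff_right]
    intro x hx
    have h6 : algebraMap A B x * g = 0 := by rw [← hw, ← mul_assoc, ← map_mul, hx, map_zero, zero_mul]
    exact (FaithfulSMul.algebraMap_injective A B) (by rw [map_zero]; exact (mem_nonZeroDivisors_iff_right.1 hg) _ h6)
  · have h7 : algebraMap A B x ∈ (Ideal.span {d}).map (algebraMap A B) := by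
      rw [Ideal.map_span, Set.image_singleton, le_antisymm (Ideal.span_singleton_le_span_singleton.2 hdg.symm.dvd)
        (Ideal.span_singleton_le_span_singleton.2 hdg.dvd)]
      exact h1 x hx
    rw [← Ideal.comap_map_eq_self_of_faithfullyFlat (B := B) (Ideal.span {d})]
    exact h7

end Groth.Agent.Misc15.DivDescent
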