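import Groth.Agent.Misc15.DivDescentSheaf
import Groth.Agent.Misc15.DivDescentAlg
import Groth.Agent.CAlgH3.Serre
import Groth.Agent.Props12.Stalks
import Groth.Prelude.Def_Pi1

/-! Descent of effective Cartier divisors along faithfully flat morphisms: induction on points. -/

set_option autoImplicit false
set_option backward.isDefEq.respectTransparency false
set_option backward.isDefEq.respectTransparency.types false
universe u

open AlgebraicGeometry CategoryTheory TopologicalSpace IsLocalRing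

namespace Groth.Agent.Misc15.DivDescent

variable {X Y : Scheme.{u}}

/-- the prime of `O_x` of a generalization -/
noncomputable def primeOf {z x : X} (h : z ⤳ x) : Ideal (X.presheaf.stalk x) :=
  (maximalIdeal (X.presheaf.stalk z)).comap (X.presheaf.stalkSpecializes h).hom

theorem isPrime_primeOf {z x : X} (h : z ⤳ x) : (primeOf h).IsPrime :=
  Ideal.IsPrime.comap _

theorem notMem_primeOf {z x : X} (h : z ⤳ x) (t : X.presheaf.stalk x) :
    t ∉ primeOf h ↔ IsUnit ((X.presheaf.stalkSpecializes h).hom t) := by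
  simp [primeOf]

theorem primeOf_refl (x : X) (h : x ⤳ x) : primeOf h = maximalIdeal (X.presheaf.stalk x) := by
  simp [primeOf]

theorem comap_germ_primeOf {z x : X} (h : z ⤳ x) {U : X.Opens} (hU : IsAffineOpen U) (hx : x ∈ U) :
    (primeOf h).comap (X.presheaf.germ U x hx).hom =
      (hU.primeIdealOf ⟨z, h.mem_open U.isOpen hx⟩).asIdeal := by
  rw [hU.primeIdealOf_eq_map_closedPoint, primeOf, Ideal.comap_comap]
  show (maximalIdeal (X.presheaf.stalk z)).comap (X.presheaf.germ U x hx ≫ X.presheaf.stalkSpecializes h).hom = _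
  rw [TopCat.Presheaf.germ_stalkSpecializes]
  rfl

theorem ideal_ext_of_comap_germ {x : X} {U : X.Opens} (hU : IsAffineOpen U) (hx : x ∈ U)
    (I J : Ideal (X.presheaf.stalk x))
    (h : I.comap (X.presheaf.germ U x hx).hom = J.comap (X.presheaf.germ U x hx).hom) : I = J := by
  letI := X.presheaf.algebra_section_stalk (⟨x, hx⟩ : U)
  haveI := hU.isLocalization_stalk ⟨x, hx⟩
  rw [← IsLocalization.map_comap (hU.primeIdealOf ⟨x, hx⟩).asIdeal.primeCompl (X.presheaf.stalk x) I,
    ← IsLocalization.map_comap (hU.primeIdealOf ⟨x, hx⟩).asIdeal.primeCompl (X.presheaf.stalk x) J]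
  exact congrArg _ h

theorem eq_of_primeOf_eq {z z' x : X} (h : z ⤳ x) (h' : z' ⤳ x) (e : primeOf h = primeOf h') : z = z' := by
  obtain ⟨_, ⟨U, hU, rfl⟩, hxU, -⟩ :=
    X.isBasis_affineOpens.exists_subset_of_mem_open (Set.mem_univ x) isOpen_univ
  have e' := congrArg (Ideal.comap (X.presheaf.germ U x hxU).hom) e
  rw [comap_germ_primeOf h hU hxU, comap_germ_primeOf h' hU hxU] at e'
  have := congrArg hU.fromSpec (PrimeSpectrum.ext e')
  rwa [hU.fromSpec_primeIdealOf, hU.fromSpec_primeIdealOf] at this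

theorem exists_point {x : X} (Q : Ideal (X.presheaf.stalk x)) (hQ : Q.IsPrime) :
    ∃ (z : X) (h : z ⤳ x), primeOf h = Q := by
  obtain ⟨_, ⟨U, hU, rfl⟩, hxU, -⟩ :=
    X.isBasis_affineOpens.exists_subset_of_mem_open (Set.mem_univ x) isOpen_univ
  let P : PrimeSpectrum Γ(X, U) := ⟨Q.comap (X.presheaf.germ U x hxU).hom, hQ.comap _⟩
  have hle : P ≤ hU.primeIdealOf ⟨x, hxU⟩ := by
    rw [← PrimeSpectrum.asIdeal_le_asIdeal, ← comap_germ_primeOf (specializes_refl x) hU hxU, primeOf_refl]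
    exact Ideal.comap_mono (le_maximalIdeal hQ.ne_top)
  have h : hU.fromSpec P ⤳ x := by
    have := ((PrimeSpectrum.le_iff_specializes _ _).1 hle).map hU.fromSpec.continuous
    rwa [hU.fromSpec_primeIdealOf] at this
  refine ⟨_, h, ideal_ext_of_comap_germ hU hxU _ _ ?_⟩
  rw [comap_germ_primeOf h hU hxU]
  exact congrArg PrimeSpectrum.asIdeal (hU.fromSpec.isOpenEmbedding.injective (hU.fromSpec_primeIdealOf _))

theorem primeOf_comap (f : X ⟶ Y) {z x : X} (h : z ⤳ x) {w y : Y} (hz : f z = w) (hx : f x = y) (h' : w ⤳ y) :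
    (primeOf h).comap (φ f hx) = primeOf h' := by
  subst hz hx
  ext t
  rw [Ideal.mem_comap, ← not_iff_not, notMem_primeOf, notMem_primeOf, φ_rfl]
  show IsUnit (X.presheaf.stalkSpecializes h (f.stalkMap x t)) ↔ _
  rw [← Scheme.Hom.stalkSpecializes_stalkMap_apply f z x h t]
  exact isUnit_map_iff (f.stalkMap z).hom _

theorem stk_specializes (J : X.IdealSheafData) {z x : X} (h : z ⤳ x) :
    stk J z = (stk J x).map (X.presheaf.stalkSpecializes h).hom := by
  obtain ⟨_, ⟨U, hU, rfl⟩, hxU, -⟩ :=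
    X.isBasis_affineOpens.exists_subset_of_mem_open (Set.mem_univ x) isOpen_univ
  rw [stk_eq J ⟨U, hU⟩ hxU, stk_eq J ⟨U, hU⟩ (h.mem_open U.isOpen hxU), Ideal.map_map]
  congr 1
  exact congrArg CommRingCat.Hom.hom (X.presheaf.germ_stalkSpecializes hxU h).symm

theorem specializes_dvd {z x : X} (h : z ⤳ x) {g e : X.presheaf.stalk x} :
    (X.presheaf.stalkSpecializes h).hom g ∣ (X.presheaf.stalkSpecializes h).hom e ↔
      ∃ t ∉ primeOf h, g ∣ t * e := by
  letI := (X.presheaf.stalkSpecializes h).hom.toAlgebra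
  haveI := isLocalization_stalkSpecializes h
  let M := (IsUnit.submonoid (X.presheaf.stalk z)).comap (X.presheaf.stalkSpecializes h).hom
  constructor
  · rintro ⟨u, hu⟩
    obtain ⟨⟨v, s⟩, hv⟩ := IsLocalization.surj M u
    have he : algebraMap (X.presheaf.stalk x) (X.presheaf.stalk z) (e * (s : X.presheaf.stalk x)) = algebraMap _ _ (g * v) := by
      rw [map_mul, map_mul, RingHom.algebraMap_toAlgebra, hu, mul_assoc]
      congr 1
    obtain ⟨t, ht⟩ := (IsLocalization.eq_iff_exists M _).1 he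
    refine ⟨t * s, (notMem_primeOf h _).2 ?_, t * v, ?_⟩
    · rw [map_mul]; exact t.2.mul s.2
    · rw [mul_left_comm g, ← ht]; ring
  · rintro ⟨t, ht, w, hw⟩
    have := congrArg (X.presheaf.stalkSpecializes h).hom hw
    rw [map_mul, map_mul] at this
    exact ((notMem_primeOf h t).1 ht).dvd_mul_left.1 ⟨_, this⟩

/-- a regular pair in the maximal ideal -/
def RegPair (A : Type u) [CommRing A] [IsLocalRing A] : Prop :=
  ∃ a ∈ maximalIdeal A, ∃ b ∈ maximalIdeal A, (∀ x : A, a * x = 0 → x = 0) ∧ ∀ x : A, a ∣ b * x → a ∣ x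

theorem regPair_of_depth (A : Type u) [CommRing A] [IsLocalRing A] [IsNoetherianRing A]
    (h : 2 ≤ _root_.LocCoh.depth A A) : RegPair A := by
  obtain ⟨rs, hlen, hmem, hreg⟩ := (LocCoh.natCast_le_idealDepth_iff_exists _ A CAlgH3.maximal_smul_top_ne_top 2).1 h
  match rs, hlen with
  | a :: b :: rs, _ =>
    have h1 := (RingTheory.Sequence.isWeaklyRegular_cons_iff A a (b :: rs)).1 hreg.1
    have h2 := ((RingTheory.Sequence.isWeaklyRegular_cons_iff _ b rs).1 h1.2).1
    refine ⟨a, hmem a (by simp), b, hmem b (by simp), fun x hx => h1.1 (by simpa using hx), ?_⟩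
    rintro x ⟨w, hw⟩
    have hmk : ∀ y : A, (Submodule.Quotient.mk y : QuotSMulTop a A) = 0 ↔ a ∣ y := fun y => by
      rw [Submodule.Quotient.mk_eq_zero, Submodule.mem_smul_pointwise_iff_exists]
      exact ⟨fun ⟨c, _, hc⟩ => ⟨c, hc.symm⟩, fun ⟨c, hc⟩ => ⟨c, trivial, hc.symm⟩⟩
    refine (hmk x).1 (h2 ?_)
    simp only [smul_zero]
    rw [← Submodule.Quotient.mk_smul, hmk]
    exact ⟨w, hw⟩

variable [IsLocallyNoetherian X] [IsLocallyNoetherian Y] {f : X ⟶ Y} {J : X.IdealSheafData}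

/-- Descent at a point of depth at least two from descent at its generalizations. -/
theorem descAt_step [Flat f] [Surjective f] (hJ : BlowUp.IsEffCartierIdeal J) (y : Y)
    (hreg : RegPair (Y.presheaf.stalk y)) (hd : ∀ z, z ⤳ y → z ≠ y → DescAt f J z) : DescAt f J y := by
  obtain ⟨a, hma, b, hmb, ha, hb⟩ := hreg
  let A := Y.presheaf.stalk y
  have hex : ∀ p : Ideal A, ∃ c : A, p.IsPrime → p ≠ maximalIdeal A → ∀ (x : X) (hx : f x = y) (g : X.presheaf.stalk x),
      stk J x = Ideal.span {g} → ∀ Q : Ideal (X.presheaf.stalk x), Q.IsPrime → Q.comap (φ f hx) = p →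
        (∃ t ∉ Q, g ∣ t * φ f hx c) ∧ ∃ t ∉ Q, φ f hx c ∣ t * g := by
    intro p
    by_cases hp : p.IsPrime ∧ p ≠ maximalIdeal A
    swap
    · exact ⟨0, fun h1 h2 => absurd ⟨h1, h2⟩ hp⟩
    obtain ⟨z, hzy, hzp⟩ := exists_point p hp.1
    have hne : z ≠ y := by
      rintro rfl
      exact hp.2 (hzp.symm.trans (primeOf_refl _ _))
    obtain ⟨a', ha'⟩ := hd z hzy hne
    letI := (Y.presheaf.stalkSpecializes hzy).hom.toAlgebra
    haveI := isLocalization_stalkSpecializes hzy
    obtain ⟨⟨c, s⟩, hcs⟩ := IsLocalization.surj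
      ((IsUnit.submonoid (Y.presheaf.stalk z)).comap (Y.presheaf.stalkSpecializes hzy).hom) a'
    refine ⟨c, fun _ _ x hx g hg Q hQ hQp => ?_⟩
    obtain ⟨x', hx', hx'Q⟩ := exists_point Q hQ
    have hfy : f x' ⤳ y := hx ▸ hx'.map f.continuous
    obtain rfl : f x' = z := eq_of_primeOf_eq hfy hzy (by
      rw [hzp, ← hQp, ← hx'Q, primeOf_comap f hx' rfl hx hfy])
    have hass : Associated ((Y.presheaf.stalkSpecializes hzy).hom c) a' :=
      Associated.symm ⟨IsUnit.unit s.2, hcs⟩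
    have hspec : φ f (rfl : f x' = f x') ((Y.presheaf.stalkSpecializes hzy).hom c) =
        (X.presheaf.stalkSpecializes hx').hom (φ f hx c) := by
      subst hx
      rw [φ_rfl, φ_rfl]
      exact Scheme.Hom.stalkSpecializes_stalkMap_apply f x' x hx' c
    have hass' := hass.map (φ f (rfl : f x' = f x'))
    rw [hspec] at hass'
    have h1 := ha' x' rfl
    rw [stk_specializes J hx', hg, Ideal.map_span, Set.image_singleton] at h1
    have h2 : Ideal.span {φ f (rfl : f x' = f x') a'} = Ideal.span {(X.presheaf.stalkSpecializes hx').hom (φ f hx c)} :=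
      le_antisymm (Ideal.span_singleton_le_span_singleton.2 hass'.dvd)
        (Ideal.span_singleton_le_span_singleton.2 hass'.symm.dvd)
    rw [h2] at h1
    rw [← hx'Q]
    exact ⟨(specializes_dvd hx').1 (Ideal.span_singleton_le_span_singleton.1 h1.ge),
      (specializes_dvd hx').1 (Ideal.span_singleton_le_span_singleton.1 h1.le)⟩
  choose c hc using hex
  have hdesc : ∀ (x : X) (hx : f x = y), ∃ d : A, punctIdeal c = Ideal.span {d} ∧ stk J x = Ideal.span {φ f hx d} := by
    intro x hx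
    obtain ⟨g, hg, hgJ⟩ := exists_gen hJ x
    letI : Algebra A (X.presheaf.stalk x) := (φ f hx).toAlgebra
    have : Module.Flat A (X.presheaf.stalk x) := flat_φ f hx
    have : IsLocalHom (algebraMap A (X.presheaf.stalk x)) := isLocalHom_φ f hx
    obtain ⟨d, -, hd1, hd2⟩ := exists_descend (A := A) (B := X.presheaf.stalk x) hma hmb ha hb hg c
      fun Q hQ hQm => hc _ (hQ.comap _) hQm x hx g hgJ Q hQ rfl
    exact ⟨d, hd1, hgJ.trans (le_antisymm (Ideal.span_singleton_le_span_singleton.2 hd2.dvd)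
        (Ideal.span_singleton_le_span_singleton.2 hd2.symm.dvd))⟩
  obtain ⟨x₀, hx₀⟩ := f.surjective y
  obtain ⟨d₀, hd₀, -⟩ := hdesc x₀ hx₀
  refine ⟨d₀, fun x hx => ?_⟩
  obtain ⟨d, hd1, hd2⟩ := hdesc x hx
  have h3 := congrArg (Ideal.map (φ f hx)) (hd1.symm.trans hd₀)
  rw [Ideal.map_span, Ideal.map_span, Set.image_singleton, Set.image_singleton] at h3
  exact hd2.trans h3

/-- Descent everywhere, by induction along generalizations. -/
theorem descAt_all [Flat f] [Surjective f] (hJ : BlowUp.IsEffCartierIdeal J)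
    (h : ∀ y : Y, RegPair (Y.presheaf.stalk y) ∨ DescAt f J y) (y : Y) : DescAt f J y := by
  obtain ⟨_, ⟨U, hU, rfl⟩, hyU, -⟩ :=
    Y.isBasis_affineOpens.exists_subset_of_mem_open (Set.mem_univ y) isOpen_univ
  have : IsNoetherianRing Γ(Y, U) := IsLocallyNoetherian.component_noetherian ⟨U, hU⟩
  suffices key : ∀ (n : ℕ) (y : Y) (hy : y ∈ U), (hU.primeIdealOf ⟨y, hy⟩).asIdeal.height < n → DescAt f J y by
    obtain ⟨n, hn⟩ := ENat.ne_top_iff_exists.1 (Ideal.height_ne_top (I := (hU.primeIdealOf ⟨y, hyU⟩).asIdeal)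
      (hU.primeIdealOf ⟨y, hyU⟩).isPrime.ne_top)
    exact key (n + 1) y hyU (by rw [← hn]; exact_mod_cast n.lt_succ_self)
  intro n
  induction n with
  | zero => intro y hy hlt; simp at hlt
  | succ n ih =>
    intro y hy hlt
    refine (h y).elim (fun hreg => descAt_step hJ y hreg fun z hz hne => ih z (hz.mem_open U.isOpen hy) ?_) id
    have hle : (hU.primeIdealOf ⟨z, hz.mem_open U.isOpen hy⟩).asIdeal ≤ (hU.primeIdealOf ⟨y, hy⟩).asIdeal := by
      rw [← comap_germ_primeOf hz hU hy, ← comap_germ_primeOf (specializes_refl y) hU hy, primeOf_refl]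
      exact Ideal.comap_mono (le_maximalIdeal (isPrime_primeOf hz).ne_top)
    have hne' : (hU.primeIdealOf ⟨z, hz.mem_open U.isOpen hy⟩).asIdeal ≠ (hU.primeIdealOf ⟨y, hy⟩).asIdeal := fun e => by
      refine hne ?_
      have := congrArg hU.fromSpec (PrimeSpectrum.ext e)
      rwa [hU.fromSpec_primeIdealOf, hU.fromSpec_primeIdealOf] at this
    have hlt' := Ideal.height_strict_mono_of_isPrime (lt_of_le_of_ne hle hne')
    exact lt_of_lt_of_le hlt' (by
      rw [Nat.cast_add, Nat.cast_one] at hlt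
      exact Order.le_of_lt_add_one hlt)

/-- descent data from an ideal sheaf downstairs -/
theorem descAt_of_comap (I : Y.IdealSheafData) (hI : BlowUp.IsEffCartierIdeal I) (h : I.comap f = J) (y : Y) :
    DescAt f J y := by
  obtain ⟨g, -, hg⟩ := exists_gen hI y
  refine ⟨g, fun x hx => ?_⟩
  subst hx
  rw [← h, stk_comap, hg, Ideal.map_span, Set.image_singleton, φ_rfl]

/-- descent data from an equality of pullbacks -/
theorem descAt_of_square {P S : Scheme.{u}} (p : P ⟶ X) (q : P ⟶ S) (k : S ⟶ Y) (w : p ≫ f = q ≫ k) (c : S)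
    (hk : Function.Surjective (k.stalkMap c).hom) (I : S.IdealSheafData) (hI : BlowUp.IsEffCartierIdeal I)
    (h : I.comap q = J.comap p)
    (hp : ∀ t, Function.Bijective (p.stalkMap t).hom)
    (hlift : ∀ x, f x = k c → ∃ t, p t = x ∧ q t = c) : DescAt f J (k c) := by
  obtain ⟨g, -, hg⟩ := exists_gen hI c
  obtain ⟨a, rfl⟩ := hk g
  refine ⟨a, fun x hx => ?_⟩
  obtain ⟨t, rfl, ht⟩ := hlift x hx
  subst ht
  have h1 : (stk J (p t)).map (p.stalkMap t).hom = (stk I (q t)).map (q.stalkMap t).hom := by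
    rw [← stk_comap, ← stk_comap, h]
  have h2 : (p.stalkMap t).hom (φ f hx a) = (q.stalkMap t).hom ((k.stalkMap (q t)).hom a) := by
    show ((Y.presheaf.stalkSpecializes _ ≫ f.stalkMap (p t)) ≫ p.stalkMap t).hom a =
      (k.stalkMap (q t) ≫ q.stalkMap t).hom a
    rw [Category.assoc, ← Scheme.Hom.stalkMap_comp, ← Scheme.Hom.stalkMap_comp]
    exact congrArg (fun F : Y.presheaf.stalk _ ⟶ _ => F.hom a) (Scheme.Hom.stalkMap_congr_hom _ _ w.symm t).symm
  have h3 := congrArg (Ideal.comap (p.stalkMap t).hom) h1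
  rw [Ideal.comap_map_of_bijective _ (hp t), hg, Ideal.map_span, Set.image_singleton, ← h2,
    ← Set.image_singleton, ← Ideal.map_span, Ideal.comap_map_of_bijective _ (hp t)] at h3
  exact h3

theorem isEffCartier_comap_flat {S : Scheme.{u}} (k : S ⟶ Y) [Flat k] (I : Y.IdealSheafData)
    (hI : BlowUp.IsEffCartierIdeal I) : BlowUp.IsEffCartierIdeal (I.comap k) := by
  intro s
  obtain ⟨U, hU, g, hg, hgI⟩ := hI (k s)
  obtain ⟨_, ⟨V, hV, rfl⟩, hsV, hVU⟩ :=
    S.isBasis_affineOpens.exists_subset_of_mem_open (show s ∈ k ⁻¹ᵁ U.1 from hU) (k ⁻¹ᵁ U.1).isOpen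
  refine ⟨⟨V, hV⟩, hsV, k.appLE U.1 V hVU g, ?_, ?_⟩
  · algebraize [(k.appLE U.1 V hVU).hom]
    haveI : Module.Flat Γ(Y, U.1) Γ(S, V) := k.flat_appLE U.2 hV hVU
    have hg' : ∀ x : Γ(Y, U.1), g * x = 0 → x = 0 := fun x hx => mem_nonZeroDivisors_iff_right.1 hg x (by rw [mul_comm, hx])
    have h0 := (regular_pair_map (B := Γ(S, V)) hg' (fun x hx => by rwa [one_mul] at hx) (a := g) (b := 1)).1
    exact mem_nonZeroDivisors_iff_right.2 fun x hx => h0 x ((mul_comm _ _).trans hx)
  · rw [ProjLib.comap_ideal_eq I k U ⟨V, hV⟩ hVU, hgI, Ideal.map_span, Set.image_singleton]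

end Groth.Agent.Misc15.DivDescent
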