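import Groth.Prelude.Def_Magnet2

/-! Restricting an action to a stable open subscheme. -/

set_option autoImplicit false
universe u

noncomputable section

open CategoryTheory MonoidalCategory CartesianMonoidalCategory MonObj AlgebraicGeometry Opposite

namespace Groth.Agent.Misc15.OpenAction

variable {S : Scheme.{u}} {G X : Over S} [GrpObj G] (a : AlgGrp.Action G X) (U : X.left.Opens)

/-- the open subscheme as an object over `S` -/
abbrev obj : Over S := Over.mk (U.ι ≫ X.hom)

/-- its inclusion -/
abbrev incl : obj U ⟶ X := Over.homMk U.ι rfl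

theorem exists_action (hU : (CartesianMonoidalCategory.snd G X).left ⁻¹ᵁ U ≤ a.act.left ⁻¹ᵁ U) :
    ∃ b : AlgGrp.Action G (obj U), b.act ≫ incl U = (G ◁ incl U) ≫ a.act := by
  have hmono : Mono (incl U) := by
    have : Mono (incl U).left := inferInstanceAs (Mono U.ι)
    exact (Over.forget _).mono_of_mono_map this
  have hr : Set.range ((G ◁ incl U) ≫ a.act).left ⊆ Set.range U.ι := by
    rw [Scheme.Opens.range_ι]
    rintro _ ⟨z, rfl⟩
    refine hU (x := (G ◁ incl U).left z) ?_
    show (CartesianMonoidalCategory.snd G X).left ((G ◁ incl U).left z) ∈ U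
    rw [← Scheme.Hom.comp_apply, ← Over.comp_left, whiskerLeft_snd, Over.comp_left, Scheme.Hom.comp_apply]
    exact ((CartesianMonoidalCategory.snd G (obj U)).left z).2
  let act : G ⊗ obj U ⟶ obj U := Over.homMk (IsOpenImmersion.lift U.ι _ hr) (by
    show IsOpenImmersion.lift U.ι _ hr ≫ U.ι ≫ X.hom = _
    rw [IsOpenImmersion.lift_fac_assoc]
    exact Over.w ((G ◁ incl U) ≫ a.act))
  have e : act ≫ incl U = (G ◁ incl U) ≫ a.act := by
    apply Over.OverMorphism.ext
    exact IsOpenImmersion.lift_fac _ _ _
  refine ⟨⟨act, ?_, ?_⟩, e⟩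
  · rw [← cancel_mono (incl U), Category.assoc, e, ← whisker_exchange_assoc, a.one_act]
    simp
  · rw [← cancel_mono (incl U), Category.assoc, e, ← whisker_exchange_assoc, a.mul_act]
    simp only [Category.assoc]
    rw [e, ← whiskerLeft_comp_assoc G act, e, whiskerLeft_comp_assoc, tensor_whiskerLeft]
    simp

end Groth.Agent.Misc15.OpenAction
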