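import Groth.Prelude.Def_Magnet4

/-! Ring-valued points of the diagonalizable monoid schemes `A(M)_S` over an affine base. -/

set_option autoImplicit false
universe u

noncomputable section

open CategoryTheory CategoryTheory.Limits MonoidalCategory CartesianMonoidalCategory MonObj AlgebraicGeometry Opposite
open Magnet

namespace Groth.Agent.Misc15.MagnetPoints

abbrev Z : Type u := ULift.{u} ℤ

/-- every ring is an algebra over `ULift ℤ` -/
abbrev algZ (K : Type u) [CommRing K] : Algebra Z.{u} K :=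
  ((algebraMap ℤ K).comp (ULift.ringEquiv (R := ℤ)).toRingHom).toAlgebra

variable {k : Type u} [CommRing k] {K L : Type u} [CommRing K] [CommRing L] [Algebra k K] [Algebra k L]
  {N N' : Type} [AddCommMonoid N] [AddCommMonoid N']

abbrev S₀ (k : Type u) [CommRing k] : Scheme.{u} := Spec (CommRingCat.of k)

abbrev f₀ (k : Type u) [CommRing k] : S₀ k ⟶ Spec (CommRingCat.of Z.{u}) :=
  Limits.IsTerminal.from specULiftZIsTerminal (S₀ k)

def toSpZ (k K : Type u) [CommRing k] [CommRing K] [Algebra k K] :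
    letI := algZ K
    (Over.map (f₀ k)).obj (CoactBr.sp k K) ≅ CoactBr.sp Z.{u} K :=
  letI := algZ K
  Over.isoMk (Iso.refl _) (specULiftZIsTerminal.hom_ext _ _)

/-- algebra maps out of the monoid algebra over `ULift ℤ` are monoid maps -/
def charEquiv (K : Type u) [CommRing K] (N : Type) [AddCommMonoid N] :
    letI := algZ K
    (Multiplicative N →* K) ≃ (MonoidAlgebra Z.{u} (Multiplicative N) →ₐ[Z.{u}] K) :=
  letI := algZ K
  MonoidAlgebra.lift Z.{u} K (Multiplicative N)

/-- the `K`-point of `A(N)_k` given by a character -/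
def P (χ : Multiplicative N →* K) : CoactBr.sp k K ⟶ AMonS (S₀ k) N :=
  letI := algZ K
  (Over.mapPullbackAdj (f₀ k)).homEquiv _ _ ((toSpZ k K).hom ≫ CoactBr.pt (charEquiv K N χ))

theorem P_surjective (p : CoactBr.sp k K ⟶ AMonS (S₀ k) N) : ∃ χ, P χ = p := by
  letI := algZ K
  let q : CoactBr.sp Z.{u} K ⟶ AMon Z.{u} N :=
    (toSpZ k K).inv ≫ ((Over.mapPullbackAdj (f₀ k)).homEquiv _ _).symm p
  refine ⟨(charEquiv K N).symm (Spec.mapMulEquiv.symm q).ofConv, ?_⟩
  show (Over.mapPullbackAdj (f₀ k)).homEquiv _ _ _ = p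
  rw [Equiv.apply_symm_apply]
  have : CoactBr.pt (Spec.mapMulEquiv.symm q).ofConv = q := Spec.mapMulEquiv.apply_symm_apply q
  rw [this, Iso.hom_inv_id_assoc, Equiv.apply_symm_apply]

theorem P_mul (χ ψ : Multiplicative N →* K) : P (k := k) χ * P ψ = P (χ * ψ) := by
  letI := algZ K
  unfold P
  have h := MonAct.lift_homEquiv_bc_act (f₀ k) (MonAct.regular (AMon Z.{u} N))
    ((toSpZ k K).hom ≫ CoactBr.pt (charEquiv K N χ)) ((toSpZ k K).hom ≫ CoactBr.pt (charEquiv K N ψ))
  rw [MonAct.bc_regular, MonAct.lift_regular_act, MonAct.lift_regular_act] at h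
  refine h.trans ?_
  rw [← MonObj.comp_mul, CoactBr.pt_mul_pt]
  congr 3
  refine MonoidAlgebra.algHom_ext (fun n => ?_) (Subsingleton.elim _ _)
  simp [charEquiv, Algebra.smul_def]

theorem pt_comp_P (φ : K →ₐ[k] L) (χ : Multiplicative N →* K) :
    CoactBr.pt φ ≫ P (k := k) χ = P ((φ : K →* L).comp χ) := by
  letI := algZ K
  letI := algZ L
  let φZ : K →ₐ[Z.{u}] L :=
    { φ.toRingHom with
      commutes' := fun r => by
        obtain ⟨r⟩ := r
        show φ ((r : ℤ) : K) = ((r : ℤ) : L)
        exact map_intCast φ r }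
  unfold P
  rw [← Adjunction.homEquiv_naturality_left]
  congr 1
  have e : (Over.map (f₀ k)).map (CoactBr.pt φ) ≫ (toSpZ k K).hom = (toSpZ k L).hom ≫ CoactBr.pt φZ := by
    ext1
    simp [toSpZ, φZ]
    exact (Category.comp_id _).trans (Category.id_comp _).symm
  rw [reassoc_of% e, ← CoactBr.pt_comp]
  congr 2
  refine MonoidAlgebra.algHom_ext (fun n => ?_) (Subsingleton.elim _ _)
  simp [charEquiv, φZ, Algebra.smul_def]

theorem P_comp_map (f : N →+ N') (χ : Multiplicative N' →* K) :
    P (k := k) χ ≫ AMonS.map (S₀ k) f = P (χ.comp (AddMonoidHom.toMultiplicative f)) := by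
  letI := algZ K
  unfold P AMonS.map
  rw [← Adjunction.homEquiv_naturality_right, Category.assoc, AMon.map_eq_pt, ← CoactBr.pt_comp]
  congr 3
  refine MonoidAlgebra.algHom_ext (fun n => ?_) (Subsingleton.elim _ _)
  simp [charEquiv, Algebra.smul_def]

end Groth.Agent.Misc15.MagnetPoints
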