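import Groth.Prelude.Def_Magnet4
import Groth.Agent.Misc15.MagnetPoints
import Mathlib.AlgebraicGeometry.Morphisms.Separated
import Mathlib.AlgebraicGeometry.Morphisms.ClosedImmersion

/-! Ring-valued points of `A(M)_S` over an arbitrary base, and extensionality on `A(N)_S × T`. -/

set_option autoImplicit false
set_option backward.isDefEq.respectTransparency false
universe u

noncomputable section

open CategoryTheory CategoryTheory.Limits MonoidalCategory CartesianMonoidalCategory MonObj AlgebraicGeometry Opposite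
open Magnet

namespace Groth.Agent.Misc15.MagnetPointsS

open Groth.Agent.Misc15.MagnetPoints (Z algZ charEquiv)

variable {S : Scheme.{u}} {K L : Type u} [CommRing K] [CommRing L] {N N' : Type} [AddCommMonoid N] [AddCommMonoid N']

abbrev fS (S : Scheme.{u}) : S ⟶ Spec (CommRingCat.of Z.{u}) :=
  Limits.IsTerminal.from specULiftZIsTerminal S

def toSpZ (s : Spec (CommRingCat.of K) ⟶ S) :
    letI := algZ K
    (Over.map (fS S)).obj (Over.mk s) ≅ CoactBr.sp Z.{u} K :=
  letI := algZ K
  Over.isoMk (Iso.refl _) (specULiftZIsTerminal.hom_ext _ _)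

/-- the `K`-point of `A(N)_S` given by a character -/
def P (s : Spec (CommRingCat.of K) ⟶ S) (χ : Multiplicative N →* K) : Over.mk s ⟶ AMonS S N :=
  letI := algZ K
  (Over.mapPullbackAdj (fS S)).homEquiv _ _ ((toSpZ s).hom ≫ CoactBr.pt (charEquiv K N χ))

theorem P_surjective (s : Spec (CommRingCat.of K) ⟶ S) (p : Over.mk s ⟶ AMonS S N) : ∃ χ, P s χ = p := by
  letI := algZ K
  let q : CoactBr.sp Z.{u} K ⟶ AMon Z.{u} N :=
    (toSpZ s).inv ≫ ((Over.mapPullbackAdj (fS S)).homEquiv _ _).symm p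
  refine ⟨(charEquiv K N).symm (Spec.mapMulEquiv.symm q).ofConv, ?_⟩
  show (Over.mapPullbackAdj (fS S)).homEquiv _ _ _ = p
  rw [Equiv.apply_symm_apply]
  have : CoactBr.pt (Spec.mapMulEquiv.symm q).ofConv = q := Spec.mapMulEquiv.apply_symm_apply q
  rw [this, Iso.hom_inv_id_assoc, Equiv.apply_symm_apply]

theorem P_mul (s : Spec (CommRingCat.of K) ⟶ S) (χ ψ : Multiplicative N →* K) : P s χ * P s ψ = P s (χ * ψ) := by
  letI := algZ K
  unfold P
  have h := MonAct.lift_homEquiv_bc_act (fS S) (MonAct.regular (AMon Z.{u} N))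
    ((toSpZ s).hom ≫ CoactBr.pt (charEquiv K N χ)) ((toSpZ s).hom ≫ CoactBr.pt (charEquiv K N ψ))
  rw [MonAct.bc_regular, MonAct.lift_regular_act, MonAct.lift_regular_act] at h
  refine h.trans ?_
  rw [← MonObj.comp_mul, CoactBr.pt_mul_pt]
  congr 3
  refine MonoidAlgebra.algHom_ext (fun n => ?_) (Subsingleton.elim _ _)
  simp [charEquiv, Algebra.smul_def]

theorem comp_P (s : Spec (CommRingCat.of K) ⟶ S) (s' : Spec (CommRingCat.of L) ⟶ S) (φ : K →+* L)
    (t : Over.mk s' ⟶ Over.mk s) (ht : t.left = Spec.map (CommRingCat.ofHom φ)) (χ : Multiplicative N →* K) :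
    t ≫ P s χ = P s' ((φ : K →* L).comp χ) := by
  letI := algZ K
  letI := algZ L
  let φZ : K →ₐ[Z.{u}] L :=
    { φ with
      commutes' := fun r => by
        obtain ⟨r⟩ := r
        show φ ((r : ℤ) : K) = ((r : ℤ) : L)
        exact map_intCast φ r }
  unfold P
  rw [← Adjunction.homEquiv_naturality_left]
  congr 1
  have e : (Over.map (fS S)).map t ≫ (toSpZ s).hom = (toSpZ s').hom ≫ CoactBr.pt φZ := by
    ext1
    simp [toSpZ, φZ, ht]
  rw [reassoc_of% e, ← CoactBr.pt_comp]
  congr 2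
  refine MonoidAlgebra.algHom_ext (fun n => ?_) (Subsingleton.elim _ _)
  simp [charEquiv, φZ, Algebra.smul_def]

theorem P_comp_map (s : Spec (CommRingCat.of K) ⟶ S) (f : N →+ N') (χ : Multiplicative N' →* K) :
    P s χ ≫ AMonS.map S f = P s (χ.comp (AddMonoidHom.toMultiplicative f)) := by
  letI := algZ K
  unfold P AMonS.map
  rw [← Adjunction.homEquiv_naturality_right, Category.assoc, AMon.map_eq_pt, ← CoactBr.pt_comp]
  congr 3
  refine MonoidAlgebra.algHom_ext (fun n => ?_) (Subsingleton.elim _ _)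
  simp [charEquiv, Algebra.smul_def]

/-! the universal point -/

abbrev MA (R : Type u) [CommRing R] (N : Type) [AddCommMonoid N] : Type u := MonoidAlgebra R (Multiplicative N)

variable (R : Type u) [CommRing R] (N)

abbrev univBase (s : Spec (CommRingCat.of R) ⟶ S) : Spec (CommRingCat.of (MA R N)) ⟶ S :=
  Spec.map (CommRingCat.ofHom (algebraMap R (MA R N))) ≫ s

def univProj (s : Spec (CommRingCat.of R) ⟶ S) : Over.mk (univBase N R s) ⟶ Over.mk s :=
  Over.homMk (Spec.map (CommRingCat.ofHom (algebraMap R (MA R N)))) rfl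

/-- the universal `R[N]`-point of `A(N)_S × T` over a point `j : Spec R ⟶ T` -/
def univPoint {T : Over S} (s : Spec (CommRingCat.of R) ⟶ S) (j : Over.mk s ⟶ T) :
    Over.mk (univBase N R s) ⟶ AMonS S N ⊗ T :=
  CartesianMonoidalCategory.lift (P (univBase N R s) (MonoidAlgebra.of R (Multiplicative N))) (univProj N R s ≫ j)

variable {N}

theorem hom_ext_univPoint {T X : Over S} (f g : AMonS S N ⊗ T ⟶ X)
    (h : ∀ (R : Type u) [CommRing R] (s : Spec (CommRingCat.of R) ⟶ S) (j : Over.mk s ⟶ T),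
      univPoint N R s j ≫ f = univPoint N R s j ≫ g) : f = g := by
  ext1
  suffices hloc : ∀ z : (AMonS S N ⊗ T).left, ∃ U : (AMonS S N ⊗ T).left.Opens,
      z ∈ U ∧ U.ι ≫ f.left = U.ι ≫ g.left by
    choose U hzU hU using hloc
    refine ((AMonS S N ⊗ T).left.openCoverOfIsOpenCover U (TopologicalSpace.IsOpenCover.mk ?_)).hom_ext _ _ hU
    exact top_le_iff.1 fun z _ => TopologicalSpace.Opens.mem_iSup.2 ⟨z, hzU z⟩
  intro z
  obtain ⟨U, hU, hyU, -⟩ := exists_isAffineOpen_mem_and_subset (U := ⊤)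
    (show (CartesianMonoidalCategory.snd (AMonS S N) T).left z ∈ (⊤ : T.left.Opens) from trivial)
  obtain ⟨W, hW, hzW, hWs⟩ := exists_isAffineOpen_mem_and_subset
    (show z ∈ ((CartesianMonoidalCategory.snd (AMonS S N) T).left ⁻¹ᵁ U) from hyU)
  refine ⟨W, hzW, ?_⟩
  suffices hs : hW.fromSpec ≫ f.left = hW.fromSpec ≫ g.left by
    have := congrArg (hW.isoSpec.hom ≫ ·) hs
    simpa only [hW.isoSpec_hom, hW.toSpecΓ_fromSpec_assoc] using this
  let sW := hW.fromSpec ≫ (AMonS S N ⊗ T).hom
  let pW : Over.mk sW ⟶ AMonS S N ⊗ T := Over.homMk hW.fromSpec rfl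
  suffices hs : pW ≫ f = pW ≫ g by exact congrArg Over.Hom.left hs
  let sR := hU.fromSpec ≫ T.hom
  let j : Over.mk sR ⟶ T := Over.homMk hU.fromSpec rfl
  have hrange : Set.range (pW ≫ CartesianMonoidalCategory.snd _ _).left ⊆ Set.range hU.fromSpec := by
    rw [hU.range_fromSpec]
    rintro _ ⟨q, rfl⟩
    have : hW.fromSpec q ∈ (W : Set _) := by rw [← hW.range_fromSpec]; exact ⟨q, rfl⟩
    exact hWs this
  let y := IsOpenImmersion.lift hU.fromSpec (pW ≫ CartesianMonoidalCategory.snd _ _).left hrange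
  obtain ⟨χ, hχ⟩ := P_surjective sW (pW ≫ CartesianMonoidalCategory.fst _ _)
  let φ : Γ(T.left, U) →+* Γ((AMonS S N ⊗ T).left, W) := (Spec.preimage y).hom
  letI := φ.toAlgebra
  let φhat : MA Γ(T.left, U) N →ₐ[Γ(T.left, U)] Γ((AMonS S N ⊗ T).left, W) :=
    MonoidAlgebra.lift _ _ _ χ
  have hφ : φhat.toRingHom.comp (algebraMap _ (MA Γ(T.left, U) N)) = φ := φhat.comp_algebraMap
  have hy : Spec.map (CommRingCat.ofHom φ) ≫ hU.fromSpec = (pW ≫ CartesianMonoidalCategory.snd _ _).left := by
    rw [show CommRingCat.ofHom φ = Spec.preimage y from rfl, Spec.map_preimage]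
    exact IsOpenImmersion.lift_fac _ _ _
  let t : Over.mk sW ⟶ Over.mk (univBase N _ sR) := Over.homMk (Spec.map (CommRingCat.ofHom φhat.toRingHom)) (by
    show Spec.map (CommRingCat.ofHom φhat.toRingHom) ≫ Spec.map _ ≫ hU.fromSpec ≫ T.hom = sW
    rw [← Spec.map_comp_assoc, ← CommRingCat.ofHom_comp, hφ, reassoc_of% hy]
    exact Over.w (pW ≫ CartesianMonoidalCategory.snd _ _))
  have key : pW = t ≫ univPoint N _ sR j := by
    rw [univPoint, CartesianMonoidalCategory.comp_lift, comp_P _ _ φhat.toRingHom t rfl]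
    have h1 : (↑φhat.toRingHom : _ →* _).comp (MonoidAlgebra.of Γ(T.left, U) (Multiplicative N)) = χ := by
      ext n
      simp [φhat, Algebra.smul_def]
    have h2 : t ≫ univProj N _ sR ≫ j = pW ≫ CartesianMonoidalCategory.snd _ _ := by
      ext1
      show Spec.map (CommRingCat.ofHom φhat.toRingHom) ≫ Spec.map _ ≫ hU.fromSpec = _
      rw [← Spec.map_comp_assoc, ← CommRingCat.ofHom_comp, hφ, hy]
    rw [h1, h2, hχ, CartesianMonoidalCategory.lift_comp_fst_snd]
  rw [key, Category.assoc, Category.assoc, h]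

theorem ker_spec_map {A B : Type u} [CommRing A] [CommRing B] (φ : A →+* B) (hφ : Function.Injective φ) :
    (Spec.map (CommRingCat.ofHom φ)).ker = ⊥ := by
  refine Scheme.IdealSheafData.ext_of_isAffine ?_
  rw [Scheme.Hom.ker_apply _ ⟨⊤, isAffineOpen_top _⟩, Scheme.IdealSheafData.ideal_bot, Pi.bot_apply,
    ← RingHom.injective_iff_ker_eq_bot]
  have : Mono (CommRingCat.ofHom φ) := ConcreteCategory.mono_of_injective _ hφ
  have h2 : Mono (Spec.map (CommRingCat.ofHom φ)).appTop :=
    ((MorphismProperty.monomorphisms CommRingCat).arrow_mk_iso_iff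
      (arrowIsoΓSpecOfIsAffine (CommRingCat.ofHom φ))).1 this
  exact (ConcreteCategory.mono_iff_injective_of_preservesPullback _).1 h2

/-- morphisms out of an affine scheme into a separated `S`-scheme are detected along an injective ring map -/
theorem eq_of_injective {A B : Type u} [CommRing A] [CommRing B] {X : Over S} [IsSeparated X.hom]
    {sA : Spec (CommRingCat.of A) ⟶ S} {sB : Spec (CommRingCat.of B) ⟶ S} (φ : A →+* B)
    (hφ : Function.Injective φ) (t : Over.mk sB ⟶ Over.mk sA) (ht : t.left = Spec.map (CommRingCat.ofHom φ))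
    (f g : Over.mk sA ⟶ X) (h : t ≫ f = t ≫ g) : f = g := by
  let e : Limits.equalizer f g ⟶ Over.mk sA := Limits.equalizer.ι f g
  have hfac : (Limits.equalizer.lift t h).left ≫ e.left = Spec.map (CommRingCat.ofHom φ) := by
    rw [← Over.comp_left, Limits.equalizer.lift_ι, ht]
  have hker : e.left.ker = ⊥ := by
    have hle := Scheme.Hom.le_ker_comp (Limits.equalizer.lift t h).left e.left
    rw [hfac] at hle
    refine eq_bot_iff.2 (hle.trans (le_of_eq ?_))
    exact ker_spec_map φ hφ
  have := IsClosedImmersion.isIso_iff_ker_eq_bot.2 hker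
  ext1
  rw [← cancel_epi e.left]
  exact congrArg Over.Hom.left (Limits.equalizer.condition f g)

/-- `A(f) : A(N') ⟶ A(N)` for injective `f` can be cancelled against maps into separated schemes -/
theorem cancel_map {T X : Over S} [IsSeparated X.hom] (f : N →+ N') (hf : Function.Injective f)
    (a b : AMonS S N ⊗ T ⟶ X) (h : (AMonS.map S f ▷ T) ≫ a = (AMonS.map S f ▷ T) ≫ b) : a = b := by
  apply hom_ext_univPoint
  intro R _ s j
  obtain ⟨φ, hφ, hφc, hφof⟩ : ∃ φ : MA R N →+* MA R N', Function.Injective φ ∧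
      φ.comp (algebraMap R (MA R N)) = algebraMap R (MA R N') ∧
      (φ : MA R N →* MA R N').comp (MonoidAlgebra.of R (Multiplicative N)) =
        (MonoidAlgebra.of R (Multiplicative N')).comp (AddMonoidHom.toMultiplicative f) := by
    refine ⟨(MonoidAlgebra.mapDomainAlgHom R R (AddMonoidHom.toMultiplicative f)).toRingHom,
      MonoidAlgebra.mapDomain_injective hf,
      (MonoidAlgebra.mapDomainAlgHom R R (AddMonoidHom.toMultiplicative f)).comp_algebraMap, ?_⟩
    apply MonoidHom.ext
    intro n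
    exact MonoidAlgebra.mapDomain_single
  let t : Over.mk (univBase N' R s) ⟶ Over.mk (univBase N R s) :=
    Over.homMk (Spec.map (CommRingCat.ofHom φ)) (by
      show _ ≫ Spec.map _ ≫ s = Spec.map _ ≫ s
      rw [← Spec.map_comp_assoc, ← CommRingCat.ofHom_comp, hφc])
  refine eq_of_injective φ hφ t rfl _ _ ?_
  have e : t ≫ univPoint N R s j = univPoint N' R s j ≫ (AMonS.map S f ▷ T) := by
    rw [univPoint, univPoint, CartesianMonoidalCategory.comp_lift, comp_P _ _ φ t rfl,
      CartesianMonoidalCategory.lift_whiskerRight, P_comp_map]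
    congr 1
    · exact congrArg _ hφof
    · ext1
      show Spec.map (CommRingCat.ofHom φ) ≫ Spec.map _ ≫ j.left = Spec.map _ ≫ j.left
      rw [← Spec.map_comp_assoc, ← CommRingCat.ofHom_comp, hφc]
  rw [reassoc_of% e, reassoc_of% e, h]

end Groth.Agent.Misc15.MagnetPointsS
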