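import Groth.Prelude.Def_GalTw2
import Groth.Agent.SGA1Quot.FlatBaseChange
import Groth.Agent.SGA1Quot.Factor
import Groth.Agent.SGA1Quot.Existence
import Groth.Agent.SGA1Quot.Affine
import Groth.Agent.CSA.GaloisDescent
import Mathlib.FieldTheory.Galois.Basic

/-! Galois descent of morphisms and of schemes along a finite Galois extension of fields. -/

set_option autoImplicit false
set_option backward.isDefEq.respectTransparency false
set_option backward.isDefEq.respectTransparency.types false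
universe u

open CategoryTheory CategoryTheory.Limits AlgebraicGeometry TensorProduct
open GalTw

namespace Groth.Agent.Misc15.GalDescent

variable {k : Type u} [Field k] (K : Type u) [Field K] [Algebra k K]


/-- Galois group on `Spec K` -/
noncomputable def rhoBase : (K ≃ₐ[k] K) →* Aut (Spec (CommRingCat.of K)) where
  toFun σ := ⟨specMap K σ⁻¹, specMap K σ, by rw [← specMap_mul, inv_mul_cancel, specMap_one],
    by rw [← specMap_mul, mul_inv_cancel, specMap_one]⟩
  map_one' := Iso.ext (by show specMap K 1⁻¹ = _; rw [inv_one, specMap_one]; rfl)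
  map_mul' σ τ := Iso.ext (by show specMap K (σ * τ)⁻¹ = specMap K τ⁻¹ ≫ specMap K σ⁻¹; rw [mul_inv_rev, specMap_mul])

/-- Galois group on a base change -/
noncomputable def rho (X : Over (Spec (CommRingCat.of k))) : (K ≃ₐ[k] K) →* Aut (bcK K X).left where
  toFun σ := galIso K σ⁻¹ X
  map_one' := Iso.ext (by show galMap K 1⁻¹ X = _; rw [inv_one, galMap_one]; rfl)
  map_mul' σ τ := Iso.ext (by
    show galMap K (σ * τ)⁻¹ X = galMap K τ⁻¹ X ≫ galMap K σ⁻¹ X
    rw [mul_inv_rev, galMap_mul])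

theorem rho_hom (X : Over (Spec (CommRingCat.of k))) (σ : K ≃ₐ[k] K) : ((rho K X) σ).hom = galMap K σ⁻¹ X := rfl

omit [Algebra k K] in
theorem spec_appLE_top {R S : Type u} [CommRing R] [CommRing S] (g : Spec (CommRingCat.of S) ⟶ Spec (CommRingCat.of R))
    (φ : R →+* S) (hg : g = Spec.map (CommRingCat.ofHom φ)) (e : ⊤ ≤ g ⁻¹ᵁ ⊤) (c : R) :
    g.appLE ⊤ ⊤ e ((Scheme.ΓSpecIso (CommRingCat.of R)).inv c) = (Scheme.ΓSpecIso (CommRingCat.of S)).inv (φ c) := by
  subst hg
  have h : (Spec.map (CommRingCat.ofHom φ)).appLE ⊤ ⊤ e = (Spec.map (CommRingCat.ofHom φ)).appTop := by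
    simp [Scheme.Hom.appLE, Scheme.Hom.appTop]
  rw [h]
  exact (ConcreteCategory.congr_hom (Scheme.ΓSpecIso_inv_naturality (CommRingCat.ofHom φ)) c).symm

theorem inv_base (σ : K ≃ₐ[k] K) : ((rhoBase K) σ).hom ≫ (SGA7.pt (K := k) K).hom = (SGA7.pt (K := k) K).hom := specMap_comp_pt σ⁻¹

variable [FiniteDimensional k K] [IsGalois k K]

theorem isQuot_base : SGA1.IsQuot (rhoBase (k := k) K) (SGA7.pt (K := k) K).hom := by
  have : IsAffineHom (SGA7.pt (K := k) K).hom := inferInstanceAs (IsAffineHom (Spec.map _))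
  refine SGA1Quot.isQuot_of_cover (rhoBase K) (SGA7.pt (K := k) K).hom (inv_base K) (fun _ : PUnit.{u + 1} => ⊤) (fun _ => isAffineOpen_top _)
    (fun y => ⟨PUnit.unit, trivial⟩) (fun _ => ?_) (fun _ s hs => ?_)
  · intro a b hab
    have e : ∀ r : k, ((SGA7.pt (K := k) K).hom).app ⊤ ((Scheme.ΓSpecIso (CommRingCat.of k)).inv r) =
        (Scheme.ΓSpecIso (CommRingCat.of K)).inv (algebraMap k K r) := fun r =>
      (ConcreteCategory.congr_hom (Scheme.ΓSpecIso_inv_naturality (CommRingCat.ofHom (algebraMap k K))) r).symm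
    obtain ⟨a, rfl⟩ := (Scheme.ΓSpecIso (CommRingCat.of k)).commRingCatIsoToRingEquiv.symm.surjective a
    obtain ⟨b, rfl⟩ := (Scheme.ΓSpecIso (CommRingCat.of k)).commRingCatIsoToRingEquiv.symm.surjective b
    have h := ((e a).symm.trans hab).trans (e b)
    exact congrArg _ ((algebraMap k K).injective
      ((Scheme.ΓSpecIso (CommRingCat.of K)).commRingCatIsoToRingEquiv.symm.injective h))
  · obtain ⟨c, rfl⟩ := (Scheme.ΓSpecIso (CommRingCat.of K)).commRingCatIsoToRingEquiv.symm.surjective s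
    have hfix : ∀ σ : K ≃ₐ[k] K, σ c = c := by
      intro σ
      have h := hs σ
      have e : FEtQuot.act (SGA7.pt (K := k) K).hom (rhoBase K) (inv_base K) σ ⊤ ((Scheme.ΓSpecIso (CommRingCat.of K)).inv c) =
          (Scheme.ΓSpecIso (CommRingCat.of K)).inv (σ c) := by
        exact spec_appLE_top _ (σ : K →+* K) (show specMap K σ⁻¹⁻¹ = _ by rw [inv_inv]) _ c
      exact (Scheme.ΓSpecIso (CommRingCat.of K)).commRingCatIsoToRingEquiv.symm.injective (e.symm.trans h)
    obtain ⟨r, hr⟩ := (IsGalois.mem_range_algebraMap_iff_fixed c).2 hfix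
    refine ⟨(Scheme.ΓSpecIso (CommRingCat.of k)).inv r, ?_⟩
    rw [← hr]
    exact (ConcreteCategory.congr_hom (Scheme.ΓSpecIso_inv_naturality (CommRingCat.ofHom (algebraMap k K))) r).symm

theorem isQuot_fst (X : Over (Spec (CommRingCat.of k))) :
    SGA1.IsQuot (rho K X) (pullback.fst X.hom (SGA7.pt (K := k) K).hom) := by
  have : Subsingleton ↥(Spec (CommRingCat.of k)) := inferInstanceAs (Subsingleton (PrimeSpectrum k))
  have : Flat X.hom := inferInstance
  exact SGA1Quot.isQuot_baseChange (rhoBase K) (SGA7.pt (K := k) K).hom (isQuot_base K) X.hom (pullback.snd X.hom (SGA7.pt (K := k) K).hom) (pullback.fst X.hom (SGA7.pt (K := k) K).hom)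
    (IsPullback.of_hasPullback X.hom (SGA7.pt (K := k) K).hom).flip (rho K X) (fun g => galMap_snd K g⁻¹ X) (fun g => galMap_fst K g⁻¹ X)

theorem surjective_fst (X : Over (Spec (CommRingCat.of k))) : Function.Surjective (pullback.fst X.hom (SGA7.pt (K := k) K).hom) :=
  (SGA1Quot.surjective (isQuot_fst K X)).surj

/-- invariant morphisms factor through a quotient by a finite group -/
theorem exists_factor_of_inv {A B Z : Scheme.{u}} {G : Type u} [Group G] [Finite G] {ρ : G →* Aut A} {p : A ⟶ B}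
    (hp : SGA1.IsQuot ρ p) (h : A ⟶ Z) (hinv : ∀ g, (ρ g).hom ≫ h = h) : ∃ m : B ⟶ Z, p ≫ m = h := by
  refine SGA1Quot.exists_factor (SGA1Quot.isQuotientMap hp) hp.injective h (fun x x' hx => ?_) fun W V e a => ?_
  · obtain ⟨g, rfl⟩ := (SGA1Quot.eq_iff hp x x').1 hx
    rw [← Scheme.Hom.comp_apply, hinv]
  · refine (hp.range_iff V _).2 fun g => ?_
    rw [← CommRingCat.comp_apply, Scheme.Hom.appLE_comp_appLE]
    exact congrArg (fun φ : Γ(Z, W) ⟶ Γ(A, p ⁻¹ᵁ V) => φ a) (SGA1Quot.appLE_congr _ _ _ _ (hinv g))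

variable {K}
variable {X Y : Over (Spec (CommRingCat.of k))}

/-- the base change of a morphism -/
noncomputable def bcMap (g : X ⟶ Y) : bcK K X ⟶ bcK K Y :=
  Over.homMk (pullback.map X.hom (SGA7.pt (K := k) K).hom Y.hom (SGA7.pt (K := k) K).hom g.left (𝟙 _) (𝟙 _) (by simp) (by simp)) (by
    show pullback.map _ _ _ _ _ _ _ _ _ ≫ pullback.snd _ _ = pullback.snd _ _
    simp)

omit [FiniteDimensional k K] [IsGalois k K] in
theorem bcMap_fst (g : X ⟶ Y) : (bcMap (K := K) g).left ≫ pullback.fst Y.hom (SGA7.pt (K := k) K).hom = pullback.fst X.hom (SGA7.pt (K := k) K).hom ≫ g.left := by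
  simp [bcMap]

omit [FiniteDimensional k K] [IsGalois k K] in
theorem bcMap_snd (g : X ⟶ Y) : (bcMap (K := K) g).left ≫ pullback.snd Y.hom (SGA7.pt (K := k) K).hom = pullback.snd X.hom (SGA7.pt (K := k) K).hom :=
  Over.w (bcMap g)

theorem bcMap_injective : Function.Injective (bcMap (K := K) (X := X) (Y := Y)) := by
  intro g g' h
  ext1
  refine SGA1Quot.hom_ext (surjective_fst K X) (isQuot_fst K X).injective _ _ ?_
  rw [← bcMap_fst, h, bcMap_fst]

theorem bcMap_comp {Z : Over (Spec (CommRingCat.of k))} (g : X ⟶ Y) (g' : Y ⟶ Z) :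
    bcMap (K := K) (g ≫ g') = bcMap g ≫ bcMap g' := by
  ext1
  apply pullback.hom_ext <;> simp [bcMap]

theorem bcMap_id : bcMap (K := K) (𝟙 X) = 𝟙 _ := by
  ext1
  apply pullback.hom_ext <;> simp [bcMap]

omit [FiniteDimensional k K] [IsGalois k K] in
theorem twHom_bcMap (σ : K ≃ₐ[k] K) (g : X ⟶ Y) : twHom σ (bcMap g) = bcMap g := by
  ext1
  rw [twHom_left]
  apply pullback.hom_ext
  · rw [Category.assoc, Category.assoc, galMap_fst, bcMap_fst, galMap_fst_assoc]
  · rw [Category.assoc, Category.assoc, galMap_snd, reassoc_of% (bcMap_snd (K := K) g), galMap_snd_assoc,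
      ← specMap_mul, mul_inv_cancel, specMap_one, Category.comp_id, bcMap_snd]

/-- Galois descent of morphisms -/
theorem exists_descend (f : bcK K X ⟶ bcK K Y) (hf : ∀ σ : K ≃ₐ[k] K, twHom σ f = f) : ∃ g : X ⟶ Y, bcMap g = f := by
  have hinv : ∀ σ : K ≃ₐ[k] K, galMap K σ X ≫ f.left ≫ pullback.fst Y.hom (SGA7.pt (K := k) K).hom = f.left ≫ pullback.fst Y.hom (SGA7.pt (K := k) K).hom := by
    intro σ
    conv_rhs => rw [← hf σ, twHom_left, Category.assoc, Category.assoc, galMap_fst]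
  obtain ⟨m, hm⟩ := exists_factor_of_inv (isQuot_fst K X) (f.left ≫ pullback.fst Y.hom (SGA7.pt (K := k) K).hom) fun σ => hinv σ⁻¹
  have hw : m ≫ Y.hom = X.hom := by
    refine SGA1Quot.hom_ext (surjective_fst K X) (isQuot_fst K X).injective _ _ ?_
    have hf0 : f.left ≫ pullback.snd Y.hom (SGA7.pt (K := k) K).hom = pullback.snd X.hom (SGA7.pt (K := k) K).hom := Over.w f
    rw [reassoc_of% hm, pullback.condition, reassoc_of% hf0, pullback.condition]
  refine ⟨Over.homMk m hw, ?_⟩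
  ext1
  apply pullback.hom_ext
  · rw [bcMap_fst]; exact hm
  · rw [bcMap_snd]; exact (Over.w f).symm

theorem exists_descend_iso (e : bcK K X ≅ bcK K Y) (he : ∀ σ : K ≃ₐ[k] K, twIso σ e = e) :
    ∃ g : X ≅ Y, bcMap g.hom = e.hom := by
  obtain ⟨g, hg⟩ := exists_descend e.hom fun σ => congrArg Iso.hom (he σ)
  obtain ⟨g', hg'⟩ := exists_descend e.inv fun σ => congrArg Iso.inv (he σ)
  exact ⟨⟨g, g', bcMap_injective (K := K) (by rw [bcMap_comp, hg, hg', e.hom_inv_id, bcMap_id]),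
    bcMap_injective (K := K) (by rw [bcMap_comp, hg, hg', e.inv_hom_id, bcMap_id])⟩, hg⟩

/-- the Galois action on `X_K` twisted by a cocycle -/
noncomputable def rhoTw (a : GpH1.OneCocycle (K ≃ₐ[k] K) (Aut (bcK K X))) :
    (K ≃ₐ[k] K) →* Aut (bcK K X).left :=
  have key : ∀ σ τ : K ≃ₐ[k] K, galMap K (σ * τ)⁻¹ X ≫ (a (σ * τ)).hom.left =
      (galMap K τ⁻¹ X ≫ (a τ).hom.left) ≫ galMap K σ⁻¹ X ≫ (a σ).hom.left := by
    intro σ τ
    have h : a (σ * τ) = a σ * σ • a τ := a.2 σ τ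
    rw [h, mul_inv_rev]
    show galMap K _ X ≫ (galMap K σ X ≫ (a τ).hom.left ≫ galMap K σ⁻¹ X) ≫ (a σ).hom.left = _
    simp only [Category.assoc, galMap_mul_assoc, inv_mul_cancel_right]
  { toFun := fun σ => galIso K σ⁻¹ X ≪≫ (Over.forget _).mapIso (a σ)
    map_one' := Iso.ext (by
      have h1 : a 1 = 1 := by
        have h : a (1 * 1) = a 1 * (1 : K ≃ₐ[k] K) • a 1 := a.2 1 1
        rw [one_smul, mul_one] at h
        simpa using h
      show galMap K 1⁻¹ X ≫ (a 1).hom.left = _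
      rw [h1, inv_one, galMap_one, Category.id_comp]
      rfl)
    map_mul' := fun σ τ => Iso.ext (key σ τ) }

omit [FiniteDimensional k K] [IsGalois k K] in
theorem rhoTw_hom (a : GpH1.OneCocycle (K ≃ₐ[k] K) (Aut (bcK K X))) (σ : K ≃ₐ[k] K) :
    (rhoTw a σ).hom = galMap K σ⁻¹ X ≫ (a σ).hom.left := rfl

omit [FiniteDimensional k K] [IsGalois k K] in
theorem rhoTw_snd (a : GpH1.OneCocycle (K ≃ₐ[k] K) (Aut (bcK K X))) (σ : K ≃ₐ[k] K) :
    (rhoTw a σ).hom ≫ pullback.snd X.hom (SGA7.pt (K := k) K).hom = pullback.snd X.hom (SGA7.pt (K := k) K).hom ≫ specMap K σ⁻¹ := by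
  rw [rhoTw_hom, Category.assoc]
  erw [Over.w (a σ).hom]
  exact galMap_snd K σ⁻¹ X

/-- sections of a base change over the preimage of an affine open -/
theorem exists_equiv {U : X.left.Opens} (hU : IsAffineOpen U) :
    ∃ (_ : Algebra k Γ(X.left, U))
      (e : K ⊗[k] Γ(X.left, U) ≃+* Γ((bcK K X).left, pullback.fst X.hom (SGA7.pt (K := k) K).hom ⁻¹ᵁ U)),
      (∀ r, e (1 ⊗ₜ r) = (pullback.fst X.hom (SGA7.pt (K := k) K).hom).app U r) ∧
      ∀ c, e (c ⊗ₜ 1) = (pullback.snd X.hom (SGA7.pt (K := k) K).hom).appLE ⊤ (pullback.fst X.hom (SGA7.pt (K := k) K).hom ⁻¹ᵁ U) (by simp)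
        ((Scheme.ΓSpecIso (CommRingCat.of K)).inv c) := by
  letI alg : Algebra k Γ(X.left, U) :=
    ((X.hom.appLE ⊤ U le_top).hom.comp (Scheme.ΓSpecIso (CommRingCat.of k)).inv.hom).toAlgebra
  have H := IsPullback.of_hasPullback X.hom (SGA7.pt (K := k) K).hom
  have := (isIso_pushoutSection_iff H (US := ⊤) (UT := ⊤) (UX := U) (by simp) le_top
    (UY := pullback.fst X.hom (SGA7.pt (K := k) K).hom ⁻¹ᵁ U) (by simp)).1
    (isIso_pushoutSection_of_isAffineOpen H (by simp) le_top (by simp) (isAffineOpen_top _) (isAffineOpen_top (Spec (CommRingCat.of K))) hU)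
  have h2 : IsPushout (CommRingCat.ofHom (algebraMap k Γ(X.left, U))) (CommRingCat.ofHom (algebraMap k K))
      ((pullback.fst X.hom (SGA7.pt (K := k) K).hom).app U)
      ((Scheme.ΓSpecIso (CommRingCat.of K)).inv ≫
        (pullback.snd X.hom (SGA7.pt (K := k) K).hom).appLE ⊤ (pullback.fst X.hom (SGA7.pt (K := k) K).hom ⁻¹ᵁ U) (by simp)) := by
    refine this.of_iso (Scheme.ΓSpecIso (CommRingCat.of k)) (Iso.refl _) (Scheme.ΓSpecIso (CommRingCat.of K))
      (Iso.refl _) ?_ ?_ ?_ ?_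
    · ext r
      simp [RingHom.algebraMap_toAlgebra]
    · simp [Scheme.Hom.appLE, Scheme.ΓSpecIso_naturality]
    · simp [Scheme.Hom.app_eq_appLE]
    · simp
  refine ⟨alg, ((CommRingCat.isPushout_tensorProduct k K Γ(X.left, U)).flip.isoIsPushout _ _ h2).commRingCatIsoToRingEquiv,
    fun r => ?_, fun c => ?_⟩
  · exact ConcreteCategory.congr_hom ((CommRingCat.isPushout_tensorProduct k K Γ(X.left, U)).flip.inl_isoIsPushout_hom _ _ h2) r
  · exact ConcreteCategory.congr_hom ((CommRingCat.isPushout_tensorProduct k K Γ(X.left, U)).flip.inr_isoIsPushout_hom _ _ h2) c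

/-- a quotient of `X_K` by a twisted action is a form -/
theorem isTwist_of_isQuot (a : GpH1.OneCocycle (K ≃ₐ[k] K) (Aut (bcK K X))) {Q : Scheme.{u}}
    (p : (bcK K X).left ⟶ Q) (hp : SGA1.IsQuot (rhoTw a) p) (q : Q ⟶ Spec (CommRingCat.of k))
    (hq : p ≫ q = pullback.snd X.hom (SGA7.pt (K := k) K).hom ≫ (SGA7.pt (K := k) K).hom) : IsTwist K X a (Over.mk q) := by
  have := hp.affine
  let ψl : (bcK K X).left ⟶ pullback (Over.mk q).hom (SGA7.pt (K := k) K).hom := pullback.lift p (pullback.snd X.hom (SGA7.pt (K := k) K).hom) hq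
  have hψf : ψl ≫ pullback.fst (Over.mk q).hom (SGA7.pt (K := k) K).hom = p := pullback.lift_fst _ _ _
  have hψs : ψl ≫ pullback.snd (Over.mk q).hom (SGA7.pt (K := k) K).hom = pullback.snd X.hom (SGA7.pt (K := k) K).hom := pullback.lift_snd _ _ _
  have : IsAffineHom (SGA7.pt (K := k) K).hom := inferInstanceAs (IsAffineHom (Spec.map _))
  have : IsAffineHom (pullback.fst (Over.mk q).hom (SGA7.pt (K := k) K).hom) := MorphismProperty.pullback_fst _ _ inferInstance
  have : IsAffineHom ψl := by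
    have h : IsAffineHom (ψl ≫ pullback.fst (Over.mk q).hom (SGA7.pt (K := k) K).hom) := by rw [hψf]; exact hp.affine
    exact MorphismProperty.of_postcomp (W := @IsAffineHom) (W' := @IsSeparated) ψl _ inferInstance h
  -- the comparison is an isomorphism
  have hiso : IsIso ψl := by
    refine (IsZariskiLocalAtTarget.iff_of_iSup_eq_top (P := MorphismProperty.isomorphisms Scheme.{u})
      (fun V : Q.affineOpens => pullback.fst (Over.mk q).hom (SGA7.pt (K := k) K).hom ⁻¹ᵁ V.1) ?_).2 fun V => ?_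
    · rw [← Scheme.Hom.preimage_iSup, iSup_affineOpens_eq_top, Scheme.Hom.preimage_top]
    show IsIso (ψl ∣_ _)
    refine (isIso_morphismRestrict_iff_isIso_app ψl (V.2.preimage _)).2 ?_
    obtain ⟨alg, e, he1, he2⟩ := exists_equiv (K := K) (X := Over.mk q) V.2
    letI : Algebra k Γ(Q, V.1) := alg
    let W := pullback.fst (Over.mk q).hom (SGA7.pt (K := k) K).hom ⁻¹ᵁ V.1
    have hW : p ⁻¹ᵁ V.1 = ψl ⁻¹ᵁ W := by rw [← Scheme.Hom.comp_preimage, hψf]
    let F : K ⊗[k] Γ(Q, V.1) →+* Γ((bcK K X).left, p ⁻¹ᵁ V.1) :=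
      ((ψl.appLE W (p ⁻¹ᵁ V.1) hW.le).hom.comp e.toRingHom)
    suffices hF : Function.Bijective F by
      have h1 : Function.Bijective (ψl.appLE W (p ⁻¹ᵁ V.1) hW.le) :=
        (Function.Bijective.of_comp_iff _ e.bijective).1 hF
      have h2 : IsIso (ψl.appLE W (p ⁻¹ᵁ V.1) hW.le) := (ConcreteCategory.isIso_iff_bijective _).2 h1
      rw [Scheme.Hom.app_eq_appLE]
      have key : ∀ (O : (bcK K X).left.Opens) (hO : O = p ⁻¹ᵁ V.1) (hle : O ≤ ψl ⁻¹ᵁ W), IsIso (ψl.appLE W O hle) := by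
        rintro O rfl hle; exact h2
      exact key _ hW.symm le_rfl
    let s : K →+* Γ((bcK K X).left, p ⁻¹ᵁ V.1) :=
      ((pullback.snd X.hom (SGA7.pt (K := k) K).hom).appLE ⊤ (p ⁻¹ᵁ V.1) (by simp)).hom.comp (Scheme.ΓSpecIso (CommRingCat.of K)).inv.hom
    have hF1 : ∀ r : Γ(Q, V.1), F (1 ⊗ₜ r) = p.app V.1 r := by
      intro r
      show ψl.appLE W (p ⁻¹ᵁ V.1) hW.le (e (1 ⊗ₜ r)) = _
      rw [he1, Scheme.Hom.app_eq_appLE, Scheme.Hom.app_eq_appLE, ← CommRingCat.comp_apply, Scheme.Hom.appLE_comp_appLE]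
      exact congrArg (fun φ : Γ(Q, V.1) ⟶ Γ((bcK K X).left, p ⁻¹ᵁ V.1) => φ r) (SGA1Quot.appLE_congr _ _ _ _ hψf)
    have hF2 : ∀ c : K, F (c ⊗ₜ 1) = s c := by
      intro c
      show ψl.appLE W (p ⁻¹ᵁ V.1) hW.le (e (c ⊗ₜ 1)) = _
      rw [he2, ← CommRingCat.comp_apply, Scheme.Hom.appLE_comp_appLE]
      exact congrArg (fun φ : Γ(Spec (CommRingCat.of K), ⊤) ⟶ Γ((bcK K X).left, p ⁻¹ᵁ V.1) =>
        φ ((Scheme.ΓSpecIso (CommRingCat.of K)).inv c)) (SGA1Quot.appLE_congr _ _ _ _ hψs)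
    letI : Algebra K Γ((bcK K X).left, p ⁻¹ᵁ V.1) := s.toAlgebra
    letI : Algebra k Γ((bcK K X).left, p ⁻¹ᵁ V.1) := (s.comp (algebraMap k K)).toAlgebra
    have : IsScalarTower k K Γ((bcK K X).left, p ⁻¹ᵁ V.1) := IsScalarTower.of_algebraMap_eq fun _ => rfl
    letI := SGA1Quot.action hp V.1
    have hsemi : ∀ (σ : K ≃ₐ[k] K) (c : K) (b : Γ((bcK K X).left, p ⁻¹ᵁ V.1)), σ • (c • b) = σ c • σ • b := by
      intro σ c b
      rw [Algebra.smul_def, Algebra.smul_def, smul_mul']
      congr 1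
      show FEtQuot.act p (rhoTw a) hp.inv σ V.1 (s c) = s (σ c)
      have e5 : (Scheme.ΓSpecIso (CommRingCat.of K)).inv (σ c) =
          (specMap K σ).appLE ⊤ ⊤ (by simp) ((Scheme.ΓSpecIso (CommRingCat.of K)).inv c) :=
        (spec_appLE_top (specMap K σ) (σ : K →+* K) rfl (by simp) c).symm
      show ((rhoTw a σ⁻¹).hom.appLE _ _ _) ((pullback.snd X.hom (SGA7.pt (K := k) K).hom).appLE ⊤ (p ⁻¹ᵁ V.1) _
          ((Scheme.ΓSpecIso (CommRingCat.of K)).inv c)) = (pullback.snd X.hom (SGA7.pt (K := k) K).hom).appLE ⊤ (p ⁻¹ᵁ V.1) _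
          ((Scheme.ΓSpecIso (CommRingCat.of K)).inv (σ c))
      rw [e5]
      refine (CommRingCat.comp_apply _ _ _).symm.trans (Eq.trans ?_ (CommRingCat.comp_apply _ _ _))
      rw [Scheme.Hom.appLE_comp_appLE, Scheme.Hom.appLE_comp_appLE]
      exact congrArg (fun φ : Γ(Spec (CommRingCat.of K), ⊤) ⟶ Γ((bcK K X).left, p ⁻¹ᵁ V.1) =>
        φ ((Scheme.ΓSpecIso (CommRingCat.of K)).inv c)) (SGA1Quot.appLE_congr _ _ _ _ (by rw [rhoTw_snd, inv_inv]))
    have hfix : ∀ r, (p.app V.1 r) ∈ MulAction.fixedPoints (K ≃ₐ[k] K) Γ((bcK K X).left, p ⁻¹ᵁ V.1) := fun r σ => by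
      show FEtQuot.act p (rhoTw a) hp.inv σ V.1 (p.app V.1 r) = p.app V.1 r
      exact ((hp.range_iff V.1 _).1 ⟨r, rfl⟩) σ⁻¹
    let FL : K ⊗[k] Γ(Q, V.1) →ₗ[K] Γ((bcK K X).left, p ⁻¹ᵁ V.1) :=
      { F.toAddMonoidHom with
        map_smul' := fun c z => by
          show F (c • z) = c • F z
          rw [Algebra.smul_def, map_mul, Algebra.TensorProduct.algebraMap_apply, Algebra.algebraMap_self_apply, hF2,
            Algebra.smul_def]
          rfl }
    constructor
    · let bA := Module.Free.chooseBasis k Γ(Q, V.1)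
      let B := Algebra.TensorProduct.basis K bA
      refine LinearMap.ker_eq_bot.1 ((LinearMap.ker_eq_bot_of_injective (f := FL) ?_))
      have hB : ∀ i, FL (B i) = p.app V.1 (bA i) := fun i => by
        show F (B i) = _
        rw [Algebra.TensorProduct.basis_apply, hF1]
      have hk : LinearIndependent k fun i => p.app V.1 (bA i) := by
        let pl : Γ(Q, V.1) →ₗ[k] Γ((bcK K X).left, p ⁻¹ᵁ V.1) :=
          { (p.app V.1).hom.toAddMonoidHom with
            map_smul' := fun r z => by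
              show p.app V.1 (r • z) = r • p.app V.1 z
              rw [Algebra.smul_def, map_mul, Algebra.smul_def]
              congr 1
              rw [← hF1]
              show F (1 ⊗ₜ algebraMap k Γ(Q, V.1) r) = s (algebraMap k K r)
              rw [← hF2, Algebra.algebraMap_eq_smul_one, Algebra.algebraMap_eq_smul_one, TensorProduct.smul_tmul] }
        exact bA.linearIndependent.map' pl (LinearMap.ker_eq_bot_of_injective (hp.injective V.1))
      have hli := CSA.linearIndependent_of_fixed hsemi _ (fun i => hfix (bA i)) hk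
      intro z z' hz
      apply B.repr.injective
      refine hli.finsuppLinearCombination_injective ?_
      have e6 : ∀ z, Finsupp.linearCombination K (fun i => p.app V.1 (bA i)) (B.repr z) = FL z := by
        intro z
        conv_rhs => rw [← B.linearCombination_repr z, Finsupp.apply_linearCombination]
        congr 2
        exact funext fun i => (hB i).symm
      rw [e6, e6, hz]
    · intro b
      have : b ∈ LinearMap.range FL := by
        have hsp : b ∈ Submodule.span K (MulAction.fixedPoints (K ≃ₐ[k] K) Γ((bcK K X).left, p ⁻¹ᵁ V.1)) := by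
          rw [CSA.span_fixed_eq_top hsemi]; trivial
        refine Submodule.span_le.2 ?_ hsp
        intro x hx
        obtain ⟨r, hr⟩ := (hp.range_iff V.1 x).2 fun g => by
          have := hx g⁻¹
          change FEtQuot.act p (rhoTw a) hp.inv g⁻¹ V.1 x = x at this
          simp only [FEtQuot.act, inv_inv] at this
          exact this
        exact ⟨1 ⊗ₜ r, (hF1 r).trans hr⟩
      obtain ⟨z, hz⟩ := this
      exact ⟨z, hz⟩
  -- the cocycle
  let ψ : bcK K X ≅ bcK K (Over.mk q) := Over.isoMk (asIso ψl) hψs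
  refine ⟨ψ.symm, fun σ => ?_⟩
  apply Iso.ext
  rw [cocycle_apply_hom]
  ext1
  show (galMap K σ X ≫ ψl ≫ galMap K σ⁻¹ (Over.mk q)) ≫ inv ψl = (a σ).hom.left
  rw [IsIso.comp_inv_eq]
  apply pullback.hom_ext
  · rw [Category.assoc, Category.assoc, galMap_fst, hψf, Category.assoc, hψf]
    have h := hp.inv σ
    rw [rhoTw_hom, Category.assoc] at h
    conv_lhs => rw [← h]
    simp [galMap_mul_assoc]
  · rw [Category.assoc, Category.assoc, galMap_snd, reassoc_of% hψs, galMap_snd_assoc, ← specMap_mul,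
      mul_inv_cancel, specMap_one, Category.comp_id, Category.assoc, hψs]
    exact (Over.w (a σ).hom).symm

end Groth.Agent.Misc15.GalDescent
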