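import Mathlib

/-! Generic points of irreducible components of schemes. -/

universe u

open AlgebraicGeometry CategoryTheory TopologicalSpace

namespace Groth.Agent.Misc15

variable {X : Scheme.{u}}

theorem closure_mem_components_iff (z : X) :
    closure ({z} : Set X) ∈ irreducibleComponents (X : Type u) ↔ ∀ w : X, w ⤳ z → w = z := by
  constructor
  · intro hz w hw
    have h1 : closure {z} ⊆ closure {w} := specializes_iff_closure_subset.1 hw
    have h2 := hz.2 ((isIrreducible_singleton (x := w)).closure) h1
    exact ((specializes_iff_closure_subset.2 h2).antisymm hw).eq.symm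
  · intro h
    have hC := isIrreducible_irreducibleComponent (x := z)
    have h1 := hC.isGenericPoint_genericPoint isClosed_irreducibleComponent
    have h2 : hC.genericPoint = z := h _ (h1.specializes mem_irreducibleComponent)
    rw [show closure ({z} : Set X) = irreducibleComponent z by rw [← h1.def, h2]]
    exact irreducibleComponent_mem_irreducibleComponents z

theorem exists_generic_specializes (z : X) :
    ∃ w : X, closure ({w} : Set X) ∈ irreducibleComponents (X : Type u) ∧ w ⤳ z := by
  have hC := isIrreducible_irreducibleComponent (x := z)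
  have h1 := hC.isGenericPoint_genericPoint isClosed_irreducibleComponent
  refine ⟨hC.genericPoint, ?_, h1.specializes mem_irreducibleComponent⟩
  rw [h1.def]
  exact irreducibleComponent_mem_irreducibleComponents z

theorem finite_generic_points (hX : (irreducibleComponents (X : Type u)).Finite) :
    {z : X | closure ({z} : Set X) ∈ irreducibleComponents (X : Type u)}.Finite :=
  Set.Finite.of_finite_image (f := fun z : X => closure ({z} : Set X))
    (hX.subset (by rintro _ ⟨z, hz, rfl⟩; exact hz))
    (fun a _ b _ h => ((specializes_iff_closure_subset.2 h.ge).antisymm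
      (specializes_iff_closure_subset.2 h.le)).eq)

/-- Pairwise disjoint neighbourhoods of the generic points. -/
theorem exists_disjoint_nhds (hX : (irreducibleComponents (X : Type u)).Finite) :
    ∃ W : X → X.Opens, (∀ z, closure ({z} : Set X) ∈ irreducibleComponents (X : Type u) → z ∈ W z) ∧
      ∀ z z', closure ({z} : Set X) ∈ irreducibleComponents (X : Type u) →
        closure ({z'} : Set X) ∈ irreducibleComponents (X : Type u) → z ≠ z' →
        Disjoint (W z) (W z') := by
  classical
  let G := {z : X | closure ({z} : Set X) ∈ irreducibleComponents (X : Type u)}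
  have hG : G.Finite := finite_generic_points hX
  refine ⟨fun z => ⟨(⋃ w ∈ G \ {z}, closure ({w} : Set X))ᶜ,
    ((hG.subset Set.diff_subset).isClosed_biUnion fun _ _ => isClosed_closure).isOpen_compl⟩,
    fun z hz => ?_, fun z z' hz hz' hne => ?_⟩
  · show z ∈ (⋃ w ∈ G \ {z}, closure ({w} : Set X))ᶜ
    simp only [Set.mem_compl_iff, Set.mem_iUnion, not_exists]
    intro w hw hmem
    exact hw.2 ((closure_mem_components_iff z).1 hz w (specializes_iff_mem_closure.2 hmem))
  · refine disjoint_iff_inf_le.2 fun u hu => ?_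
    obtain ⟨w, hw, hwu⟩ := exists_generic_specializes u
    have h1 : ∀ a, u ∈ (⋃ v ∈ G \ {a}, closure ({v} : Set X))ᶜ → w = a := by
      intro a ha
      by_contra hne'
      exact ha (Set.mem_iUnion₂.2 ⟨w, ⟨hw, hne'⟩, specializes_iff_mem_closure.1 hwu⟩)
    exact absurd ((h1 z hu.1).symm.trans (h1 z' hu.2)) hne

theorem dense_of_generic_mem (hX : (irreducibleComponents (X : Type u)).Finite) {U : Set X}
    (h : ∀ z : X, closure ({z} : Set X) ∈ irreducibleComponents (X : Type u) → z ∈ U) : Dense U := by
  intro u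
  obtain ⟨w, hw, hwu⟩ := exists_generic_specializes u
  exact closure_mono (Set.singleton_subset_iff.2 (h w hw)) (specializes_iff_mem_closure.1 hwu)

/-- A reduced scheme with finitely many components is germ-injective everywhere. -/
theorem isGermInjectiveAt_of_finite [AlgebraicGeometry.IsReduced X]
    (hX : (irreducibleComponents (X : Type u)).Finite) (x : X) : X.IsGermInjectiveAt x := by
  classical
  obtain ⟨U, hU, hxU, -⟩ := exists_isAffineOpen_mem_and_subset (x := x) (U := ⊤) trivial
  have hfin : (minimalPrimes Γ(X, U)).Finite := by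
    let g : Ideal Γ(X, U) → X := fun q => if hq : q.IsPrime then hU.fromSpec ⟨q, hq⟩ else x
    refine Set.Finite.of_finite_image (f := g) ((finite_generic_points hX).subset ?_) ?_
    · rintro _ ⟨q, hq, rfl⟩
      have hqp : q.IsPrime := hq.1.1
      simp only [g, dif_pos hqp]
      rw [Set.mem_setOf_eq, closure_mem_components_iff]
      intro w hw
      have hwU : w ∈ U := hw.mem_open U.isOpen (by
        have : hU.fromSpec ⟨q, hqp⟩ ∈ Set.range hU.fromSpec := Set.mem_range_self _
        rwa [hU.range_fromSpec] at this)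
      obtain ⟨w', rfl⟩ : w ∈ Set.range hU.fromSpec := by rwa [hU.range_fromSpec]
      have h1 : (show PrimeSpectrum Γ(X, U) from w').asIdeal ≤ q :=
        (PrimeSpectrum.le_iff_specializes (show PrimeSpectrum Γ(X, U) from w') ⟨q, hqp⟩).2 (hU.fromSpec.isOpenEmbedding.isInducing.specializes_iff.1 hw)
      congr 1
      exact PrimeSpectrum.ext (le_antisymm h1 (hq.2 ⟨w'.2, bot_le⟩ h1))
    · intro q hq q' hq' h
      have hqp : q.IsPrime := hq.1.1
      have hqp' : q'.IsPrime := hq'.1.1
      simp only [g, dif_pos hqp, dif_pos hqp'] at h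
      exact congrArg PrimeSpectrum.asIdeal (hU.fromSpec.isOpenEmbedding.injective h)
  set p := (hU.primeIdealOf ⟨x, hxU⟩).asIdeal
  let T := hfin.toFinset.filter (fun q => ¬ q ≤ p)
  have hT : ∀ q ∈ T, ∃ a ∈ q, a ∉ p := fun q hq => Set.not_subset.1 (Finset.mem_filter.1 hq).2
  choose! a ha hap using hT
  set s := ∏ q ∈ T, a q
  have hsp : s ∉ p := fun h => by
    obtain ⟨q, hq, hq'⟩ := (Ideal.IsPrime.prod_mem_iff (hp := inferInstance)).1 h
    exact hap q hq hq'
  have hpx : x ∈ X.basicOpen s := by
    have h : hU.primeIdealOf ⟨x, hxU⟩ ∈ hU.fromSpec ⁻¹ᵁ X.basicOpen s := by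
      rw [hU.fromSpec_preimage_basicOpen]; exact hsp
    have h2 : hU.fromSpec (hU.primeIdealOf ⟨x, hxU⟩) ∈ X.basicOpen s := h
    rwa [hU.fromSpec_primeIdealOf] at h2
  refine ⟨⟨X.basicOpen s, hpx, hU.basicOpen s, ?_⟩⟩
  rw [RingHom.injective_iff_ker_eq_bot, RingHom.ker_eq_bot_iff_eq_zero]
  intro t ht
  have := hU.isLocalization_basicOpen s
  obtain ⟨b, m, rfl⟩ := IsLocalization.exists_mk'_eq (.powers s) t
  have h2 : X.presheaf.germ U x hxU b = 0 := by
    have h3 := congrArg (X.presheaf.germ (X.basicOpen s) x hpx) (IsLocalization.mk'_spec Γ(X, X.basicOpen s) b m)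
    rw [map_mul, ht, zero_mul, RingHom.algebraMap_toAlgebra, TopCat.Presheaf.germ_res_apply] at h3
    exact h3.symm
  letI := X.presheaf.algebra_section_stalk (⟨x, hxU⟩ : U)
  haveI : IsLocalization.AtPrime (X.presheaf.stalk x) p := hU.isLocalization_stalk ⟨x, hxU⟩
  obtain ⟨⟨c, hc⟩, hcb⟩ := (IsLocalization.map_eq_zero_iff p.primeCompl (X.presheaf.stalk x) b).1 h2
  have hsb : s * b = 0 := by
    have : s * b ∈ nilradical Γ(X, U) := by
      rw [nilradical, ← Ideal.sInf_minimalPrimes, Submodule.mem_sInf]
      intro q hq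
      by_cases hqp : q ≤ p
      · exact Ideal.mul_mem_left q _ ((hq.1.1.mem_or_mem (hcb ▸ q.zero_mem : c * b ∈ q)).resolve_left fun h => hc (hqp h))
      · have hqT : q ∈ T := Finset.mem_filter.2 ⟨hfin.mem_toFinset.2 hq, hqp⟩
        exact Ideal.mul_mem_right _ q (Ideal.mem_of_dvd q (Finset.dvd_prod_of_mem a hqT) (ha q hqT))
    rwa [nilradical_eq_zero, Ideal.zero_eq_bot, Ideal.mem_bot] at this
  rw [IsLocalization.mk'_eq_zero_iff]
  exact ⟨⟨s, Submonoid.mem_powers s⟩, hsb⟩

end Groth.Agent.Misc15
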