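import Groth.Agent.H8Lim.SpreadOut
import Mathlib

/-! Spreading out isomorphisms of local rings, finite type version (germ-injective points). -/

universe u

open AlgebraicGeometry CategoryTheory Groth.Agent.H8Lim

namespace Groth.Agent.Misc15

variable {X Y S : Scheme.{u}}

set_option backward.isDefEq.respectTransparency.types false in
/-- An isomorphism of local rings whose two directions spread out is a local isomorphism. -/
theorem spread_out_isIso_of_exists (sX : X ⟶ S) (sY : Y ⟶ S) [LocallyOfFiniteType sX]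
    [LocallyOfFiniteType sY] {x : X} {y : Y} 
    (e : sX x = sY y)
    (φ : Y.presheaf.stalk y ⟶ X.presheaf.stalk x) [IsIso φ]
    (h1 : ∃ (U : X.Opens) (hxU : x ∈ U) (f : U.toScheme ⟶ Y),
      Spec.map φ ≫ Y.fromSpecStalk y = U.fromSpecStalkOfMem x hxU ≫ f ∧ f ≫ sY = U.ι ≫ sX)
    (h2 : ∃ (V : Y.Opens) (hyV : y ∈ V) (g : V.toScheme ⟶ X),
      Spec.map (inv φ) ≫ X.fromSpecStalk x = V.fromSpecStalkOfMem y hyV ≫ g ∧ g ≫ sX = V.ι ≫ sY) :
    ∃ (U : X.Opens) (hxU : x ∈ U) (V : Y.Opens) (f : U.toScheme ⟶ V.toScheme), IsIso f ∧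
      Spec.map φ ≫ Y.fromSpecStalk y = U.fromSpecStalkOfMem x hxU ≫ f ≫ V.ι ∧
        f ≫ V.ι ≫ sY = U.ι ≫ sX := by
  obtain ⟨U, hxU, f, hf1, hf2⟩ := h1
  obtain ⟨V, hyV, g, hg1, hg2⟩ := h2
  have hfx : f ⟨x, hxU⟩ = y := by
    have hh := congr($hf1 (IsLocalRing.closedPoint _))
    simp only [Scheme.Hom.comp_apply, Spec_closedPoint, Scheme.fromSpecStalk_closedPoint] at hh
    refine Eq.trans ?_ hh.symm
    congr 1
    refine Subtype.ext (Eq.symm ?_)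
    exact (congr($(U.fromSpecStalkOfMem_ι x hxU) (IsLocalRing.closedPoint _))).trans
      Scheme.fromSpecStalk_closedPoint
  have hgy : g ⟨y, hyV⟩ = x := by
    have hh := congr($hg1 (IsLocalRing.closedPoint _))
    simp only [Scheme.Hom.comp_apply, Spec_closedPoint, Scheme.fromSpecStalk_closedPoint] at hh
    refine Eq.trans ?_ hh.symm
    congr 1
    refine Subtype.ext (Eq.symm ?_)
    exact (congr($(V.fromSpecStalkOfMem_ι y hyV) (IsLocalRing.closedPoint _))).trans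
      Scheme.fromSpecStalk_closedPoint
  -- `g ∘ f = id` near `x`
  let U₂ : X.Opens := U.ι ''ᵁ (f ⁻¹ᵁ V)
  have hxU₂ : x ∈ U₂ := ⟨⟨x, hxU⟩, show f ⟨x, hxU⟩ ∈ V from hfx ▸ hyV, rfl⟩
  let f' : U₂.toScheme ⟶ V.toScheme := IsOpenImmersion.lift V.ι
    (X.homOfLE (U.ι_image_le _) ≫ f) (range_homOfLE_comp_subset f _ le_rfl)
  have hf' : f' ≫ V.ι = X.homOfLE (U.ι_image_le _) ≫ f := IsOpenImmersion.lift_fac _ _ _
  obtain ⟨W₁, hW₁, hxW₁, hgf⟩ := exists_le_of_fromSpecStalkOfMem_eq sX hxU₂ (f' ≫ g) U₂.ι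
    (by rw [Category.assoc, hg2, reassoc_of% hf', hf2, Scheme.homOfLE_ι_assoc])
    (by
      have : U₂.fromSpecStalkOfMem x hxU₂ ≫ f' = Spec.map φ ≫ V.fromSpecStalkOfMem y hyV := by
        rw [← cancel_mono V.ι, Category.assoc, hf', ← Category.assoc, fromSpecStalkOfMem_homOfLE,
          ← hf1, Category.assoc, Scheme.Opens.fromSpecStalkOfMem_ι]
      rw [reassoc_of% this, ← hg1, ← Spec.map_comp_assoc, IsIso.inv_hom_id, Spec.map_id,
        Category.id_comp, Scheme.Opens.fromSpecStalkOfMem_ι])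
  -- `f ∘ g = id` near `y`
  let V₂ : Y.Opens := V.ι ''ᵁ (g ⁻¹ᵁ U)
  have hyV₂ : y ∈ V₂ := ⟨⟨y, hyV⟩, show g ⟨y, hyV⟩ ∈ U from hgy ▸ hxU, rfl⟩
  let g' : V₂.toScheme ⟶ U.toScheme := IsOpenImmersion.lift U.ι
    (Y.homOfLE (V.ι_image_le _) ≫ g) (range_homOfLE_comp_subset g _ le_rfl)
  have hg' : g' ≫ U.ι = Y.homOfLE (V.ι_image_le _) ≫ g := IsOpenImmersion.lift_fac _ _ _
  obtain ⟨W₂, hW₂, hyW₂, hfg⟩ := exists_le_of_fromSpecStalkOfMem_eq sY hyV₂ (g' ≫ f) V₂.ι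
    (by rw [Category.assoc, hf2, reassoc_of% hg', hg2, Scheme.homOfLE_ι_assoc])
    (by
      have : V₂.fromSpecStalkOfMem y hyV₂ ≫ g' = Spec.map (inv φ) ≫ U.fromSpecStalkOfMem x hxU := by
        rw [← cancel_mono U.ι, Category.assoc, hg', ← Category.assoc, fromSpecStalkOfMem_homOfLE,
          ← hg1, Category.assoc, Scheme.Opens.fromSpecStalkOfMem_ι]
      rw [reassoc_of% this, ← hf1, ← Spec.map_comp_assoc, IsIso.hom_inv_id, Spec.map_id,
        Category.id_comp, Scheme.Opens.fromSpecStalkOfMem_ι])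
  -- the two neighbourhoods
  have hWU : W₁ ≤ U := hW₁.trans (U.ι_image_le _)
  let U₁ : X.Opens := W₁.ι ''ᵁ ((X.homOfLE hWU ≫ f) ⁻¹ᵁ W₂)
  have hxU₁ : x ∈ U₁ := by
    refine ⟨⟨x, hxW₁⟩, ?_, rfl⟩
    change f (X.homOfLE hWU ⟨x, hxW₁⟩) ∈ W₂
    rw [show X.homOfLE hWU ⟨x, hxW₁⟩ = (⟨x, hxU⟩ : U.toScheme) from
      Subtype.ext (X.homOfLE_apply _ _), hfx]
    exact hyW₂
  have hWV : W₂ ≤ V := hW₂.trans (V.ι_image_le _)
  let V₁ : Y.Opens := W₂.ι ''ᵁ ((Y.homOfLE hWV ≫ g) ⁻¹ᵁ U₁)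
  have hU₁W : U₁ ≤ W₁ := W₁.ι_image_le _
  have hV₁W : V₁ ≤ W₂ := W₂.ι_image_le _
  have hF : Set.range (X.homOfLE (hU₁W.trans hWU) ≫ f) ⊆ Set.range V₁.ι := by
    rintro _ ⟨⟨z, hz⟩, rfl⟩
    rw [Scheme.Opens.range_ι]
    refine exists_image_eq hWU hWV hU₁W f g (X.homOfLE hW₁ ≫ f') ?_ ?_ ⟨z, hz⟩ ?_
    · rw [Category.assoc, hf', Scheme.homOfLE_homOfLE_assoc]
    · rw [Category.assoc, hgf, Scheme.homOfLE_ι]
    · obtain ⟨w, hw, hwz⟩ := exists_homOfLE_eq_of_mem_image hWU _ (hU₁W.trans hWU) ⟨z, hz⟩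
      rw [hwz]
      exact hw
  have hG : Set.range (Y.homOfLE (hV₁W.trans hWV) ≫ g) ⊆ Set.range U₁.ι := by
    rintro _ ⟨b, rfl⟩
    rw [Scheme.Opens.range_ι]
    obtain ⟨w, hw, hwz⟩ := exists_homOfLE_eq_of_mem_image hWV _ (hV₁W.trans hWV) b
    rw [Scheme.Hom.comp_apply, hwz]
    exact hw
  let F := IsOpenImmersion.lift V₁.ι _ hF
  let G := IsOpenImmersion.lift U₁.ι _ hG
  have hFι : F ≫ V₁.ι = X.homOfLE (hU₁W.trans hWU) ≫ f := IsOpenImmersion.lift_fac _ _ _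
  have hGι : G ≫ U₁.ι = Y.homOfLE (hV₁W.trans hWV) ≫ g := IsOpenImmersion.lift_fac _ _ _
  have hFG : F ≫ G = 𝟙 _ := by
    have h1 : F ≫ Y.homOfLE (hV₁W.trans hWV) = X.homOfLE (hU₁W.trans hW₁) ≫ f' := by
      rw [← cancel_mono V.ι, Category.assoc, Category.assoc, Scheme.homOfLE_ι, hFι, hf',
        Scheme.homOfLE_homOfLE_assoc]
    rw [← cancel_mono U₁.ι, Category.assoc, hGι, reassoc_of% h1, Category.id_comp,
      ← X.homOfLE_homOfLE hU₁W hW₁, Category.assoc, hgf, Scheme.homOfLE_ι, Scheme.homOfLE_ι]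
  have hGF : G ≫ F = 𝟙 _ := by
    have h1 : G ≫ X.homOfLE (hU₁W.trans hWU) = Y.homOfLE (hV₁W.trans hW₂) ≫ g' := by
      rw [← cancel_mono U.ι, Category.assoc, Category.assoc, Scheme.homOfLE_ι, hGι, hg',
        Scheme.homOfLE_homOfLE_assoc]
    rw [← cancel_mono V₁.ι, Category.assoc, hFι, reassoc_of% h1, Category.id_comp,
      ← Y.homOfLE_homOfLE hV₁W hW₂, Category.assoc, hfg, Scheme.homOfLE_ι, Scheme.homOfLE_ι]
  refine ⟨U₁, hxU₁, V₁, F, ⟨G, hFG, hGF⟩, ?_, ?_⟩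
  · rw [hFι, ← Category.assoc, fromSpecStalkOfMem_homOfLE, hf1]
  · rw [reassoc_of% hFι, hf2, Scheme.homOfLE_ι_assoc]

/-- An isomorphism of local rings spreads out to an isomorphism of neighbourhoods. -/
theorem spread_out_isIso_of_lft (sX : X ⟶ S) (sY : Y ⟶ S) [LocallyOfFiniteType sX]
    [LocallyOfFiniteType sY] {x : X} {y : Y} [X.IsGermInjectiveAt x] [Y.IsGermInjectiveAt y]
    (e : sX x = sY y) (φ : Y.presheaf.stalk y ⟶ X.presheaf.stalk x) [IsIso φ]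
    (h : sY.stalkMap y ≫ φ =
      S.presheaf.stalkSpecializes (Inseparable.of_eq e).specializes ≫ sX.stalkMap x) :
    ∃ (U : X.Opens) (hxU : x ∈ U) (V : Y.Opens) (f : U.toScheme ⟶ V.toScheme), IsIso f ∧
      Spec.map φ ≫ Y.fromSpecStalk y = U.fromSpecStalkOfMem x hxU ≫ f ≫ V.ι ∧
        f ≫ V.ι ≫ sY = U.ι ≫ sX := by
  refine spread_out_isIso_of_exists sX sY e φ (spread_out_of_isGermInjective sX sY e φ h)
    (spread_out_of_isGermInjective sY sX e.symm (inv φ) ?_)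
  rw [IsIso.comp_inv_eq, Category.assoc, h, TopCat.Presheaf.stalkSpecializes_comp_assoc]
  simp

end Groth.Agent.Misc15
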