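import Groth.Prelude.Def_ega3
import Mathlib

/-! Element-level API for the iterated-cone Koszul complex. -/

set_option autoImplicit false
set_option backward.isDefEq.respectTransparency false
set_option backward.isDefEq.respectTransparency.types false
universe u

open CategoryTheory CategoryTheory.Limits CochainComplex

namespace Groth.Agent.Misc15.Koszul

variable {A : Type u} [CommRing A]

section Cone

variable {K L K' L' : CochainComplex (ModuleCat.{u} A) ℤ} (φ : K ⟶ L)

/-- first component of an element of a cone -/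
noncomputable def cfst {i : ℤ} (j : ℤ) (hij : i + 1 = j) (x : (mappingCone φ).X i) : K.X j :=
  ((mappingCone.fst φ).1.v i j hij).hom x

/-- second component of an element of a cone -/
noncomputable def csnd {i : ℤ} (x : (mappingCone φ).X i) : L.X i :=
  ((mappingCone.snd φ).v i i (add_zero i)).hom x

/-- element of a cone from components -/
noncomputable def cmk {i : ℤ} (j : ℤ) (hij : i + 1 = j) (a : K.X j) (b : L.X i) : (mappingCone φ).X i :=
  ((mappingCone.inl φ).v j i (by omega)).hom a + ((mappingCone.inr φ).f i).hom b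

theorem cfst_cmk {i : ℤ} (j : ℤ) (hij : i + 1 = j) (a : K.X j) (b : L.X i) :
    cfst φ j hij (cmk φ j hij a b) = a := by
  have h1 := congrArg (fun g => g.hom a) (mappingCone.inl_v_fst_v φ j i hij)
  have h2 := congrArg (fun g => g.hom b) (mappingCone.inr_f_fst_v φ i j hij)
  simp only [ModuleCat.hom_comp, LinearMap.comp_apply, ModuleCat.hom_id, LinearMap.id_apply, ModuleCat.hom_zero,
    LinearMap.zero_apply] at h1 h2
  simp only [cfst, cmk, map_add, h1, h2, add_zero]

theorem csnd_cmk {i : ℤ} (j : ℤ) (hij : i + 1 = j) (a : K.X j) (b : L.X i) :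
    csnd φ (cmk φ j hij a b) = b := by
  have h1 := congrArg (fun g => g.hom a) (mappingCone.inl_v_snd_v φ j i (by omega))
  have h2 := congrArg (fun g => g.hom b) (mappingCone.inr_f_snd_v φ i)
  simp only [ModuleCat.hom_comp, LinearMap.comp_apply, ModuleCat.hom_id, LinearMap.id_apply, ModuleCat.hom_zero,
    LinearMap.zero_apply] at h1 h2
  simp only [csnd, cmk, map_add, h1, h2, zero_add]

theorem cone_ext {i : ℤ} (j : ℤ) (hij : i + 1 = j) {x y : (mappingCone φ).X i}
    (h1 : cfst φ j hij x = cfst φ j hij y) (h2 : csnd φ x = csnd φ y) : x = y := by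
  have key : ∀ z, z = cmk φ j hij (cfst φ j hij z) (csnd φ z) := fun z => by
    have := congrArg (fun g => g.hom z) (mappingCone.id_X φ i j hij)
    simp only [ModuleCat.hom_comp, ModuleCat.hom_add, LinearMap.add_apply, LinearMap.comp_apply,
      ModuleCat.hom_id, LinearMap.id_apply] at this
    exact this.symm
  rw [key x, key y, h1, h2]

theorem cfst_d {i : ℤ} (j k : ℤ) (hij : i + 1 = j) (hjk : j + 1 = k) (x : (mappingCone φ).X i) :
    cfst φ k hjk (((mappingCone φ).d i j).hom x) = - (K.d j k).hom (cfst φ j hij x) := by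
  have := congrArg (fun g => g.hom x) (mappingCone.d_fst_v φ i j k hij hjk)
  simpa [cfst] using this

theorem csnd_d {i : ℤ} (j : ℤ) (hij : i + 1 = j) (x : (mappingCone φ).X i) :
    csnd φ (((mappingCone φ).d i j).hom x) = (φ.f j).hom (cfst φ j hij x) + (L.d i j).hom (csnd φ x) := by
  have := congrArg (fun g => g.hom x) (mappingCone.d_snd_v φ i j hij)
  simpa [cfst, csnd] using this

variable (φ' : K' ⟶ L') (a : K ⟶ K') (b : L ⟶ L') (comm : φ ≫ b = a ≫ φ')

theorem map_f_cmk {i : ℤ} (j : ℤ) (hij : i + 1 = j) (p : K.X j) (q : L.X i) :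
    ((mappingCone.map φ φ' a b comm).f i).hom (cmk φ j hij p q) =
      cmk φ' j hij ((a.f j).hom p) ((b.f i).hom q) := by
  have h1 : (mappingCone.inl φ).v j i (by omega) ≫ (mappingCone.map φ φ' a b comm).f i =
      a.f j ≫ (mappingCone.inl φ').v j i (by omega) := by
    simp [mappingCone.map]
  have h2 : (mappingCone.inr φ).f i ≫ (mappingCone.map φ φ' a b comm).f i = b.f i ≫ (mappingCone.inr φ').f i := by
    simp [mappingCone.map]
  have h1' := congrArg (fun g => g.hom p) h1
  have h2' := congrArg (fun g => g.hom q) h2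
  simp only [ModuleCat.hom_comp, LinearMap.comp_apply] at h1' h2'
  simp only [cmk, map_add, h1', h2']

theorem cfst_map {i : ℤ} (j : ℤ) (hij : i + 1 = j) (x : (mappingCone φ).X i) :
    cfst φ' j hij (((mappingCone.map φ φ' a b comm).f i).hom x) = (a.f j).hom (cfst φ j hij x) := by
  conv_lhs => rw [show x = cmk φ j hij (cfst φ j hij x) (csnd φ x) from
    cone_ext φ j hij (cfst_cmk ..).symm (csnd_cmk ..).symm, map_f_cmk, cfst_cmk]

theorem csnd_map {i : ℤ} (x : (mappingCone φ).X i) :
    csnd φ' (((mappingCone.map φ φ' a b comm).f i).hom x) = (b.f i).hom (csnd φ x) := by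
  conv_lhs => rw [show x = cmk φ (i + 1) rfl (cfst φ _ rfl x) (csnd φ x) from
    cone_ext φ _ rfl (cfst_cmk ..).symm (csnd_cmk ..).symm, map_f_cmk, csnd_cmk]

theorem smul_id_f (f : A) (i : ℤ) (y : K.X i) : (((f • 𝟙 K : K ⟶ K)).f i).hom y = f • y := by
  simp

theorem cfst_zero {i : ℤ} (j : ℤ) (hij : i + 1 = j) : cfst φ j hij (0 : (mappingCone φ).X i) = 0 := map_zero _
theorem csnd_zero {i : ℤ} : csnd φ (0 : (mappingCone φ).X i) = 0 := map_zero _
theorem cfst_smul {i : ℤ} (j : ℤ) (hij : i + 1 = j) (r : A) (x : (mappingCone φ).X i) :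
    cfst φ j hij (r • x) = r • cfst φ j hij x := map_smul _ _ _
theorem csnd_smul {i : ℤ} (r : A) (x : (mappingCone φ).X i) : csnd φ (r • x) = r • csnd φ x := map_smul _ _ _
theorem csnd_add {i : ℤ} (x y : (mappingCone φ).X i) : csnd φ (x + y) = csnd φ x + csnd φ y := map_add _ _ _
theorem cfst_add {i : ℤ} (j : ℤ) (hij : i + 1 = j) (x y : (mappingCone φ).X i) :
    cfst φ j hij (x + y) = cfst φ j hij x + cfst φ j hij y := map_add _ _ _

end Cone

open CohIII (koszulCx koszulTrans)

variable (M N P : ModuleCat.{u} A)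

/-- functoriality of the Koszul complex in the module -/
noncomputable def kMap {M N : ModuleCat.{u} A} (g : M ⟶ N) : ∀ fs : List A, koszulCx M fs ⟶ koszulCx N fs
  | [] => (HomologicalComplex.single (ModuleCat.{u} A) (ComplexShape.up ℤ) 0).map g
  | f :: fs => mappingCone.map (f • 𝟙 (koszulCx M fs)) (f • 𝟙 (koszulCx N fs)) (kMap g fs) (kMap g fs)
      (by simp [Linear.smul_comp, Linear.comp_smul])

variable {M N P}

/-- the Koszul complex lives in degrees `[-r, 0]` -/
theorem subsingleton_X (M : ModuleCat.{u} A) : ∀ (fs : List A) (i : ℤ), i < -(fs.length : ℤ) ∨ 0 < i →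
    Subsingleton ((koszulCx M fs).X i)
  | [], i, h => ModuleCat.subsingleton_of_isZero (HomologicalComplex.isZero_single_obj_X _ _ _ _ (by
      simp at h; omega))
  | f :: fs, i, h => by
      simp only [List.length_cons, Nat.cast_add, Nat.cast_one] at h
      have h1 := subsingleton_X M fs (i + 1) (by omega)
      have h2 := subsingleton_X M fs i (by omega)
      exact ⟨fun x y => cone_ext _ (i + 1) rfl (Subsingleton.elim _ _) (Subsingleton.elim _ _)⟩

/-- the empty Koszul complex in degree zero -/
noncomputable def bot0 (M : ModuleCat.{u} A) : (koszulCx M []).X 0 ≃ₗ[A] M :=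
  (HomologicalComplex.singleObjXSelf (ComplexShape.up ℤ) 0 M).toLinearEquiv

theorem bot0_kMap {M N : ModuleCat.{u} A} (g : M ⟶ N) (x : (koszulCx M []).X 0) :
    bot0 N (((kMap g []).f 0).hom x) = g.hom (bot0 M x) := by
  have h : ((HomologicalComplex.single (ModuleCat.{u} A) (ComplexShape.up ℤ) 0).map g).f 0 ≫
      (HomologicalComplex.singleObjXSelf (ComplexShape.up ℤ) 0 N).hom =
        (HomologicalComplex.singleObjXSelf (ComplexShape.up ℤ) 0 M).hom ≫ g := by
    simp [HomologicalComplex.single_map_f_self]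
  exact LinearMap.congr_fun (congrArg ModuleCat.Hom.hom h) x

theorem kMap_exact {M N P : ModuleCat.{u} A} (g : M ⟶ N) (h : N ⟶ P) (hgh : Function.Exact g.hom h.hom) :
    ∀ (fs : List A) (i : ℤ), Function.Exact ((kMap g fs).f i).hom ((kMap h fs).f i).hom
  | [], i => by
      by_cases hi : i = 0
      · subst hi
        intro x
        rw [← (bot0 P).map_eq_zero_iff, bot0_kMap, hgh]
        constructor
        · rintro ⟨m, hm⟩; exact ⟨(bot0 M).symm m, (bot0 N).injective (by rw [bot0_kMap, LinearEquiv.apply_symm_apply, hm])⟩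
        · rintro ⟨m, rfl⟩; exact ⟨bot0 M m, (bot0_kMap g m).symm⟩
      · intro x
        have := subsingleton_X N [] i (by simp; omega)
        have := subsingleton_X P [] i (by simp; omega)
        exact iff_of_true (Subsingleton.elim _ _) ⟨0, Subsingleton.elim _ _⟩
  | f :: fs, i => by
      intro x
      constructor
      · intro hx
        have h1 : ((kMap h fs).f (i + 1)).hom (cfst _ (i + 1) rfl x) = 0 := by
          rw [← cfst_map _ (f • 𝟙 (koszulCx P fs)) _ (kMap h fs) (by simp [Linear.smul_comp, Linear.comp_smul])]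
          exact (congrArg _ hx).trans (cfst_zero _ _ _)
        have h2 : ((kMap h fs).f i).hom (csnd _ x) = 0 := by
          rw [← csnd_map _ (f • 𝟙 (koszulCx P fs)) (kMap h fs) _ (by simp [Linear.smul_comp, Linear.comp_smul])]
          exact (congrArg _ hx).trans (csnd_zero _)
        obtain ⟨p, hp⟩ := (kMap_exact g h hgh fs (i + 1) _).1 h1
        obtain ⟨q, hq⟩ := (kMap_exact g h hgh fs i _).1 h2
        refine ⟨cmk _ (i + 1) rfl p q, cone_ext _ (i + 1) rfl ?_ ?_⟩
        · exact (cfst_map _ _ _ _ _ _ _ _).trans (by rw [cfst_cmk, hp])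
        · exact (csnd_map _ _ _ _ _ _).trans (by rw [csnd_cmk, hq])
      · rintro ⟨y, rfl⟩
        refine cone_ext _ (i + 1) rfl ?_ ?_
        · refine (cfst_map _ _ _ _ _ _ _ _).trans (Eq.trans ?_ (cfst_zero _ _ _).symm)
          erw [cfst_map]
          exact (kMap_exact g h hgh fs (i + 1)).apply_apply_eq_zero _
        · refine (csnd_map _ _ _ _ _ _).trans (Eq.trans ?_ (csnd_zero _).symm)
          erw [csnd_map]
          exact (kMap_exact g h hgh fs i).apply_apply_eq_zero _

theorem kMap_injective {M N : ModuleCat.{u} A} (g : M ⟶ N) (hg : Function.Injective g.hom) :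
    ∀ (fs : List A) (i : ℤ), Function.Injective ((kMap g fs).f i).hom
  | [], i => by
      by_cases hi : i = 0
      · subst hi
        intro x y hxy
        exact (bot0 M).injective (hg ((bot0_kMap g x).symm.trans ((congrArg (bot0 N) hxy).trans (bot0_kMap g y))))
      · have := subsingleton_X M [] i (by simp; omega)
        exact Function.injective_of_subsingleton _
  | f :: fs, i => fun x y hxy => cone_ext _ (i + 1) rfl
      (kMap_injective g hg fs (i + 1) (((cfst_map _ _ _ _ _ _ _ x).symm.trans (congrArg _ hxy)).trans (cfst_map _ _ _ _ _ _ _ y)))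
      (kMap_injective g hg fs i (((csnd_map _ _ _ _ _ x).symm.trans (congrArg _ hxy)).trans (csnd_map _ _ _ _ _ y)))

theorem kMap_surjective {M N : ModuleCat.{u} A} (g : M ⟶ N) (hg : Function.Surjective g.hom) :
    ∀ (fs : List A) (i : ℤ), Function.Surjective ((kMap g fs).f i).hom
  | [], i => by
      by_cases hi : i = 0
      · subst hi
        intro y
        obtain ⟨m, hm⟩ := hg (bot0 N y)
        exact ⟨(bot0 M).symm m, (bot0 N).injective (by rw [bot0_kMap, LinearEquiv.apply_symm_apply, hm])⟩
      · have := subsingleton_X N [] i (by simp; omega)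
        exact fun y => ⟨0, Subsingleton.elim _ _⟩
  | f :: fs, i => fun y => by
      obtain ⟨p, hp⟩ := kMap_surjective g hg fs (i + 1) (cfst _ (i + 1) rfl y)
      obtain ⟨q, hq⟩ := kMap_surjective g hg fs i (csnd _ y)
      refine ⟨cmk _ (i + 1) rfl p q, cone_ext _ (i + 1) rfl ?_ ?_⟩
      · exact (cfst_map _ _ _ _ _ _ _ _).trans (by rw [cfst_cmk, hp])
      · exact (csnd_map _ _ _ _ _ _).trans (by rw [csnd_cmk, hq])

/-- the transition maps are natural in the module -/
theorem trans_kMap {M N : ModuleCat.{u} A} (g : M ⟶ N) (n m : ℕ) (h : n ≤ m) : ∀ (fs : List A) (i : ℤ) (x),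
    ((koszulTrans N n m h fs).f i).hom (((kMap g (fs.map (· ^ n))).f i).hom x) =
      ((kMap g (fs.map (· ^ m))).f i).hom (((koszulTrans M n m h fs).f i).hom x)
  | [], i, x => rfl
  | f :: fs, i, x => by
      refine cone_ext _ (i + 1) rfl ?_ ?_
      · erw [cfst_map, cfst_map, cfst_map, cfst_map]
        exact trans_kMap g n m h fs (i + 1) _
      · erw [csnd_map, csnd_map, csnd_map, csnd_map]
        simp only [HomologicalComplex.smul_f_apply, ModuleCat.hom_smul, LinearMap.smul_apply, map_smul]
        exact congrArg (_ • ·) (trans_kMap g n m h fs i _)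

/-- the bottom term is the module -/
noncomputable def bot (M : ModuleCat.{u} A) : ∀ (fs : List A) (i : ℤ), i = -(fs.length : ℤ) →
    ((koszulCx M fs).X i ≃ₗ[A] M)
  | [], i, hi => by
      obtain rfl : i = 0 := by simpa using hi
      exact bot0 M
  | f :: fs, i, hi =>
      have hi' : i + 1 = -(fs.length : ℤ) := by simp only [List.length_cons] at hi; push_cast at hi; omega
      have hsub : Subsingleton ((koszulCx M fs).X i) := subsingleton_X M fs i (by omega)
      LinearEquiv.ofBijective
        ((bot M fs (i + 1) hi').toLinearMap.comp ((mappingCone.fst (f • 𝟙 (koszulCx M fs))).1.v i (i + 1) rfl).hom)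
        ⟨fun x y hxy => cone_ext _ (i + 1) rfl ((bot M fs (i + 1) hi').injective hxy) (Subsingleton.elim _ _),
          fun m => ⟨cmk _ (i + 1) rfl ((bot M fs (i + 1) hi').symm m) 0, by
            show bot M fs (i + 1) hi' (cfst _ (i + 1) rfl (cmk _ (i + 1) rfl _ _)) = m
            rw [cfst_cmk, LinearEquiv.apply_symm_apply]⟩⟩

theorem bot_cons (M : ModuleCat.{u} A) (f : A) (fs : List A) (i : ℤ) (hi : i = -((f :: fs).length : ℤ))
    (hi' : i + 1 = -(fs.length : ℤ)) (x : (koszulCx M (f :: fs)).X i) :
    bot M (f :: fs) i hi x = bot M fs (i + 1) hi' (cfst _ (i + 1) rfl x) := rfl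

theorem d_bot_eq_zero_iff (M : ModuleCat.{u} A) : ∀ (fs : List A) (i j : ℤ) (hi : i = -(fs.length : ℤ)) (_ : i + 1 = j)
    (x : (koszulCx M fs).X i), ((koszulCx M fs).d i j).hom x = 0 ↔ ∀ f ∈ fs, f • bot M fs i hi x = 0
  | [], i, j, hi, hj, x => by
      have := subsingleton_X M [] j (by simp at hi ⊢; omega)
      exact iff_of_true (Subsingleton.elim _ _) (fun g hg => absurd hg List.not_mem_nil)
  | f :: fs, i, j, hi, hj, x => by
      subst hj
      have hi' : i + 1 = -(fs.length : ℤ) := by simp only [List.length_cons] at hi; push_cast at hi; omega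
      have hsub : Subsingleton ((koszulCx M fs).X i) := subsingleton_X M fs i (by omega)
      rw [bot_cons M f fs i hi hi' x]
      have ih := d_bot_eq_zero_iff M fs (i + 1) (i + 1 + 1) hi' rfl (cfst _ (i + 1) rfl x)
      have hs : csnd _ (((koszulCx M (f :: fs)).d i (i + 1)).hom x) = f • cfst _ (i + 1) rfl x := by
        refine (csnd_d _ (i + 1) rfl x).trans ?_
        rw [smul_id_f, show csnd _ x = 0 from Subsingleton.elim _ _, map_zero, add_zero]
      constructor
      · intro hx g hg
        rcases List.mem_cons.1 hg with rfl | hg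
        · rw [← map_smul, ← hs, hx, csnd_zero, map_zero]
        · refine ih.1 (neg_eq_zero.1 ((cfst_d _ (i + 1) (i + 1 + 1) rfl rfl x).symm.trans ?_)) g hg
          erw [hx]; exact cfst_zero _ _ _
      · intro hx
        refine cone_ext _ (i + 1 + 1) rfl ?_ ?_
        · refine (cfst_d _ (i + 1) (i + 1 + 1) rfl rfl x).trans (Eq.trans ?_ (cfst_zero _ _ _).symm)
          rw [ih.2 fun g hg => hx g (List.mem_cons_of_mem _ hg), neg_zero]
        · refine hs.trans (Eq.trans ?_ (csnd_zero _).symm)
          apply (bot M fs (i + 1) hi').injective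
          rw [map_smul, map_zero]
          exact hx f List.mem_cons_self

theorem bot_kMap {M N : ModuleCat.{u} A} (g : M ⟶ N) : ∀ (fs : List A) (i : ℤ) (hi : i = -(fs.length : ℤ)) (x),
    bot N fs i hi (((kMap g fs).f i).hom x) = g.hom (bot M fs i hi x)
  | [], i, hi, x => by
      obtain rfl : i = 0 := by simpa using hi
      exact bot0_kMap g x
  | f :: fs, i, hi, x => by
      have hi' : i + 1 = -(fs.length : ℤ) := by simp only [List.length_cons] at hi; push_cast at hi; omega
      rw [bot_cons _ _ _ _ hi hi', bot_cons _ _ _ _ hi hi']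
      erw [cfst_map]
      exact bot_kMap g fs (i + 1) hi' _

theorem bot_trans (M : ModuleCat.{u} A) (n m : ℕ) (h : n ≤ m) : ∀ (fs : List A) (i : ℤ)
    (hi : i = -((fs.map (· ^ n)).length : ℤ)) (hi' : i = -((fs.map (· ^ m)).length : ℤ)) (x),
    bot M (fs.map (· ^ m)) i hi' (((koszulTrans M n m h fs).f i).hom x) = bot M (fs.map (· ^ n)) i hi x
  | [], i, hi, hi', x => by
      obtain rfl : i = 0 := by simpa using hi
      rfl
  | f :: fs, i, hi, hi', x => by
      have h1 : i + 1 = -((fs.map (· ^ n)).length : ℤ) := by simp at hi ⊢; omega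
      have h2 : i + 1 = -((fs.map (· ^ m)).length : ℤ) := by simp at hi ⊢; omega
      show bot M (f ^ m :: fs.map (· ^ m)) i hi' _ = bot M (f ^ n :: fs.map (· ^ n)) i hi x
      rw [bot_cons _ _ _ _ hi' h2, bot_cons _ _ _ _ hi h1]
      erw [cfst_map]
      exact bot_trans M n m h fs (i + 1) h1 h2 _

/-- injective modules are acyclic for regular sequences (listed from the last one) -/
theorem exact_of_injective {I : ModuleCat.{u} A} [Module.Injective A I] : ∀ (fs : List A),
    (∀ (l : List A) (f : A), (f :: l) <:+ fs → IsSMulRegular (A ⧸ Ideal.ofList l) f) →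
    ∀ (i j k : ℤ), i + 1 = j → j + 1 = k → -(fs.length : ℤ) < j → ∀ z : (koszulCx I fs).X j,
      ((koszulCx I fs).d j k).hom z = 0 → ∃ w, ((koszulCx I fs).d i j).hom w = z
  | [], _, i, j, k, _, _, hj, z, _ => by
      have := subsingleton_X I [] j (by simp at hj ⊢; omega)
      exact ⟨0, Subsingleton.elim _ _⟩
  | f :: fs, hreg, i, j, k, hij, hjk, hj, z, hz => by
      subst hij hjk
      simp only [List.length_cons, Nat.cast_add, Nat.cast_one] at hj
      have IH := exact_of_injective (I := I) fs fun l g hl => hreg l g (hl.trans (List.suffix_cons _ _))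
      set a := cfst (f • 𝟙 (koszulCx I fs)) (i + 1 + 1) rfl z with ha
      set b := csnd (f • 𝟙 (koszulCx I fs)) z with hb
      have h1 : ((koszulCx I fs).d (i + 1 + 1) (i + 1 + 1 + 1)).hom a = 0 := by
        refine neg_eq_zero.1 ((cfst_d _ (i + 1 + 1) (i + 1 + 1 + 1) rfl rfl z).symm.trans ?_)
        erw [hz]; exact cfst_zero _ _ _
      obtain ⟨c, hc⟩ := IH (i + 1) (i + 1 + 1) (i + 1 + 1 + 1) rfl rfl (by omega) a h1
      have h2 : f • a + ((koszulCx I fs).d (i + 1) (i + 1 + 1)).hom b = 0 := by
        rw [ha, ← smul_id_f f]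
        refine (csnd_d _ (i + 1 + 1) rfl z).symm.trans ?_
        erw [hz]; exact csnd_zero _
      -- `b + f c` is a cycle
      have h3 : ((koszulCx I fs).d (i + 1) (i + 1 + 1)).hom (b + f • c) = 0 := by
        simp only [map_add, map_smul, hc]; exact (add_comm _ _).trans h2
      obtain ⟨e, q, heq, he⟩ : ∃ (e : (koszulCx I fs).X (i + 1)) (q : (koszulCx I fs).X i),
          f • e + ((koszulCx I fs).d i (i + 1)).hom q = b + f • c ∧
            ((koszulCx I fs).d (i + 1) (i + 1 + 1)).hom e = 0 := by
        rcases (show i + 1 = -(fs.length : ℤ) ∨ -(fs.length : ℤ) < i + 1 by omega) with hb0 | hb0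
        · -- the bottom degree
          set t : I := bot I fs (i + 1) hb0 (b + f • c) with ht
          have htk : ∀ g ∈ fs, g • t = 0 := (d_bot_eq_zero_iff I fs (i + 1) (i + 1 + 1) hb0 rfl _).1 h3
          have hr := hreg fs f (List.suffix_refl _)
          let mulf : (A ⧸ Ideal.ofList fs) →ₗ[A] (A ⧸ Ideal.ofList fs) := DistribSMul.toLinearMap A _ f
          let χ : (A ⧸ Ideal.ofList fs) →ₗ[A] I := (Ideal.ofList fs).liftQ (LinearMap.toSpanSingleton A I t) (by
            refine Ideal.span_le.2 fun g hg => ?_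
            exact LinearMap.mem_ker.2 (htk g hg))
          obtain ⟨χ', hχ'⟩ := Module.Injective.out mulf hr χ
          set s : I := χ' (Submodule.Quotient.mk 1) with hs
          have hfs : f • s = t := by
            rw [hs, ← map_smul]
            refine (hχ' (Submodule.Quotient.mk 1)).trans ?_
            exact (Submodule.liftQ_apply _ _ (1 : A)).trans (one_smul A t)
          refine ⟨(bot I fs (i + 1) hb0).symm s, 0, ?_, ?_⟩
          · apply (bot I fs (i + 1) hb0).injective
            rw [map_add, map_smul, LinearEquiv.apply_symm_apply, map_zero, map_zero, add_zero, hfs, ht]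
          · rw [d_bot_eq_zero_iff I fs (i + 1) (i + 1 + 1) hb0 rfl]
            intro g hg
            rw [LinearEquiv.apply_symm_apply, hs, ← map_smul, ← Submodule.Quotient.mk_smul, smul_eq_mul, mul_one,
              (Submodule.Quotient.mk_eq_zero _).2 (Ideal.subset_span (show g ∈ {x | x ∈ fs} from hg)), map_zero]
        · obtain ⟨q, hq⟩ := IH i (i + 1) (i + 1 + 1) rfl rfl hb0 _ h3
          exact ⟨0, q, by rw [smul_zero, zero_add, hq], map_zero _⟩
      refine ⟨cmk _ (i + 1) rfl (e - c) q, cone_ext _ (i + 1 + 1) rfl ?_ ?_⟩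
      · refine (cfst_d _ (i + 1) (i + 1 + 1) rfl rfl _).trans ?_
        rw [cfst_cmk, map_sub, he, zero_sub, neg_neg, hc]
      · refine (csnd_d _ (i + 1) rfl _).trans ?_
        rw [smul_id_f, cfst_cmk, csnd_cmk, smul_sub, sub_add_eq_add_sub, heq, add_sub_cancel_right]

end Groth.Agent.Misc15.Koszul
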