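import Groth.Agent.Misc15.KoszulExt
import Groth.Agent.AffSchLib.TildeExact
import Groth.Agent.Coherent.SchemeCoh
import Groth.Agent.Coherent.ModExt

/-! `Ĩ` is flasque for an injective module over a Noetherian ring. -/

set_option autoImplicit false
set_option backward.isDefEq.respectTransparency.types false
universe u

open CategoryTheory CategoryTheory.Limits AlgebraicGeometry Opposite TopologicalSpace

namespace Groth.Agent.Misc15.Koszul

open Groth.Agent.Coherent (resM resM_resM specBasicOpen)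

variable {R : CommRingCat.{u}}

/-- the canonical map to sections of `Ñ` -/
noncomputable def rho (N : ModuleCat.{u} R) (U : (Spec R).Opens) : N →ₗ[R] Γ(tilde N, U) :=
  (tilde.toOpen N U).hom

theorem rho_res (N : ModuleCat.{u} R) {U V : (Spec R).Opens} (h : V ≤ U) (x : N) :
    resM (tilde N) h (rho N U x) = rho N V x :=
  ConcreteCategory.congr_hom (tilde.toOpen_res N U V (homOfLE h)) x

theorem resM_smul_spec (M : (Spec R).Modules) {U V : (Spec R).Opens} (h : V ≤ U) (r : R) (x : Γ(M, U)) :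
    resM M h (r • x) = r • resM M h x :=
  Scheme.Modules.map_smul_Spec (homOfLE h).op r x

/-- `tilde f` on sections, additively -/
noncomputable def tmap {M N : ModuleCat.{u} R} (f : M ⟶ N) (U : (Spec R).Opens) :
    Γ(tilde M, U) →+ Γ(tilde N, U) :=
  (((SheafOfModules.toSheaf (Spec R).ringCatSheaf).map (tilde.map f)).hom.app (op U)).hom

theorem rho_map {M N : ModuleCat.{u} R} (f : M ⟶ N) (U : (Spec R).Opens) (x : M) :
    tmap f U (rho M U x) = rho N U (f.hom x) :=
  ConcreteCategory.congr_hom (tilde.toOpen_map_app f U) x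

theorem rho_basicOpen (N : ModuleCat.{u} R) (t : R) :
    IsLocalizedModule (.powers t) (rho N (specBasicOpen t)) :=
  inferInstanceAs (IsLocalizedModule.Away t (tilde.toOpen N (PrimeSpectrum.basicOpen t)).hom)

theorem exists_rho_eq (N : ModuleCat.{u} R) (t : R) (s : Γ(tilde N, specBasicOpen t)) :
    ∃ (n : ℕ) (x : N), rho N (specBasicOpen t) x = t ^ n • s := by
  obtain ⟨⟨x, ⟨_, n, rfl⟩⟩, hx⟩ := (rho_basicOpen N t).surj s
  exact ⟨n, x, hx.symm⟩

theorem exists_pow_of_rho_eq_zero (N : ModuleCat.{u} R) (t : R) (x : N)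
    (hx : rho N (specBasicOpen t) x = 0) : ∃ n : ℕ, t ^ n • x = 0 := by
  obtain ⟨⟨_, n, rfl⟩, hn⟩ := (rho_basicOpen N t).exists_of_eq (x₁ := x) (x₂ := 0) (hx.trans (map_zero _).symm)
  exact ⟨n, hn.trans (smul_zero _)⟩

theorem rho_eq_zero_of_pow (N : ModuleCat.{u} R) (t : R) {U : (Spec R).Opens} (hU : U ≤ specBasicOpen t)
    {x : N} {n : ℕ} (hx : t ^ n • x = 0) : rho N U x = 0 :=
  (Scheme.Modules.isSMulRegular_of_le_basicOpen hU).pow n (by
    show t ^ n • rho N U x = t ^ n • 0
    rw [← map_smul, hx, map_zero, smul_zero])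

theorem sections_ext (M : (Spec R).Modules) {W : (Spec R).Opens} {ι : Type u} (V : ι → (Spec R).Opens)
    (hle : ∀ i, V i ≤ W) (hcov : W ≤ iSup V) (x y : Γ(M, W))
    (h : ∀ i, resM M (hle i) x = resM M (hle i) y) : x = y :=
  TopCat.Sheaf.eq_of_locally_eq' (X := (Spec R).toTopCat) (Coh.toAb M) V W
    (fun i => homOfLE (hle i)) hcov x y h

variable [IsNoetherianRing R]

theorem rho_surjective_of_injective (I : ModuleCat.{u} R) [Module.Injective R I] (W : (Spec R).Opens) :
    Function.Surjective (rho I W) := by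
  intro s
  have key : ∀ w : W, ∃ (t : R) (hle : specBasicOpen t ≤ W) (x : I),
      w.1 ∈ specBasicOpen t ∧ rho I (specBasicOpen t) x = t • resM (tilde I) hle s := by
    intro w
    obtain ⟨_, ⟨t, rfl⟩, hwt, hle⟩ := Opens.isBasis_iff_nbhd.1 PrimeSpectrum.isBasis_basic_opens w.2
    obtain ⟨n, x, hx⟩ := exists_rho_eq I t (resM (tilde I) (show specBasicOpen t ≤ W from hle) s)
    have e : specBasicOpen (t ^ (n + 1)) = specBasicOpen t := PrimeSpectrum.basicOpen_pow t (n + 1) (Nat.succ_pos n)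
    refine ⟨t ^ (n + 1), e.le.trans hle, t • x, e.ge hwt, ?_⟩
    rw [← rho_res I e.le, map_smul, hx, smul_smul, ← pow_succ', resM_smul_spec, resM_resM]
  choose t hle x hw hx using key
  obtain ⟨σ, hσ⟩ := (NoetherianSpace.isCompact (α := PrimeSpectrum R) W.1).elim_finite_subcover
    (fun w : W => (specBasicOpen (t w)).1) (fun w => (specBasicOpen (t w)).2)
    (fun z hz => Set.mem_iUnion.2 ⟨⟨z, hz⟩, hw ⟨z, hz⟩⟩)
  obtain ⟨y, hy⟩ := exists_extend (σ.toList.map fun w => (t w, x w)) (by
    simp only [List.mem_map, Finset.mem_toList, forall_exists_index, and_imp]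
    rintro _ w hw' rfl _ v hv' rfl
    refine exists_pow_of_rho_eq_zero I (t w * t v) _ ?_
    have h1 : specBasicOpen (t w * t v) ≤ specBasicOpen (t w) := by
      rw [specBasicOpen, PrimeSpectrum.basicOpen_mul]; exact inf_le_left
    have h2 : specBasicOpen (t w * t v) ≤ specBasicOpen (t v) := by
      rw [specBasicOpen, PrimeSpectrum.basicOpen_mul]; exact inf_le_right
    rw [map_sub, map_smul, map_smul]
    conv_lhs => rw [← rho_res I h1 (x w), ← rho_res I h2 (x v)]
    rw [hx, hx, resM_smul_spec, resM_smul_spec, resM_resM, resM_resM, smul_comm, sub_self])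
  refine ⟨y, sections_ext (tilde I) (fun w : σ => specBasicOpen (t w.1)) (fun w => hle w.1) ?_ _ _ fun w => ?_⟩
  · intro z hz
    obtain ⟨w, hwσ, hzw⟩ := Set.mem_iUnion₂.1 (hσ hz)
    exact Opens.mem_iSup.2 ⟨⟨w, hwσ⟩, hzw⟩
  · obtain ⟨k, hk⟩ := hy (t w.1, x w.1) (List.mem_map.2 ⟨w.1, Finset.mem_toList.2 w.2, rfl⟩)
    have h0 := rho_eq_zero_of_pow I (t w.1) le_rfl hk
    rw [map_sub, map_smul, hx, sub_eq_zero] at h0
    rw [rho_res]
    exact Scheme.Modules.isSMulRegular_of_le_basicOpen le_rfl h0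

/-- `Ĩ` is flasque. -/
theorem isFlasque_tilde (I : ModuleCat.{u} R) [Module.Injective R I] :
    TopCat.Sheaf.IsFlasque (X := (Spec R).toTopCat) (Coh.toAb (tilde I)) where
  epi {U V} i := (AddCommGrpCat.epi_iff_surjective _).2 fun s => by
    obtain ⟨y, hy⟩ := rho_surjective_of_injective I V.unop s
    refine ⟨rho I U.unop y, ?_⟩
    exact (rho_res I (leOfHom i.unop) y).trans hy

end Groth.Agent.Misc15.Koszul
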