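import Groth.Agent.Misc15.KoszulCone

/-! Koszul cohomology is insensitive to restriction of scalars. -/

set_option autoImplicit false
set_option backward.isDefEq.respectTransparency false
set_option backward.isDefEq.respectTransparency.types false
universe u

open CategoryTheory CategoryTheory.Limits CochainComplex

namespace Groth.Agent.Misc15.Koszul

open CohIII (koszulCx koszulTrans koszulHLim)

/-- additive universal property of a direct limit of modules -/
noncomputable def liftAdd {R : Type*} [Ring R] {ι : Type*} [Preorder ι] [DecidableEq ι] {G : ι → Type*}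
    [∀ i, AddCommGroup (G i)] [∀ i, Module R (G i)] {f : ∀ i j, i ≤ j → G i →ₗ[R] G j} {P : Type*} [AddCommGroup P]
    (g : ∀ i, G i →+ P) (Hg : ∀ i j hij x, g j (f i j hij x) = g i x) : Module.DirectLimit G f →+ P :=
  AddCon.lift _ (DirectSum.toAddMonoid g) <|
    AddCon.addConGen_le.2 fun _ _ ⟨h, x⟩ => by
      show DirectSum.toAddMonoid g _ = DirectSum.toAddMonoid g _
      simp only [DirectSum.lof_eq_of, DirectSum.toAddMonoid_of]
      exact (Hg _ _ h x).symm

theorem liftAdd_of {R : Type*} [Ring R] {ι : Type*} [Preorder ι] [DecidableEq ι] {G : ι → Type*}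
    [∀ i, AddCommGroup (G i)] [∀ i, Module R (G i)] {f : ∀ i j, i ≤ j → G i →ₗ[R] G j} {P : Type*} [AddCommGroup P]
    (g : ∀ i, G i →+ P) (Hg : ∀ i j hij x, g j (f i j hij x) = g i x) (i : ι) (x : G i) :
    liftAdd g Hg (Module.DirectLimit.of R ι G f i x) = g i x :=
  DirectSum.toAddMonoid_of g i x

variable {A P : Type u} [CommRing A] [CommRing P] (φ : P →+* A) (M : ModuleCat.{u} A)

/-- the module with restricted scalars -/
noncomputable abbrev res : ModuleCat.{u} P := (ModuleCat.restrictScalars φ).obj M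

section ConeEquiv

variable {K : CochainComplex (ModuleCat.{u} A) ℤ} {K' : CochainComplex (ModuleCat.{u} P) ℤ}
  (e : ∀ i, K.X i ≃+ K'.X i) (a : A) (b : P)

/-- componentwise comparison of cones -/
noncomputable def coneEquiv (i : ℤ) : (mappingCone (a • 𝟙 K)).X i ≃+ (mappingCone (b • 𝟙 K')).X i where
  toFun x := cmk _ (i + 1) rfl (e (i + 1) (cfst _ (i + 1) rfl x)) (e i (csnd _ x))
  invFun y := cmk _ (i + 1) rfl ((e (i + 1)).symm (cfst _ (i + 1) rfl y)) ((e i).symm (csnd _ y))
  left_inv x := cone_ext _ (i + 1) rfl (by simp [cfst_cmk]) (by simp [csnd_cmk])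
  right_inv y := cone_ext _ (i + 1) rfl (by simp [cfst_cmk]) (by simp [csnd_cmk])
  map_add' x y := by
    refine cone_ext _ (i + 1) rfl ?_ ?_
    · rw [cfst_cmk, cfst_add, map_add, cfst_add, cfst_cmk, cfst_cmk]
    · rw [csnd_cmk, csnd_add, map_add, csnd_add, csnd_cmk, csnd_cmk]

theorem coneEquiv_cfst (i : ℤ) (x : (mappingCone (a • 𝟙 K)).X i) :
    cfst _ (i + 1) rfl (coneEquiv e a b i x) = e (i + 1) (cfst _ (i + 1) rfl x) := cfst_cmk _ (i + 1) rfl _ _

theorem coneEquiv_csnd (i : ℤ) (x : (mappingCone (a • 𝟙 K)).X i) :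
    csnd _ (coneEquiv e a b i x) = e i (csnd _ x) := csnd_cmk _ (i + 1) rfl _ _

variable (φ : P →+* A) (he : ∀ i (r : P) (x : K.X i), e i (φ r • x) = r • e i x)

include he in
theorem coneEquiv_smul (i : ℤ) (r : P) (x : (mappingCone (a • 𝟙 K)).X i) :
    coneEquiv e a b i (φ r • x) = r • coneEquiv e a b i x := by
  refine cone_ext _ (i + 1) rfl ?_ ?_
  · rw [coneEquiv_cfst, cfst_smul, he, cfst_smul, coneEquiv_cfst]
  · rw [coneEquiv_csnd, csnd_smul, he, csnd_smul, coneEquiv_csnd]

include he in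
theorem coneEquiv_d (hd : ∀ i j, i + 1 = j → ∀ x, e j ((K.d i j).hom x) = (K'.d i j).hom (e i x)) (hab : φ b = a)
    (i j : ℤ) (hij : i + 1 = j) (x : (mappingCone (a • 𝟙 K)).X i) :
    coneEquiv e a b j (((mappingCone (a • 𝟙 K)).d i j).hom x) =
      ((mappingCone (b • 𝟙 K')).d i j).hom (coneEquiv e a b i x) := by
  subst hij
  refine cone_ext _ (i + 1 + 1) rfl ?_ ?_
  · rw [coneEquiv_cfst, cfst_d _ (i + 1) (i + 1 + 1) rfl rfl, cfst_d _ (i + 1) (i + 1 + 1) rfl rfl, coneEquiv_cfst,
      map_neg, hd (i + 1) (i + 1 + 1) rfl]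
  · rw [coneEquiv_csnd, csnd_d _ (i + 1) rfl, csnd_d _ (i + 1) rfl, coneEquiv_csnd, coneEquiv_cfst, smul_id_f,
      smul_id_f, map_add, ← hab, he, hd i (i + 1) rfl]

variable {L : CochainComplex (ModuleCat.{u} A) ℤ} {L' : CochainComplex (ModuleCat.{u} P) ℤ}
  (e' : ∀ i, L.X i ≃+ L'.X i) (he' : ∀ i (r : P) (x : L.X i), e' i (φ r • x) = r • e' i x)

include he' in
theorem coneEquiv_map (a₂ : A) (b₂ : P) (s : A) (t : P) (hst : φ t = s) (g : K ⟶ L) (g' : K' ⟶ L')
    (hg : ∀ i x, e' i ((g.f i).hom x) = (g'.f i).hom (e i x))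
    (comm : (a • 𝟙 K) ≫ (s • g) = g ≫ (a₂ • 𝟙 L)) (comm' : (b • 𝟙 K') ≫ (t • g') = g' ≫ (b₂ • 𝟙 L'))
    (i : ℤ) (x : (mappingCone (a • 𝟙 K)).X i) :
    coneEquiv e' a₂ b₂ i (((mappingCone.map (a • 𝟙 K) (a₂ • 𝟙 L) g (s • g) comm).f i).hom x) =
      ((mappingCone.map (b • 𝟙 K') (b₂ • 𝟙 L') g' (t • g') comm').f i).hom (coneEquiv e a b i x) := by
  refine cone_ext _ (i + 1) rfl ?_ ?_
  · rw [coneEquiv_cfst, cfst_map, cfst_map, coneEquiv_cfst, hg]
  · rw [coneEquiv_csnd, csnd_map, csnd_map, coneEquiv_csnd]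
    simp only [HomologicalComplex.smul_f_apply, ModuleCat.hom_smul, LinearMap.smul_apply]
    rw [← hst, he', hg]

end ConeEquiv

/-- degreewise comparison -/
noncomputable def cmpEquiv (n : ℕ) : ∀ (ts : List P) (i : ℤ),
    (koszulCx M ((ts.map φ).map (· ^ n))).X i ≃+ (koszulCx (res φ M) (ts.map (· ^ n))).X i
  | [], i =>
      if hi : i = 0 then
        ((eqToIso (congrArg (koszulCx M []).X hi)).toLinearEquiv.toAddEquiv.trans (bot0 M).toAddEquiv).trans
          ((eqToIso (congrArg (koszulCx (res φ M) []).X hi)).toLinearEquiv.toAddEquiv.trans (bot0 (res φ M)).toAddEquiv).symm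
      else
        have h1 : Subsingleton ((koszulCx M []).X i) := subsingleton_X M [] i (by simp; omega)
        have h2 : Subsingleton ((koszulCx (res φ M) []).X i) := subsingleton_X (res φ M) [] i (by simp; omega)
        { toFun := fun _ => 0, invFun := fun _ => 0, left_inv := fun _ => h1.elim _ _, right_inv := fun _ => h2.elim _ _,
          map_add' := fun _ _ => h2.elim _ _ }
  | f :: ts, i => coneEquiv (cmpEquiv n ts) ((φ f) ^ n) (f ^ n) i

theorem cmpEquiv_smul (n : ℕ) : ∀ (ts : List P) (i : ℤ) (r : P) (x),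
    cmpEquiv φ M n ts i (φ r • x) = r • cmpEquiv φ M n ts i x
  | [], i, r, x => by
      by_cases hi : i = 0
      · subst hi
        apply (bot0 (res φ M)).injective
        simp [cmpEquiv]
        rfl
      · have h2 : Subsingleton ((koszulCx (res φ M) []).X i) := subsingleton_X (res φ M) [] i (by simp; omega)
        exact h2.elim _ _
  | f :: ts, i, r, x => coneEquiv_smul _ _ _ φ (cmpEquiv_smul n ts) i r x

theorem cmpEquiv_d (n : ℕ) : ∀ (ts : List P) (i j : ℤ) (_ : i + 1 = j) (x),
    cmpEquiv φ M n ts j (((koszulCx M ((ts.map φ).map (· ^ n))).d i j).hom x) =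
      ((koszulCx (res φ M) (ts.map (· ^ n))).d i j).hom (cmpEquiv φ M n ts i x)
  | [], i, j, h, x => by
      have h1 : (koszulCx M []).d i j = 0 := HomologicalComplex.single_obj_d (ComplexShape.up ℤ) 0 M i j
      have h2 : (koszulCx (res φ M) []).d i j = 0 := HomologicalComplex.single_obj_d (ComplexShape.up ℤ) 0 (res φ M) i j
      erw [h1, h2]
      exact map_zero _
  | f :: ts, i, j, h, x =>
      coneEquiv_d _ _ _ φ (cmpEquiv_smul φ M n ts) (cmpEquiv_d n ts) (map_pow φ f n) i j h x

theorem cmpEquiv_trans (n m : ℕ) (h : n ≤ m) : ∀ (ts : List P) (i : ℤ) (x),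
    cmpEquiv φ M m ts i (((koszulTrans M n m h (ts.map φ)).f i).hom x) =
      ((koszulTrans (res φ M) n m h ts).f i).hom (cmpEquiv φ M n ts i x)
  | [], i, x => rfl
  | f :: ts, i, x =>
      coneEquiv_map _ _ _ φ _ (cmpEquiv_smul φ M m ts) _ _ ((φ f) ^ (m - n)) (f ^ (m - n)) (map_pow φ f (m - n))
        (koszulTrans M n m h (ts.map φ)) (koszulTrans (res φ M) n m h ts) (cmpEquiv_trans n m h ts)
        (by simp [Linear.smul_comp, Linear.comp_smul, smul_smul, ← pow_add, Nat.sub_add_cancel h])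
        (by simp [Linear.smul_comp, Linear.comp_smul, smul_smul, ← pow_add, Nat.sub_add_cancel h]) i x

/-- the comparison as an isomorphism of complexes of abelian groups -/
noncomputable def cmpIso (n : ℕ) (ts : List P) :
    ((forget₂ (ModuleCat.{u} A) Ab).mapHomologicalComplex (ComplexShape.up ℤ)).obj (koszulCx M ((ts.map φ).map (· ^ n))) ≅
      ((forget₂ (ModuleCat.{u} P) Ab).mapHomologicalComplex (ComplexShape.up ℤ)).obj (koszulCx (res φ M) (ts.map (· ^ n))) :=
  HomologicalComplex.Hom.isoOfComponents (fun i => AddEquiv.toAddCommGrpIso (cmpEquiv φ M n ts i)) (by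
    intro i j hij
    ext x
    exact (cmpEquiv_d φ M n ts i j hij x).symm)

theorem cmpIso_trans (n m : ℕ) (h : n ≤ m) (ts : List P) :
    ((forget₂ (ModuleCat.{u} A) Ab).mapHomologicalComplex (ComplexShape.up ℤ)).map (koszulTrans M n m h (ts.map φ)) ≫
        (cmpIso φ M m ts).hom =
      (cmpIso φ M n ts).hom ≫
        ((forget₂ (ModuleCat.{u} P) Ab).mapHomologicalComplex (ComplexShape.up ℤ)).map (koszulTrans (res φ M) n m h ts) := by
  ext i x
  exact cmpEquiv_trans φ M n m h ts i x

/-- homology comparison -/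
noncomputable def cmpH (n : ℕ) (ts : List P) (i : ℤ) :
    (koszulCx M ((ts.map φ).map (· ^ n))).homology i ≃+ (koszulCx (res φ M) (ts.map (· ^ n))).homology i :=
  Iso.addCommGroupIsoToAddEquiv
    ((((koszulCx M ((ts.map φ).map (· ^ n))).sc i).mapHomologyIso (forget₂ (ModuleCat.{u} A) Ab)).symm ≪≫
      HomologicalComplex.homologyMapIso (cmpIso φ M n ts) i ≪≫
        ((koszulCx (res φ M) (ts.map (· ^ n))).sc i).mapHomologyIso (forget₂ (ModuleCat.{u} P) Ab))

theorem cmpH_trans (n m : ℕ) (h : n ≤ m) (ts : List P) (i : ℤ) (x : (koszulCx M ((ts.map φ).map (· ^ n))).homology i) :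
    cmpH φ M m ts i ((HomologicalComplex.homologyMap (koszulTrans M n m h (ts.map φ)) i).hom x) =
      (HomologicalComplex.homologyMap (koszulTrans (res φ M) n m h ts) i).hom (cmpH φ M n ts i x) := by
  let FA := forget₂ (ModuleCat.{u} A) Ab
  let FP := forget₂ (ModuleCat.{u} P) Ab
  let τA := (HomologicalComplex.shortComplexFunctor (ModuleCat.{u} A) (ComplexShape.up ℤ) i).map (koszulTrans M n m h (ts.map φ))
  let τP := (HomologicalComplex.shortComplexFunctor (ModuleCat.{u} P) (ComplexShape.up ℤ) i).map (koszulTrans (res φ M) n m h ts)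
  have hA := ShortComplex.mapHomologyIso_hom_naturality τA FA
  have hP := ShortComplex.mapHomologyIso_hom_naturality τP FP
  have hc := congrArg (fun g => HomologicalComplex.homologyMap g i) (cmpIso_trans φ M n m h ts)
  simp only [HomologicalComplex.homologyMap_comp] at hc
  have key : FA.map (ShortComplex.homologyMap τA) ≫
      ((((koszulCx M ((ts.map φ).map (· ^ m))).sc i).mapHomologyIso FA).inv ≫
        HomologicalComplex.homologyMap (cmpIso φ M m ts).hom i ≫
        (((koszulCx (res φ M) (ts.map (· ^ m))).sc i).mapHomologyIso FP).hom) =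
      ((((koszulCx M ((ts.map φ).map (· ^ n))).sc i).mapHomologyIso FA).inv ≫
        HomologicalComplex.homologyMap (cmpIso φ M n ts).hom i ≫
        (((koszulCx (res φ M) (ts.map (· ^ n))).sc i).mapHomologyIso FP).hom) ≫ FP.map (ShortComplex.homologyMap τP) := by
    rw [← cancel_epi (((koszulCx M ((ts.map φ).map (· ^ n))).sc i).mapHomologyIso FA).hom]
    erw [← reassoc_of% hA, Iso.hom_inv_id_assoc, reassoc_of% hc]
    simp only [Category.assoc, Iso.hom_inv_id_assoc]
    erw [hP]
  exact ConcreteCategory.congr_hom key x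

/-- Koszul cohomology limit and restriction of scalars. -/
theorem nonempty_bridge (ts : List P) (p : ℕ) :
    Nonempty (koszulHLim (ts.map φ) M p ≃+ koszulHLim ts (res φ M) p) := by
  have key : ∀ i i' : ℤ, i = i' → Nonempty
      (Module.DirectLimit (fun n : ℕ => ((koszulCx M ((ts.map φ).map (· ^ n))).homology i : Type u))
        (fun n m h => (HomologicalComplex.homologyMap (koszulTrans M n m h (ts.map φ)) i).hom) ≃+
      Module.DirectLimit (fun n : ℕ => ((koszulCx (res φ M) (ts.map (· ^ n))).homology i' : Type u))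
        (fun n m h => (HomologicalComplex.homologyMap (koszulTrans (res φ M) n m h ts) i').hom)) := by
    rintro i _ rfl
    refine ⟨AddMonoidHom.toAddEquiv
      (liftAdd (fun n => (Module.DirectLimit.of P ℕ (fun n : ℕ => ((koszulCx (res φ M) (ts.map (· ^ n))).homology i : Type u))
          (fun n m h => (HomologicalComplex.homologyMap (koszulTrans (res φ M) n m h ts) i).hom) n).toAddMonoidHom.comp
          (cmpH φ M n ts i).toAddMonoidHom) fun n m h x => ?_)
      (liftAdd (fun n => (Module.DirectLimit.of A ℕ (fun n : ℕ => ((koszulCx M ((ts.map φ).map (· ^ n))).homology i : Type u))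
          (fun n m h => (HomologicalComplex.homologyMap (koszulTrans M n m h (ts.map φ)) i).hom) n).toAddMonoidHom.comp
          (cmpH φ M n ts i).symm.toAddMonoidHom) fun n m h x => ?_) ?_ ?_⟩
    · simp only [AddMonoidHom.comp_apply, LinearMap.toAddMonoidHom_coe, AddEquiv.coe_toAddMonoidHom]
      erw [cmpH_trans]
      exact Module.DirectLimit.of_f
    · obtain ⟨x, rfl⟩ := (cmpH φ M n ts i).surjective x
      simp only [AddMonoidHom.comp_apply, LinearMap.toAddMonoidHom_coe, AddEquiv.coe_toAddMonoidHom]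
      rw [← cmpH_trans, AddEquiv.symm_apply_apply, AddEquiv.symm_apply_apply]
      exact Module.DirectLimit.of_f
    · ext z
      obtain ⟨n, a, rfl⟩ := Module.DirectLimit.exists_of z
      simp only [AddMonoidHom.comp_apply, AddMonoidHom.id_apply]
      erw [liftAdd_of, liftAdd_of]
      simp only [AddMonoidHom.comp_apply, LinearMap.toAddMonoidHom_coe, AddEquiv.coe_toAddMonoidHom]
      rw [AddEquiv.symm_apply_apply]
    · ext z
      obtain ⟨n, a, rfl⟩ := Module.DirectLimit.exists_of z
      simp only [AddMonoidHom.comp_apply, AddMonoidHom.id_apply]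
      erw [liftAdd_of, liftAdd_of]
      simp only [AddMonoidHom.comp_apply, LinearMap.toAddMonoidHom_coe, AddEquiv.coe_toAddMonoidHom]
      rw [AddEquiv.apply_symm_apply]
  exact key ((p : ℤ) - (ts.map φ).length) ((p : ℤ) - ts.length) (by simp)

end Groth.Agent.Misc15.Koszul
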