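import Groth.Agent.Misc15.KoszulLimit
import Mathlib.RingTheory.MvPolynomial.Ideal
import Mathlib.RingTheory.Polynomial.Basic

/-! The variables of a polynomial ring form a regular sequence with all their powers. -/

set_option autoImplicit false
universe u

namespace Groth.Agent.Misc15.Koszul

open MvPolynomial

variable {σ : Type} {K : Type u} [CommRing K]

theorem mem_span_pow_iff (S : List σ) (n : ℕ) (x : MvPolynomial σ K) :
    x ∈ Ideal.ofList (S.map fun i => (X i : MvPolynomial σ K) ^ n) ↔
      ∀ e ∈ x.support, ∃ i ∈ S, n ≤ e i := by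
  have h : {z | z ∈ S.map fun i => (X i : MvPolynomial σ K) ^ n} =
      (fun s => monomial s (1 : K)) '' ((fun i => Finsupp.single i n) '' {i | i ∈ S}) := by
    ext z
    simp [X_pow_eq_monomial]
  rw [Ideal.ofList, h, mem_ideal_span_monomial_image]
  refine forall₂_congr fun e _ => ?_
  simp [Finsupp.single_le_iff]

theorem isSMulRegular_pow (S : List σ) (j : σ) (hj : j ∉ S) (n : ℕ) :
    IsSMulRegular (MvPolynomial σ K ⧸ Ideal.ofList (S.map fun i => (X i : MvPolynomial σ K) ^ n))
      ((X j : MvPolynomial σ K) ^ n) := by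
  refine IsSMulRegular.of_right_eq_zero_of_smul ?_
  intro q hq
  obtain ⟨x, rfl⟩ := Submodule.Quotient.mk_surjective _ q
  rw [← Submodule.Quotient.mk_smul, Submodule.Quotient.mk_eq_zero, smul_eq_mul, mem_span_pow_iff] at hq
  rw [Submodule.Quotient.mk_eq_zero, mem_span_pow_iff]
  intro e he
  classical
  have h1 : Finsupp.single j n + e ∈ ((X j : MvPolynomial σ K) ^ n * x).support := by
    rw [mem_support_iff, X_pow_eq_monomial, coeff_monomial_mul, one_mul]
    exact mem_support_iff.1 he
  obtain ⟨i, hi, hle⟩ := hq _ h1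
  refine ⟨i, hi, ?_⟩
  rw [Finsupp.add_apply, Finsupp.single_apply, if_neg (by rintro rfl; exact hj hi), zero_add] at hle
  exact hle

theorem regPow_map (L : List σ) (hL : L.Nodup) :
    RegPow (L.map fun i => (X i : MvPolynomial σ K)) := by
  intro n l f h
  rw [List.map_map] at h
  obtain ⟨pre, hpre⟩ := h
  obtain ⟨l₁, l₂, rfl, -, h₂⟩ := List.map_eq_append_iff.1 hpre.symm
  obtain ⟨j, S, rfl, rfl, rfl⟩ := List.map_eq_cons_iff.1 h₂
  exact isSMulRegular_pow S j (List.nodup_cons.1 (List.nodup_append.1 hL).2.1).1 n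

theorem regPow_ofFn (r : ℕ) :
    RegPow (List.ofFn fun i : Fin r => (X i : MvPolynomial (Fin r) K)) := by
  rw [List.ofFn_eq_map]
  exact regPow_map (List.finRange r) (List.nodup_finRange r)

end Groth.Agent.Misc15.Koszul
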