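import Groth.Agent.Misc15.KoszulElem
import Groth.Agent.Misc15.KoszulBridge
import Groth.Agent.Misc15.KoszulPoly

/-! Limit Koszul cohomology of a polynomial ring in its variables. -/

set_option autoImplicit false
set_option backward.isDefEq.respectTransparency false
set_option backward.isDefEq.respectTransparency.types false
universe u

open CategoryTheory CategoryTheory.Limits CochainComplex

namespace Groth.Agent.Misc15.Koszul

open CohIII (koszulCx koszulTrans koszulHLim)

variable {A : Type u} [CommRing A]

/-- the surjection onto top Koszul cohomology -/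
noncomputable def topπ (M : ModuleCat.{u} A) (fs : List A) : M →ₗ[A] ((koszulCx M fs).homology 0 : ModuleCat.{u} A) :=
  have hd : (koszulCx M fs).d 0 (0 + 1) = 0 := by
    have := subsingleton_X M fs (0 + 1) (by omega)
    exact (ModuleCat.isZero_of_subsingleton _).eq_of_tgt _ _
  have := (koszulCx M fs).isIso_iCycles 0 (0 + 1) (CochainComplex.next _ _) hd
  (inv ((koszulCx M fs).iCycles 0) ≫ (koszulCx M fs).homologyπ 0).hom.comp (top M fs).symm.toLinearMap

theorem topπ_eq (M : ModuleCat.{u} A) (fs : List A) (z : (koszulCx M fs).cycles 0) :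
    topπ M fs (top M fs (((koszulCx M fs).iCycles 0).hom z)) = ((koszulCx M fs).homologyπ 0).hom z := by
  simp only [topπ, LinearMap.comp_apply, LinearEquiv.coe_coe, LinearEquiv.symm_apply_apply, ModuleCat.hom_comp]
  have hd : (koszulCx M fs).d 0 (0 + 1) = 0 := by
    have := subsingleton_X M fs (0 + 1) (by omega)
    exact (ModuleCat.isZero_of_subsingleton _).eq_of_tgt _ _
  have := (koszulCx M fs).isIso_iCycles 0 (0 + 1) (CochainComplex.next _ _) hd
  show ((koszulCx M fs).iCycles 0 ≫ inv ((koszulCx M fs).iCycles 0) ≫ (koszulCx M fs).homologyπ 0).hom z = _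
  rw [IsIso.hom_inv_id_assoc]

theorem iCycles_surjective (M : ModuleCat.{u} A) (fs : List A) : Function.Surjective ((koszulCx M fs).iCycles 0).hom := by
  have hd : (koszulCx M fs).d 0 (0 + 1) = 0 := by
    have := subsingleton_X M fs (0 + 1) (by omega)
    exact (ModuleCat.isZero_of_subsingleton _).eq_of_tgt _ _
  have := (koszulCx M fs).isIso_iCycles 0 (0 + 1) (CochainComplex.next _ _) hd
  exact (ModuleCat.epi_iff_surjective _).1 inferInstance

theorem topπ_surjective (M : ModuleCat.{u} A) (fs : List A) : Function.Surjective (topπ M fs) := fun a => by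
  obtain ⟨z, rfl⟩ := (ModuleCat.epi_iff_surjective ((koszulCx M fs).homologyπ 0)).1 inferInstance a
  exact ⟨_, topπ_eq M fs z⟩

theorem ker_topπ (M : ModuleCat.{u} A) (fs : List A) :
    LinearMap.ker (topπ M fs) = Ideal.ofList fs • (⊤ : Submodule A M) := by
  rw [← range_top_d M fs (-1) (by norm_num)]
  have hex : (ShortComplex.mk ((koszulCx M fs).toCycles (-1) 0) ((koszulCx M fs).homologyπ 0)
      (HomologicalComplex.toCycles_comp_homologyπ _ _ _)).Exact :=
    ShortComplex.exact_of_g_is_cokernel _ ((koszulCx M fs).homologyIsCokernel (-1) 0 (CochainComplex.prev _ _))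
  ext m
  obtain ⟨z, hz⟩ := iCycles_surjective M fs ((top M fs).symm m)
  have hm : m = top M fs (((koszulCx M fs).iCycles 0).hom z) := by rw [hz, LinearEquiv.apply_symm_apply]
  rw [LinearMap.mem_ker, hm, topπ_eq]
  constructor
  · intro h
    obtain ⟨y, hy⟩ := (ShortComplex.moduleCat_exact_iff _).1 hex z h
    refine ⟨y, congrArg (top M fs) ?_⟩
    rw [← hy, ← ModuleCat.comp_apply, HomologicalComplex.toCycles_i]
  · rintro ⟨y, hy⟩
    have : ((koszulCx M fs).iCycles 0).hom (((koszulCx M fs).toCycles (-1) 0).hom y) = ((koszulCx M fs).iCycles 0).hom z := by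
      rw [← ModuleCat.comp_apply, HomologicalComplex.toCycles_i]
      exact (top M fs).injective hy
    rw [← (ModuleCat.mono_iff_injective _).1 inferInstance this, ← ModuleCat.comp_apply,
      HomologicalComplex.toCycles_comp_homologyπ]
    rfl

theorem top_trans (M : ModuleCat.{u} A) (n m : ℕ) (h : n ≤ m) : ∀ (fs : List A) (x),
    top M (fs.map (· ^ m)) (((koszulTrans M n m h fs).f 0).hom x) = fs.prod ^ (m - n) • top M (fs.map (· ^ n)) x
  | [], x => by
      simp only [List.prod_nil, one_pow, one_smul]
      rfl
  | f :: fs, x => by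
      show top M ((f ^ m) :: fs.map (· ^ m)) _ = _
      rw [top_cons]
      erw [csnd_map]
      rw [HomologicalComplex.smul_f_apply, ModuleCat.hom_smul, LinearMap.smul_apply, map_smul, top_trans M n m h fs,
        List.prod_cons, mul_pow, mul_smul]
      rfl

theorem topπ_trans (M : ModuleCat.{u} A) (n m : ℕ) (h : n ≤ m) (fs : List A) (x : M) :
    (HomologicalComplex.homologyMap (koszulTrans M n m h fs) 0).hom (topπ M (fs.map (· ^ n)) x) =
      topπ M (fs.map (· ^ m)) (fs.prod ^ (m - n) • x) := by
  obtain ⟨z, hz⟩ := iCycles_surjective M (fs.map (· ^ n)) ((top M (fs.map (· ^ n))).symm x)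
  have hx : x = top M (fs.map (· ^ n)) (((koszulCx M (fs.map (· ^ n))).iCycles 0).hom z) := by
    rw [hz, LinearEquiv.apply_symm_apply]
  rw [hx, topπ_eq, ← ModuleCat.comp_apply, HomologicalComplex.homologyπ_naturality, ModuleCat.comp_apply, ← topπ_eq]
  congr 1
  rw [← ModuleCat.comp_apply, HomologicalComplex.cyclesMap_i, ModuleCat.comp_apply, top_trans]

theorem subsingleton_limit (fs : List A) (M : ModuleCat.{u} A) (p : ℕ)
    (h : ∀ n, IsZero (CohIII.koszulHPow fs M p n)) : Subsingleton (koszulHLim fs M p) := by
  refine subsingleton_of_forall_eq 0 fun x => ?_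
  obtain ⟨n, a, rfl⟩ := Module.DirectLimit.exists_of x
  have := ModuleCat.subsingleton_of_isZero (h n)
  rw [Subsingleton.elim a 0, map_zero]

section Poly

open MvPolynomial

variable (B : Type u) [CommRing B] (r : ℕ)

/-- the variables -/
noncomputable abbrev vars : List (MvPolynomial (Fin r) B) := List.ofFn fun j : Fin r => X j

theorem isWeaklyRegular_vars_pow (n : ℕ) :
    RingTheory.Sequence.IsWeaklyRegular (MvPolynomial (Fin r) B) ((vars B r).map (· ^ n)) := by
  constructor
  intro i hi
  simp only [List.length_map, List.length_ofFn] at hi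
  have htake : ((vars B r).map (· ^ n)).take i = ((List.finRange r).take i).map fun j => (X j : MvPolynomial (Fin r) B) ^ n := by
    rw [vars, List.ofFn_eq_map, List.map_map, ← List.map_take]
    rfl
  have hget : ((vars B r).map (· ^ n))[i]'(by simpa using hi) = (X (⟨i, hi⟩ : Fin r) : MvPolynomial (Fin r) B) ^ n := by simp
  rw [hget, htake]
  have hj : (⟨i, hi⟩ : Fin r) ∉ (List.finRange r).take i := fun hmem => by
    obtain ⟨k, hk, e⟩ := List.mem_take_iff_getElem.1 hmem
    simp [Fin.ext_iff] at e
    omega
  rw [smul_eq_mul, Ideal.mul_top]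
  exact isSMulRegular_pow _ _ hj n

/-- the linear map from the `n`th level to the free module -/
noncomputable def coeffMap (n : ℕ) : MvPolynomial (Fin r) B →ₗ[B] ((Fin r → ℕ) →₀ B) :=
  (MvPolynomial.basisMonomials (Fin r) B).constr B fun b =>
    if ∀ i, b i < n then Finsupp.single (fun i => n - 1 - b i) 1 else 0

theorem coeffMap_monomial (n : ℕ) (b : Fin r →₀ ℕ) (c : B) :
    coeffMap B r n (monomial b c) = if ∀ i, b i < n then Finsupp.single (fun i => n - 1 - b i) c else 0 := by
  rw [show monomial b c = c • MvPolynomial.basisMonomials (Fin r) B b by simp [smul_monomial], map_smul, coeffMap,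
    Module.Basis.constr_basis]
  split <;> simp

theorem coeffMap_eq_zero_iff (n : ℕ) (x : MvPolynomial (Fin r) B) :
    coeffMap B r n x = 0 ↔ x ∈ Ideal.ofList ((vars B r).map (· ^ n)) := by
  classical
  have hi : Ideal.ofList ((vars B r).map (· ^ n)) = Ideal.ofList ((List.finRange r).map fun j => (X j : MvPolynomial (Fin r) B) ^ n) := by
    rw [vars, List.ofFn_eq_map, List.map_map]; rfl
  rw [hi, mem_span_pow_iff]
  constructor
  · intro h e he
    by_contra hne
    have hlt : ∀ i, e i < n := fun i => by
      by_contra hi'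
      exact hne ⟨i, List.mem_finRange i, not_lt.1 hi'⟩
    have h1 := DFunLike.congr_fun h (fun i => n - 1 - e i)
    rw [x.as_sum, map_sum, Finsupp.finsetSum_apply, Finset.sum_eq_single e] at h1
    · rw [coeffMap_monomial, if_pos hlt, Finsupp.single_eq_same] at h1
      exact mem_support_iff.1 he h1
    · intro b hb hbe
      rw [coeffMap_monomial]
      split_ifs with hb'
      · refine Finsupp.single_eq_of_ne fun hc => hbe ?_
        ext i
        have := congrFun hc i
        have := hb' i
        have := hlt i
        omega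
      · rfl
    · exact fun h' => absurd he h'
  · intro h
    rw [x.as_sum, map_sum]
    refine Finset.sum_eq_zero fun e he => ?_
    obtain ⟨i, -, hi'⟩ := h e he
    rw [coeffMap_monomial, if_neg fun h' => absurd (h' i) (not_lt.2 hi')]

theorem coeffMap_shift (n m : ℕ) (h : n ≤ m) (x : MvPolynomial (Fin r) B) :
    coeffMap B r m ((vars B r).prod ^ (m - n) * x) = coeffMap B r n x := by
  induction x using MvPolynomial.induction_on' with
  | add p q hp hq => rw [mul_add, map_add, map_add, hp, hq]
  | monomial b c =>
    have hp : (vars B r).prod ^ (m - n) = monomial (Finsupp.equivFunOnFinite.symm fun _ => m - n) (1 : B) := by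
      rw [List.prod_ofFn, ← Finset.prod_pow]
      simp only [X_pow_eq_monomial]
      rw [← monomial_sum_one]
      congr 2
      ext i
      rw [Finsupp.finsetSum_apply, Finset.sum_eq_single i]
      · simp
      · intro j _ hj; simp [hj]
      · simp
    rw [hp, monomial_mul, one_mul, coeffMap_monomial, coeffMap_monomial]
    simp only [Finsupp.add_apply, Finsupp.equivFunOnFinite_symm_apply_apply]
    by_cases hb : ∀ i, b i < n
    · rw [if_pos hb, if_pos fun i => by have := hb i; omega]
      congr 1
      funext i
      have := hb i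
      omega
    · rw [if_neg hb, if_neg fun h' => hb fun i => by have := h' i; omega]

theorem free_top :
    Module.Free B (RestrictScalars B (MvPolynomial (Fin r) B)
      (koszulHLim (vars B r) (ModuleCat.of (MvPolynomial (Fin r) B) (MvPolynomial (Fin r) B)) r)) := by
  classical
  let P := MvPolynomial (Fin r) B
  let M : ModuleCat.{u} P := ModuleCat.of P P
  let fs := vars B r
  have key : ∀ i : ℤ, i = 0 → Nonempty (RestrictScalars B P
      (Module.DirectLimit (fun n : ℕ => ((koszulCx M (fs.map (· ^ n))).homology i : Type u))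
        (fun n m h => (HomologicalComplex.homologyMap (koszulTrans M n m h fs) i).hom)) ≃ₗ[B] ((Fin r → ℕ) →₀ B)) := by
    rintro _ rfl
    let L := Module.DirectLimit (fun n : ℕ => ((koszulCx M (fs.map (· ^ n))).homology 0 : Type u))
        (fun n m h => (HomologicalComplex.homologyMap (koszulTrans M n m h fs) 0).hom)
    have hker : ∀ n (x : P), topπ M (fs.map (· ^ n)) x = 0 ↔ coeffMap B r n x = 0 := fun n x => by
      rw [coeffMap_eq_zero_iff, ← LinearMap.mem_ker, ker_topπ]
      show x ∈ Ideal.ofList (fs.map (· ^ n)) • (⊤ : Ideal P) ↔ _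
      rw [smul_eq_mul, Ideal.mul_top]
    choose s hs using fun n => topπ_surjective M (fs.map (· ^ n))
    have hwd : ∀ n (x : P), coeffMap B r n (s n (topπ M (fs.map (· ^ n)) x)) = coeffMap B r n x := fun n x => by
      rw [← sub_eq_zero, ← map_sub, ← hker, map_sub, hs, sub_self]
    let g : ∀ n, ((koszulCx M (fs.map (· ^ n))).homology 0 : Type u) →+ ((Fin r → ℕ) →₀ B) := fun n =>
      AddMonoidHom.mk' (fun a => coeffMap B r n (s n a)) fun a b => by
        obtain ⟨x, rfl⟩ := topπ_surjective M _ a
        obtain ⟨y, rfl⟩ := topπ_surjective M _ b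
        rw [← map_add, hwd, hwd, hwd, map_add]
    have hg : ∀ n (x : P), g n (topπ M (fs.map (· ^ n)) x) = coeffMap B r n x := hwd
    let G : L →+ ((Fin r → ℕ) →₀ B) := liftAdd g fun n m h a => by
      obtain ⟨x, rfl⟩ := topπ_surjective M _ a
      rw [topπ_trans, hg, hg, smul_eq_mul, coeffMap_shift B r n m h]
    have hG : ∀ n (x : P), G (Module.DirectLimit.of P ℕ _ _ n (topπ M (fs.map (· ^ n)) x)) = coeffMap B r n x := fun n x =>
      (liftAdd_of _ _ _ _).trans (hg n x)
    have hsm : ∀ (b : B) (z : L), G (algebraMap B P b • z) = b • G z := by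
      intro b z
      obtain ⟨n, a, rfl⟩ := Module.DirectLimit.exists_of z
      obtain ⟨x, rfl⟩ := topπ_surjective M _ a
      rw [← map_smul, ← map_smul, hG, hG, algebraMap_smul, map_smul]
    have hinj : Function.Injective G := by
      rw [injective_iff_map_eq_zero]
      intro z hz
      obtain ⟨n, a, rfl⟩ := Module.DirectLimit.exists_of z
      obtain ⟨x, rfl⟩ := topπ_surjective M _ a
      rw [hG, ← hker] at hz
      rw [hz, map_zero]
    have hsurj : Function.Surjective G := by
      intro v
      induction v using Finsupp.induction with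
      | zero => exact ⟨0, map_zero G⟩
      | single_add e c v _ _ ih =>
        obtain ⟨z, rfl⟩ := ih
        let n := Finset.univ.sup e + 1
        have hlt : ∀ i, e i < n := fun i => Nat.lt_succ_of_le (Finset.le_sup (f := e) (Finset.mem_univ i))
        refine ⟨Module.DirectLimit.of P ℕ _ _ n (topπ M (fs.map (· ^ n))
          (monomial (Finsupp.equivFunOnFinite.symm fun i => n - 1 - e i) c : P)) + z, ?_⟩
        rw [map_add, hG, coeffMap_monomial, if_pos fun i => by
          simp only [Finsupp.equivFunOnFinite_symm_apply_apply]; have := hlt i; omega]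
        congr 2
        funext i
        simp only [Finsupp.equivFunOnFinite_symm_apply_apply]
        have := hlt i
        omega
    let H : RestrictScalars B P L →ₗ[B] ((Fin r → ℕ) →₀ B) :=
      { toFun := fun z => G (RestrictScalars.addEquiv B P L z)
        map_add' := fun a b => by simp
        map_smul' := fun b z => by simp [RestrictScalars.addEquiv_map_smul, hsm] }
    exact ⟨LinearEquiv.ofBijective H
      ⟨hinj.comp (RestrictScalars.addEquiv B P L).injective, hsurj.comp (RestrictScalars.addEquiv B P L).surjective⟩⟩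
  obtain ⟨e⟩ := key ((r : ℤ) - fs.length) (by simp [fs])
  exact Module.Free.of_equiv e.symm

end Poly

end Groth.Agent.Misc15.Koszul
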