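import Groth.Agent.Misc15.KoszulCone
import Mathlib.RingTheory.Regular.RegularSequence

/-! Elementary properties of Koszul complexes: homotopies, top degree, regular sequences. -/

set_option autoImplicit false
set_option backward.isDefEq.respectTransparency false
set_option backward.isDefEq.respectTransparency.types false
universe u

open CategoryTheory CategoryTheory.Limits CochainComplex
open scoped Pointwise

namespace Groth.Agent.Misc15.Koszul

open CohIII (koszulCx)

variable {A : Type u} [CommRing A]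

theorem kMap_smul_id (a : A) (M : ModuleCat.{u} A) : ∀ (fs : List A) (i : ℤ) (x : (koszulCx M fs).X i),
    ((kMap (ModuleCat.ofHom (a • LinearMap.id : M →ₗ[A] M)) fs).f i).hom x = a • x
  | [], i, x => by
      by_cases hi : i = 0
      · subst hi
        apply (bot0 M).injective
        rw [bot0_kMap, map_smul]
        rfl
      · have := subsingleton_X M [] i (by simp; omega)
        exact Subsingleton.elim _ _
  | f :: fs, i, x => by
      refine cone_ext _ (i + 1) rfl ?_ ?_
      · erw [cfst_map]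
        rw [kMap_smul_id a M fs, cfst_smul]
      · erw [csnd_map]
        rw [kMap_smul_id a M fs, csnd_smul]

/-- null homotopy predicate, elementwise -/
def NullHtpy (K : CochainComplex (ModuleCat.{u} A) ℤ) (c : A) : Prop :=
  ∃ h : ∀ i j : ℤ, j + 1 = i → (K.X i →ₗ[A] K.X j),
    ∀ (i j k : ℤ) (hij : i + 1 = j) (hjk : j + 1 = k) (x : K.X j),
      (K.d i j).hom (h j i hij x) + h k j hjk ((K.d j k).hom x) = c • x

theorem NullHtpy.zero (K : CochainComplex (ModuleCat.{u} A) ℤ) : NullHtpy K (0 : A) :=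
  ⟨fun _ _ _ => 0, fun i j k hij hjk x => by simp⟩

theorem NullHtpy.add {K : CochainComplex (ModuleCat.{u} A) ℤ} {a b : A} (ha : NullHtpy K a) (hb : NullHtpy K b) :
    NullHtpy K (a + b) := by
  obtain ⟨h, hh⟩ := ha
  obtain ⟨g, hg⟩ := hb
  refine ⟨fun i j hij => h i j hij + g i j hij, fun i j k hij hjk x => ?_⟩
  simp only [LinearMap.add_apply, map_add, add_smul, ← hh i j k hij hjk x, ← hg i j k hij hjk x]
  abel

theorem NullHtpy.smul {K : CochainComplex (ModuleCat.{u} A) ℤ} (r : A) {a : A} (ha : NullHtpy K a) :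
    NullHtpy K (r • a) := by
  obtain ⟨h, hh⟩ := ha
  refine ⟨fun i j hij => r • h i j hij, fun i j k hij hjk x => ?_⟩
  simp only [LinearMap.smul_apply, map_smul, ← smul_add, hh i j k hij hjk x, smul_eq_mul, mul_smul]

section Cone

variable {K : CochainComplex (ModuleCat.{u} A) ℤ} (f : A)

theorem nullHtpy_cone_self : NullHtpy (mappingCone (f • 𝟙 K)) f := by
  refine ⟨fun i j hji => {
    toFun := fun x => cmk _ i hji (csnd _ x) 0
    map_add' := fun x y => cone_ext _ i hji (by simp [cfst_cmk, cfst_add, csnd_add]) (by simp [csnd_cmk, csnd_add])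
    map_smul' := fun r x => cone_ext _ i hji (by simp [cfst_cmk, cfst_smul, csnd_smul]) (by simp [csnd_cmk, csnd_smul]) },
    fun i j k hij hjk x => ?_⟩
  subst hij hjk
  refine cone_ext _ (i + 1 + 1) rfl ?_ ?_
  · simp only [LinearMap.coe_mk, AddHom.coe_mk]
    rw [cfst_add, cfst_d _ (i + 1) (i + 1 + 1) rfl rfl, cfst_cmk, cfst_cmk, csnd_d _ (i + 1 + 1) rfl, cfst_smul, smul_id_f]
    abel
  · simp only [LinearMap.coe_mk, AddHom.coe_mk]
    rw [csnd_add, csnd_d _ (i + 1) rfl, cfst_cmk, csnd_cmk, csnd_cmk, csnd_smul, smul_id_f, map_zero, add_zero, add_zero]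

theorem nullHtpy_cone {c : A} (hc : NullHtpy K c) : NullHtpy (mappingCone (f • 𝟙 K)) c := by
  obtain ⟨h, hh⟩ := hc
  refine ⟨fun i j hji => {
    toFun := fun x => cmk _ i hji (- h (i + 1) i rfl (cfst _ (i + 1) rfl x)) (h i j hji (csnd _ x))
    map_add' := fun x y => cone_ext _ i hji (by simp [cfst_cmk, cfst_add]; abel) (by simp [csnd_cmk, csnd_add])
    map_smul' := fun r x => cone_ext _ i hji (by simp [cfst_cmk, cfst_smul]) (by simp [csnd_cmk, csnd_smul]) },
    fun i j k hij hjk x => ?_⟩
  subst hij hjk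
  refine cone_ext _ (i + 1 + 1) rfl ?_ ?_
  · simp only [LinearMap.coe_mk, AddHom.coe_mk]
    rw [cfst_add, cfst_d _ (i + 1) (i + 1 + 1) rfl rfl, cfst_cmk, cfst_cmk,
      cfst_d _ (i + 1 + 1) (i + 1 + 1 + 1) rfl rfl, cfst_smul, map_neg, map_neg, neg_neg, neg_neg]
    exact hh (i + 1) (i + 1 + 1) (i + 1 + 1 + 1) rfl rfl _
  · simp only [LinearMap.coe_mk, AddHom.coe_mk]
    rw [csnd_add, csnd_d _ (i + 1) rfl, cfst_cmk, csnd_cmk, csnd_cmk, csnd_d _ (i + 1 + 1) rfl, csnd_smul, smul_id_f,
      smul_id_f, map_add, map_smul, smul_neg,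
      ← hh i (i + 1) (i + 1 + 1) rfl rfl (csnd _ x)]
    abel

end Cone

theorem nullHtpy_koszul (M : ModuleCat.{u} A) : ∀ (fs : List A) (f : A), f ∈ fs → NullHtpy (koszulCx M fs) f
  | [], f, hf => absurd hf List.not_mem_nil
  | g :: fs, f, hf => by
      rcases List.mem_cons.1 hf with rfl | hf
      · exact nullHtpy_cone_self f
      · exact nullHtpy_cone g (nullHtpy_koszul M fs f hf)

theorem nullHtpy_of_mem_span (M : ModuleCat.{u} A) (fs : List A) {a : A} (ha : a ∈ Ideal.span {x | x ∈ fs}) :
    NullHtpy (koszulCx M fs) a := by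
  induction ha using Submodule.span_induction with
  | mem x hx => exact nullHtpy_koszul M fs x hx
  | zero => exact NullHtpy.zero _
  | add x y _ _ hx hy => exact hx.add hy
  | smul r x _ hx => exact hx.smul r

theorem NullHtpy.nonempty_homotopy {K : CochainComplex (ModuleCat.{u} A) ℤ} {c : A} (hc : NullHtpy K c) :
    Nonempty (Homotopy (c • 𝟙 K) 0) := by
  obtain ⟨h, hh⟩ := hc
  let H : ∀ i j : ℤ, (ComplexShape.up ℤ).Rel j i → (K.X i ⟶ K.X j) := fun i j r => ModuleCat.ofHom (h i j r)
  have e : Homotopy.nullHomotopicMap' H = c • 𝟙 K := by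
    ext j x
    have r₁ : (ComplexShape.up ℤ).Rel (j - 1) j := show j - 1 + 1 = j by ring
    have r₂ : (ComplexShape.up ℤ).Rel j (j + 1) := rfl
    rw [Homotopy.nullHomotopicMap'_f r₁ r₂]
    simp only [ModuleCat.hom_add, LinearMap.add_apply, ModuleCat.hom_comp, LinearMap.comp_apply]
    rw [show ((c • 𝟙 K : K ⟶ K).f j).hom x = c • x from smul_id_f c j x, ← hh (j - 1) j (j + 1) r₁ r₂ x, add_comm]
    rfl
  exact ⟨e ▸ Homotopy.nullHomotopy' H⟩

/-- the top term is the module -/
noncomputable def top (M : ModuleCat.{u} A) : ∀ fs : List A, (koszulCx M fs).X 0 ≃ₗ[A] M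
  | [] => bot0 M
  | f :: fs =>
      have hsub : Subsingleton ((koszulCx M fs).X (0 + 1)) := subsingleton_X M fs _ (by omega)
      LinearEquiv.ofBijective ((top M fs).toLinearMap.comp ((mappingCone.snd (f • 𝟙 (koszulCx M fs))).v 0 0 (add_zero 0)).hom)
        ⟨fun x y hxy => cone_ext _ (0 + 1) rfl (Subsingleton.elim _ _) ((top M fs).injective hxy),
          fun m => ⟨cmk _ (0 + 1) rfl 0 ((top M fs).symm m), by
            show top M fs (csnd _ (cmk _ (0 + 1) rfl _ _)) = m
            rw [csnd_cmk, LinearEquiv.apply_symm_apply]⟩⟩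

theorem top_cons (M : ModuleCat.{u} A) (f : A) (fs : List A) (x : (koszulCx M (f :: fs)).X 0) :
    top M (f :: fs) x = top M fs (csnd _ x) := rfl

theorem range_top_d (M : ModuleCat.{u} A) : ∀ (fs : List A) (i : ℤ) (_ : i + 1 = 0),
    LinearMap.range ((top M fs).toLinearMap.comp ((koszulCx M fs).d i 0).hom) = Ideal.ofList fs • (⊤ : Submodule A M)
  | [], i, hi => by
      have := subsingleton_X M [] i (by simp; omega)
      rw [Ideal.ofList_nil, Submodule.bot_smul, LinearMap.range_eq_bot]
      ext x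
      rw [Subsingleton.elim x 0, map_zero, map_zero]
  | f :: fs, i, hi => by
      rw [Ideal.ofList_cons, Submodule.sup_smul, ← range_top_d M fs i hi, Submodule.ideal_span_singleton_smul]
      ext m
      simp only [LinearMap.mem_range, Submodule.mem_sup, LinearMap.comp_apply, LinearEquiv.coe_coe]
      constructor
      · rintro ⟨x, rfl⟩
        refine ⟨f • top M fs (cfst _ 0 hi x), Submodule.smul_mem_pointwise_smul _ f ⊤ trivial, _, ⟨csnd _ x, rfl⟩, ?_⟩
        rw [top_cons]
        erw [csnd_d _ 0 hi]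
        rw [smul_id_f, map_add, map_smul]
      · rintro ⟨y, hy, z, ⟨b, rfl⟩, rfl⟩
        obtain ⟨m', -, rfl⟩ := hy
        refine ⟨cmk _ 0 hi ((top M fs).symm m') b, ?_⟩
        rw [top_cons]
        erw [csnd_d _ 0 hi, cfst_cmk, csnd_cmk]
        rw [smul_id_f, map_add, map_smul, LinearEquiv.apply_symm_apply]
        rfl

theorem exact_of_regular : ∀ (fs : List A) (M : ModuleCat.{u} A), RingTheory.Sequence.IsWeaklyRegular M fs →
    ∀ (i j k : ℤ), i + 1 = j → j + 1 = k → j < 0 → ∀ z : (koszulCx M fs).X j, ((koszulCx M fs).d j k).hom z = 0 →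
      ∃ y, ((koszulCx M fs).d i j).hom y = z
  | [], M, _, i, j, k, _, _, hj, z, _ => by
      have := subsingleton_X M [] j (by simp; omega)
      exact ⟨0, Subsingleton.elim _ _⟩
  | f :: fs, M, hreg, i, j, k, hij, hjk, hj, z, hz => by
      subst hij hjk
      obtain ⟨hf, hreg'⟩ := (RingTheory.Sequence.isWeaklyRegular_cons_iff M f fs).1 hreg
      let μ : M ⟶ M := ModuleCat.ofHom (f • LinearMap.id : M →ₗ[A] M)
      let π : M ⟶ ModuleCat.of A (QuotSMulTop f M) := ModuleCat.ofHom (Submodule.mkQ _)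
      have hμ : Function.Injective μ.hom := hf
      have hμπ : Function.Exact μ.hom π.hom := by
        rw [LinearMap.exact_iff]
        ext m
        show Submodule.mkQ (f • (⊤ : Submodule A M)) m = 0 ↔ _
        rw [Submodule.mkQ_apply, Submodule.Quotient.mk_eq_zero, LinearMap.mem_range]
        exact ⟨fun ⟨m', _, e⟩ => ⟨m', e⟩, fun ⟨m', e⟩ => ⟨m', trivial, e⟩⟩
      have hza : ((koszulCx M fs).d (i + 1 + 1) (i + 1 + 1 + 1)).hom (cfst _ (i + 1 + 1) rfl z) = 0 := by
        have := (cfst_d (f • 𝟙 (koszulCx M fs)) (i + 1 + 1) (i + 1 + 1 + 1) rfl rfl z).symm.trans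
          ((congrArg _ hz).trans (cfst_zero _ _ _))
        exact neg_eq_zero.1 this
      have hzb : f • cfst _ (i + 1 + 1) rfl z + ((koszulCx M fs).d (i + 1) (i + 1 + 1)).hom (csnd _ z) = 0 := by
        have := (csnd_d (f • 𝟙 (koszulCx M fs)) (i + 1 + 1) rfl z).symm.trans ((congrArg _ hz).trans (csnd_zero _))
        rwa [smul_id_f] at this
      -- the image of the second component is a cycle over the quotient
      have hcyc : ((koszulCx _ fs).d (i + 1) (i + 1 + 1)).hom (((kMap π fs).f (i + 1)).hom (csnd _ z)) = 0 := by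
        have := congrArg (fun g => g.hom (csnd _ z)) ((kMap π fs).comm (i + 1) (i + 1 + 1))
        simp only [ModuleCat.hom_comp, LinearMap.comp_apply] at this
        rw [this, eq_neg_of_add_eq_zero_right hzb, map_neg, ← kMap_smul_id f M fs,
          (kMap_exact μ π hμπ fs _).apply_apply_eq_zero, neg_zero]
      obtain ⟨c', hc'⟩ := exact_of_regular fs (ModuleCat.of A (QuotSMulTop f M)) hreg' i (i + 1) (i + 1 + 1) rfl rfl hj _ hcyc
      obtain ⟨c, rfl⟩ := kMap_surjective π (Submodule.mkQ_surjective _) fs i c'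
      have hc2 : ((kMap π fs).f (i + 1)).hom (csnd _ z - ((koszulCx M fs).d i (i + 1)).hom c) = 0 := by
        have := congrArg (fun g => g.hom c) ((kMap π fs).comm i (i + 1))
        simp only [ModuleCat.hom_comp, LinearMap.comp_apply] at this
        rw [map_sub, ← this, hc', sub_self]
      obtain ⟨e, he⟩ := (kMap_exact μ π hμπ fs (i + 1) _).1 hc2
      rw [kMap_smul_id f M fs] at he
      have hde : cfst _ (i + 1 + 1) rfl z = - ((koszulCx M fs).d (i + 1) (i + 1 + 1)).hom e := by
        apply kMap_injective μ hμ fs (i + 1 + 1)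
        rw [kMap_smul_id f M fs, kMap_smul_id f M fs, eq_neg_of_add_eq_zero_left hzb, smul_neg, ← map_smul, he, map_sub,
          ← ModuleCat.comp_apply, HomologicalComplex.d_comp_d]
        simp
      refine ⟨cmk _ (i + 1) rfl e c, cone_ext _ (i + 1 + 1) rfl ?_ ?_⟩
      · erw [cfst_d _ (i + 1) (i + 1 + 1) rfl rfl, cfst_cmk]
        exact hde.symm
      · erw [csnd_d _ (i + 1) rfl, cfst_cmk, csnd_cmk]
        rw [smul_id_f, he, sub_add_cancel]

end Groth.Agent.Misc15.Koszul

namespace Groth.Agent.Misc15.Koszul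

open CohIII (koszulCx koszulH)

variable {A : Type u} [CommRing A]

theorem exactAt_of_subsingleton (M : ModuleCat.{u} A) (fs : List A) (i : ℤ) (h : i < -(fs.length : ℤ) ∨ 0 < i) :
    (koszulCx M fs).ExactAt i :=
  have := subsingleton_X M fs i h
  HomologicalComplex.ExactAt.of_isZero (ModuleCat.isZero_of_subsingleton _)

theorem isZero_koszulH_of_regular (fs : List A) (M : ModuleCat.{u} A)
    (hreg : RingTheory.Sequence.IsWeaklyRegular M fs) (p : ℕ) (hp : p ≠ fs.length) : IsZero (koszulH fs M p) := by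
  refine HomologicalComplex.ExactAt.isZero_homology ?_
  rcases lt_or_gt_of_ne hp with h | h
  · rw [HomologicalComplex.exactAt_iff' _ (((p : ℤ) - fs.length) - 1) _ (((p : ℤ) - fs.length) + 1)
      (CochainComplex.prev _ _) (CochainComplex.next _ _), ShortComplex.moduleCat_exact_iff]
    intro z hz
    exact exact_of_regular fs M hreg _ _ _ (by omega) rfl (by omega) z hz
  · exact exactAt_of_subsingleton M fs _ (by omega)

theorem isZero_koszulH_of_mem (fs : List A) (hfs : (1 : A) ∈ Ideal.span {x | x ∈ fs}) (M : ModuleCat.{u} A) (p : ℕ) :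
    IsZero (koszulH fs M p) := by
  obtain ⟨h⟩ := (nullHtpy_of_mem_span M fs hfs).nonempty_homotopy
  have e := h.homologyMap_eq ((p : ℤ) - fs.length)
  rw [one_smul, HomologicalComplex.homologyMap_id, HomologicalComplex.homologyMap_zero] at e
  exact (IsZero.iff_id_eq_zero _).2 e

theorem nonempty_top (fs : List A) (M : ModuleCat.{u} A) :
    Nonempty (↑(koszulH fs M fs.length) ≃ₗ[A] (M ⧸ (Ideal.ofList fs • (⊤ : Submodule A M)))) := by
  have h0 : ((fs.length : ℕ) : ℤ) - fs.length = 0 := sub_self _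
  have key : ∀ i : ℤ, i = 0 → Nonempty (((koszulCx M fs).homology i : Type u) ≃ₗ[A] (M ⧸ (Ideal.ofList fs • (⊤ : Submodule A M)))) := by
    rintro _ rfl
    let K := koszulCx M fs
    have hd : K.d 0 (0 + 1) = 0 := by
      have := subsingleton_X M fs (0 + 1) (by omega)
      exact (ModuleCat.isZero_of_subsingleton _).eq_of_tgt _ _
    have : IsIso (K.iCycles 0) := K.isIso_iCycles 0 (0 + 1) (CochainComplex.next _ _) hd
    let q : M →ₗ[A] (K.homology 0 : ModuleCat.{u} A) := (inv (K.iCycles 0) ≫ K.homologyπ 0).hom.comp (top M fs).symm.toLinearMap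
    have hq : Function.Surjective q := by
      have : Epi (inv (K.iCycles 0) ≫ K.homologyπ 0) := inferInstance
      exact ((ModuleCat.epi_iff_surjective _).1 this).comp (top M fs).symm.surjective
    have hker : LinearMap.ker q = Ideal.ofList fs • (⊤ : Submodule A M) := by
      rw [← range_top_d M fs (-1) (by norm_num)]
      have hex : (ShortComplex.mk (K.toCycles (-1) 0) (K.homologyπ 0) (HomologicalComplex.toCycles_comp_homologyπ _ _ _)).Exact :=
        ShortComplex.exact_of_g_is_cokernel _ (K.homologyIsCokernel (-1) 0 (CochainComplex.prev _ _))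
      ext m
      constructor
      · intro hm
        obtain ⟨y, hy⟩ := (ShortComplex.moduleCat_exact_iff _).1 hex ((inv (K.iCycles 0)).hom ((top M fs).symm m)) hm
        refine ⟨y, ?_⟩
        have h3 := congrArg (fun z => top M fs ((K.iCycles 0).hom z)) hy
        simp only [← ModuleCat.comp_apply, HomologicalComplex.toCycles_i, IsIso.inv_hom_id] at h3
        exact h3.trans ((top M fs).apply_symm_apply m)
      · rintro ⟨y, rfl⟩
        show (inv (K.iCycles 0) ≫ K.homologyπ 0).hom ((top M fs).symm (top M fs ((K.d (-1) 0).hom y))) = 0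
        rw [LinearEquiv.symm_apply_apply, ← ModuleCat.comp_apply,
          show K.d (-1) 0 ≫ inv (K.iCycles 0) ≫ K.homologyπ 0 = 0 by
            rw [← K.toCycles_i (-1) 0, Category.assoc, IsIso.hom_inv_id_assoc, HomologicalComplex.toCycles_comp_homologyπ]]
        rfl
    exact ⟨((Submodule.quotEquivOfEq _ _ hker.symm).trans (LinearMap.quotKerEquivOfSurjective q hq)).symm⟩
  exact key _ h0

end Groth.Agent.Misc15.Koszul
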