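import Groth.Agent.Misc15.KoszulSheaf
import Groth.Agent.Misc15.KoszulPoly
import Groth.Agent.Misc15.KoszulBridge
import Groth.Agent.Coherent.CechQcoh
import Groth.Agent.S0464
import Groth.Prelude.Def_ega3

/-! Koszul cohomology and cohomology of the unions of principal opens of a scheme. -/

set_option autoImplicit false
set_option backward.isDefEq.respectTransparency.types false
universe u

open CategoryTheory CategoryTheory.Limits CategoryTheory.Abelian AlgebraicGeometry Opposite TopologicalSpace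

namespace Groth.Agent.Misc15.Koszul

open Groth.Agent.Coherent (resM specBasicOpen mem_iInf_opens)
open CohIII (koszulHLim koszulTrans)
open Groth.Agent.SiteCoh

/-- Koszul cohomology only depends on the isomorphism class of the module. -/
theorem nonempty_congr {A : Type u} [CommRing A] {M N : ModuleCat.{u} A} (e : M ≅ N) (fs : List A) (p : ℕ) :
    Nonempty (koszulHLim fs M p ≃ₗ[A] koszulHLim fs N p) := by
  have hb : Function.Bijective e.hom.hom := e.toLinearEquiv.bijective
  have : ∀ n, IsIso (kMap e.hom (fs.map (· ^ n))) := fun n => by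
    have : ∀ i, IsIso ((kMap e.hom (fs.map (· ^ n))).f i) := fun i => by
      rw [ConcreteCategory.isIso_iff_bijective]
      exact ⟨kMap_injective e.hom hb.1 _ i, kMap_surjective e.hom hb.2 _ i⟩
    exact HomologicalComplex.Hom.isIso_of_components _
  refine ⟨Module.DirectLimit.congr (fun n =>
    ((HomologicalComplex.homologyFunctor _ _ _).mapIso (@asIso _ _ _ _ (kMap e.hom (fs.map (· ^ n))) (this n))).toLinearEquiv) ?_⟩
  intro n m hnm
  have hc : koszulTrans M n m hnm fs ≫ kMap e.hom (fs.map (· ^ m)) =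
      kMap e.hom (fs.map (· ^ n)) ≫ koszulTrans N n m hnm fs := by
    ext i x
    exact (trans_kMap e.hom n m hnm fs i x).symm
  exact congrArg ModuleCat.Hom.hom (((HomologicalComplex.homologyMap_comp _ _ _).symm.trans
    (congrArg (fun g => HomologicalComplex.homologyMap g _) hc)).trans (HomologicalComplex.homologyMap_comp _ _ _))

/-- Čech cohomology of a pushed forward presheaf. -/
theorem nonempty_cech_comap {Y T : TopCat.{u}} (H : Opens Y ⥤ Opens T)
    (P : (Opens T)ᵒᵖ ⥤ AddCommGrpCat.{u}) {ι : Type u} (W : ι → Opens Y)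
    (hH : ∀ (q : ℕ) (a : Fin (q + 1) → ι), H.obj (Cech.inter W a) = Cech.inter (fun i => H.obj (W i)) a)
    (p : ℕ) : Nonempty ((Cech.cx (H.op ⋙ P) W).homology p ≅ (Cech.cx P (fun i => H.obj (W i))).homology p) := by
  let T' : ∀ q, (Cech.cx (H.op ⋙ P) W).X q →+ (Cech.cx P (fun i => H.obj (W i))).X q := fun q =>
    AddMonoidHom.mk' (fun x => Cech.mk P _ fun a => P.map (eqToHom (hH q a).symm).op (Cech.ev (H.op ⋙ P) W a x))
      fun x y => Cech.ext _ _ fun a => by simp [Cech.ev_mk, map_add]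
  have hT : ∀ q x, T' (q + 1) ((Cech.cx (H.op ⋙ P) W).d q (q + 1) x) =
      (Cech.cx P (fun i => H.obj (W i))).d q (q + 1) (T' q x) := by
    intro q x
    refine Cech.ext _ _ fun a => ?_
    simp only [T', AddMonoidHom.mk'_apply]
    rw [Cech.ev_mk, Cech.ev_d, Cech.ev_d, map_sum]
    refine Finset.sum_congr rfl fun j _ => ?_
    rw [map_zsmul, Cech.ev_mk]
    refine congrArg (fun z => (-1 : ℤ) ^ (j : ℕ) • z) ?_
    change P.map _ (P.map (H.map (Cech.face W a j)).op _) = P.map _ (P.map _ _)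
    rw [← ConcreteCategory.comp_apply, ← P.map_comp, ← op_comp, ← ConcreteCategory.comp_apply,
      ← P.map_comp, ← op_comp]
    exact congrArg (fun m => P.map (Quiver.Hom.op m) _) (Subsingleton.elim _ _)
  have hbij : ∀ q, Function.Bijective (T' q) := fun q => by
    refine ⟨fun x y hxy => ?_, fun y => ⟨Cech.mk _ W fun a => P.map (eqToHom (hH q a)).op (Cech.ev P _ a y), ?_⟩⟩
    · refine Cech.ext _ _ fun a => ?_
      have := congrArg (Cech.ev P _ a) hxy
      simp only [T', AddMonoidHom.mk'_apply] at this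
      rw [Cech.ev_mk, Cech.ev_mk] at this
      exact (AddCommGrpCat.mono_iff_injective (P.map (eqToHom (hH q a).symm).op)).1 inferInstance this
    · refine Cech.ext _ _ fun a => ?_
      simp only [T', AddMonoidHom.mk'_apply]
      rw [Cech.ev_mk, Cech.ev_mk, ← ConcreteCategory.comp_apply, ← P.map_comp, ← op_comp, eqToHom_trans,
        eqToHom_refl, op_id, P.map_id, ConcreteCategory.id_apply]
  refine ⟨(HomologicalComplex.homologyFunctor _ _ p).mapIso (HomologicalComplex.Hom.isoOfComponents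
    (fun q => AddEquiv.toAddCommGrpIso (AddEquiv.ofBijective (T' q) (hbij q))) ?_)⟩
  rintro i j rfl
  ext x
  exact (hT i x).symm

variable (X : Scheme.{u})

/-- the polynomial ring mapping to the given functions -/
noncomputable def polyMap (fs : List Γ(X, ⊤)) : MvPolynomial (Fin fs.length) (ULift.{u} ℤ) →+* Γ(X, ⊤) :=
  MvPolynomial.eval₂Hom ((Int.castRingHom _).comp ULift.ringEquiv.toRingHom) fs.get

theorem map_polyMap (fs : List Γ(X, ⊤)) :
    (List.ofFn fun i : Fin fs.length => (MvPolynomial.X i : MvPolynomial (Fin fs.length) (ULift.{u} ℤ))).map (polyMap X fs) = fs := by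
  rw [List.map_ofFn]
  refine (List.ofFn_inj.2 (funext fun i => ?_)).trans (List.ofFn_get fs)
  simp [polyMap]

variable {X} {R : CommRingCat.{u}} (φ : R ⟶ Γ(X, ⊤))

/-- the morphism to the spectrum -/
noncomputable def toSpec : X ⟶ Spec R := X.toSpecΓ ≫ Spec.map φ

theorem toSpec_preimage_D (t : R) : toSpec φ ⁻¹ᵁ specBasicOpen t = X.basicOpen (φ.hom t) := by
  rw [toSpec, Scheme.Hom.comp_preimage]
  exact X.toSpecΓ_preimage_basicOpen (φ.hom t)

theorem toSpec_appTop (r : R) : (toSpec φ).appTop ((Scheme.ΓSpecIso R).inv r) = φ r := by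
  have h : (Scheme.ΓSpecIso R).inv ≫ (toSpec φ).appTop = φ := by
    rw [toSpec, Scheme.Hom.comp_appTop, Scheme.toSpecΓ_appTop, ← Category.assoc,
      ← Scheme.ΓSpecIso_inv_naturality, Category.assoc, Iso.inv_hom_id, Category.comp_id]
  exact ConcreteCategory.congr_hom h r

theorem mem_unionD (ts : List R) (x : Spec R) : x ∈ unionD ts ↔ ∃ t ∈ ts, x ∈ specBasicOpen t := by
  rw [unionD, Opens.mem_iSup]
  exact ⟨fun ⟨i, hi⟩ => ⟨_, List.get_mem ts i, hi⟩, fun ⟨t, ht, hx⟩ => by
    obtain ⟨i, rfl⟩ := List.get_of_mem ht; exact ⟨i, hx⟩⟩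

theorem toSpec_preimage_unionD (ts : List R) (fs : List Γ(X, ⊤)) (h : ts.map φ.hom = fs) :
    toSpec φ ⁻¹ᵁ unionD ts = ⨆ i : Fin fs.length, X.basicOpen (fs.get i) := by
  ext x
  simp only [SetLike.mem_coe, Opens.mem_iSup]
  show (toSpec φ).base x ∈ unionD ts ↔ _
  rw [mem_unionD]
  constructor
  · rintro ⟨t, ht, hx⟩
    have ht' : φ.hom t ∈ fs := by rw [← h]; exact List.mem_map_of_mem (f := φ.hom) ht
    obtain ⟨i, hi⟩ := List.get_of_mem ht'
    refine ⟨i, ?_⟩
    rw [hi]
    exact (toSpec_preimage_D φ t).le hx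
  · rintro ⟨i, hi⟩
    have hm : fs.get i ∈ ts.map φ.hom := by rw [h]; exact List.get_mem fs i
    obtain ⟨t, ht, e⟩ := List.mem_map.1 hm
    rw [← e] at hi
    exact ⟨t, ht, (toSpec_preimage_D φ t).ge hi⟩

variable [CompactSpace X] [X.IsSeparated]

theorem isQCoh_push_toSpec (F : X.Modules) [Coh.IsQCoh F] : Coh.IsQCoh ((Coh.push (toSpec φ)).obj F) :=
  have : QuasiCompact (toSpec φ) := inferInstance
  Coherent.isQCoh_push _ F

set_option backward.isDefEq.respectTransparency false in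
/-- global sections of the pushforward as a module -/
noncomputable def globalIso (F : X.Modules) :
    ((modulesSpecToSheaf.obj ((Coh.push (toSpec φ)).obj F)).presheaf.obj (op ⊤)) ≅
      res φ.hom (ModuleCat.of Γ(X, ⊤) (F.val.obj (op ⊤))) :=
  LinearEquiv.toModuleIso
    (X₁ := (modulesSpecToSheaf.obj ((Coh.push (toSpec φ)).obj F)).presheaf.obj (op ⊤))
    (X₂ := res φ.hom (ModuleCat.of Γ(X, ⊤) (F.val.obj (op ⊤))))
    { __ := AddEquiv.refl _
      map_smul' := fun r m => by
        show (toSpec φ).appTop (((Spec R).presheaf.map (homOfLE le_top).op) ((Scheme.ΓSpecIso R).inv r)) • (show Γ(F, ⊤) from m) =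
          φ.hom r • (show Γ(F, ⊤) from m)
        rw [← toSpec_appTop φ r, show (homOfLE (le_top (a := (⊤ : (Spec R).Opens)))) = 𝟙 _ from Subsingleton.elim _ _,
          op_id, CategoryTheory.Functor.map_id]
        rfl }

omit [CompactSpace X] in
/-- finite intersections of affine opens on a separated scheme -/
theorem isAffineOpen_iInf_fin {Y : Scheme.{u}} [Y.IsSeparated] :
    ∀ (p : ℕ) (V : Fin (p + 1) → Y.Opens), (∀ k, IsAffineOpen (V k)) → IsAffineOpen (⨅ k, V k)
  | 0, V, h => by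
      convert h 0 using 1
      ext z
      simp only [SetLike.mem_coe, mem_iInf_opens]
      exact ⟨fun h => h 0, fun h k => (show k = 0 from Fin.fin_one_eq_zero k) ▸ h⟩
  | p + 1, V, h => by
      have e : (⨅ k, V k) = V 0 ⊓ ⨅ k : Fin (p + 1), V k.succ := by
        ext z
        simp only [SetLike.mem_coe, mem_iInf_opens, Opens.mem_inf, Fin.forall_fin_succ (P := fun k => z ∈ V k)]
      rw [e]
      exact (h 0).inf (isAffineOpen_iInf_fin p _ fun k => h k.succ)

/-- the comparison of the abelian sheaves `Ñ ≅ g_* F` -/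
noncomputable def pushIso (F : X.Modules) [Coh.IsQCoh F] :
    tilde ((modulesSpecToSheaf.obj ((Coh.push (toSpec φ)).obj F)).presheaf.obj (op ⊤)) ≅
      (Coh.push (toSpec φ)).obj F :=
  have := isQCoh_push_toSpec φ F
  have : IsIso ((Coh.push (toSpec φ)).obj F).fromTildeΓ := (isQuasicoherent_iff_isIso_fromTildeΓ _).1 inferInstance
  asIso ((Coh.push (toSpec φ)).obj F).fromTildeΓ

variable [IsNoetherianRing R]

theorem nonempty_two (ts : List R) (hreg : RegPow ts) (fs : List Γ(X, ⊤)) (h : ts.map φ.hom = fs)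
    (F : X.Modules) [Coh.IsQCoh F] (U : X.Opens) (hU : toSpec φ ⁻¹ᵁ unionD ts = U) :
    Nonempty (((Coh.toAb F).obj.map (homOfLE (le_top : U ≤ ⊤)).op).hom.ker ≃+
        koszulHLim fs (ModuleCat.of Γ(X, ⊤) (F.val.obj (op ⊤))) 0) ∧
      Nonempty (↑((Coh.toAb F).obj.obj (op U)) ⧸ ((Coh.toAb F).obj.map (homOfLE (le_top : U ≤ ⊤)).op).hom.range ≃+
        koszulHLim fs (ModuleCat.of Γ(X, ⊤) (F.val.obj (op ⊤))) 1) := by
  subst h hU
  let G := (Coh.push (toSpec φ)).obj F
  let N : ModuleCat.{u} R := (modulesSpecToSheaf.obj G).presheaf.obj (op ⊤)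
  let V := unionD ts
  let c := (Coherent.toAbFunctor (Spec R)).map (pushIso φ F).hom
  have hc : IsIso (c.hom.app (op V)) := inferInstance
  let e : Γ(tilde N, V) ≃+ Γ(G, V) := (asIso (c.hom.app (op V))).addCommGroupIsoToAddEquiv
  have he : ∀ n : N, e (rho N V n) = resM G (le_top : V ≤ ⊤) n := fun n =>
    ConcreteCategory.congr_hom (G.toOpen_fromTildeΓ_app V) n
  obtain ⟨b0⟩ := nonempty_bridge φ.hom (ModuleCat.of Γ(X, ⊤) (F.val.obj (op ⊤))) ts 0
  obtain ⟨g0⟩ := nonempty_congr (globalIso φ F) ts 0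
  obtain ⟨b1⟩ := nonempty_bridge φ.hom (ModuleCat.of Γ(X, ⊤) (F.val.obj (op ⊤))) ts 1
  obtain ⟨g1⟩ := nonempty_congr (globalIso φ F) ts 1
  obtain ⟨k1⟩ := nonempty_coker ts hreg N
  let k0 : koszulHLim ts N 0 ≃+ (tor ts N).toAddSubgroup :=
    (LinearEquiv.ofBijective _ (limZero_bijective ts N)).toAddEquiv
  constructor
  · refine ⟨(AddEquiv.addSubgroupCongr ?_).trans ((k0.symm.trans g0.toAddEquiv).trans b0.symm)⟩
    ext n
    show resM G (le_top : V ≤ ⊤) (show N from n) = 0 ↔ (show N from n) ∈ tor ts N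
    rw [← he, AddEquiv.map_eq_zero_iff, rho_eq_zero_iff]
  · refine ⟨(QuotientAddGroup.congr _ _ e ?_).symm.trans ((k1.trans g1.toAddEquiv).trans b1.symm)⟩
    ext y
    constructor
    · rintro ⟨_, ⟨n, rfl⟩, rfl⟩
      exact ⟨n, (he n).symm⟩
    · rintro ⟨n, rfl⟩
      exact ⟨rho N V n, ⟨n, rfl⟩, he n⟩

/-- Čech cohomology of the family of principal opens. -/
theorem nonempty_cechH (ts : List R) (hreg : RegPow ts) (F : X.Modules) [Coh.IsQCoh F]
    {ι : Type u} (t : ι → R) (ht : ∀ a, a ∈ ts ↔ ∃ i, t i = a) (q : ℕ) :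
    Nonempty (↑(CohB1.cechH (fun i => X.basicOpen (φ.hom (t i))) F (q + 1)) ≃+
      koszulHLim ts (res φ.hom (ModuleCat.of Γ(X, ⊤) (F.val.obj (op ⊤)))) (q + 1 + 1)) := by
  let G := (Coh.push (toSpec φ)).obj F
  let N : ModuleCat.{u} R := (modulesSpecToSheaf.obj G).presheaf.obj (op ⊤)
  let W : ι → (Spec R).Opens := fun i => specBasicOpen (t i)
  have hsup : iSup W = unionD ts := by
    ext x
    simp only [SetLike.mem_coe, Opens.mem_iSup, mem_unionD, ht]
    exact ⟨fun ⟨i, hi⟩ => ⟨_, ⟨i, rfl⟩, hi⟩, fun ⟨_, ⟨i, e⟩, hx⟩ => ⟨i, by rw [← e] at hx; exact hx⟩⟩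
  have hW : (fun i => X.basicOpen (φ.hom (t i))) = fun i => toSpec φ ⁻¹ᵁ W i :=
    funext fun i => (toSpec_preimage_D φ (t i)).symm
  obtain ⟨i₁⟩ := nonempty_cech_comap (Y := (Spec R).toTopCat) (T := X.toTopCat) (Opens.map (toSpec φ).base)
    F.presheaf W (fun p a => by
      rw [inter_eq_iInf, inter_eq_iInf]
      ext z
      simp only [SetLike.mem_coe, mem_iInf_opens]
      show (toSpec φ).base z ∈ (⨅ k, W (a k)) ↔ _
      rw [mem_iInf_opens]
      rfl) (q + 1)
  let i₂ := (HomologicalComplex.homologyFunctor AddCommGrpCat.{u} (ComplexShape.up ℕ) (q + 1)).mapIso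
    ((cechComplexFunctor W).mapIso
      ((sheafToPresheaf _ _).mapIso ((Coherent.toAbFunctor (Spec R)).mapIso (pushIso φ F))))
  obtain ⟨e₃⟩ := Groth.Agent.S0464.result (X := (Spec R).toTopCat) (Coh.toAb (tilde N)) W (fun p a n => by
    refine Groth.Agent.Coherent.subsingleton_H'_qcoh_pos (tilde N) ?_ n.succ_pos
    exact isAffineOpen_iInf_fin p _ fun k => IsAffineOpen.Spec_basicOpen (t (a k))) (q + 1)
  obtain ⟨e₄⟩ := nonempty_HU q ts hreg N
  obtain ⟨g⟩ := nonempty_congr (globalIso φ F) ts (q + 1 + 1)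
  rw [hW]
  exact ⟨((((i₁.symm.addCommGroupIsoToAddEquiv).trans i₂.symm.addCommGroupIsoToAddEquiv).trans e₃).trans
    ((Coherent.H'Congr (Coh.toAb (tilde N)) (q + 1) hsup).trans e₄)).trans g.toAddEquiv⟩

end Groth.Agent.Misc15.Koszul
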