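import Groth.Agent.Misc15.KoszulCone

/-! The direct limit Koszul cohomology as derived functors of the torsion functor. -/

set_option autoImplicit false
set_option backward.isDefEq.respectTransparency false
set_option backward.isDefEq.respectTransparency.types false
universe u

open CategoryTheory CategoryTheory.Limits CochainComplex

namespace Groth.Agent.Misc15.Koszul

open CohIII (koszulCx koszulTrans koszulHLim koszulHPow)

variable {A : Type u} [CommRing A]

/-- elements killed by powers of all the given elements -/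
def tor (fs : List A) (M : Type*) [AddCommGroup M] [Module A M] : Submodule A M :=
  ⨅ f ∈ fs, ⨆ n : ℕ, LinearMap.ker ((f ^ n) • (LinearMap.id : M →ₗ[A] M))

theorem mem_tor {fs : List A} {M : Type*} [AddCommGroup M] [Module A M] {x : M} :
    x ∈ tor fs M ↔ ∀ f ∈ fs, ∃ n : ℕ, f ^ n • x = 0 := by
  simp only [tor, Submodule.mem_iInf]
  refine forall₂_congr fun f _ => ?_
  rw [Submodule.mem_iSup_of_directed]
  · simp
  · intro a b
    refine ⟨max a b, fun y hy => ?_, fun y hy => ?_⟩ <;>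
    · simp only [LinearMap.mem_ker, LinearMap.smul_apply, LinearMap.id_apply] at hy ⊢
      first
      | rw [← Nat.sub_add_cancel (le_max_left a b), pow_add, mul_smul, hy, smul_zero]
      | rw [← Nat.sub_add_cancel (le_max_right a b), pow_add, mul_smul, hy, smul_zero]

theorem exists_uniform_pow {fs : List A} {M : Type*} [AddCommGroup M] [Module A M] {x : M}
    (hx : x ∈ tor fs M) : ∃ n : ℕ, ∀ f ∈ fs, f ^ n • x = 0 := by
  induction fs with
  | nil => exact ⟨0, fun f hf => absurd hf List.not_mem_nil⟩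
  | cons a fs ih =>
    obtain ⟨n, hn⟩ := mem_tor.1 hx a List.mem_cons_self
    obtain ⟨m, hm⟩ := ih (mem_tor.2 fun f hf => mem_tor.1 hx f (List.mem_cons_of_mem _ hf))
    refine ⟨n + m, fun f hf => ?_⟩
    rcases List.mem_cons.1 hf with rfl | hf
    · rw [add_comm, pow_add, mul_smul, hn, smul_zero]
    · rw [pow_add, mul_smul, hm f hf, smul_zero]

variable {M N I Q : ModuleCat.{u} A} (fs : List A)

/-- the bottom homology of a Koszul complex -/
noncomputable def h0 (M : ModuleCat.{u} A) (n : ℕ) : koszulHPow fs M 0 n →ₗ[A] M :=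
  have hi : ((0 : ℕ) : ℤ) - fs.length = -((fs.map (· ^ n)).length : ℤ) := by simp
  have hd : (koszulCx M (fs.map (· ^ n))).d (((0 : ℕ) : ℤ) - fs.length - 1) (((0 : ℕ) : ℤ) - fs.length) = 0 := by
    have := subsingleton_X M (fs.map (· ^ n)) (((0 : ℕ) : ℤ) - fs.length - 1) (by simp)
    exact (ModuleCat.isZero_of_subsingleton _).eq_of_src _ _
  have := (koszulCx M (fs.map (· ^ n))).isIso_homologyπ _ (((0 : ℕ) : ℤ) - fs.length) (CochainComplex.prev _ _) hd
  (bot M (fs.map (· ^ n)) _ hi).toLinearMap.comp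
    (inv ((koszulCx M (fs.map (· ^ n))).homologyπ (((0 : ℕ) : ℤ) - fs.length)) ≫
      (koszulCx M (fs.map (· ^ n))).iCycles _).hom

theorem h0_π (M : ModuleCat.{u} A) (n : ℕ) (hi : ((0 : ℕ) : ℤ) - fs.length = -((fs.map (· ^ n)).length : ℤ))
    (z : (koszulCx M (fs.map (· ^ n))).cycles (((0 : ℕ) : ℤ) - fs.length)) :
    h0 fs M n (((koszulCx M (fs.map (· ^ n))).homologyπ _).hom z) =
      bot M (fs.map (· ^ n)) _ hi (((koszulCx M (fs.map (· ^ n))).iCycles _).hom z) := by
  have hd : (koszulCx M (fs.map (· ^ n))).d (((0 : ℕ) : ℤ) - fs.length - 1) (((0 : ℕ) : ℤ) - fs.length) = 0 := by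
    have := subsingleton_X M (fs.map (· ^ n)) (((0 : ℕ) : ℤ) - fs.length - 1) (by simp)
    exact (ModuleCat.isZero_of_subsingleton _).eq_of_src _ _
  have := (koszulCx M (fs.map (· ^ n))).isIso_homologyπ _ (((0 : ℕ) : ℤ) - fs.length) (CochainComplex.prev _ _) hd
  have h := congrArg (fun g => g.hom z) (IsIso.hom_inv_id_assoc ((koszulCx M (fs.map (· ^ n))).homologyπ (((0 : ℕ) : ℤ) - fs.length)) ((koszulCx M (fs.map (· ^ n))).iCycles _))
  exact congrArg (bot M (fs.map (· ^ n)) _ hi) h

theorem π_surjective (K : CochainComplex (ModuleCat.{u} A) ℤ) (i : ℤ) : Function.Surjective (K.homologyπ i).hom :=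
  (ModuleCat.epi_iff_surjective _).1 inferInstance

theorem iCycles_injective (K : CochainComplex (ModuleCat.{u} A) ℤ) (i : ℤ) : Function.Injective (K.iCycles i).hom :=
  (ModuleCat.mono_iff_injective _).1 inferInstance

theorem h0_injective (M : ModuleCat.{u} A) (n : ℕ) : Function.Injective (h0 fs M n) := by
  intro a b hab
  obtain ⟨a, rfl⟩ := π_surjective _ _ a
  obtain ⟨b, rfl⟩ := π_surjective _ _ b
  rw [h0_π fs M n (by simp), h0_π fs M n (by simp)] at hab
  rw [iCycles_injective _ _ ((bot M _ _ _).injective hab)]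

theorem mem_range_h0 (M : ModuleCat.{u} A) (n : ℕ) (x : M) :
    x ∈ LinearMap.range (h0 fs M n) ↔ ∀ f ∈ fs, f ^ n • x = 0 := by
  have hi : ((0 : ℕ) : ℤ) - fs.length = -((fs.map (· ^ n)).length : ℤ) := by simp
  let K := koszulCx M (fs.map (· ^ n))
  constructor
  · rintro ⟨a, rfl⟩ f hf
    obtain ⟨a, rfl⟩ := π_surjective _ _ a
    rw [h0_π fs M n hi]
    refine (d_bot_eq_zero_iff M _ _ _ hi rfl _).1 ?_ (f ^ n) (List.mem_map_of_mem hf)
    have h : (K.iCycles (((0 : ℕ) : ℤ) - fs.length) ≫ K.d _ (((0 : ℕ) : ℤ) - fs.length + 1)).hom a = 0 := by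
      rw [HomologicalComplex.iCycles_d]; rfl
    exact h
  · intro hx
    obtain ⟨z, hz⟩ := (bot M (fs.map (· ^ n)) _ hi).surjective x
    have hd : (K.d (((0 : ℕ) : ℤ) - fs.length) (((0 : ℕ) : ℤ) - fs.length + 1)).hom z = 0 :=
      (d_bot_eq_zero_iff M _ _ _ hi rfl z).2 fun g hg => by
        obtain ⟨f, hf, rfl⟩ := List.mem_map.1 hg
        rw [hz]; exact hx f hf
    let zc : ModuleCat.of A A ⟶ K.X (((0 : ℕ) : ℤ) - fs.length) := ModuleCat.ofHom (LinearMap.toSpanSingleton A _ z)
    let c := K.liftCycles zc _ (CochainComplex.next ℤ _) (by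
      ext
      show (K.d _ _).hom ((1 : A) • z) = 0
      rw [one_smul]; exact hd)
    refine ⟨(K.homologyπ _).hom (c.hom 1), ?_⟩
    rw [h0_π fs M n hi, ← hz]
    congr 1
    exact (congrArg (fun g => g.hom (1 : A)) (K.liftCycles_i zc _ _ _)).trans (one_smul A z)

theorem h0_homologyMap {M N : ModuleCat.{u} A} {n m : ℕ} (φ : koszulCx M (fs.map (· ^ n)) ⟶ koszulCx N (fs.map (· ^ m)))
    (g : M →ₗ[A] N) (hg : ∀ hi hi' x, bot N (fs.map (· ^ m)) (((0 : ℕ) : ℤ) - fs.length) hi' ((φ.f _).hom x) =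
      g (bot M (fs.map (· ^ n)) (((0 : ℕ) : ℤ) - fs.length) hi x)) (a : koszulHPow fs M 0 n) :
    h0 fs N m ((HomologicalComplex.homologyMap φ _).hom a) = g (h0 fs M n a) := by
  obtain ⟨a, rfl⟩ := π_surjective _ _ a
  have h := congrArg (fun k => k.hom a) (HomologicalComplex.homologyπ_naturality φ (((0 : ℕ) : ℤ) - fs.length))
  simp only [ModuleCat.hom_comp, LinearMap.comp_apply] at h
  rw [h, h0_π fs N m (by simp), h0_π fs M n (by simp)]
  have h2 := congrArg (fun k => k.hom a) (HomologicalComplex.cyclesMap_i φ (((0 : ℕ) : ℤ) - fs.length))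
  simp only [ModuleCat.hom_comp, LinearMap.comp_apply] at h2
  rw [h2]
  exact hg _ _ _

/-- `H⁰((f), M)` is the torsion. -/
noncomputable def limZero (M : ModuleCat.{u} A) : koszulHLim fs M 0 →ₗ[A] tor fs M :=
  Module.DirectLimit.lift A ℕ _ _ (fun n => (h0 fs M n).codRestrict _ fun a =>
    mem_tor.2 fun f hf => ⟨n, (mem_range_h0 fs M n _).1 ⟨a, rfl⟩ f hf⟩) fun n m h a => by
      apply Subtype.ext
      exact h0_homologyMap fs (koszulTrans M n m h fs) LinearMap.id (fun hi hi' x => bot_trans M n m h fs _ hi hi' x) a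

theorem limZero_of (M : ModuleCat.{u} A) (n : ℕ) (a : koszulHPow fs M 0 n) :
    (limZero fs M (Module.DirectLimit.of A ℕ _ _ n a) : M) = h0 fs M n a := by
  rw [limZero]
  erw [Module.DirectLimit.lift_of]
  rfl

theorem limZero_bijective (M : ModuleCat.{u} A) : Function.Bijective (limZero fs M) := by
  constructor
  · rw [injective_iff_map_eq_zero]
    intro z hz
    obtain ⟨n, a, rfl⟩ := Module.DirectLimit.exists_of z
    have h := congrArg Subtype.val hz
    rw [limZero_of] at h
    have ha : a = 0 := h0_injective fs M n (h.trans (map_zero _).symm)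
    subst ha
    exact map_zero (Module.DirectLimit.of A ℕ _ _ n)
  · rintro ⟨x, hx⟩
    obtain ⟨n, hn⟩ := exists_uniform_pow hx
    obtain ⟨a, ha⟩ := (mem_range_h0 fs M n x).2 hn
    exact ⟨Module.DirectLimit.of A ℕ _ _ n a, Subtype.ext ((limZero_of fs M n a).trans ha)⟩

/-- The three-term sequence of Koszul complexes. -/
noncomputable def kShort (g : M ⟶ I) (h : I ⟶ Q) (hgh : Function.Exact g.hom h.hom) (n : ℕ) :
    ShortComplex (CochainComplex (ModuleCat.{u} A) ℤ) :=
  ShortComplex.mk (kMap g (fs.map (· ^ n))) (kMap h (fs.map (· ^ n))) (by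
    ext i x
    exact (kMap_exact g h hgh (fs.map (· ^ n)) i).apply_apply_eq_zero x)

theorem kShort_shortExact (g : M ⟶ I) (h : I ⟶ Q) (hg : Function.Injective g.hom) (hh : Function.Surjective h.hom)
    (hgh : Function.Exact g.hom h.hom) (n : ℕ) : (kShort fs g h hgh n).ShortExact := by
  refine HomologicalComplex.shortExact_of_degreewise_shortExact _ fun i => ?_
  have hm : Mono ((kMap g (fs.map (· ^ n))).f i) := (ModuleCat.mono_iff_injective _).2 (kMap_injective g hg _ i)
  have he : Epi ((kMap h (fs.map (· ^ n))).f i) := (ModuleCat.epi_iff_surjective _).2 (kMap_surjective h hh _ i)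
  exact { exact := (ShortComplex.ShortExact.moduleCat_exact_iff_function_exact _).2 (kMap_exact g h hgh _ i)
          mono_f := hm, epi_g := he }

/-- The transition map of the three-term sequences. -/
noncomputable def kShortTrans (g : M ⟶ I) (h : I ⟶ Q) (hgh : Function.Exact g.hom h.hom) (n m : ℕ) (hnm : n ≤ m) :
    kShort fs g h hgh n ⟶ kShort fs g h hgh m where
  τ₁ := koszulTrans M n m hnm fs
  τ₂ := koszulTrans I n m hnm fs
  τ₃ := koszulTrans Q n m hnm fs
  comm₁₂ := by ext i x; exact (trans_kMap g n m hnm fs i x).symm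
  comm₂₃ := by ext i x; exact (trans_kMap h n m hnm fs i x).symm

/-- regularity of all powers, listed from the last element -/
def RegPow (fs : List A) : Prop :=
  ∀ n : ℕ, ∀ (l : List A) (f : A), (f :: l) <:+ fs.map (· ^ n) → IsSMulRegular (A ⧸ Ideal.ofList l) f

theorem isZero_of_injective [Module.Injective A I] (hreg : RegPow fs) (n p : ℕ) (hp : 1 ≤ p) :
    IsZero (koszulHPow fs I p n) := by
  refine HomologicalComplex.ExactAt.isZero_homology ?_
  rw [HomologicalComplex.exactAt_iff' _ (((p : ℤ) - fs.length) - 1) _ (((p : ℤ) - fs.length) + 1)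
    (CochainComplex.prev _ _) (CochainComplex.next _ _), ShortComplex.moduleCat_exact_iff]
  intro z hz
  exact exact_of_injective (fs.map (· ^ n)) (hreg n) _ _ _ (by omega) rfl (by simp; omega) z hz

/-- Dimension shifting. -/
theorem nonempty_shift (g : M ⟶ I) (h : I ⟶ Q) (hg : Function.Injective g.hom) (hh : Function.Surjective h.hom)
    (hgh : Function.Exact g.hom h.hom) [Module.Injective A I] (hreg : RegPow fs) (p : ℕ) (hp : 1 ≤ p) :
    Nonempty (koszulHLim fs Q p ≃ₗ[A] koszulHLim fs M (p + 1)) := by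
  have hrel : (ComplexShape.up ℤ).Rel ((p : ℤ) - fs.length) (((p + 1 : ℕ) : ℤ) - fs.length) := by
    show _ + 1 = _; push_cast; ring
  let hS := fun n => kShort_shortExact fs g h hg hh hgh n
  have hiso : ∀ n, IsIso ((hS n).δ _ _ hrel) := fun n => by
    have h2 := isZero_of_injective (I := I) fs hreg n p hp
    have h1 := isZero_of_injective (I := I) fs hreg n (p + 1) (by omega)
    have : Mono ((hS n).δ _ _ hrel) :=
      ((hS n).homology_exact₃ _ _ hrel).mono_g (h2.eq_of_src _ _)
    have : Epi ((hS n).δ _ _ hrel) :=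
      ((hS n).homology_exact₁ _ _ hrel).epi_f (h1.eq_of_tgt _ _)
    exact isIso_of_mono_of_epi _
  refine ⟨Module.DirectLimit.congr (fun n => (@asIso _ _ _ _ ((hS n).δ _ _ hrel) (hiso n)).toLinearEquiv) ?_⟩
  intro n m hnm
  exact (congrArg ModuleCat.Hom.hom (HomologicalComplex.HomologySequence.δ_naturality (kShortTrans fs g h hgh n m hnm) (hS n) (hS m) _ _ hrel)).symm

/-- The first Koszul cohomology as cokernel on torsion. -/
theorem nonempty_one (g : M ⟶ I) (h : I ⟶ Q) (hg : Function.Injective g.hom) (hh : Function.Surjective h.hom)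
    (hgh : Function.Exact g.hom h.hom) [Module.Injective A I] (hreg : RegPow fs) :
    Nonempty ((tor fs Q ⧸ ((tor fs I).map h.hom).comap (tor fs Q).subtype) ≃ₗ[A] koszulHLim fs M 1) := by
  have hrel : (ComplexShape.up ℤ).Rel (((0 : ℕ) : ℤ) - fs.length) (((1 : ℕ) : ℤ) - fs.length) := by
    show _ + 1 = _; push_cast; ring
  let hS := fun n => kShort_shortExact fs g h hg hh hgh n
  let D : koszulHLim fs Q 0 →ₗ[A] koszulHLim fs M 1 :=
    Module.DirectLimit.map (fun n => ((hS n).δ _ _ hrel).hom) fun n m hnm =>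
      (congrArg ModuleCat.Hom.hom (HomologicalComplex.HomologySequence.δ_naturality (kShortTrans fs g h hgh n m hnm) (hS n) (hS m) _ _ hrel)).symm
  have hD : ∀ (n : ℕ) (a : koszulHPow fs Q 0 n), D (Module.DirectLimit.of A ℕ _ _ n a) =
      Module.DirectLimit.of A ℕ _ _ n (((hS n).δ _ _ hrel).hom a) := fun n a =>
    Module.DirectLimit.map_apply_of _ _ _
  let e := LinearEquiv.ofBijective _ (limZero_bijective fs Q)
  have hsurj : ∀ n, Function.Surjective ((hS n).δ _ _ hrel).hom := fun n => by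
    have : Epi ((hS n).δ _ _ hrel) :=
      ((hS n).homology_exact₁ _ _ hrel).epi_f ((isZero_of_injective (I := I) fs hreg n 1 le_rfl).eq_of_tgt _ _)
    exact (ModuleCat.epi_iff_surjective _).1 this
  have hker : ∀ (n : ℕ) (a : koszulHPow fs Q 0 n), ((hS n).δ _ _ hrel).hom a = 0 →
      ∃ b, (HomologicalComplex.homologyMap (kMap h (fs.map (· ^ n))) _).hom b = a := fun n a ha =>
    (ShortComplex.moduleCat_exact_iff _).1 ((hS n).homology_exact₃ _ _ hrel) a ha
  let R : Submodule A (tor fs Q) := ((tor fs I).map h.hom).comap (tor fs Q).subtype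
  let φ : tor fs Q →ₗ[A] koszulHLim fs M 1 := D.comp e.symm.toLinearMap
  have hφ : ∀ (n : ℕ) (a : koszulHPow fs Q 0 n), φ (limZero fs Q (Module.DirectLimit.of A ℕ _ _ n a)) =
      Module.DirectLimit.of A ℕ _ _ n (((hS n).δ _ _ hrel).hom a) := fun n a => by
    show D (e.symm (e _)) = _
    rw [e.symm_apply_apply, hD]
  have hnat : ∀ (n : ℕ) (b : koszulHPow fs I 0 n),
      h0 fs Q n ((HomologicalComplex.homologyMap (kMap h (fs.map (· ^ n))) _).hom b) = h.hom (h0 fs I n b) := fun n b =>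
    h0_homologyMap fs _ h.hom (fun hi _ x => bot_kMap h _ _ hi x) b
  have hRle : R ≤ LinearMap.ker φ := by
    rintro q ⟨x, hx, hxq⟩
    obtain ⟨n, hn⟩ := exists_uniform_pow hx
    obtain ⟨b, hb⟩ := (mem_range_h0 fs I n x).2 hn
    have hq : q = limZero fs Q (Module.DirectLimit.of A ℕ _ _ n
        ((HomologicalComplex.homologyMap (kMap h (fs.map (· ^ n))) _).hom b)) :=
      Subtype.ext (by rw [limZero_of, hnat, hb]; exact hxq.symm)
    rw [LinearMap.mem_ker, hq, hφ]
    have h0 : ((hS n).δ _ _ hrel).hom ((HomologicalComplex.homologyMap (kMap h (fs.map (· ^ n))) _).hom b) = 0 :=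
      congrArg (fun k => k.hom b) ((hS n).comp_δ _ _ hrel)
    rw [h0, map_zero]
  let ψ : (tor fs Q ⧸ R) →ₗ[A] koszulHLim fs M 1 := R.liftQ φ hRle
  -- the inverse
  let ofQ : ∀ n, koszulHPow fs Q 0 n →ₗ[A] koszulHLim fs Q 0 := fun n =>
    Module.DirectLimit.of A ℕ (fun k => (koszulHPow fs Q 0 k : Type u))
      (fun k l hkl => (HomologicalComplex.homologyMap (koszulTrans Q k l hkl fs) (((0 : ℕ) : ℤ) - fs.length)).hom) n
  let mk : ∀ n, koszulHPow fs Q 0 n →ₗ[A] (tor fs Q ⧸ R) := fun n =>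
    R.mkQ.comp ((limZero fs Q).comp (ofQ n))
  have hmk : ∀ n, LinearMap.ker ((hS n).δ _ _ hrel).hom ≤ LinearMap.ker (mk n) := by
    intro n a ha
    obtain ⟨b, rfl⟩ := hker n a ha
    refine (Submodule.Quotient.mk_eq_zero _).2 ⟨h0 fs I n b,
      mem_tor.2 fun f hf => ⟨n, (mem_range_h0 fs I n _).1 ⟨b, rfl⟩ f hf⟩, ?_⟩
    exact ((limZero_of fs Q n _).trans (hnat n b)).symm
  let inv : ∀ n, koszulHPow fs M 1 n →ₗ[A] (tor fs Q ⧸ R) := fun n =>
    ((LinearMap.ker ((hS n).δ _ _ hrel).hom).liftQ (mk n) (hmk n)).comp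
      (LinearMap.quotKerEquivOfSurjective _ (hsurj n)).symm.toLinearMap
  have hinv : ∀ n a, inv n (((hS n).δ _ _ hrel).hom a) = mk n a := fun n a => by
    exact congrArg ((LinearMap.ker ((hS n).δ _ _ hrel).hom).liftQ (mk n) (hmk n))
      (LinearMap.quotKerEquivOfSurjective_symm_apply (f := ((hS n).δ _ _ hrel).hom) (hsurj n) a)
  let Ψ : koszulHLim fs M 1 →ₗ[A] (tor fs Q ⧸ R) := Module.DirectLimit.lift A ℕ _ _ inv fun n m hnm x => by
    obtain ⟨a, rfl⟩ := hsurj n x
    have hnat' := congrArg (fun k => k.hom a)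
      (HomologicalComplex.HomologySequence.δ_naturality (kShortTrans fs g h hgh n m hnm) (hS n) (hS m) _ _ hrel)
    simp only [ModuleCat.hom_comp, LinearMap.comp_apply] at hnat'
    erw [hnat', hinv, hinv]
    exact congrArg (fun z => R.mkQ (limZero fs Q z)) Module.DirectLimit.of_f
  refine ⟨LinearEquiv.ofBijective ψ (Function.bijective_iff_has_inverse.2 ⟨Ψ, ?_, ?_⟩)⟩
  · intro q
    obtain ⟨q, rfl⟩ := Submodule.mkQ_surjective R q
    obtain ⟨z, rfl⟩ := (limZero_bijective fs Q).2 q
    obtain ⟨n, a, rfl⟩ := Module.DirectLimit.exists_of z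
    show Ψ (φ (limZero fs Q _)) = _
    rw [hφ]
    exact (Module.DirectLimit.lift_of _ _ _).trans (hinv n a)
  · intro z
    obtain ⟨n, x, rfl⟩ := Module.DirectLimit.exists_of z
    obtain ⟨a, rfl⟩ := hsurj n x
    show ψ (Ψ _) = _
    erw [Module.DirectLimit.lift_of, hinv]
    exact hφ n a

end Groth.Agent.Misc15.Koszul
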