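import Groth.Agent.Misc15.KoszulTilde
import Groth.Agent.Misc15.KoszulLimit

/-! Cohomology of `Ñ` on `⋃ D(tᵢ)` is Koszul cohomology. -/

set_option autoImplicit false
set_option backward.isDefEq.respectTransparency.types false
universe u

open CategoryTheory CategoryTheory.Limits CategoryTheory.Abelian AlgebraicGeometry Opposite TopologicalSpace

namespace Groth.Agent.Misc15.Koszul

open Groth.Agent.Coherent (resM resM_resM specBasicOpen freeSh freeShEquiv freeShEquiv_comp subsingleton_H'_of_isFlasque)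
open CohIII (koszulHLim)

/-- Two surjections with the same kernel have isomorphic targets. -/
theorem nonempty_addEquiv_of_ker_eq {T A B : Type*} [AddCommGroup T] [AddCommGroup A] [AddCommGroup B]
    (α : T →+ A) (β : T →+ B) (hα : Function.Surjective α) (hβ : Function.Surjective β) (h : α.ker = β.ker) :
    Nonempty (A ≃+ B) :=
  ⟨((QuotientAddGroup.quotientKerEquivOfSurjective α hα).symm.trans (QuotientAddGroup.quotientAddEquivOfEq h)).trans
    (QuotientAddGroup.quotientKerEquivOfSurjective β hβ)⟩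

variable {R : CommRingCat.{u}}

/-- the union of the `D(t)`, `t ∈ ts` -/
noncomputable def unionD (ts : List R) : (Spec R).Opens := ⨆ i : Fin ts.length, specBasicOpen (ts.get i)

theorem specBasicOpen_le_unionD {ts : List R} (i : Fin ts.length) : specBasicOpen (ts.get i) ≤ unionD ts :=
  le_iSup (fun j : Fin ts.length => specBasicOpen (ts.get j)) i

theorem rho_eq_zero_iff (ts : List R) (N : ModuleCat.{u} R) (x : N) :
    rho N (unionD ts) x = 0 ↔ x ∈ tor ts N := by
  rw [mem_tor]
  constructor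
  · intro h f hf
    obtain ⟨i, rfl⟩ := List.get_of_mem hf
    refine exists_pow_of_rho_eq_zero N _ x ?_
    rw [← rho_res N (specBasicOpen_le_unionD i), h, map_zero]
  · intro h
    refine sections_ext (tilde N) (fun i : ULift.{u} (Fin ts.length) => specBasicOpen (ts.get i.down))
      (fun i => specBasicOpen_le_unionD i.down) ?_ _ _ fun i => ?_
    · exact iSup_le fun i => le_iSup (fun j : ULift.{u} (Fin ts.length) => specBasicOpen (ts.get j.down)) ⟨i⟩
    · obtain ⟨n, hn⟩ := h _ (List.get_mem ts i.down)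
      rw [rho_res, rho_eq_zero_of_pow N _ le_rfl hn, map_zero]

/-- the sheafified short complex -/
noncomputable abbrev tildeShort (S : ShortComplex (ModuleCat.{u} R)) :
    ShortComplex (Sheaf (Opens.grothendieckTopology (Spec R)) AddCommGrpCat.{u}) :=
  (S.map (tilde.functor R)).map (Coherent.toAbFunctor (Spec R))

theorem tildeShort_shortExact {S : ShortComplex (ModuleCat.{u} R)} (hS : S.ShortExact) :
    (tildeShort S).ShortExact := by
  have := Groth.Agent.AffSchLib.preservesFiniteLimits_tilde R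
  exact Coherent.toAb_shortExact (hS.map_of_exact (tilde.functor R))

theorem tmap_exact {S : ShortComplex (ModuleCat.{u} R)} (hS : S.ShortExact) (U : (Spec R).Opens) :
    Function.Injective (tmap S.f U) ∧ Function.Exact (tmap S.f U) (tmap S.g U) := by
  have h := tildeShort_shortExact hS
  have hinj : Function.Injective (tmap S.f U) := by
    have := h.mono_f
    have hm : Mono ((tildeShort S).f.hom.app (op U)) := inferInstance
    exact (AddCommGrpCat.mono_iff_injective _).1 hm
  refine ⟨hinj, fun y => ⟨fun hy => TopCat.Sheaf.sections_exact_of_left_exact (X := (Spec R).toTopCat)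
    h.exact h.mono_f y hy, ?_⟩⟩
  rintro ⟨z, rfl⟩
  exact ConcreteCategory.congr_hom (congr_app (congrArg (fun φ => φ.hom) (tildeShort S).zero) (op U)) z

theorem range_rho_addSubgroup_le {ts : List R} {M : ModuleCat.{u} R} (x : M) :
    rho M (unionD ts) x ∈ (rho M (unionD ts)).toAddMonoidHom.range := ⟨x, rfl⟩

variable [IsNoetherianRing R]

/-- The cokernel of `N → Γ(U, Ñ)` is the first Koszul cohomology. -/
theorem nonempty_coker (ts : List R) (hreg : RegPow ts) (N : ModuleCat.{u} R) :
    Nonempty ((Γ(tilde N, unionD ts) ⧸ (rho N (unionD ts)).toAddMonoidHom.range) ≃+ koszulHLim ts N 1) := by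
  obtain ⟨pr⟩ := EnoughInjectives.presentation N
  obtain ⟨I, hIi, g, hgm⟩ := pr
  have hI : Module.Injective R I := Module.injective_module_of_injective_object R I
  let h := cokernel.π g
  let S := ShortComplex.mk g h (cokernel.condition g)
  have hS : S.ShortExact := { exact := ShortComplex.exact_cokernel g }
  have hg : Function.Injective g.hom := hS.moduleCat_injective_f
  have hh : Function.Surjective h.hom := hS.moduleCat_surjective_g
  have hgh : Function.Exact g.hom h.hom := LinearMap.exact_iff.2 hS.exact.moduleCat_range_eq_ker.symm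
  obtain ⟨e⟩ := nonempty_one ts g h hg hh hgh hreg
  obtain ⟨hi, hex⟩ := tmap_exact hS (unionD ts)
  let U := unionD ts
  let T : AddSubgroup I := ((tor ts (cokernel g : ModuleCat.{u} R)).comap h.hom).toAddSubgroup
  have hT : ∀ y : T, ∃ x, tmap g U x = rho I U y.1 := fun y => (hex _).1 (by
    rw [rho_map]; exact (rho_eq_zero_iff ts _ _).2 y.2)
  choose a ha using hT
  let α : T →+ Γ(tilde N, U) ⧸ (rho N U).toAddMonoidHom.range :=
    (QuotientAddGroup.mk' _).comp (AddMonoidHom.mk' a fun y z => hi (by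
      rw [map_add, ha, ha, ha, AddSubgroup.coe_add, map_add]))
  let β := ((Submodule.mkQ (((tor ts I).map h.hom).comap (tor ts (cokernel g : ModuleCat.{u} R)).subtype)).toAddMonoidHom.comp
    ((h.hom.restrict (p := (tor ts (cokernel g : ModuleCat.{u} R)).comap h.hom) (q := tor ts _) fun _ hy => hy).toAddMonoidHom))
  refine nonempty_addEquiv_of_ker_eq α (e.toAddEquiv.toAddMonoidHom.comp β) ?_ ?_ ?_
  · intro z
    obtain ⟨x, rfl⟩ := QuotientAddGroup.mk'_surjective _ z
    obtain ⟨y, hy⟩ := rho_surjective_of_injective I U (tmap g U x)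
    have hyT : y ∈ T := (rho_eq_zero_iff ts _ _).1 (by
      rw [← rho_map h, hy]; exact hex.apply_apply_eq_zero _)
    refine ⟨⟨y, hyT⟩, congrArg (QuotientAddGroup.mk' _) (hi ?_)⟩
    exact (ha ⟨y, hyT⟩).trans hy
  · refine e.surjective.comp ?_
    intro z
    obtain ⟨⟨q, hq⟩, rfl⟩ := Submodule.mkQ_surjective _ z
    obtain ⟨y, rfl⟩ := hh q
    exact ⟨⟨y, hq⟩, rfl⟩
  · ext y
    simp only [AddMonoidHom.mem_ker]
    constructor
    · intro hy
      obtain ⟨n, hn⟩ := (QuotientAddGroup.eq_zero_iff _).1 hy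
      have hn' : rho N U n = a y := hn
      have hk : y.1 - g.hom n ∈ tor ts I := (rho_eq_zero_iff ts _ _).1 (by
        rw [map_sub, sub_eq_zero, ← rho_map g, hn', ha])
      refine (congrArg e ?_).trans (map_zero _)
      refine (Submodule.Quotient.mk_eq_zero _).2 ?_
      refine ⟨y.1 - g.hom n, hk, ?_⟩
      show h.hom (y.1 - g.hom n) = h.hom y.1
      rw [map_sub, hgh.apply_apply_eq_zero, sub_zero]
    · intro hy
      have hy' := e.injective (hy.trans (map_zero e).symm)
      obtain ⟨k, hk, hk'⟩ := (Submodule.Quotient.mk_eq_zero _).1 hy'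
      obtain ⟨n, hn⟩ := (hgh (y.1 - k)).1 (by
        rw [map_sub, sub_eq_zero]; exact hk'.symm)
      refine (QuotientAddGroup.eq_zero_iff _).2 ⟨n, hi ?_⟩
      show tmap g U (rho N U n) = tmap g U (a y)
      rw [rho_map, hn, ha, map_sub, (rho_eq_zero_iff ts I k).2 hk, sub_zero]

section Ext

variable {T : TopCat.{u}} {S : ShortComplex (Sheaf (Opens.grothendieckTopology T) AddCommGrpCat.{u})}
  (hS : S.ShortExact) (U : Opens T)

omit [IsNoetherianRing R] in
include hS in
theorem nonempty_H'_shift [TopCat.Sheaf.IsFlasque S.X₂] (n : ℕ) :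
    Nonempty (Sheaf.H' S.X₃ (n + 1) U ≃+ Sheaf.H' S.X₁ (n + 1 + 1) U) := by
  refine ⟨AddEquiv.ofBijective (hS.extClass.postcomp (freeSh U) (rfl : n + 1 + 1 = n + 1 + 1)) ⟨?_, ?_⟩⟩
  · rw [injective_iff_map_eq_zero]
    intro x hx
    obtain ⟨y, rfl⟩ := Ext.covariant_sequence_exact₃ _ hS x rfl hx
    have : y = 0 := @Subsingleton.elim _ (subsingleton_H'_of_isFlasque S.X₂ U n) _ _
    rw [this, Ext.zero_comp]
    rfl
  · intro x
    exact Ext.covariant_sequence_exact₁ _ hS x (@Subsingleton.elim _ (subsingleton_H'_of_isFlasque S.X₂ U (n + 1)) _ _) rfl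

omit [IsNoetherianRing R] in
include hS in
theorem nonempty_H'_one [TopCat.Sheaf.IsFlasque S.X₂] :
    Nonempty ((S.X₃.obj.obj (op U) ⧸ (S.g.hom.app (op U)).hom.range) ≃+ Sheaf.H' S.X₁ 1 U) := by
  let ψ : S.X₃.obj.obj (op U) →+ Sheaf.H' S.X₁ 1 U :=
    ((hS.extClass.postcomp (freeSh U) (zero_add 1)).comp Ext.addEquiv₀.symm.toAddMonoidHom).comp
      (freeShEquiv U S.X₃).symm.toAddMonoidHom
  refine nonempty_addEquiv_of_ker_eq (QuotientAddGroup.mk' _) ψ (QuotientAddGroup.mk'_surjective _) ?_ ?_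
  · intro x
    obtain ⟨y, hy⟩ := Ext.covariant_sequence_exact₁ _ hS x (@Subsingleton.elim _ (subsingleton_H'_of_isFlasque S.X₂ U 0) _ _) (zero_add 1)
    obtain ⟨φ, rfl⟩ := Ext.addEquiv₀.symm.surjective y
    refine ⟨freeShEquiv U S.X₃ φ, ?_⟩
    show (Ext.addEquiv₀.symm ((freeShEquiv U S.X₃).symm (freeShEquiv U S.X₃ φ))).comp hS.extClass (zero_add 1) = x
    rw [AddEquiv.symm_apply_apply, hy]
  · rw [QuotientAddGroup.ker_mk']
    ext s
    obtain ⟨φ, rfl⟩ := (freeShEquiv U S.X₃).surjective s
    show _ ↔ (Ext.addEquiv₀.symm ((freeShEquiv U S.X₃).symm (freeShEquiv U S.X₃ φ))).comp hS.extClass (zero_add 1) = 0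
    rw [AddEquiv.symm_apply_apply]
    constructor
    · rintro ⟨t, ht⟩
      obtain ⟨χ, rfl⟩ := (freeShEquiv U S.X₂).surjective t
      have : φ = χ ≫ S.g := (freeShEquiv U S.X₃).injective (by rw [freeShEquiv_comp]; exact ht.symm)
      rw [this, Ext.addEquiv₀_symm_apply, ← Ext.mk₀_comp_mk₀,
        Ext.comp_assoc_of_second_deg_zero, hS.comp_extClass, Ext.comp_zero]
    · intro h
      obtain ⟨y, hy⟩ := Ext.covariant_sequence_exact₃ _ hS _ (zero_add 1) h
      obtain ⟨χ, rfl⟩ := Ext.addEquiv₀.symm.surjective y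
      rw [Ext.addEquiv₀_symm_apply, Ext.addEquiv₀_symm_apply, Ext.mk₀_comp_mk₀] at hy
      refine ⟨freeShEquiv U S.X₂ χ, ?_⟩
      rw [← (Ext.mk₀_bijective _ _).1 hy, freeShEquiv_comp]

end Ext

theorem nonempty_HU : ∀ (q : ℕ) (ts : List R), RegPow ts → ∀ (N : ModuleCat.{u} R),
    Nonempty (Sheaf.H' (Coh.toAb (tilde N)) (q + 1) (unionD ts) ≃+ koszulHLim ts N (q + 1 + 1)) := by
  intro q
  induction q with
  | zero =>
    intro ts hreg N
    obtain ⟨⟨I, hIi, g, hgm⟩⟩ := EnoughInjectives.presentation N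
    have hI : Module.Injective R I := Module.injective_module_of_injective_object R I
    have hS : (ShortComplex.mk g (cokernel.π g) (cokernel.condition g)).ShortExact :=
      { exact := ShortComplex.exact_cokernel g }
    have : TopCat.Sheaf.IsFlasque (tildeShort (ShortComplex.mk g (cokernel.π g) (cokernel.condition g))).X₂ :=
      isFlasque_tilde I
    obtain ⟨e₁⟩ := nonempty_H'_one (tildeShort_shortExact hS) (unionD ts)
    obtain ⟨e₂⟩ := nonempty_coker ts hreg (cokernel g)
    obtain ⟨e₃⟩ := nonempty_shift ts g (cokernel.π g) hS.moduleCat_injective_f hS.moduleCat_surjective_g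
      (LinearMap.exact_iff.2 hS.exact.moduleCat_range_eq_ker.symm) hreg 1 le_rfl
    refine ⟨(e₁.symm.trans (QuotientAddGroup.quotientAddEquivOfEq (le_antisymm ?_ ?_))).trans (e₂.trans e₃.toAddEquiv)⟩
    · rintro _ ⟨t, rfl⟩
      obtain ⟨y, rfl⟩ := rho_surjective_of_injective I (unionD ts) t
      exact ⟨_, (rho_map (cokernel.π g) _ y).symm⟩
    · rintro _ ⟨n, rfl⟩
      obtain ⟨y, rfl⟩ := hS.moduleCat_surjective_g n
      exact ⟨rho I (unionD ts) y, rho_map (cokernel.π g) _ y⟩
  | succ q ih =>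
    intro ts hreg N
    obtain ⟨⟨I, hIi, g, hgm⟩⟩ := EnoughInjectives.presentation N
    have hI : Module.Injective R I := Module.injective_module_of_injective_object R I
    have hS : (ShortComplex.mk g (cokernel.π g) (cokernel.condition g)).ShortExact :=
      { exact := ShortComplex.exact_cokernel g }
    have : TopCat.Sheaf.IsFlasque (tildeShort (ShortComplex.mk g (cokernel.π g) (cokernel.condition g))).X₂ :=
      isFlasque_tilde I
    obtain ⟨e₁⟩ := nonempty_H'_shift (tildeShort_shortExact hS) (unionD ts) q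
    obtain ⟨e₂⟩ := ih ts hreg (cokernel g)
    obtain ⟨e₃⟩ := nonempty_shift ts g (cokernel.π g) hS.moduleCat_injective_f hS.moduleCat_surjective_g
      (LinearMap.exact_iff.2 hS.exact.moduleCat_range_eq_ker.symm) hreg (q + 1 + 1) (by omega)
    exact ⟨e₁.symm.trans (e₂.trans e₃.toAddEquiv)⟩

end Groth.Agent.Misc15.Koszul
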