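import Groth.Agent.Misc15.CMCI
import Groth.Agent.DimLib.Algebra
import Groth.Agent.W4Gr15.ConeCM
import Mathlib

/-! Complete intersection cones. -/

universe u

open MvPolynomial IsLocalRing Groth.Agent.W4Gr15

attribute [local instance] MvPolynomial.gradedAlgebra

namespace Groth.Agent.Misc15

variable {k : Type u} [Field k] {N r : ℕ}

lemma cmRing_mvPolynomial : _root_.LocCoh.IsCohenMacaulayRing (MvPolynomial (Fin N) k) := by
  haveI : IsRegularLocalRing k := inferInstance
  haveI : _root_.LocCoh.IsCohenMacaulayLocalRing k := CAlgH3.isCohenMacaulayLocalRing_of_regular k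
  haveI := CAlgH3.isCohenMacaulayRing_of_local k
  haveI := CAlgH3.isCohenMacaulayRing_mvPolynomial (R := k) (ULift.{u} (Fin N))
  exact CAlgH3.isCohenMacaulayRing_of_ringEquiv (renameEquiv k Equiv.ulift).toRingEquiv

lemma vtx_le_of_forall_X_mem {Q : Ideal (MvPolynomial (Fin N) k)} (h : ∀ i, X i ∈ Q) :
    coneVtx k N ≤ Q := by
  intro g hg
  rw [coneVtx_eq, RingHom.mem_ker] at hg
  have key : ∀ g : MvPolynomial (Fin N) k, g - C (constantCoeff g) ∈ Q := by
    intro g
    induction g using MvPolynomial.induction_on with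
    | C a => simp
    | add a b ha hb =>
      have := add_mem ha hb
      rw [map_add, map_add]
      convert this using 1; ring
    | mul_X a i ha => simpa using Q.mul_mem_left a (h i)
  simpa [hg] using key g

lemma height_vtx : (coneVtx k N).height = N := DimLib.height_eq_of_isMaximal_mvPolynomial N _

lemma isHomogeneous_span {f : Fin r → MvPolynomial (Fin N) k} {d : Fin r → ℕ}
    (hf : ∀ i, (f i).IsHomogeneous (d i)) :
    (Ideal.span (Set.range f)).IsHomogeneous (homogeneousSubmodule (Fin N) k) :=
  Ideal.homogeneous_span _ _ (by rintro _ ⟨i, rfl⟩; exact ⟨d i, hf i⟩)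

lemma vtx_notMem_ass {f : Fin r → MvPolynomial (Fin N) k} (d : Fin r → ℕ)
    (hf : ∀ i, (f i).IsHomogeneous (d i)) (hd : ∀ i, 0 < d i) (hr : r < N)
    (hJ : (r : ℕ∞) ≤ (Ideal.span (Set.range f)).height) :
    coneVtx k N ∉ associatedPrimes (MvPolynomial (Fin N) k) (MvPolynomial (Fin N) k ⧸ Ideal.span (Set.range f)) := by
  intro h
  haveI := cmRing_mvPolynomial (k := k) (N := N)
  let A := Localization.AtPrime (coneVtx k N)
  haveI : _root_.LocCoh.IsCohenMacaulayLocalRing A :=
    _root_.LocCoh.IsCohenMacaulayRing.isCohenMacaulayLocalRing_localization _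
  have hmap : (Ideal.span (Set.range f)).map (algebraMap _ A) = Ideal.span (Set.range (fun i => algebraMap _ A (f i))) := by
    rw [Ideal.map_span, ← Set.range_comp]; rfl
  have hg : ∀ i, algebraMap _ A (f i) ∈ maximalIdeal A := fun i => by
    refine (IsLocalization.AtPrime.to_map_mem_maximal_iff A (coneVtx k N) _).2 ?_
    rw [coneVtx_eq, RingHom.mem_ker]
    exact ((hf i).coeff_eq_zero (d := 0) (by simpa using (hd i).ne))
  have hh' : (r : ℕ∞) ≤ ((Ideal.span (Set.range f)).map (algebraMap _ A)).height := by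
    rw [Ideal.height_eq_inf_minimalPrimes, le_iInf₂_iff]
    intro Q hQ
    have : Q.IsPrime := hQ.1.1
    rw [← IsLocalization.height_comap (coneVtx k N).primeCompl Q]
    exact hJ.trans (Ideal.height_mono (Ideal.map_le_iff_le_comap.1 hQ.1.2))
  obtain ⟨hcm, hdim⟩ := cm_quotient_span_of_le_height _ hg (hmap ▸ hh')
  rw [← hmap] at hcm hdim
  have hass : maximalIdeal A ∈ associatedPrimes A (A ⧸ (Ideal.span (Set.range f)).map (algebraMap _ A)) := by
    have := map_ass_mem (isHomogeneous_span hf) h
    rwa [Localization.AtPrime.map_eq_maximalIdeal] at this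
  have h0 := CAlgH3.ringKrullDim_quotient_eq_of_mem_associatedPrimes hcm hass
  rw [Module.supportDim_quotient_eq_ringKrullDim,
    ringKrullDim_eq_zero_of_isField ((Ideal.Quotient.maximal_ideal_iff_isField_quotient _).1 inferInstance)] at h0
  rw [← h0, zero_add, IsLocalization.AtPrime.ringKrullDim_eq_height (coneVtx k N) A, height_vtx] at hdim
  have : r = N := by exact_mod_cast hdim
  omega

end Groth.Agent.Misc15
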