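import Groth.Agent.Misc15.DivDescentInd

/-! Descent of effective Cartier divisors: depth criterion and the normal case. -/

set_option autoImplicit false
set_option backward.isDefEq.respectTransparency false
set_option backward.isDefEq.respectTransparency.types false
universe u

open AlgebraicGeometry CategoryTheory CategoryTheory.Limits TopologicalSpace IsLocalRing

namespace Groth.Agent.Misc15.DivDescent

variable {X Y : Scheme.{u}} [IsLocallyNoetherian X] [IsLocallyNoetherian Y] {f : X ⟶ Y} {J : X.IdealSheafData}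

/-- an element dividing a power of a prime element is associated to a power -/
theorem exists_associated_pow {B : Type*} [CommRing B] {p : B} (hp : p ∈ nonZeroDivisors B)
    (hprime : (Ideal.span {p}).IsPrime) : ∀ (N : ℕ) (g : B), g ∣ p ^ N → ∃ n, Associated g (p ^ n) := by
  intro N
  induction N with
  | zero => exact fun g hg => ⟨0, by simpa using associated_one_iff_isUnit.2 (isUnit_of_dvd_one (by simpa using hg))⟩
  | succ N ih =>
    rintro g ⟨h, hh⟩
    have hmem : g * h ∈ Ideal.span {p} := Ideal.mem_span_singleton.2 ⟨p ^ N, by rw [← hh, pow_succ']⟩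
    rcases hprime.mem_or_mem hmem with hg | hh'
    · obtain ⟨g', rfl⟩ := Ideal.mem_span_singleton.1 hg
      obtain ⟨m, hm⟩ := ih g' ⟨h, (mul_cancel_left_mem_nonZeroDivisors hp).1 (by rw [← pow_succ', hh, mul_assoc])⟩
      exact ⟨m + 1, by rw [pow_succ']; exact hm.mul_left p⟩
    · obtain ⟨h', rfl⟩ := Ideal.mem_span_singleton.1 hh'
      exact ih g ⟨h', (mul_cancel_left_mem_nonZeroDivisors hp).1 (by rw [← pow_succ', hh, mul_left_comm])⟩

theorem stk_eq_top_of_comap {S : Scheme.{u}} (k : S ⟶ X) (h : J.comap k = ⊤) (s : S) : stk J (k s) = ⊤ := by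
  by_contra hne
  have h1 : stk (⊤ : S.IdealSheafData) s = ⊤ := by
    obtain ⟨_, ⟨U, hU, rfl⟩, hsU, -⟩ :=
      S.isBasis_affineOpens.exists_subset_of_mem_open (Set.mem_univ s) isOpen_univ
    rw [stk_eq _ ⟨U, hU⟩ hsU, show (⊤ : S.IdealSheafData).ideal ⟨U, hU⟩ = ⊤ from rfl, Ideal.map_top]
  rw [← h, stk_comap] at h1
  have h2 : (stk J (k s)).map (k.stalkMap s).hom ≤ maximalIdeal (S.presheaf.stalk s) := by
    refine Ideal.map_le_iff_le_comap.2 ((le_maximalIdeal hne).trans fun b hb => ?_)
    exact map_nonunit (k.stalkMap s).hom b hb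
  rw [h1] at h2
  exact (maximalIdeal.isMaximal _).ne_top (top_le_iff.1 h2)

/-- a maximal point of a normal scheme: the local ring is a field -/
theorem eq_of_specializes_of_field {y z : Y} (hbot : maximalIdeal (Y.presheaf.stalk y) = ⊥) (h : z ⤳ y) : z = y :=
  eq_of_primeOf_eq h (specializes_refl y) (by
    rw [primeOf_refl, hbot]
    exact le_bot_iff.1 (hbot ▸ le_maximalIdeal (isPrime_primeOf h).ne_top))

/-- Descent over a point with discrete valuation local ring and integral fibre. -/
theorem descAt_dvr [Flat f] [Surjective f] (hJ : BlowUp.IsEffCartierIdeal J) (y : Y) (hfib : IsIntegral (f.fiber y))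
    (π : Y.presheaf.stalk y) (hπ : maximalIdeal (Y.presheaf.stalk y) = Ideal.span {π})
    (hπ0 : π ∈ nonZeroDivisors (Y.presheaf.stalk y))
    (hgen : ∀ x : X, f x ⤳ y → f x ≠ y → stk J x = ⊤) : DescAt f J y := by
  have hprime : ∀ (x : X) (hx : f x = y), φ f hx π ∈ nonZeroDivisors (X.presheaf.stalk x) ∧
      (Ideal.span {φ f hx π}).IsPrime := by
    intro x hx
    constructor
    · letI : Algebra (Y.presheaf.stalk y) (X.presheaf.stalk x) := (φ f hx).toAlgebra
      haveI : Module.Flat (Y.presheaf.stalk y) (X.presheaf.stalk x) := flat_φ f hx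
      have h0 := (regular_pair_map (B := X.presheaf.stalk x) (a := π) (b := 1)
        (fun z hz => mem_nonZeroDivisors_iff_right.1 hπ0 z (by rw [mul_comm, hz]))
        (fun z hz => by rwa [one_mul] at hz)).1
      exact mem_nonZeroDivisors_iff_right.2 fun z hz => h0 z ((mul_comm _ _).trans hz)
    · subst hx
      obtain ⟨t, ht⟩ : ∃ t, f.fiberι (f x) t = x := ⟨_, f.fiberι_fiberHomeo_symm (f x) ⟨x, rfl⟩⟩
      have hker := (Props12.stalkMap_fiberι f (f x) t).2
      have : (RingHom.ker ((f.fiberι (f x)).stalkMap t).hom).IsPrime := RingHom.ker_isPrime _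
      rw [hker] at this
      rw [φ_rfl]
      have key : ∀ x', f.fiberι (f x) t = x' →
          (Ideal.map (f.stalkMap x').hom (maximalIdeal (Y.presheaf.stalk (f x')))).IsPrime := by
        rintro _ rfl; exact this
      have h5 := key x ht
      rwa [hπ, Ideal.map_span, Set.image_singleton] at h5
  have hpow : ∀ (x : X) (hx : f x = y), ∃ n : ℕ, stk J x = Ideal.span {φ f hx (π ^ n)} := by
    intro x hx
    obtain ⟨g, hg, hgJ⟩ := exists_gen hJ x
    obtain ⟨hnzd, hpr⟩ := hprime x hx
    have hrad : φ f hx π ∈ (Ideal.span {g}).radical := by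
      rw [Ideal.radical_eq_sInf, Submodule.mem_sInf]
      rintro Q ⟨hQ, hQp⟩
      by_contra hπQ
      obtain ⟨x', hx', rfl⟩ := exists_point Q hQp
      have hne : f x' ≠ y := by
        intro e
        apply hπQ
        have := primeOf_comap f hx' e hx (specializes_refl y)
        rw [primeOf_refl] at this
        exact (this.symm.le (hπ ▸ Ideal.mem_span_singleton_self π) : π ∈ (primeOf hx').comap (φ f hx))
      have h1 := hgen x' (hx ▸ hx'.map f.continuous) hne
      rw [stk_specializes J hx', hgJ, Ideal.map_span, Set.image_singleton, Ideal.span_singleton_eq_top] at h1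
      exact (notMem_primeOf hx' g).2 h1 (hQ (Ideal.mem_span_singleton_self g))
    obtain ⟨N, hN⟩ := hrad
    obtain ⟨n, hn⟩ := exists_associated_pow hnzd hpr N g (Ideal.mem_span_singleton.1 hN)
    refine ⟨n, ?_⟩
    rw [hgJ, map_pow]
    exact le_antisymm (Ideal.span_singleton_le_span_singleton.2 hn.symm.dvd)
      (Ideal.span_singleton_le_span_singleton.2 hn.dvd)
  have : IrreducibleSpace (f.fiber y) := inferInstance
  let ξ : X := f.fiberι y (genericPoint (f.fiber y))
  have hξ : f ξ = y := (f.range_fiberι y).le ⟨_, rfl⟩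
  obtain ⟨n, hn⟩ := hpow ξ hξ
  refine ⟨π ^ n, fun x hx => ?_⟩
  obtain ⟨m, hm⟩ := hpow x hx
  obtain ⟨t, rfl⟩ : ∃ t, f.fiberι y t = x := ⟨_, f.fiberι_fiberHomeo_symm y ⟨x, hx⟩⟩
  have hspec : ξ ⤳ f.fiberι y t := (genericPoint_specializes t).map (f.fiberι y).continuous
  have h1 := stk_specializes J hspec
  rw [hm, hn, Ideal.map_span, Set.image_singleton] at h1
  have h2 : (X.presheaf.stalkSpecializes hspec).hom (φ f hx (π ^ m)) = φ f hξ (π ^ m) := by
    show ((Y.presheaf.stalkSpecializes _ ≫ f.stalkMap (f.fiberι y t)) ≫ X.presheaf.stalkSpecializes hspec).hom (π ^ m) =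
      (Y.presheaf.stalkSpecializes _ ≫ f.stalkMap ξ).hom (π ^ m)
    rw [Category.assoc, ← Scheme.Hom.stalkSpecializes_stalkMap f ξ (f.fiberι y t) hspec, ← Category.assoc,
      TopCat.Presheaf.stalkSpecializes_comp]
  rw [h2] at h1
  have h3 := congrArg (Ideal.comap (φ f hξ)) h1
  have hspan : ∀ i : ℕ, Ideal.span {φ f hξ (π ^ i)} = (Ideal.span {π ^ i}).map (φ f hξ) := fun i => by
    rw [Ideal.map_span, Set.image_singleton]
  rw [hspan, hspan, comap_map_φ, comap_map_φ] at h3
  have hnu : ¬ IsUnit π := fun h => (maximalIdeal.isMaximal (Y.presheaf.stalk y)).ne_top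
    (hπ.trans (Ideal.span_singleton_eq_top.2 h))
  have hmn : n = m := by
    have aux : ∀ i j : ℕ, π ^ i ∣ π ^ j → i ≤ j := by
      intro i j hd
      by_contra hlt
      obtain ⟨w, hw⟩ := hd
      refine hnu (isUnit_of_dvd_one ⟨π ^ (i - j - 1) * w, ?_⟩)
      refine (mul_cancel_left_mem_nonZeroDivisors (pow_mem hπ0 j)).1 ?_
      rw [mul_one, ← mul_assoc π, ← pow_succ', ← mul_assoc, ← pow_add, show j + (i - j - 1 + 1) = i by omega]
      exact hw
    exact le_antisymm (aux n m (Ideal.span_singleton_le_span_singleton.1 h3.ge))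
      (aux m n (Ideal.span_singleton_le_span_singleton.1 h3.le))
  rw [hm, hmn]

theorem depth_criterion (f : X ⟶ Y) [Flat f] [Surjective f] (hf : QuasiCompact f ∨ IsOpenMap f)
    (J : X.IdealSheafData) (hJ : BlowUp.IsEffCartierIdeal J) :
    (∃ I : Y.IdealSheafData, BlowUp.IsEffCartierIdeal I ∧ I.comap f = J) ↔
      ∀ y : Y, _root_.LocCoh.depth (Y.presheaf.stalk y) (Y.presheaf.stalk y) ≤ 1 →
        ∃ I₁ : (Spec (Y.presheaf.stalk y)).IdealSheafData, BlowUp.IsEffCartierIdeal I₁ ∧
          I₁.comap (pullback.snd f (Y.fromSpecStalk y)) = J.comap (pullback.fst f (Y.fromSpecStalk y)) := by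
  constructor
  · rintro ⟨I, hI, rfl⟩ y -
    refine ⟨I.comap (Y.fromSpecStalk y), isEffCartier_comap_flat _ I hI, ?_⟩
    rw [← Scheme.IdealSheafData.comap_comp, ← Scheme.IdealSheafData.comap_comp, pullback.condition]
  · intro h
    refine exists_effCartier hf hJ (descAt_all hJ fun y => ?_)
    by_cases hy : _root_.LocCoh.depth (Y.presheaf.stalk y) (Y.presheaf.stalk y) ≤ 1
    · obtain ⟨I₁, hI₁, he⟩ := h y hy
      have hd := descAt_of_square (f := f) (J := J) (pullback.fst f (Y.fromSpecStalk y)) (pullback.snd f (Y.fromSpecStalk y))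
        (Y.fromSpecStalk y) pullback.condition (closedPoint (Y.presheaf.stalk y))
        ((Y.fromSpecStalk y).stalkMap_surjective _) I₁ hI₁ he
        (fun t => by
          have := Props12.isIso_stalkMap_fst f y t
          exact ConcreteCategory.bijective_of_isIso ((pullback.fst f (Y.fromSpecStalk y)).stalkMap t))
        (fun x hx => Scheme.Pullback.exists_preimage_pullback x _ hx)
      rw [Scheme.fromSpecStalk_closedPoint] at hd
      exact Or.inr hd
    · refine Or.inl (regPair_of_depth _ ?_)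
      exact (ENat.add_one_le_iff (by simp)).2 (not_le.1 hy) |>.trans_eq' (by rfl)

theorem normal_criterion (f : X ⟶ Y) [Flat f] [Surjective f] (hf : QuasiCompact f ∨ IsOpenMap f)
    (hY : Pi1.IsNormalScheme Y)
    (hfib : ∀ y : ↥Y, ringKrullDim ↑(Y.presheaf.stalk y) = 1 → IsIntegral (f.fiber y))
    (J : X.IdealSheafData) (hJ : BlowUp.IsEffCartierIdeal J) :
    (∃ I : Y.IdealSheafData, BlowUp.IsEffCartierIdeal I ∧ I.comap f = J) ↔
      ∀ η : ↥Y, (∀ z : ↥Y, z ⤳ η → z = η) → J.comap (f.fiberι η) = ⊤ := by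
  constructor
  · rintro ⟨I, hI, rfl⟩ η hη
    have := (hY η).1
    refine ext_stk fun t => ?_
    have htop : stk (⊤ : (f.fiber η).IdealSheafData) t = ⊤ := by
      obtain ⟨_, ⟨U, hU, rfl⟩, hsU, -⟩ :=
        (f.fiber η).isBasis_affineOpens.exists_subset_of_mem_open (Set.mem_univ t) isOpen_univ
      rw [stk_eq _ ⟨U, hU⟩ hsU, show (⊤ : (f.fiber η).IdealSheafData).ideal ⟨U, hU⟩ = ⊤ from rfl, Ideal.map_top]
    have hη' : f (f.fiberι η t) = η := (f.range_fiberι η).le ⟨t, rfl⟩
    have hbot : maximalIdeal (Y.presheaf.stalk η) = ⊥ := by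
      by_contra hb
      obtain ⟨z, hz, hzP⟩ := exists_point (⊥ : Ideal (Y.presheaf.stalk η)) Ideal.isPrime_bot
      obtain rfl := hη z hz
      exact hb ((primeOf_refl _ _).symm.trans hzP)
    obtain ⟨g, hg, hgI⟩ := exists_gen hI η
    have hgu : IsUnit g := by
      by_contra hgu
      have : g ∈ maximalIdeal (Y.presheaf.stalk η) := hgu
      rw [hbot, Ideal.mem_bot] at this
      exact nonZeroDivisors.ne_zero hg this
    have key : stk I (f (f.fiberι η t)) = ⊤ := hη'.symm ▸ (hgI.trans (Ideal.span_singleton_eq_top.2 hgu))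
    rw [htop, stk_comap, stk_comap, key, Ideal.map_top, Ideal.map_top]
  · intro h
    refine exists_effCartier hf hJ (descAt_all hJ fun y => ?_)
    have := (hY y).1
    have := (hY y).2
    by_cases hbot : maximalIdeal (Y.presheaf.stalk y) = ⊥
    · refine Or.inr ⟨1, fun x hx => ?_⟩
      obtain ⟨t, rfl⟩ : ∃ t, f.fiberι y t = x := ⟨_, f.fiberι_fiberHomeo_symm y ⟨x, hx⟩⟩
      rw [stk_eq_top_of_comap _ (h y fun z hz => eq_of_specializes_of_field hbot hz) t, map_one, Ideal.span_singleton_one]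
    by_cases hP : ∀ P : Ideal (Y.presheaf.stalk y), P ≠ ⊥ → P.IsPrime → P = maximalIdeal _
    swap
    · push Not at hP
      obtain ⟨P, hP0, hPp, hPm⟩ := hP
      refine Or.inl (regPair_of_depth _ (CAlgH3.two_le_depth_of_normal ?_))
      rw [← IsLocalRing.maximalIdeal_height_eq_ringKrullDim]
      have h1 := Ideal.height_add_one_le_of_lt_of_isPrime (bot_lt_iff_ne_bot.2 hP0)
      have h2 := Ideal.height_add_one_le_of_lt_of_isPrime (lt_of_le_of_ne (le_maximalIdeal hPp.ne_top) hPm)
      have h4 : (1 : ℕ∞) ≤ P.height := le_trans le_add_self h1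
      have h3 : (2 : ℕ∞) ≤ (maximalIdeal (Y.presheaf.stalk y)).height :=
        le_trans (by rw [← one_add_one_eq_two]; gcongr) h2
      exact WithBot.coe_le_coe.2 h3
    have h34 : (IsIntegrallyClosed (Y.presheaf.stalk y) ∧
        ∀ P : Ideal (Y.presheaf.stalk y), P ≠ ⊥ → P.IsPrime → P = maximalIdeal _) ↔
          (maximalIdeal (Y.presheaf.stalk y)).IsPrincipal :=
      (tfae_of_isNoetherianRing_of_isLocalRing_of_isDomain (Y.presheaf.stalk y)).out 3 4
    have h40 : (maximalIdeal (Y.presheaf.stalk y)).IsPrincipal ↔ IsPrincipalIdealRing (Y.presheaf.stalk y) :=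
      (tfae_of_isNoetherianRing_of_isLocalRing_of_isDomain (Y.presheaf.stalk y)).out 4 0
    obtain ⟨π, hπ⟩ := h34.1 ⟨inferInstance, hP⟩
    rw [Ideal.submodule_span_eq] at hπ
    have hπ0 : π ≠ 0 := fun h0 => hbot (by rw [hπ, h0, Ideal.span_singleton_eq_bot])
    have hdim : ringKrullDim (Y.presheaf.stalk y) = 1 := by
      have : IsPrincipalIdealRing (Y.presheaf.stalk y) :=
        h40.1 ⟨π, hπ.trans (Ideal.submodule_span_eq).symm⟩
      exact IsPrincipalIdealRing.ringKrullDim_eq_one _ (fun hF => hbot (isField_iff_maximalIdeal_eq.1 hF))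
    refine Or.inr (descAt_dvr hJ y (hfib y hdim) π hπ (mem_nonZeroDivisors_of_ne_zero hπ0) fun x hx hne => ?_)
    have hz0 : primeOf hx = ⊥ := by
      by_contra hz
      exact hne (eq_of_primeOf_eq hx (specializes_refl y) ((hP _ hz (isPrime_primeOf hx)).trans (primeOf_refl _ _).symm))
    have hmax : ∀ w, w ⤳ f x → w = f x := fun w hw => by
      by_cases hw0 : primeOf (hw.trans hx) = ⊥
      · exact eq_of_primeOf_eq (hw.trans hx) hx (hw0.trans hz0.symm)
      · obtain rfl : w = y := eq_of_primeOf_eq (hw.trans hx) (specializes_refl y)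
          ((hP _ hw0 (isPrime_primeOf _)).trans (primeOf_refl _ _).symm)
        exact absurd (hx.antisymm hw).eq hne
    obtain ⟨t, ht⟩ : ∃ t, f.fiberι (f x) t = x := ⟨_, f.fiberι_fiberHomeo_symm (f x) ⟨x, rfl⟩⟩
    rw [← ht]
    exact stk_eq_top_of_comap _ (h _ hmax) t

end Groth.Agent.Misc15.DivDescent
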