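import Groth.Agent.LocCoh.Injectives

/-! Compatible fractions in an injective module over a Noetherian ring come from one element. -/

set_option autoImplicit false
universe u

namespace Groth.Agent.Misc15.Koszul

variable {A : Type u} [CommRing A] [IsNoetherianRing A]

theorem exists_smul_eq_of_injective {I : Type u} [AddCommGroup I] [Module A I] [Module.Injective A I]
    (t : A) (m : I) : ∃ (y : I) (k : ℕ), t ^ k • (t • y - m) = 0 := by
  obtain ⟨k, hk⟩ := (monotone_stabilizes_iff_noetherian (R := A) (M := A)).mpr inferInstance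
    ⟨fun n => LinearMap.ker (LinearMap.mulLeft A (t ^ n)), fun a b hab x hx => by
      simp only [LinearMap.mem_ker, LinearMap.mulLeft_apply] at hx ⊢
      rw [← Nat.sub_add_cancel hab, pow_add, mul_assoc, hx, mul_zero]⟩
  let μ : A →ₗ[A] A := LinearMap.mulLeft A (t ^ (k + 1))
  have hle : LinearMap.ker μ ≤ LinearMap.ker (LinearMap.toSpanSingleton A I (t ^ k • m)) := by
    intro a ha
    have h2 : a ∈ LinearMap.ker (LinearMap.mulLeft A (t ^ k)) := by
      have := hk (k + 1) (Nat.le_succ k)
      exact SetLike.ext_iff.1 this.symm a |>.1 ha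
    simp only [LinearMap.mem_ker, LinearMap.mulLeft_apply] at h2
    simp only [LinearMap.mem_ker, LinearMap.toSpanSingleton_apply]
    rw [smul_smul, mul_comm, h2, zero_smul]
  obtain ⟨h, hh⟩ := Module.Injective.out (R := A) (Q := I)
    ((LinearMap.ker μ).liftQ μ le_rfl)
    (by rw [← LinearMap.ker_eq_bot]; exact Submodule.ker_liftQ_eq_bot' _ _ rfl)
    ((LinearMap.ker μ).liftQ (LinearMap.toSpanSingleton A I (t ^ k • m)) hle)
  refine ⟨h 1, k, ?_⟩
  have h1 := hh (Submodule.Quotient.mk 1)
  simp only [Submodule.liftQ_apply, LinearMap.toSpanSingleton_apply, one_smul] at h1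
  rw [show μ 1 = t ^ (k + 1) • (1 : A) by simp [μ], map_smul] at h1
  rw [smul_sub, smul_smul, ← pow_succ, h1, sub_self]

theorem exists_extend_aux : ∀ (n : ℕ) (I : Type u) [AddCommGroup I] [Module A I] [Module.Injective A I]
    (ps : List (A × I)), ps.length = n →
    (∀ p ∈ ps, ∀ q ∈ ps, ∃ k : ℕ, (p.1 * q.1) ^ k • (q.1 • p.2 - p.1 • q.2) = 0) →
    ∃ y : I, ∀ p ∈ ps, ∃ k : ℕ, p.1 ^ k • (p.1 • y - p.2) = 0
  | 0, I, _, _, _, ps, hlen, _ => ⟨0, fun p hp => by
      rw [List.length_eq_zero_iff.1 hlen] at hp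
      exact absurd hp List.not_mem_nil⟩
  | n + 1, I, _, _, _, ps, hlen, hc => by
      obtain ⟨⟨t, m⟩, ps, rfl⟩ : ∃ a l, ps = a :: l := by
        cases ps with
        | nil => simp at hlen
        | cons a l => exact ⟨a, l, rfl⟩
      obtain ⟨y₀, a, ha⟩ := exists_smul_eq_of_injective t m
      let J := LocCoh.powTorsion (Ideal.span {t}) I
      have : Module.Injective A J := LocCoh.injective_powTorsion _ I
      have hmem : ∀ p ∈ ps, ∃ (k : ℕ), p.1 ^ k • (p.2 - p.1 • y₀) ∈ J := by
        intro p hp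
        obtain ⟨k, hk⟩ := hc (t, m) List.mem_cons_self p (List.mem_cons_of_mem _ hp)
        refine ⟨k, LocCoh.mem_powTorsion.2 ⟨a + k + 1, fun c hc' => ?_⟩⟩
        rw [Ideal.span_singleton_pow, Ideal.mem_span_singleton] at hc'
        obtain ⟨d, rfl⟩ := hc'
        have h1 : t ^ (a + k + 1) • p.1 ^ k • (p.2 - p.1 • y₀) =
            -((t ^ a) • ((t * p.1) ^ k • (p.1 • m - t • p.2))) - (t ^ k * p.1 ^ (k + 1)) • (t ^ a • (t • y₀ - m)) := by
          simp only [smul_sub, smul_smul]
          module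
        rw [hk, ha] at h1
        simp only [smul_zero, neg_zero, sub_zero] at h1
        rw [mul_comm, mul_smul, h1, smul_zero]
      choose k hk using hmem
      obtain ⟨j, hj⟩ := exists_extend_aux n J
        (ps.pmap (fun p hp => (p.1 ^ (k p hp + 1), (⟨_, hk p hp⟩ : J))) (fun _ h => h))
        (by simp at hlen ⊢; omega) (by
          intro P hP Q hQ
          rw [List.mem_pmap] at hP hQ
          obtain ⟨p, hp, rfl⟩ := hP
          obtain ⟨q, hq, rfl⟩ := hQ
          obtain ⟨e, he⟩ := hc p (List.mem_cons_of_mem _ hp) q (List.mem_cons_of_mem _ hq)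
          refine ⟨e, Subtype.ext ?_⟩
          simp only [Submodule.coe_smul, AddSubgroupClass.coe_sub, ZeroMemClass.coe_zero]
          generalize k p hp = kp
          generalize k q hq = kq
          rw [show (p.1 ^ (kp + 1) * q.1 ^ (kq + 1)) ^ e •
              (q.1 ^ (kq + 1) • p.1 ^ kp • (p.2 - p.1 • y₀) - p.1 ^ (kp + 1) • q.1 ^ kq • (q.2 - q.1 • y₀)) =
              ((p.1 ^ kp * q.1 ^ kq) ^ e * (p.1 ^ kp * q.1 ^ kq)) • ((p.1 * q.1) ^ e • (q.1 • p.2 - p.1 • q.2)) by
            simp only [smul_sub, smul_smul]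
            module]
          rw [he, smul_zero])
      refine ⟨y₀ + j, fun p hp => ?_⟩
      rcases List.mem_cons.1 hp with rfl | hp
      · obtain ⟨c, hc'⟩ := LocCoh.mem_powTorsion.1 j.2
        refine ⟨c + a, ?_⟩
        have hj0 : t ^ c • (j : I) = 0 := hc' _ (Ideal.pow_mem_pow (Ideal.mem_span_singleton_self t) c)
        calc t ^ (c + a) • (t • (y₀ + (j : I)) - m)
            = t ^ c • (t ^ a • (t • y₀ - m)) + (t ^ a * t) • (t ^ c • (j : I)) := by
              simp only [smul_sub, smul_add, smul_smul]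
              module
          _ = 0 := by rw [ha, hj0, smul_zero, smul_zero, add_zero]
      · obtain ⟨b, hb⟩ := hj _ (List.mem_pmap.2 ⟨p, hp, rfl⟩)
        refine ⟨(k p hp + 1) * b + k p hp, ?_⟩
        have hb' := congrArg Subtype.val hb
        simp only [Submodule.coe_smul, AddSubgroupClass.coe_sub, ZeroMemClass.coe_zero] at hb'
        rw [← hb']
        generalize k p hp = kp
        simp only [smul_sub, smul_add, smul_smul]
        module

/-- Compatible fractions `m / t` in an injective module come from an element. -/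
theorem exists_extend {I : Type u} [AddCommGroup I] [Module A I] [Module.Injective A I] (ps : List (A × I))
    (hc : ∀ p ∈ ps, ∀ q ∈ ps, ∃ k : ℕ, (p.1 * q.1) ^ k • (q.1 • p.2 - p.1 • q.2) = 0) :
    ∃ y : I, ∀ p ∈ ps, ∃ k : ℕ, p.1 ^ k • (p.1 • y - p.2) = 0 :=
  exists_extend_aux ps.length I ps rfl hc

end Groth.Agent.Misc15.Koszul
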