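import Mathlib

/-! Flatness of Frobenius from a p-basis, and flatness of the perfect closure -/

universe u

namespace Groth.Agent.Misc15

theorem flat_of_bijective_sum {R S κ : Type u} [CommRing R] [CommRing S] (f : R →+* S) (b : κ → S)
    (h : Function.Bijective (fun c : κ →₀ R => c.sum (fun e r => f r * b e))) : f.Flat := by
  algebraize [f]
  show Module.Flat R S
  have h' : Function.Bijective (Finsupp.linearCombination R b) := by
    convert h using 1
    funext c
    simp [Finsupp.linearCombination_apply, Algebra.smul_def, RingHom.algebraMap_toAlgebra]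
  exact Module.Flat.of_linearEquiv (LinearEquiv.ofBijective _ h').symm

theorem trivialRelation_of_flat {R S : Type u} [CommRing R] [CommRing S] {f : R →+* S}
    (hf : f.Flat) {l : ℕ} (r : Fin l → R) (x : Fin l → S) (h : ∑ i, f (r i) * x i = 0) :
    ∃ (k : ℕ) (a : Fin l → Fin k → R) (y : Fin k → S),
      (∀ i, x i = ∑ j, f (a i j) * y j) ∧ ∀ j, ∑ i, r i * a i j = 0 := by
  algebraize [f]
  obtain ⟨k, a, y, h1, h2⟩ := Module.Flat.isTrivialRelation_of_sum_smul_eq_zero
    (R := R) (M := S) (f := r) (x := x)
    (by simpa [Algebra.smul_def, RingHom.algebraMap_toAlgebra] using h)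
  exact ⟨k, a, y, fun i => by
    simpa [Algebra.smul_def, RingHom.algebraMap_toAlgebra] using h1 i, h2⟩

theorem flat_iterateFrobenius {R : Type u} [CommRing R] (p : ℕ) [Fact p.Prime] [CharP R p]
    (h : (frobenius R p).Flat) : ∀ n, (iterateFrobenius R p n).Flat
  | 0 => by rw [iterateFrobenius_zero]; exact .id R
  | n + 1 => by
    rw [iterateFrobenius_add, iterateFrobenius_one]
    exact RingHom.Flat.comp h (flat_iterateFrobenius p h n)

theorem flat_of_isPRadical {R P : Type u} [CommRing R] [CommRing P] (p : ℕ) [Fact p.Prime]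
    [CharP R p] [CharP P p] [PerfectRing P p] (i : R →+* P) [IsPRadical i p]
    (hi : Function.Injective i) (hF : (frobenius R p).Flat) : i.Flat := by
  algebraize [i]
  show Module.Flat R P
  refine Module.Flat.iff_forall_isTrivialRelation.2 fun {l r x} hrel => ?_
  have hex : ∀ j, ∃ (n : ℕ) (z : R), i z = x j ^ p ^ n := fun j => IsPRadical.pow_mem i p (x j)
  choose n z hz using hex
  set N := Finset.univ.sup n
  have hz' : ∀ j, i (z j ^ p ^ (N - n j)) = x j ^ p ^ N := by
    intro j
    rw [map_pow, hz, ← pow_mul, ← pow_add,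
      Nat.add_sub_cancel' (Finset.le_sup (Finset.mem_univ j))]
  have hR : ∑ j, iterateFrobenius R p N (r j) * z j ^ p ^ (N - n j) = 0 := by
    apply hi
    simp only [Algebra.smul_def, RingHom.algebraMap_toAlgebra] at hrel
    rw [map_zero, map_sum]
    calc ∑ j, i (iterateFrobenius R p N (r j) * z j ^ p ^ (N - n j))
        = iterateFrobenius P p N (∑ j, i (r j) * x j) := by
          simp [map_sum, hz', iterateFrobenius_def, mul_pow]
      _ = 0 := by rw [hrel, map_zero]
  obtain ⟨k, a, y, h1, h2⟩ :=
    trivialRelation_of_flat (flat_iterateFrobenius p hF N) r _ hR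
  refine ⟨k, a, fun j => (iterateFrobeniusEquiv P p N).symm (i (y j)), fun j => ?_, h2⟩
  apply (iterateFrobeniusEquiv P p N).injective
  simp only [map_sum, Algebra.smul_def, RingHom.algebraMap_toAlgebra, map_mul,
    RingEquiv.apply_symm_apply, iterateFrobeniusEquiv_def, ← hz', h1, iterateFrobenius_def, map_pow]

end Groth.Agent.Misc15
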