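import Mathlib

/-! A monomorphism of schemes induces isomorphisms of residue fields, as lifts of points. -/

universe u

open AlgebraicGeometry CategoryTheory CategoryTheory.Limits

namespace Groth.Agent.Misc15

theorem exists_lift_fromSpecResidueField {X Y : Scheme.{u}} (f : Y ⟶ X) [Mono f] (y : Y) :
    ∃ l : Spec (X.residueField (f y)) ⟶ Y, l ≫ f = X.fromSpecResidueField (f y) := by
  set x := f y
  let s := pullback.snd f (X.fromSpecResidueField x)
  have hsub : Subsingleton ↥(pullback f (X.fromSpecResidueField x)) :=
    s.injective.subsingleton
  have : CompactSpace ↥(pullback f (X.fromSpecResidueField x)) := Finite.compactSpace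
  have : Surjective s := by
    constructor
    intro q
    obtain ⟨z, -, hz⟩ := Scheme.Pullback.exists_preimage_pullback (f := f)
      (g := X.fromSpecResidueField x) y q (X.fromSpecResidueField_apply x q).symm
    exact ⟨z, hz⟩
  have : QuasiCompact s := (quasiCompact_iff_compactSpace s).mpr ‹_›
  have := Flat.isIso_of_surjective_of_mono s
  exact ⟨inv s ≫ pullback.fst _ _, by rw [Category.assoc, pullback.condition, IsIso.inv_hom_id_assoc]⟩

end Groth.Agent.Misc15
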