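import Groth.Prelude.Def_BlowUp2
import Groth.Agent.ProjLib.IdealComap
import Groth.Agent.H8Top.SchemeBasic
import Groth.Agent.Misc15.StalkLoc
import Mathlib

/-! Stalks of ideal sheaves and descent of effective Cartier ideals from stalkwise data. -/

set_option autoImplicit false
set_option backward.isDefEq.respectTransparency false
set_option backward.isDefEq.respectTransparency.types false
universe u

open AlgebraicGeometry CategoryTheory TopologicalSpace Opposite

namespace Groth.Agent.Misc15.DivDescent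

variable {X Y : Scheme.{u}}

/-- the stalk of an ideal sheaf -/
noncomputable def stk (J : X.IdealSheafData) (x : X) : Ideal (X.presheaf.stalk x) :=
  ⨆ (U : X.affineOpens) (h : x ∈ U.1), (J.ideal U).map (X.presheaf.germ U.1 x h).hom

theorem germ_res_apply' {U V : X.Opens} (e : U ≤ V) (x : X) (hx : x ∈ U) (a : Γ(X, V)) :
    X.presheaf.germ U x hx (X.presheaf.map (homOfLE e).op a) = X.presheaf.germ V x (e hx) a :=
  X.presheaf.germ_res_apply (homOfLE e) x hx a

theorem map_germ_of_le (J : X.IdealSheafData) {U W : X.affineOpens} (e : W.1 ≤ U.1) {x : X} (hx : x ∈ W.1) :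
    (J.ideal W).map (X.presheaf.germ W.1 x hx).hom = (J.ideal U).map (X.presheaf.germ U.1 x (e hx)).hom := by
  rw [← J.map_ideal (U := W) (V := U) e, Ideal.map_map]
  congr 1
  ext a
  exact germ_res_apply' e x hx a

theorem stk_eq (J : X.IdealSheafData) (U : X.affineOpens) {x : X} (hx : x ∈ U.1) :
    stk J x = (J.ideal U).map (X.presheaf.germ U.1 x hx).hom := by
  refine le_antisymm (iSup₂_le fun U' hx' => ?_) (le_iSup₂ (f := fun (U : X.affineOpens) (h : x ∈ U.1) =>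
    (J.ideal U).map (X.presheaf.germ U.1 x h).hom) U hx)
  obtain ⟨_, ⟨W, hW, rfl⟩, hxW, hWle⟩ :=
    X.isBasis_affineOpens.exists_subset_of_mem_open (show x ∈ (U.1 ⊓ U'.1 : X.Opens) from ⟨hx, hx'⟩) (U.1 ⊓ U'.1).isOpen
  rw [← map_germ_of_le J (W := ⟨W, hW⟩) (fun z hz => (hWle hz).2) hxW,
    ← map_germ_of_le J (W := ⟨W, hW⟩) (fun z hz => (hWle hz).1) hxW]

theorem stk_span (J : X.IdealSheafData) (U : X.affineOpens) {g : Γ(X, U.1)} (h : J.ideal U = Ideal.span {g})
    {x : X} (hx : x ∈ U.1) : stk J x = Ideal.span {X.presheaf.germ U.1 x hx g} := by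
  rw [stk_eq J U hx, h, Ideal.map_span, Set.image_singleton]

theorem stk_comap (I : Y.IdealSheafData) (f : X ⟶ Y) (x : X) :
    stk (I.comap f) x = (stk I (f x)).map (f.stalkMap x).hom := by
  obtain ⟨_, ⟨U, hU, rfl⟩, hxU, -⟩ :=
    Y.isBasis_affineOpens.exists_subset_of_mem_open (Set.mem_univ (f x)) isOpen_univ
  obtain ⟨_, ⟨V, hV, rfl⟩, hxV, hVU⟩ :=
    X.isBasis_affineOpens.exists_subset_of_mem_open (show x ∈ f ⁻¹ᵁ U from hxU) (f ⁻¹ᵁ U).isOpen
  rw [stk_eq _ ⟨V, hV⟩ hxV, stk_eq _ ⟨U, hU⟩ hxU, ProjLib.comap_ideal_eq I f ⟨U, hU⟩ ⟨V, hV⟩ hVU,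
    Ideal.map_map, Ideal.map_map]
  congr 1
  ext a
  show X.presheaf.germ V x hxV (f.appLE U V hVU a) = f.stalkMap x (Y.presheaf.germ U (f x) hxU a)
  rw [Scheme.Hom.germ_stalkMap_apply]
  exact germ_res_apply' hVU x hxV _

theorem germ_mem_nonZeroDivisors (U : X.affineOpens) {g : Γ(X, U.1)} (hg : g ∈ nonZeroDivisors Γ(X, U.1))
    {x : X} (hx : x ∈ U.1) : X.presheaf.germ U.1 x hx g ∈ nonZeroDivisors (X.presheaf.stalk x) := by
  letI := X.presheaf.algebra_section_stalk (⟨x, hx⟩ : U.1)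
  haveI := U.2.isLocalization_stalk ⟨x, hx⟩
  exact IsLocalization.map_nonZeroDivisors_le (U.2.primeIdealOf ⟨x, hx⟩).asIdeal.primeCompl
    (X.presheaf.stalk x) (Submonoid.mem_map_of_mem _ hg)

theorem exists_gen {J : X.IdealSheafData} (hJ : BlowUp.IsEffCartierIdeal J) (x : X) :
    ∃ g ∈ nonZeroDivisors (X.presheaf.stalk x), stk J x = Ideal.span {g} := by
  obtain ⟨U, hx, g, hg, hU⟩ := hJ x
  exact ⟨_, germ_mem_nonZeroDivisors U hg hx, stk_span J U hU hx⟩

theorem mem_of_germ (U : X.affineOpens) (K : Ideal Γ(X, U.1)) {c : Γ(X, U.1)}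
    (h : ∀ x, ∀ hx : x ∈ U.1, X.presheaf.germ U.1 x hx c ∈ K.map (X.presheaf.germ U.1 x hx).hom) : c ∈ K := by
  refine Ideal.mem_of_localization_maximal fun P hP => ?_
  obtain ⟨x, hx₀⟩ : ∃ x : X, x = U.2.fromSpec ⟨P, hP.isPrime⟩ := ⟨_, rfl⟩
  have hx : x ∈ U.1 := by rw [hx₀, ← SetLike.mem_coe, ← U.2.range_fromSpec]; exact ⟨_, rfl⟩
  letI := X.presheaf.algebra_section_stalk (⟨x, hx⟩ : U.1)
  haveI := U.2.isLocalization_stalk ⟨x, hx⟩
  have hP' : (U.2.primeIdealOf ⟨x, hx⟩).asIdeal = P :=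
    congrArg PrimeSpectrum.asIdeal (U.2.fromSpec.isOpenEmbedding.injective ((U.2.fromSpec_primeIdealOf ⟨x, hx⟩).trans hx₀))
  obtain ⟨⟨⟨a, ha⟩, s⟩, has⟩ := (IsLocalization.mem_map_algebraMap_iff (U.2.primeIdealOf ⟨x, hx⟩).asIdeal.primeCompl _).1
    (show algebraMap Γ(X, U.1) (X.presheaf.stalk x) c ∈ K.map (algebraMap _ _) from h x hx)
  rw [← map_mul] at has
  obtain ⟨t, ht⟩ := (IsLocalization.eq_iff_exists (U.2.primeIdealOf ⟨x, hx⟩).asIdeal.primeCompl _).1 has
  refine (IsLocalization.mem_map_algebraMap_iff P.primeCompl _).2 ⟨⟨⟨_, K.mul_mem_left t ha⟩,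
    ⟨t * s, fun h => ?_⟩⟩, ?_⟩
  · rcases hP.isPrime.mem_or_mem h with h | h
    · exact t.2 (hP'.symm ▸ h)
    · exact s.2 (hP'.symm ▸ h)
  · rw [← map_mul]
    congr 1
    show c * (t * s) = t * a
    rw [← ht]; ring

theorem mem_ideal_iff (J : X.IdealSheafData) (U : X.affineOpens) {c : Γ(X, U.1)} :
    c ∈ J.ideal U ↔ ∀ x, ∀ hx : x ∈ U.1, X.presheaf.germ U.1 x hx c ∈ stk J x :=
  ⟨fun h x hx => stk_eq J U hx ▸ Ideal.mem_map_of_mem _ h,
    fun h => mem_of_germ U _ fun x hx => stk_eq J U hx ▸ h x hx⟩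

theorem ext_stk {I J : X.IdealSheafData} (h : ∀ x, stk I x = stk J x) : I = J :=
  Scheme.IdealSheafData.ext (funext fun U => Ideal.ext fun c => by
    rw [mem_ideal_iff, mem_ideal_iff]; simp only [h])

/-- the map of local rings `O_y → O_x` for `f x = y` -/
noncomputable def φ (f : X ⟶ Y) {x : X} {y : Y} (hx : f x = y) : Y.presheaf.stalk y →+* X.presheaf.stalk x :=
  (f.stalkMap x).hom.comp (Y.presheaf.stalkSpecializes (specializes_of_eq hx)).hom

theorem φ_rfl (f : X ⟶ Y) (x : X) : φ f (rfl : f x = f x) = (f.stalkMap x).hom := by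
  ext a
  simp [φ]

theorem φ_germ (f : X ⟶ Y) {x : X} {y : Y} (hx : f x = y) {U : Y.Opens} (hy : y ∈ U) (a : Γ(Y, U)) :
    φ f hx (Y.presheaf.germ U y hy a) = X.presheaf.germ (f ⁻¹ᵁ U) x (show f x ∈ U from hx.symm ▸ hy) (f.app U a) := by
  subst hx
  rw [φ_rfl]
  exact Scheme.Hom.germ_stalkMap_apply f U x hy a

theorem flat_φ (f : X ⟶ Y) [Flat f] {x : X} {y : Y} (hx : f x = y) : (φ f hx).Flat := by
  subst hx; rw [φ_rfl]; exact Flat.stalkMap f x

theorem isLocalHom_φ (f : X ⟶ Y) {x : X} {y : Y} (hx : f x = y) : IsLocalHom (φ f hx) := by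
  subst hx; rw [φ_rfl]; exact inferInstanceAs (IsLocalHom (f.stalkMap x).hom)

theorem comap_map_φ (f : X ⟶ Y) [Flat f] {x : X} {y : Y} (hx : f x = y) (I : Ideal (Y.presheaf.stalk y)) :
    (I.map (φ f hx)).comap (φ f hx) = I := by
  letI := (φ f hx).toAlgebra
  have : Module.Flat (Y.presheaf.stalk y) (X.presheaf.stalk x) := flat_φ f hx
  have : IsLocalHom (algebraMap (Y.presheaf.stalk y) (X.presheaf.stalk x)) := isLocalHom_φ f hx
  have : Module.FaithfullyFlat (Y.presheaf.stalk y) (X.presheaf.stalk x) :=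
    Module.FaithfullyFlat.of_flat_of_isLocalHom
  exact Ideal.comap_map_eq_self_of_faithfullyFlat (B := X.presheaf.stalk x) I

theorem φ_injective (f : X ⟶ Y) [Flat f] {x : X} {y : Y} (hx : f x = y) : Function.Injective (φ f hx) := by
  rw [RingHom.injective_iff_ker_eq_bot, RingHom.ker_eq_comap_bot]
  simpa using comap_map_φ f hx ⊥

/-- `J` descends at `y` -/
def DescAt (f : X ⟶ Y) (J : X.IdealSheafData) (y : Y) : Prop :=
  ∃ a : Y.presheaf.stalk y, ∀ (x : X) (hx : f x = y), stk J x = Ideal.span {φ f hx a}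

/-- The family of ideals of sections whose pullback lies in `J`. -/
noncomputable def pre (f : X ⟶ Y) (J : X.IdealSheafData) (U : Y.Opens) : Ideal Γ(Y, U) :=
  ⨅ (x : X) (hx : f x ∈ U), (stk J x).comap ((f.stalkMap x).hom.comp (Y.presheaf.germ U (f x) hx).hom)

theorem mem_pre (f : X ⟶ Y) (J : X.IdealSheafData) (U : Y.Opens) {c : Γ(Y, U)} :
    c ∈ pre f J U ↔ ∀ (x : X) (hx : f x ∈ U), f.stalkMap x (Y.presheaf.germ U (f x) hx c) ∈ stk J x := by
  simp [pre, Submodule.mem_iInf]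

variable {f : X ⟶ Y} {J : X.IdealSheafData}

theorem res_mem_pre {U V : Y.Opens} (e : V ≤ U) {c : Γ(Y, U)} (hc : c ∈ pre f J U) :
    Y.presheaf.map (homOfLE e).op c ∈ pre f J V := by
  rw [mem_pre] at hc ⊢
  intro x hx
  rw [germ_res_apply' e]
  exact hc x (e hx)

/-- membership in a principal ideal of a stalk spreads -/
theorem nhd_dvd {U W : X.Opens} {x : X} (hU : x ∈ U) (hW : x ∈ W) (a : Γ(X, U)) (b : Γ(X, W))
    (h : X.presheaf.germ U x hU a ∣ X.presheaf.germ W x hW b) :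
    ∃ (O : X.Opens) (_ : x ∈ O) (eU : O ≤ U) (eW : O ≤ W), ∀ z, ∀ hz : z ∈ O,
      X.presheaf.germ U z (eU hz) a ∣ X.presheaf.germ W z (eW hz) b := by
  obtain ⟨u, hu⟩ := h
  obtain ⟨V, hV, u, rfl⟩ := X.presheaf.exists_germ_eq u
  let O₁ : X.Opens := U ⊓ V
  have h1 : O₁ ≤ U := inf_le_left
  have h2 : O₁ ≤ V := inf_le_right
  obtain ⟨O, hO, i1, i2, hOeq⟩ := X.presheaf.germ_eq x (⟨hU, hV⟩ : x ∈ O₁) hW
    (X.presheaf.map (homOfLE h1).op a * X.presheaf.map (homOfLE h2).op u) b (by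
      rw [map_mul, germ_res_apply' h1, germ_res_apply' h2, hu])
  refine ⟨O, hO, i1.le.trans h1, i2.le, fun z hz => ⟨X.presheaf.germ V z (h2 (i1.le hz)) u, ?_⟩⟩
  have h3 := congrArg (X.presheaf.germ O z hz) hOeq
  rw [X.presheaf.germ_res_apply, X.presheaf.germ_res_apply, map_mul, germ_res_apply' h1, germ_res_apply' h2] at h3
  exact h3.symm

theorem isOpen_agree (hJ : BlowUp.IsEffCartierIdeal J) {U : X.Opens} (a : Γ(X, U)) :
    IsOpen {x | ∃ hx : x ∈ U, stk J x = Ideal.span {X.presheaf.germ U x hx a}} := by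
  rw [isOpen_iff_forall_mem_open]
  rintro x ⟨hx, hxS⟩
  obtain ⟨W, hW, g, -, hg⟩ := hJ x
  rw [stk_span J W hg hW] at hxS
  obtain ⟨O₁, hO₁, e1, e1', h1⟩ := nhd_dvd hx hW a g
    (Ideal.span_singleton_le_span_singleton.1 hxS.le)
  obtain ⟨O₂, hO₂, e2, e2', h2⟩ := nhd_dvd hW hx g a
    (Ideal.span_singleton_le_span_singleton.1 hxS.ge)
  refine ⟨O₁ ⊓ O₂, fun z hz => ⟨e1 hz.1, ?_⟩, (O₁ ⊓ O₂).isOpen, ⟨hO₁, hO₂⟩⟩
  rw [stk_span J W hg (e1' hz.1)]
  exact le_antisymm (Ideal.span_singleton_le_span_singleton.2 (h1 z hz.1))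
    (Ideal.span_singleton_le_span_singleton.2 (h2 z hz.2))

/-- Around a point where `J` descends, it descends uniformly. -/
theorem exists_nhd [Flat f] [Surjective f] (hf : QuasiCompact f ∨ IsOpenMap f)
    (hJ : BlowUp.IsEffCartierIdeal J) (hd : ∀ y, DescAt f J y) (y : Y) :
    ∃ (V : Y.affineOpens) (a : Γ(Y, V.1)), y ∈ V.1 ∧
      ∀ (x : X) (hx : f x ∈ V.1), stk J x = Ideal.span {f.stalkMap x (Y.presheaf.germ V.1 (f x) hx a)} := by
  obtain ⟨a₀, ha₀⟩ := hd y
  obtain ⟨U, hy, a, rfl⟩ := Y.presheaf.exists_germ_eq a₀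
  let S : Set X := {x | ∃ hx : x ∈ f ⁻¹ᵁ U, stk J x = Ideal.span {X.presheaf.germ (f ⁻¹ᵁ U) x hx (f.app U a)}}
  have hS : IsOpen S := isOpen_agree hJ _
  have hfib : ∀ x, f x = y → x ∈ S := fun x hx =>
    ⟨show f x ∈ U from hx.symm ▸ hy, by rw [ha₀ x hx, φ_germ]⟩
  -- one point of agreement over `y'` suffices
  have hcomp : ∀ (y' : Y) (x₁ x : X), f x₁ = y' → f x = y' → x₁ ∈ S → x ∈ S := by
    intro y' x₁ x h₁ h hx₁
    obtain ⟨hx₁U, hx₁S⟩ := hx₁
    have hy' : y' ∈ U := h₁ ▸ hx₁U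
    obtain ⟨a', ha'⟩ := hd y'
    have h2 : Ideal.span {Y.presheaf.germ U y' hy' a} = Ideal.span {a'} := by
      rw [← comap_map_φ f h₁ (Ideal.span {Y.presheaf.germ U y' hy' a}), ← comap_map_φ f h₁ (Ideal.span {a'})]
      congr 1
      rw [Ideal.map_span, Ideal.map_span, Set.image_singleton, Set.image_singleton, φ_germ]
      exact hx₁S.symm.trans (ha' x₁ h₁)
    refine ⟨show f x ∈ U from h.symm ▸ hy', ?_⟩
    have h3 := congrArg (Ideal.map (φ f h)) h2
    rw [Ideal.map_span, Ideal.map_span, Set.image_singleton, Set.image_singleton, φ_germ] at h3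
    exact (ha' x h).trans h3.symm
  obtain ⟨V₀, hyV₀, hV₀⟩ : ∃ V₀ : Y.Opens, y ∈ V₀ ∧ ∀ x, f x ∈ V₀ → x ∈ S := by
    obtain ⟨x₀, hx₀⟩ := f.surjective y
    rcases hf with hq | ho
    · let Z : Closeds X := ⟨Sᶜ, hS.isClosed_compl⟩
      let ι := (Scheme.IdealSheafData.vanishingIdeal Z).subschemeι
      have hrange : Set.range ι = Sᶜ := by
        rw [Scheme.IdealSheafData.range_subschemeι, Scheme.IdealSheafData.coe_support_vanishingIdeal]
        rfl
      have hnot : y ∉ closure (f '' Sᶜ) := by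
        intro hcl
        rw [← hrange, ← Set.range_comp] at hcl
        obtain ⟨z, hz⟩ := H8Top.exists_specializes_of_mem_closure_range (ι ≫ f) (y := y)
          (by simpa [Scheme.Hom.comp_base] using hcl)
        rw [Scheme.Hom.comp_apply, ← hx₀] at hz
        obtain ⟨x₁, hx₁, hfx₁⟩ := Flat.generalizingMap f hz
        have hx₁S : x₁ ∈ S := hx₁.mem_open hS (hfib x₀ hx₀)
        exact (hrange ▸ Set.mem_range_self z : ι z ∈ Sᶜ) (hcomp _ x₁ _ hfx₁ rfl hx₁S)
      exact ⟨⟨(closure (f '' Sᶜ))ᶜ, isClosed_closure.isOpen_compl⟩, hnot, fun x hx =>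
        Classical.byContradiction fun hxS => hx (subset_closure ⟨x, hxS, rfl⟩)⟩
    · refine ⟨⟨f '' S, ho S hS⟩, ⟨x₀, hfib x₀ hx₀, hx₀⟩, ?_⟩
      rintro x ⟨x₁, hx₁, hfx⟩
      exact hcomp _ x₁ x hfx rfl hx₁
  obtain ⟨_, ⟨V, hV, rfl⟩, hyV, hVV₀⟩ :=
    Y.isBasis_affineOpens.exists_subset_of_mem_open (show y ∈ V₀ ⊓ U from ⟨hyV₀, hy⟩) (V₀ ⊓ U).isOpen
  have hVU : V ≤ U := fun z hz => (hVV₀ hz).2
  refine ⟨⟨V, hV⟩, Y.presheaf.map (homOfLE hVU).op a, hyV, fun x hx => ?_⟩
  rw [germ_res_apply' hVU, Scheme.Hom.germ_stalkMap_apply]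
  exact (hV₀ x (hVV₀ hx).1).2

theorem exists_effCartier [Flat f] [Surjective f] (hf : QuasiCompact f ∨ IsOpenMap f)
    (hJ : BlowUp.IsEffCartierIdeal J) (hd : ∀ y, DescAt f J y) :
    ∃ I : Y.IdealSheafData, BlowUp.IsEffCartierIdeal I ∧ I.comap f = J := by
  choose V a hyV hVa using fun y => exists_nhd hf hJ hd y
  have hpre : ∀ (y : Y) (W : Y.Opens) (hW : IsAffineOpen W) (e : W ≤ (V y).1),
      pre f J W = Ideal.span {Y.presheaf.map (homOfLE e).op (a y)} := by
    intro y W hW e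
    refine le_antisymm (fun c hc => mem_of_germ ⟨W, hW⟩ _ fun y' hy' => ?_)
      ((Ideal.span_singleton_le_iff_mem _).2 ?_)
    · obtain ⟨x, rfl⟩ := f.surjective y'
      have h1 := (mem_pre f J W).1 hc x hy'
      rw [hVa y x (e hy')] at h1
      rw [Ideal.map_span, Set.image_singleton]
      show _ ∈ Ideal.span {Y.presheaf.germ W (f x) hy' _}
      rw [germ_res_apply' e, ← comap_map_φ f (rfl : f x = f x) (Ideal.span {Y.presheaf.germ (V y).1 (f x) _ (a y)}),
        Ideal.mem_comap, Ideal.map_span, Set.image_singleton, φ_rfl]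
      exact h1
    · rw [mem_pre]
      intro x hx
      rw [germ_res_apply' e, hVa y x (e hx)]
      exact Ideal.mem_span_singleton_self _
  let I : Y.IdealSheafData :=
    { ideal := fun U => pre f J U.1
      map_ideal_basicOpen := fun U g => by
        refine le_antisymm (Ideal.map_le_iff_le_comap.2 fun c hc => res_mem_pre (Y.basicOpen_le g) hc) ?_
        intro c hc
        have := U.2.isLocalization_basicOpen g
        obtain ⟨c', ⟨_, n, rfl⟩, hcn⟩ := IsLocalization.exists_mk'_eq (Submonoid.powers g) c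
        -- locally a power of `g` moves `c'` into `pre`
        have key : ∀ y : U.1, ∃ (N : ℕ) (W : Y.Opens), y.1 ∈ W ∧ W ≤ U.1 ∧
            ∀ (x : X) (hx : f x ∈ U.1), f x ∈ W →
              f.stalkMap x (Y.presheaf.germ U.1 (f x) hx (g ^ N * c')) ∈ stk J x := by
          rintro ⟨y, hy⟩
          obtain ⟨h, hh, hyh⟩ := U.2.exists_basicOpen_le (V := (V y).1) ⟨y, hyV y⟩ hy
          let W : Y.affineOpens := ⟨Y.basicOpen h, U.2.basicOpen h⟩
          have eW : W.1 ≤ U.1 := Y.basicOpen_le h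
          let g' : Γ(Y, W.1) := Y.presheaf.map (homOfLE eW).op g
          let D : Y.affineOpens := ⟨Y.basicOpen g', W.2.basicOpen g'⟩
          have eD : D.1 ≤ W.1 := Y.basicOpen_le g'
          have eDg : D.1 ≤ Y.basicOpen g := by
            show Y.basicOpen g' ≤ _
            rw [Scheme.basicOpen_res]; exact inf_le_right
          have hD := res_mem_pre eDg hc
          rw [hpre y D.1 D.2 (eD.trans hh), ← hcn] at hD
          have := W.2.isLocalization_basicOpen g'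
          letI : Algebra Γ(Y, W.1) Γ(Y, D.1) := (Y.presheaf.map (homOfLE eD).op).hom.toAlgebra
          haveI : IsLocalization.Away g' Γ(Y, D.1) := W.2.isLocalization_basicOpen g'
          have hmem : algebraMap Γ(Y, W.1) Γ(Y, D.1) (Y.presheaf.map (homOfLE eW).op c') ∈
              (Ideal.span {Y.presheaf.map (homOfLE hh).op (a y)}).map (algebraMap Γ(Y, W.1) Γ(Y, D.1)) := by
            rw [Ideal.map_span, Set.image_singleton]
            have h2 : Y.presheaf.map (homOfLE (Y.basicOpen_le g)).op c' =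
                Y.presheaf.map (homOfLE (Y.basicOpen_le g)).op (g ^ n) *
                  IsLocalization.mk' Γ(Y, Y.basicOpen g) c' (⟨g ^ n, n, rfl⟩ : Submonoid.powers g) :=
              (IsLocalization.mk'_spec' Γ(Y, Y.basicOpen g) c' (⟨g ^ n, n, rfl⟩ : Submonoid.powers g)).symm
            have h3 := congrArg (Y.presheaf.map (homOfLE eDg).op) h2
            rw [map_mul] at h3
            simp only [← ConcreteCategory.comp_apply, ← Functor.map_comp] at h3
            show (Y.presheaf.map (homOfLE eW).op ≫ Y.presheaf.map (homOfLE eD).op) c' ∈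
              Ideal.span {(Y.presheaf.map (homOfLE hh).op ≫ Y.presheaf.map (homOfLE eD).op) (a y)}
            rw [← Functor.map_comp, ← Functor.map_comp]
            erw [h3]
            exact Ideal.mul_mem_left _ _ hD
          obtain ⟨⟨⟨b, hb⟩, ⟨_, N, rfl⟩⟩, hbN⟩ := (IsLocalization.mem_map_algebraMap_iff (Submonoid.powers g') _).1 hmem
          rw [← map_mul] at hbN
          obtain ⟨⟨_, M, rfl⟩, hM⟩ := (IsLocalization.eq_iff_exists (Submonoid.powers g') _).1 hbN
          refine ⟨M + N, W.1, hyh, eW, fun x hx hxW => ?_⟩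
          have hbW : g' ^ M * (Y.presheaf.map (homOfLE eW).op c' * g' ^ N) ∈ pre f J W.1 := by
            rw [hpre y W.1 W.2 hh, hM]
            exact Ideal.mul_mem_left _ _ hb
          have h4 := (mem_pre f J W.1).1 hbW x hxW
          simp only [g', ← map_pow, ← map_mul, germ_res_apply' eW] at h4
          rw [pow_add]
          convert h4 using 3
          ring
        choose N W hyW hWU hW using key
        obtain ⟨t, ht⟩ := U.2.isCompact.elim_finite_subcover (fun y => (W y : Set Y)) (fun y => (W y).isOpen)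
          (fun y hy => Set.mem_iUnion.2 ⟨⟨y, hy⟩, hyW _⟩)
        have hmem : g ^ t.sup N * c' ∈ pre f J U.1 := by
          rw [mem_pre]
          intro x hx
          obtain ⟨y, hy, hxy⟩ := Set.mem_iUnion₂.1 (ht hx)
          rw [← Nat.sub_add_cancel (Finset.le_sup (f := N) hy), pow_add, mul_assoc, map_mul, map_mul]
          exact Ideal.mul_mem_left _ _ (hW y x hx hxy)
        rw [← hcn]
        refine (IsLocalization.mk'_mem_map_algebraMap_iff (Submonoid.powers g) _ _ _ _).2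
          ⟨g ^ t.sup N, ⟨_, rfl⟩, hmem⟩ }
  refine ⟨I, fun y => ⟨V y, hyV y, a y, ?_, ?_⟩, ext_stk fun x => ?_⟩
  · rw [mem_nonZeroDivisors_iff_right]
    intro c hc
    refine Ideal.mem_bot.1 (mem_of_germ (V y) ⊥ fun y' hy' => ?_)
    rw [Ideal.map_bot, Ideal.mem_bot]
    obtain ⟨x, rfl⟩ := f.surjective y'
    obtain ⟨gx, hgx, hgJ⟩ := exists_gen hJ x
    obtain ⟨u, hu⟩ := Ideal.span_singleton_le_span_singleton.1 ((hVa y x hy').symm.trans hgJ).ge
    have h1 := congrArg (fun z => f.stalkMap x (Y.presheaf.germ (V y).1 (f x) hy' z)) hc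
    simp only [map_mul, map_zero] at h1
    refine φ_injective f (rfl : f x = f x) ?_
    rw [φ_rfl, map_zero]
    refine (mem_nonZeroDivisors_iff_right.1 hgx) _ ?_
    show f.stalkMap x _ * gx = 0
    rw [hu, ← mul_assoc, h1, zero_mul]
  · exact (hpre y _ (V y).2 le_rfl).trans (by simp)
  · rw [stk_comap, stk_span I (V (f x)) (g := a (f x)) ((hpre _ _ (V (f x)).2 le_rfl).trans (by simp)) (hyV (f x)),
      Ideal.map_span, Set.image_singleton]
    exact (hVa (f x) x (hyV (f x))).symm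

end Groth.Agent.Misc15.DivDescent
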