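import Groth.Agent.Misc15.DefoConnAlg
import Groth.Agent.Et18.ExtRealize
import Mathlib.Algebra.Homology.ShortComplex.ExactFunctor

/-! First-order deformations and extensions. -/

set_option autoImplicit false
set_option backward.isDefEq.respectTransparency false
set_option backward.isDefEq.respectTransparency.types false
set_option linter.style.haveILetI false
universe u

open CategoryTheory CategoryTheory.Limits AlgebraicGeometry Opposite TopologicalSpace CategoryTheory.Abelian
open Groth.Agent Groth.Agent.Misc15.DefoConnAlg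

namespace Groth.Agent.Misc15.DefoExt

/-- flatness criterion over the dual numbers -/
theorem flat_dualNumber {k : Type u} [Field k] (L : Type u) [AddCommGroup L] [Module (DualNumber k) L]
    (h : ∀ x : L, (DualNumber.eps : DualNumber k) • x = 0 → ∃ y, x = (DualNumber.eps : DualNumber k) • y) :
    Module.Flat (DualNumber k) L := by
  rw [Module.Flat.iff_lift_lsmul_comp_subtype_injective]
  intro I _
  refine (injective_iff_map_eq_zero _).2 fun z hz => ?_
  -- it is enough to find a generator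
  have gen : ∀ g : I, (∀ a : I, ∃ c : DualNumber k, a = c • g) → ∃ x : L, z = g ⊗ₜ[DualNumber k] x := by
    intro g hg
    clear hz
    induction z using TensorProduct.induction_on with
    | zero => exact ⟨0, (TensorProduct.tmul_zero _ _).symm⟩
    | tmul a x =>
      obtain ⟨c, rfl⟩ := hg a
      exact ⟨c • x, TensorProduct.smul_tmul _ _ _⟩
    | add z w hz hw =>
      obtain ⟨x, rfl⟩ := hz
      obtain ⟨y, rfl⟩ := hw
      exact ⟨x + y, (TensorProduct.tmul_add _ _ _).symm⟩
  by_cases hu : ∃ a ∈ I, IsUnit a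
  · obtain ⟨a, ha, hu⟩ := hu
    obtain ⟨x, rfl⟩ := gen ⟨a, ha⟩ fun b => ⟨(b : DualNumber k) * ↑hu.unit⁻¹, Subtype.ext (by
      show (b : DualNumber k) = (b : DualNumber k) * ↑hu.unit⁻¹ * a
      rw [mul_assoc, IsUnit.val_inv_mul, mul_one])⟩
    have hx : a • x = 0 := hz
    rw [(IsUnit.smul_eq_zero hu).1 hx, TensorProduct.tmul_zero]
  · push_neg at hu
    have hfst : ∀ a ∈ I, TrivSqZeroExt.fst a = 0 := fun a ha => by
      by_contra hne
      exact hu a ha (TrivSqZeroExt.isUnit_iff_isUnit_fst.2 (isUnit_iff_ne_zero.2 hne))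
    have hmul : ∀ a ∈ I, a = TrivSqZeroExt.inl (TrivSqZeroExt.snd a) * (DualNumber.eps : DualNumber k) := by
      intro a ha
      ext
      · simpa using hfst a ha
      · simp
    by_cases he : (DualNumber.eps : DualNumber k) ∈ I
    · obtain ⟨x, rfl⟩ := gen ⟨_, he⟩ fun b => ⟨TrivSqZeroExt.inl (TrivSqZeroExt.snd (b : DualNumber k)),
        Subtype.ext (hmul b b.2)⟩
      have hx : (DualNumber.eps : DualNumber k) • x = 0 := hz
      obtain ⟨y, rfl⟩ := h x hx
      rw [← TensorProduct.smul_tmul]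
      rw [show (DualNumber.eps : DualNumber k) • (⟨_, he⟩ : I) = 0 from Subtype.ext (DualNumber.eps_mul_eps),
        TensorProduct.zero_tmul]
    · obtain ⟨x, rfl⟩ := gen 0 fun b => ⟨0, by
        refine Subtype.ext ?_
        rw [smul_zero]
        by_contra hb
        apply he
        have hs : TrivSqZeroExt.snd (b : DualNumber k) ≠ 0 := fun h0 => hb (by
          rw [hmul b b.2, h0, TrivSqZeroExt.inl_zero, zero_mul]
          rfl)
        convert I.mul_mem_left (TrivSqZeroExt.inl (TrivSqZeroExt.snd (b : DualNumber k))⁻¹) b.2 using 1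
        ext <;> simp [hfst b b.2, inv_mul_cancel₀ hs]⟩
      exact TensorProduct.zero_tmul _ _

theorem exists_ι {k : Type u} [Field k] {X : Scheme.{u}} [X.Over (Spec (CommRingCat.of k))] {E : X.Modules}
    (D : DefoSh.Defo E (ArtFun.Art.dual k k)) :
    ∃ ι : E ⟶ D.sheaf, D.π ≫ ι = D.act (DualNumber.eps : DualNumber k) := by
  haveI := epi_π D
  let Ad := ArtFun.Art.dual k k
  let ε : Ad := (DualNumber.eps : DualNumber k)
  have h0 : (D.act ε : D.sheaf ⟶ D.sheaf) ≫ D.π = 0 := D.act_π _ rfl
  have h2 : (D.act ε : D.sheaf ⟶ D.sheaf) ≫ (D.act ε : D.sheaf ⟶ D.sheaf) = 0 := by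
    have h := map_mul D.act ε ε
    rw [show ε * ε = 0 from DualNumber.eps_mul_eps, map_zero, End.mul_def] at h
    exact h.symm
  have hex : (ShortComplex.mk (D.act ε : D.sheaf ⟶ D.sheaf) D.π h0).Exact := by
    refine Groth.Agent.OmegaLib.exact_of_stalks _ fun x => ?_
    rw [ShortComplex.moduleCat_exact_iff]
    intro v hv
    letI : Module Ad (D.sheaf.presheaf.stalk x) := DefoSh.stalkModule D.sheaf D.act.toRingHom x
    have h := D.ker_le x v hv
    have hle : IsLocalRing.maximalIdeal Ad ≤ Ideal.span {ε} := by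
      intro z hz
      rw [ArtFun.Art.mem_maximalIdeal_iff] at hz
      refine Ideal.mem_span_singleton.2 ⟨(TrivSqZeroExt.inl (TrivSqZeroExt.snd (show DualNumber k from z)) : DualNumber k), ?_⟩
      change (show DualNumber k from z) = DualNumber.eps * TrivSqZeroExt.inl _
      ext
      · have hz' : TrivSqZeroExt.fst (show DualNumber k from z) = 0 := hz
        simpa using hz'
      · simp
    replace h := Submodule.smul_mono_left hle h
    rw [Submodule.ideal_span_singleton_smul, Submodule.mem_smul_pointwise_iff_exists] at h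
    obtain ⟨w, -, hw⟩ := h
    exact ⟨w, hw⟩
  haveI : Epi (ShortComplex.mk (D.act ε : D.sheaf ⟶ D.sheaf) D.π h0).g := epi_π D
  exact ⟨hex.desc _ h2, hex.g_desc _ h2⟩


variable {k : Type u} [Field k] {X : Scheme.{u}} [X.Over (Spec (CommRingCat.of k))] {E : X.Modules}

/-- `v ≫ u` as an element of the endomorphism ring -/
noncomputable def nil {L : X.Modules} (u : E ⟶ L) (v : L ⟶ E) : End L := v ≫ u

theorem nil_mul_nil {L : X.Modules} (u : E ⟶ L) (v : L ⟶ E) (w : u ≫ v = 0) : nil u v * nil u v = 0 := by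
  rw [End.mul_def]
  show (v ≫ u) ≫ v ≫ u = 0
  rw [Category.assoc, ← Category.assoc u, w, zero_comp, comp_zero]

/-- the action attached to an extension of `E` by `E` -/
noncomputable def extAct {L : X.Modules} (u : E ⟶ L) (v : L ⟶ E) (w : u ≫ v = 0) : DualNumber k →ₐ[k] End L :=
  DualNumber.lift ⟨(Algebra.ofId k (End L), nil u v), nil_mul_nil u v w,
    fun a => (Algebra.commutes a (nil u v)).symm⟩

theorem extAct_hom {L : X.Modules} (u : E ⟶ L) (v : L ⟶ E) (w : u ≫ v = 0) (z : DualNumber k) :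
    (extAct (k := k) u v w z : L ⟶ L) = z.fst • 𝟙 L + z.snd • (v ≫ u) := by
  let a : End L := nil u v
  have h : (extAct (k := k) u v w z : End L) = algebraMap k (End L) z.fst + algebraMap k (End L) z.snd * a := rfl
  rw [Algebra.algebraMap_eq_smul_one, Algebra.algebraMap_eq_smul_one, smul_mul_assoc, one_mul] at h
  exact h

/-- an extension of `E` by `E` is a deformation -/
theorem exists_defo {L : X.Modules} (u : E ⟶ L) (v : L ⟶ E) (w : u ≫ v = 0)
    (h : (ShortComplex.mk u v w).ShortExact) :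
    ∃ (D : DefoSh.Defo E (ArtFun.Art.dual k k)) (hL : D.sheaf = L), D.π = eqToHom hL ≫ v ∧
      D.π ≫ u ≫ eqToHom hL.symm = D.act (DualNumber.eps : DualNumber k) := by
  have hε : (extAct (k := k) u v w (DualNumber.eps : DualNumber k) : L ⟶ L) = v ≫ u := by
    rw [extAct_hom]
    show ((DualNumber.eps : DualNumber k).fst • 𝟙 L + (DualNumber.eps : DualNumber k).snd • (v ≫ u) : L ⟶ L) = _
    simp
  have hst : ∀ p : X, ((ShortComplex.mk u v w).map (DerSch.stalkFunctor X p)).ShortExact := fun p => h.map_of_exact _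
  have hsm : ∀ {M N : X.Modules} (φ : M ⟶ N) (p : X) (m : M.presheaf.stalk p),
      ((DerSch.stalkFunctor X p).map φ).hom m = RefHull.stalkMapₗ φ p m := by
    intro M N φ p m
    obtain ⟨U, hU, m, rfl⟩ := TopCat.Presheaf.exists_germ_eq M.presheaf m
    rw [RefHull.stalkMapₗ_germ]
    exact DerSch.stalkFunctor_map_germ p φ U hU m
  have hsurj : ∀ p : X, Function.Surjective (RefHull.stalkMapₗ v p) := fun p m => by
    obtain ⟨y, hy⟩ := (ModuleCat.epi_iff_surjective _).1 (hst p).epi_g m
    exact ⟨y, (hsm v p y).symm.trans hy⟩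
  have hinj : ∀ p : X, Function.Injective (RefHull.stalkMapₗ u p) := fun p a b hab =>
    (ModuleCat.mono_iff_injective _).1 (hst p).mono_f ((hsm u p a).trans (hab.trans (hsm u p b).symm))
  have hker : ∀ (p : X) (m : L.presheaf.stalk p), RefHull.stalkMapₗ v p m = 0 →
      ∃ m', RefHull.stalkMapₗ (v ≫ u) p m' = m := by
    intro p m hm
    obtain ⟨e, he⟩ := (ShortComplex.moduleCat_exact_iff _).1 (hst p).exact m ((hsm v p m).trans hm)
    obtain ⟨m', hm'⟩ := hsurj p e
    refine ⟨m', ?_⟩
    rw [DefoSh.stalkMapₗ_comp_apply, hm']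
    exact (hsm u p e).symm.trans he
  refine ⟨{ sheaf := L, act := extAct u v w, π := v, act_π := fun a ha => ?_, surj := hsurj,
            ker_le := fun p m hm => ?_, flat := fun p => ?_ }, rfl, ?_, ?_⟩
  · show (extAct (k := k) u v w (show DualNumber k from a) : L ⟶ L) ≫ v = 0
    rw [extAct_hom, show (show DualNumber k from a).fst = 0 from ha]
    show ((0 : k) • 𝟙 L + (show DualNumber k from a).snd • (v ≫ u)) ≫ v = 0
    simp [Linear.smul_comp, w]
  · letI : Module (ArtFun.Art.dual k k) (L.presheaf.stalk p) :=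
      DefoSh.stalkModule (A := ArtFun.Art.dual k k) L (extAct (k := k) u v w).toRingHom p
    let ε : ArtFun.Art.dual k k := (DualNumber.eps : DualNumber k)
    have hεm : ε ∈ IsLocalRing.maximalIdeal (ArtFun.Art.dual k k) := by rw [ArtFun.Art.mem_maximalIdeal_iff]; rfl
    obtain ⟨m', hm'⟩ := hker p m hm
    have : m = ε • m' := by
      show m = RefHull.stalkMapₗ (extAct (k := k) u v w (DualNumber.eps : DualNumber k) : L ⟶ L) p m'
      rw [hε, hm']
    rw [this]
    exact Submodule.smul_mem_smul hεm Submodule.mem_top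
  · letI : Module (DualNumber k) (L.presheaf.stalk p) :=
      DefoSh.stalkModule L (extAct (k := k) u v w).toRingHom p
    refine flat_dualNumber (k := k) (L.presheaf.stalk p) fun m hm => ?_
    have h1 : RefHull.stalkMapₗ (v ≫ u) p m = 0 := by
      rw [← hε]
      exact hm
    rw [DefoSh.stalkMapₗ_comp_apply] at h1
    obtain ⟨m', hm'⟩ := hker p m (hinj p (h1.trans (map_zero _).symm))
    refine ⟨m', ?_⟩
    show m = RefHull.stalkMapₗ (extAct (k := k) u v w (DualNumber.eps : DualNumber k) : L ⟶ L) p m'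
    rw [hε, hm']
  · simp only [eqToHom_refl]
    exact (Category.id_comp v).symm
  · simp only [eqToHom_refl, Category.comp_id]
    exact hε.symm

/-- equal extension classes give isomorphic deformations -/
theorem iso_of_extClass_eq [HasExt.{u} X.Modules] (D D' : DefoSh.Defo E (ArtFun.Art.dual k k))
    (ι : E ⟶ D.sheaf) (hι : D.π ≫ ι = D.act (DualNumber.eps : DualNumber k))
    (ι' : E ⟶ D'.sheaf) (hι' : D'.π ≫ ι' = D'.act (DualNumber.eps : DualNumber k))
    (h : (shortExact D ι hι).extClass = (shortExact D' ι' hι').extClass) :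
    Nonempty (DefoSh.Defo.Iso D D') := by
  obtain ⟨b, hb1, hb2⟩ := Et18.ExtRealize.exists_hom_of_extClass_eq (shortExact D ι hι) (shortExact D' ι' hι')
    (𝟙 E) (𝟙 E) (by rw [Ext.comp_mk₀_id]; exact h.trans (Ext.mk₀_id_comp _).symm)
  replace hb1 : ι ≫ b = ι' := hb1.trans (Category.id_comp _)
  replace hb2 : D.π = b ≫ D'.π := (Category.comp_id _).symm.trans hb2
  let φ : ShortComplex.mk ι D.π (ι_π D ι hι) ⟶ ShortComplex.mk ι' D'.π (ι_π D' ι' hι') :=
    { τ₁ := 𝟙 E, τ₂ := b, τ₃ := 𝟙 E,
      comm₁₂ := (Category.id_comp _).trans hb1.symm, comm₂₃ := hb2.symm.trans (Category.comp_id _).symm }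
  haveI : IsIso φ.τ₁ := inferInstanceAs (IsIso (𝟙 E))
  haveI : IsIso φ.τ₃ := inferInstanceAs (IsIso (𝟙 E))
  haveI : IsIso b := ShortComplex.isIso₂_of_shortExact_of_isIso₁₃ φ (shortExact D ι hι) (shortExact D' ι' hι')
  refine ⟨⟨asIso b, fun a => ?_, hb2.symm⟩⟩
  show (D.act a : D.sheaf ⟶ D.sheaf) ≫ b = b ≫ (D'.act a : D'.sheaf ⟶ D'.sheaf)
  rw [act_eq D ι hι a, act_eq D' ι' hι' a]
  simp only [Preadditive.add_comp, Preadditive.comp_add, Linear.smul_comp, Linear.comp_smul, Category.id_comp,
    Category.comp_id, Category.assoc, hb1]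
  rw [← Category.assoc b, ← hb2]

/-- isomorphic deformations have equal extension classes -/
theorem extClass_eq_of_iso [HasExt.{u} X.Modules] (D D' : DefoSh.Defo E (ArtFun.Art.dual k k)) (e : DefoSh.Defo.Iso D D')
    (ι : E ⟶ D.sheaf) (hι : D.π ≫ ι = D.act (DualNumber.eps : DualNumber k))
    (ι' : E ⟶ D'.sheaf) (hι' : D'.π ≫ ι' = D'.act (DualNumber.eps : DualNumber k)) :
    (shortExact D ι hι).extClass = (shortExact D' ι' hι').extClass := by
  haveI := epi_π D
  have h1 : ι ≫ e.iso.hom = ι' := by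
    rw [← cancel_epi D.π, ← Category.assoc, hι, e.act_hom, ← hι', ← Category.assoc, e.hom_π]
  let φ : ShortComplex.mk ι D.π (ι_π D ι hι) ⟶ ShortComplex.mk ι' D'.π (ι_π D' ι' hι') :=
    { τ₁ := 𝟙 E, τ₂ := e.iso.hom, τ₃ := 𝟙 E,
      comm₁₂ := (Category.id_comp _).trans h1.symm, comm₂₃ := e.hom_π.trans (Category.comp_id _).symm }
  have := ShortComplex.ShortExact.extClass_naturality (shortExact D ι hι) (shortExact D' ι' hι') φ
  simpa [φ] using this

/-- a split extension has class zero -/
theorem extClass_eq_zero_of_section {C : Type*} [Category C] [Abelian C] [HasExt.{u} C] {S : ShortComplex C}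
    (hS : S.ShortExact) (s : S.X₃ ⟶ S.X₂) (hs : s ≫ S.g = 𝟙 _) : hS.extClass = 0 := by
  have h := congrArg (fun x => (Ext.mk₀ s).comp x (zero_add 1)) hS.comp_extClass
  rw [Ext.comp_zero] at h
  rwa [← Ext.comp_assoc (a₁₂ := 0) (Ext.mk₀ s) (Ext.mk₀ S.g) hS.extClass (zero_add 0) (zero_add 1) (by omega),
    Ext.mk₀_comp_mk₀, hs, Ext.mk₀_id_comp] at h

end Groth.Agent.Misc15.DefoExt
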