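import Mathlib.CategoryTheory.Sites.Over
import Mathlib.CategoryTheory.Sites.Subcanonical
import Mathlib.AlgebraicGeometry.Sites.BigZariski

/-! Slices of subcanonical sites are subcanonical. -/

set_option autoImplicit false
universe v u

open CategoryTheory

namespace Groth.Agent.Misc15.OverSubcanonical

theorem subcanonical_over {C : Type u} [Category.{v} C] (J : GrothendieckTopology C) [J.Subcanonical] (S : C) :
    (J.over S).Subcanonical := by
  refine GrothendieckTopology.Subcanonical.of_isSheaf_yoneda_obj _ fun X => ?_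
  intro Y R hR
  rw [GrothendieckTopology.mem_over_iff] at hR
  intro x hx
  have hXl := GrothendieckTopology.Subcanonical.isSheaf_of_isRepresentable (J := J) (yoneda.obj X.left)
  have hSl := GrothendieckTopology.Subcanonical.isSheaf_of_isRepresentable (J := J) (yoneda.obj S)
  let R' := Sieve.overEquiv Y R
  have hmem : ∀ {Z : C} (f : Z ⟶ Y.left), R' f → R (Over.homMk f rfl : Over.mk (f ≫ Y.hom) ⟶ Y) :=
    fun f hf => (Sieve.overEquiv_iff _ _).1 hf
  let y : Presieve.FamilyOfElements (yoneda.obj X.left) R'.arrows := fun Z f hf => (x _ (hmem f hf)).left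
  have hy : y.SieveCompatible := by
    intro Z W f g hf
    have hc := hx (Over.homMk g (by simp) : Over.mk ((g ≫ f) ≫ Y.hom) ⟶ Over.mk (f ≫ Y.hom))
      (𝟙 (Over.mk ((g ≫ f) ≫ Y.hom))) (hmem f hf) (hmem (g ≫ f) (R'.downward_closed hf g)) (by ext; simp)
    have := congrArg CommaMorphism.left hc
    simpa [y] using this.symm
  obtain ⟨z, hz, hz'⟩ := hXl R' hR y ((Presieve.compatible_iff_sieveCompatible y).2 hy)
  have hw : z ≫ X.hom = Y.hom := by
    apply (hSl R' hR).isSeparatedFor.ext
    intro Z f hf
    show f ≫ z ≫ X.hom = f ≫ Y.hom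
    have h1 : f ≫ z = y f hf := hz f hf
    rw [← Category.assoc, h1]
    exact Over.w (x _ (hmem f hf))
  refine ⟨Over.homMk z hw, ?_, ?_⟩
  · intro W g hg
    have hg' : R' g.left := (Sieve.overEquiv_iff _ _).2 (by
      have : (Over.homMk g.left rfl : Over.mk (g.left ≫ Y.hom) ⟶ Y) =
          (Over.homMk (𝟙 _) (by simp) : Over.mk (g.left ≫ Y.hom) ⟶ W) ≫ g := by ext; simp
      rw [this]
      exact R.downward_closed hg _)
    have hc := hx (𝟙 W) (Over.homMk (𝟙 _) (by simp) : W ⟶ Over.mk (g.left ≫ Y.hom)) hg (hmem g.left hg')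
      (by ext; simp)
    show g ≫ (Over.homMk z hw : Y ⟶ X) = (x g hg : W ⟶ X)
    ext
    have h1 : g.left ≫ z = y g.left hg' := hz g.left hg'
    have := congrArg CommaMorphism.left hc
    simp at this
    simp [h1, y, this]
  · intro t ht
    let t' : Y ⟶ X := t
    suffices t' = Over.homMk z hw from this
    ext
    refine hz' t'.left fun Z f hf => ?_
    exact congrArg CommaMorphism.left (ht _ (hmem f hf))

end Groth.Agent.Misc15.OverSubcanonical
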