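import Groth.Agent.AlgSpLib.SheafDescent
import Groth.Agent.AlgSpLib.FpqcBaseAffine
import Mathlib.CategoryTheory.Limits.Types.Pullbacks
import Mathlib.CategoryTheory.Limits.FunctorCategory.Shapes.Pullbacks

/-! A sheaf over a scheme `Z` which becomes an affine `Z`-scheme after an étale surjective base change is affine over `Z`. -/

set_option autoImplicit false
universe u

open CategoryTheory CategoryTheory.Limits AlgebraicGeometry Opposite
open AlgSp
open Groth.Agent.AlgSpLib

noncomputable section

namespace Groth.Agent.Misc15.AffineSheafDescent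

set_option backward.isDefEq.respectTransparency.types false

variable {S : Scheme.{u}}

theorem exists_piece {X : Sp S} {Z V W : Over S} {f : X ⟶ (yon S).obj Z} (q : V ⟶ Z) [Etale q.left]
    [Surjective q.left] (w : W ⟶ V) [IsAffineHom w.left] {ρ : (yon S).obj W ⟶ X}
    (sq : IsPullback ρ ((yon S).map w) f ((yon S).map q)) (Z₀ : Over S) (hZ₀ : IsAffine Z₀.left)
    (g : (yon S).obj Z₀ ⟶ (yon S).obj Z) :
    ∃ (A : Over S) (a : A ⟶ Z₀) (fst : (yon S).obj A ⟶ X),
      IsPullback fst ((yon S).map a) f g ∧ IsAffineHom a.left := by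
  classical
  obtain ⟨g₀, rfl⟩ := (yon S).map_surjective g
  -- the base change of the cover
  let VT : Over S := Over.mk (pullback.fst g₀.left q.left ≫ Z₀.hom)
  let b : VT ⟶ Z₀ := Over.homMk (pullback.fst g₀.left q.left)
  let d₀ : VT ⟶ V := Over.homMk (pullback.snd g₀.left q.left) (by
    show _ = pullback.fst g₀.left q.left ≫ Z₀.hom
    rw [← Over.w q, ← Over.w g₀, pullback.condition_assoc])
  have : Etale b.left := inferInstanceAs (Etale (pullback.fst g₀.left q.left))
  have : Surjective b.left := MorphismProperty.pullback_fst (P := @Surjective) _ _ inferInstance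
  obtain ⟨t, ht⟩ := isCompact_univ.elim_finite_subcover
    (fun O : VT.left.affineOpens => b.left '' (O.1 : Set VT.left))
    (fun O => b.left.isOpenMap _ O.1.isOpen) (fun z _ => by
      obtain ⟨v, rfl⟩ := b.left.surjective z
      have : v ∈ (⨆ O : VT.left.affineOpens, (O : VT.left.Opens)) := by rw [iSup_affineOpens_eq_top]; trivial
      obtain ⟨O, hO⟩ := TopologicalSpace.Opens.mem_iSup.1 this
      exact Set.mem_iUnion.2 ⟨O, v, hO, rfl⟩)
  let O : ULift.{u} t → Over S := fun i => restrictOver VT i.down.1.1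
  have : ∀ i, IsAffine (O i).left := fun i => i.down.1.2
  let r : sigmaOver O ⟶ VT :=
    Over.homMk (Sigma.desc fun i => (i.down.1.1).ι) (Sigma.hom_ext _ _ fun i => by simp [sigmaOver, O, restrictOver])
  have : IsAffine (sigmaOver O).left := inferInstanceAs (IsAffine (∐ fun i => (O i).left))
  have hre : Etale r.left := IsZariskiLocalAtSource.sigmaDesc (P := @Etale) fun i => (inferInstanceAs (Etale ((i.down.1.1 : VT.left.Opens).ι)))
  let c := r ≫ b
  let d := r ≫ d₀
  have hcd : d ≫ q = c ≫ g₀ := by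
    simp only [c, d, Category.assoc]
    congr 1
    exact Over.OverMorphism.ext pullback.condition.symm
  have : Etale c.left := by rw [Over.comp_left]; infer_instance
  have : Surjective c.left := ⟨fun z => by
    obtain ⟨O', hO'⟩ := Set.mem_iUnion.1 (ht (Set.mem_univ z))
    obtain ⟨hOt, v, hv, rfl⟩ := Set.mem_iUnion.1 hO'
    let v' : (O ⟨⟨O', hOt⟩⟩).left := (⟨v, hv⟩ : O'.1)
    refine ⟨(sigmaOverι O ⟨⟨O', hOt⟩⟩).left v', ?_⟩
    show (r ≫ b).left ((sigmaOverι O ⟨⟨O', hOt⟩⟩).left v') = b.left v
    rw [Over.comp_left, Scheme.Hom.comp_apply]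
    refine congrArg b.left ?_
    rw [← Scheme.Hom.comp_apply, show (sigmaOverι O ⟨⟨O', hOt⟩⟩).left ≫ r.left = O'.1.ι from Sigma.ι_desc _ _]
    rfl⟩
  -- the affine pullback
  let W₀ : Over S := Over.mk (pullback.snd w.left d.left ≫ (sigmaOver O).hom)
  let w₀ : W₀ ⟶ sigmaOver O := Over.homMk (pullback.snd w.left d.left)
  let e₀ : W₀ ⟶ W := Over.homMk (pullback.fst w.left d.left) (by
    show _ = pullback.snd w.left d.left ≫ (sigmaOver O).hom
    rw [← Over.w w, ← Over.w d, pullback.condition_assoc])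
  have sqW : IsPullback e₀ w₀ w d :=
    IsPullback.of_map (Over.forget S) (Over.OverMorphism.ext pullback.condition) (IsPullback.of_hasPullback w.left d.left)
  have : IsAffineHom w₀.left := MorphismProperty.pullback_snd (P := @IsAffineHom) _ _ inferInstance
  have : IsAffine W₀.left := isAffine_of_isAffineHom w₀.left
  have big := (sqW.map (yon S)).paste_horiz sq
  rw [← Functor.map_comp (yon S) d q, hcd, Functor.map_comp] at big
  let sqX := IsPullback.of_hasPullback f ((yon S).map g₀)
  let π₀ : (yon S).obj W₀ ⟶ pullback f ((yon S).map g₀) :=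
    sqX.lift ((yon S).map e₀ ≫ ρ) ((yon S).map w₀ ≫ (yon S).map c) (by rw [big.w, Category.assoc])
  have sq₀ : IsPullback π₀ ((yon S).map w₀) (pullback.snd f ((yon S).map g₀)) ((yon S).map c) :=
    IsPullback.of_right (by rw [sqX.lift_fst]; exact big) (sqX.lift_snd _ _ _) sqX
  obtain ⟨A, a, fst, -, sqA⟩ := exists_quasiAffine_of_fppf c sq₀
  have hfst : IsIso fst := sqA.isIso_fst_of_isIso
  refine ⟨A, a, fst ≫ pullback.fst f ((yon S).map g₀), by simpa using sqA.paste_horiz sqX, ?_⟩
  obtain ⟨k, hk⟩ := (yon S).map_surjective (π₀ ≫ inv fst)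
  have hka : k ≫ a = w₀ ≫ c := (yon S).map_injective (by
    rw [Functor.map_comp, hk, Category.assoc, Functor.map_comp]
    refine Eq.trans ?_ sq₀.w
    congr 1
    rw [IsIso.inv_comp_eq]
    exact (sqA.w.trans (Category.comp_id _)).symm)
  have sqk : IsPullback k w₀ a c := by
    refine IsPullback.of_map (yon S) hka ?_
    rw [hk]
    refine sq₀.of_iso (Iso.refl _) (asIso fst).symm (Iso.refl _) (Iso.refl _) (by simp) (by simp) ?_ (by simp)
    simp only [Iso.refl_hom, Category.comp_id, Iso.symm_hom, asIso_inv]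
    rw [eq_comm, IsIso.inv_comp_eq]
    exact (sqA.w.trans (Category.comp_id _)).symm
  have : IsAffineHom c.left := isAffineHom_of_isAffine _
  have hc : Et18.FPQC.{u} c.left := ⟨⟨inferInstance, inferInstance⟩, inferInstance⟩
  haveI := Et18.descends_isAffineHom.{u}
  exact MorphismProperty.of_isPullback_of_descendsAlong (P := @IsAffineHom) (Q := Et18.FPQC.{u})
    (sqk.map (Over.forget S)).flip hc (inferInstanceAs (IsAffineHom w₀.left))

/-- effective descent of affine schemes along étale surjections, for sheaves of sets -/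
theorem exists_representableBy {F : (Over S)ᵒᵖ ⥤ Type u}
    (hF : Presheaf.IsSheaf (QuotSh.J Scheme.fppfPrecoverage S) F) {Z V W : Over S} (η : F ⟶ yoneda.obj Z)
    (q : V ⟶ Z) [Etale q.left] [Surjective q.left] (w : W ⟶ V) [IsAffineHom w.left] (ρ : yoneda.obj W ⟶ F)
    (sq : IsPullback ρ (yoneda.map w) η (yoneda.map q)) :
    ∃ (A : Over S) (a : A ⟶ Z) (e : F.RepresentableBy A), IsAffineHom a.left ∧
      ∀ (T : Over S) (z : T ⟶ A), η.app (op T) (e.homEquiv z) = z ≫ a := by
  classical
  let X : Sp S := ⟨F ⋙ uliftFunctor.{u + 1, u}, (isSheaf_iff_isSheaf_of_type _ _).2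
    (Presieve.isSheaf_comp_uliftFunctor _ ((isSheaf_iff_isSheaf_of_type _ _).1 hF))⟩
  let f : X ⟶ (yon S).obj Z := ⟨Functor.whiskerRight η uliftFunctor.{u + 1, u}⟩
  let ρ' : (yon S).obj W ⟶ X := ⟨Functor.whiskerRight ρ uliftFunctor.{u + 1, u}⟩
  have sq' : IsPullback ρ' ((yon S).map w) f ((yon S).map q) := by
    refine IsPullback.of_map (sheafToPresheaf _ _) (by
      apply (sheafToPresheaf _ _).map_injective
      show Functor.whiskerRight ρ _ ≫ Functor.whiskerRight η _ = Functor.whiskerRight (yoneda.map w) _ ≫ Functor.whiskerRight (yoneda.map q) _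
      rw [← Functor.whiskerRight_comp, ← Functor.whiskerRight_comp, sq.w]) ?_
    refine IsPullback.of_forall_isPullback_app fun T => ?_
    exact (sq.app T).map uliftFunctor.{u + 1, u}
  have hr : RepWith @IsAffineHom f := repWith_of_affine _ fun Z₀ hZ₀ g => exists_piece q w sq' Z₀ hZ₀ g
  obtain ⟨A, a, fst, sqA, ha⟩ := exists_yon_of_repWith hr (𝟙 _)
  have : IsIso fst := sqA.isIso_fst_of_isIso
  have hb : ∀ T : (Over S)ᵒᵖ, Function.Bijective (fst.hom.app T) := by
    intro T
    rw [← isIso_iff_bijective]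
    exact inferInstanceAs (IsIso (((sheafToPresheaf _ _).mapIso (asIso fst)).app T).hom)
  let e : F.RepresentableBy A :=
    { homEquiv := fun {T} => Equiv.ulift.symm.trans ((Equiv.ofBijective _ (hb (op T))).trans Equiv.ulift)
      homEquiv_comp := fun {T T'} t z =>
        congrArg ULift.down (ConcreteCategory.congr_hom (fst.hom.naturality t.op) (ULift.up z : ULift.{u + 1} (T' ⟶ A))) }
  refine ⟨A, a, e, ha, fun T z => ?_⟩
  have h := congrArg (fun m : (yon S).obj A ⟶ (yon S).obj Z => (m.hom.app (op T) (ULift.up z : ULift.{u + 1} (T ⟶ A))).down) sqA.w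
  exact h

end Groth.Agent.Misc15.AffineSheafDescent
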