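import Groth.Agent.CAlgH3.Parameters
import Groth.Agent.CAlgH3.QuotientLocal
import Groth.Agent.CAlgH3.CMPolynomial
import Mathlib

/-! Complete intersections in Cohen–Macaulay rings are Cohen–Macaulay. -/

universe u

open IsLocalRing

namespace Groth.Agent.Misc15

local notation "CMLocal" => _root_.LocCoh.IsCohenMacaulayLocalRing
local notation "CM" => _root_.LocCoh.IsCohenMacaulayModule

open CAlgH3

theorem le_of_add_natCast_le {a b : WithBot ℕ∞} : ∀ (n : ℕ), a + n ≤ b + n → a ≤ b
  | 0, h => by simpa using h
  | n + 1, h => by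
    refine le_of_add_natCast_le n (withBot_add_one_le_cancel ?_)
    rwa [Nat.cast_succ, ← add_assoc, ← add_assoc] at h

theorem ringKrullDim_quotient_add_le_of_le_height {R : Type u} [CommRing R] (I : Ideal R) (r : ℕ)
    (h : (r : ℕ∞) ≤ I.height) : ringKrullDim (R ⧸ I) + r ≤ ringKrullDim R := by
  rcases subsingleton_or_nontrivial (R ⧸ I) with hs | hs
  · rw [ringKrullDim_eq_bot_of_subsingleton, WithBot.bot_add]; exact bot_le
  suffices ∀ s : LTSeries (PrimeSpectrum (R ⧸ I)), ((s.length + r : ℕ) : WithBot ℕ∞) ≤ ringKrullDim R by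
    rw [ringKrullDim, Order.krullDim_eq_iSup_length]
    rw [← WithBot.coe_natCast, ← WithBot.coe_add, ENat.iSup_add]
    obtain ⟨n, hn⟩ : ∃ a : ℕ∞, ringKrullDim R = a := by
      have h0 := this ⟨0, fun _ => Classical.arbitrary _, fun i => i.elim0⟩
      cases hd : ringKrullDim R with
      | bot => rw [hd] at h0; simp at h0
      | coe a => exact ⟨a, rfl⟩
    rw [hn, WithBot.coe_le_coe, iSup_le_iff]
    intro s
    have h1 := this s
    rw [hn, ← WithBot.coe_natCast, WithBot.coe_le_coe] at h1
    exact_mod_cast h1
  intro s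
  have hmono : StrictMono (PrimeSpectrum.comap (Ideal.Quotient.mk I)) :=
    Monotone.strictMono_of_injective (fun a b hab => Ideal.comap_mono hab)
      (PrimeSpectrum.comap_injective_of_surjective _ Ideal.Quotient.mk_surjective)
  let s' := s.map _ hmono
  have hI : I ≤ s'.head.asIdeal := by
    intro x hx
    change Ideal.Quotient.mk I x ∈ s.head.asIdeal
    rw [Ideal.Quotient.eq_zero_iff_mem.2 hx]
    exact zero_mem _
  have h2 : (r : ℕ∞) ≤ Order.height s'.head := by
    have h3 := h.trans (Ideal.height_mono hI)
    rwa [PrimeSpectrum.height_eq_orderHeight] at h3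
  obtain ⟨t, ht, htl⟩ := Order.exists_series_of_le_height s'.head h2
  refine le_trans (le_of_eq ?_) (Order.LTSeries.length_le_krullDim (RelSeries.smash t s' ht))
  simp only [RelSeries.smash_length, htl, s', LTSeries.map_length]
  rw [add_comm]

/-- `(g₁,…,g_r)` of height `≥ r` in a CM local ring has CM quotient. -/
theorem cm_quotient_span_of_le_height {R : Type u} [CommRing R] [CMLocal R] {r : ℕ}
    (g : Fin r → R) (hg : ∀ i, g i ∈ maximalIdeal R) (hh : (r : ℕ∞) ≤ (Ideal.span (Set.range g)).height) :
    CM R (R ⧸ Ideal.span (Set.range g)) ∧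
      ringKrullDim (R ⧸ Ideal.span (Set.range g)) + r = ringKrullDim R := by
  classical
  have hd := ringKrullDim_quotient_add_le_of_le_height _ r hh
  let d : Finset (Fin r) → WithBot ℕ∞ := fun s => Module.supportDim R (R ⧸ Ideal.span (g '' (s : Set (Fin r))))
  have e : ∀ (s : Finset (Fin r)) (i : Fin r),
      Nonempty (QuotSMulTop (g i) (R ⧸ Ideal.span (g '' (s : Set (Fin r)))) ≃ₗ[R]
        R ⧸ Ideal.span (g '' (insert i s : Finset (Fin r)))) :=
    fun s i => ⟨(quotSMulTopQuotient _ _).trans (Submodule.quotEquivOfEq _ _ (by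
      rw [Finset.coe_insert, Set.image_insert_eq, Ideal.span_insert, sup_comm]))⟩
  have step : ∀ (s : Finset (Fin r)) (i : Fin r), d s ≤ d (insert i s) + 1 := fun s i => by
    obtain ⟨e⟩ := e s i
    change _ ≤ Module.supportDim R (R ⧸ Ideal.span (g '' (insert i s : Finset (Fin r)))) + 1
    rw [← Module.supportDim_eq_of_equiv e]
    exact Module.supportDim_le_supportDim_quotSMulTop_succ_of_mem_jacobson ((maximalIdeal_le_jacobson _) (hg i))
  have tel : ∀ (u t : Finset (Fin r)), d t ≤ d (t ∪ u) + (u.card : ℕ) := by
    intro u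
    induction u using Finset.induction with
    | empty => simp
    | insert a u ha ih =>
      intro t
      refine (ih t).trans ((add_le_add (step (t ∪ u) a) le_rfl).trans ?_)
      rw [Finset.card_insert_of_notMem ha, Finset.union_insert, Nat.cast_add, Nat.cast_one, add_assoc, add_comm (1 : WithBot ℕ∞)]
  have hempty : d ∅ = ringKrullDim R := by
    change Module.supportDim R _ = _
    rw [Module.supportDim_quotient_eq_ringKrullDim, Finset.coe_empty, Set.image_empty, Ideal.span_empty,
      ringKrullDim_eq_of_ringEquiv (RingEquiv.quotientBot R)]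
  have huniv : d Finset.univ = ringKrullDim (R ⧸ Ideal.span (Set.range g)) := by
    change Module.supportDim R _ = _
    rw [Module.supportDim_quotient_eq_ringKrullDim, Finset.coe_univ, Set.image_univ]
  have hu : ∀ t : Finset (Fin r), d t + (t.card : ℕ) ≤ ringKrullDim R := by
    intro t
    refine le_trans ?_ hd
    have := tel tᶜ t
    rw [Finset.union_compl, huniv] at this
    refine (add_le_add this le_rfl).trans (le_of_eq ?_)
    rw [add_assoc, ← Nat.cast_add, Finset.card_compl_add_card, Fintype.card_fin]
  have main : ∀ s : Finset (Fin r), CM R (R ⧸ Ideal.span (g '' (s : Set (Fin r)))) := by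
    intro s
    induction s using Finset.induction with
    | empty =>
      rw [Finset.coe_empty, Set.image_empty, Ideal.span_empty]
      exact (isCohenMacaulayModule_congr (Submodule.quotEquivOfEqBot ⊥ rfl)).2 ((isCohenMacaulayLocalRing_iff R).1 ‹_›)
    | insert a s ha ih =>
      obtain ⟨e⟩ := e s a
      refine (isCohenMacaulayModule_congr e).1 ((isCohenMacaulayModule_quotSMulTop_iff (hg a)
        (isSMulRegular_of_supportDim_quot ih ?_)).2 ih)
      rw [Module.supportDim_eq_of_equiv e]
      change d (insert a s) + 1 ≤ d s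
      have h1 := tel s ∅
      rw [Finset.empty_union, hempty] at h1
      have h2 := (hu (insert a s)).trans h1
      rw [Finset.card_insert_of_notMem ha, Nat.cast_add, Nat.cast_one, ← add_assoc, add_right_comm] at h2
      exact le_of_add_natCast_le _ h2
  have hmain := main Finset.univ
  rw [Finset.coe_univ, Set.image_univ] at hmain
  refine ⟨hmain, le_antisymm hd ?_⟩
  have h3 := tel Finset.univ ∅
  rwa [Finset.empty_union, hempty, huniv, Finset.card_univ, Fintype.card_fin] at h3

/-- Local rings of a complete intersection in a CM ring. -/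
theorem cm_localization_quotient_span {S : Type u} [CommRing S] [_root_.LocCoh.IsCohenMacaulayRing S] {r : ℕ}
    (f : Fin r → S) (hh : (r : ℕ∞) ≤ (Ideal.span (Set.range f)).height)
    (q : Ideal (S ⧸ Ideal.span (Set.range f))) [q.IsPrime] :
    CMLocal (Localization.AtPrime q) ∧
      ringKrullDim (Localization.AtPrime q) + r = ((q.comap (Ideal.Quotient.mk (Ideal.span (Set.range f)))).height : WithBot ℕ∞) := by
  let p := q.comap (Ideal.Quotient.mk (Ideal.span (Set.range f)))
  let A := Localization.AtPrime p
  haveI : CMLocal A := _root_.LocCoh.IsCohenMacaulayRing.isCohenMacaulayLocalRing_localization p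
  have hfp_le : (Ideal.span (Set.range f)) ≤ p := fun x hx => by
    change Ideal.Quotient.mk (Ideal.span (Set.range f)) x ∈ q
    rw [Ideal.Quotient.eq_zero_iff_mem.2 hx]; exact zero_mem _
  have hmap : (Ideal.span (Set.range f)).map (algebraMap S A) = Ideal.span (Set.range (fun i => algebraMap S A (f i))) := by
    rw [Ideal.map_span, ← Set.range_comp]; rfl
  have hg : ∀ i, algebraMap S A (f i) ∈ maximalIdeal A := fun i =>
    (IsLocalization.AtPrime.to_map_mem_maximal_iff A p _).2 (hfp_le (Ideal.subset_span ⟨i, rfl⟩))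
  have hh' : (r : ℕ∞) ≤ ((Ideal.span (Set.range f)).map (algebraMap S A)).height := by
    rw [Ideal.height_eq_inf_minimalPrimes, le_iInf₂_iff]
    intro Q hQ
    have : Q.IsPrime := hQ.1.1
    rw [← IsLocalization.height_comap p.primeCompl Q]
    exact hh.trans (Ideal.height_mono (Ideal.map_le_iff_le_comap.1 hQ.1.2))
  have key := cm_quotient_span_of_le_height (fun i => algebraMap S A (f i)) hg (hmap ▸ hh')
  rw [← hmap] at key
  have hloc : IsLocalRing (A ⧸ (Ideal.span (Set.range f)).map (algebraMap S A)) := isLocalRing_quotient (by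
    rw [hmap, Ideal.span_le]; rintro _ ⟨i, rfl⟩; exact hg i)
  obtain ⟨e, -⟩ := exists_quotientLocalEquiv (Ideal.span (Set.range f)) q
  haveI : CMLocal (A ⧸ (Ideal.span (Set.range f)).map (algebraMap S A)) := (isCohenMacaulayLocalRing_quotient_iff _).2 key.1
  refine ⟨isCohenMacaulayLocalRing_of_ringEquiv e, ?_⟩
  rw [← ringKrullDim_eq_of_ringEquiv e, ← IsLocalization.AtPrime.ringKrullDim_eq_height p A]
  exact key.2

end Groth.Agent.Misc15
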