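import Groth.Agent.Misc15.ClosedLocal
import Mathlib.AlgebraicGeometry.Morphisms.Flat
import Mathlib.AlgebraicGeometry.Morphisms.UniversallyOpen
import Mathlib.AlgebraicGeometry.Morphisms.FinitePresentation
import Mathlib.AlgebraicGeometry.Limits
import Mathlib.RingTheory.Flat.FaithfullyFlat.Algebra

/-! A subfunctor of a scheme which becomes a closed subscheme on a faithfully flat lfp cover is a closed subscheme. -/

set_option autoImplicit false
set_option backward.isDefEq.respectTransparency false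
universe u

open CategoryTheory AlgebraicGeometry Opposite TensorProduct

noncomputable section

namespace Groth.Agent.Misc15.ClosedDescent

/-- an ideal of a faithfully flat algebra with symmetric pullbacks is extended -/
theorem map_comap_eq {A B : Type u} [CommRing A] [CommRing B] [Algebra A B] [Module.Flat A B] (I : Ideal B)
    (h : ∀ (R : Type u) [CommRing R] (ψ₁ ψ₂ : B →+* R), ψ₁.comp (algebraMap A B) = ψ₂.comp (algebraMap A B) →
      I ≤ RingHom.ker ψ₂ → I ≤ RingHom.ker ψ₁) :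
    (I.comap (algebraMap A B)).map (algebraMap A B) = I := by
  refine le_antisymm Ideal.map_comap_le fun b hb => ?_
  let J := I.comap (algebraMap A B)
  let g : (A ⧸ J) →ₐ[A] B ⧸ I := Ideal.quotientMapₐ I (Algebra.ofId A B) le_rfl
  have hg : Function.Injective g := Ideal.quotientMap_injective
  let R := B ⊗[A] (B ⧸ I)
  let ψ₁ : B →+* R := Algebra.TensorProduct.includeLeftRingHom
  let ψ₂ : B →+* R :=
    (Algebra.TensorProduct.includeRight.toRingHom : (B ⧸ I) →+* R).comp (Ideal.Quotient.mk I)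
  have h1 : ψ₁ b = 0 := by
    refine h R ψ₁ ψ₂ ?_ (fun c hc => ?_) hb
    · ext a
      show algebraMap A B a ⊗ₜ[A] (1 : B ⧸ I) = (1 : B) ⊗ₜ[A] algebraMap A (B ⧸ I) a
      rw [Algebra.algebraMap_eq_smul_one, Algebra.algebraMap_eq_smul_one, TensorProduct.smul_tmul]
    · show (1 : B) ⊗ₜ[A] Ideal.Quotient.mk I c = 0
      rw [Ideal.Quotient.eq_zero_iff_mem.2 hc, TensorProduct.tmul_zero]
  have h2 : b ⊗ₜ[A] (1 : A ⧸ J) = 0 := by
    apply Module.Flat.lTensor_preserves_injective_linearMap (M := B) g.toLinearMap hg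
    rw [map_zero, LinearMap.lTensor_tmul]
    rw [show g.toLinearMap (1 : A ⧸ J) = 1 from map_one g]
    exact h1
  have h3 : Ideal.Quotient.mk (J.map (algebraMap A B)) b = 0 := by
    apply (Algebra.TensorProduct.quotIdealMapEquivTensorQuot B J).injective
    rw [map_zero]
    exact h2
  exact Ideal.Quotient.eq_zero_iff_mem.1 h3

/-- an affine cover of an affine open inside a flat lfp cover -/
theorem exists_ring_cover {U X : Scheme.{u}} (f : U ⟶ X) [Flat f] [LocallyOfFinitePresentation f] [Surjective f]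
    {V : X.Opens} (hV : IsAffineOpen V) :
    ∃ (B : CommRingCat.{u}) (θ : Γ(X, V) ⟶ B) (c : Spec B ⟶ U), θ.hom.FaithfullyFlat ∧
      Spec.map θ ≫ hV.fromSpec = c ≫ f := by
  classical
  have hop : IsOpenMap f := f.isOpenMap
  let β := {W : U.Opens // IsAffineOpen W ∧ W ≤ f ⁻¹ᵁ V}
  obtain ⟨t, ht⟩ := hV.isCompact.elim_finite_subcover (fun W : β => f '' (W.1 : Set U))
    (fun W => hop _ W.1.isOpen) (fun v hv => by
      obtain ⟨w, rfl⟩ := f.surjective v
      obtain ⟨W, hW, hwW, hle⟩ := exists_isAffineOpen_mem_and_subset (x := w) (U := f ⁻¹ᵁ V) hv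
      exact Set.mem_iUnion.2 ⟨⟨W, hW, hle⟩, w, hwW, rfl⟩)
  let P : t → Scheme.{u} := fun k => Spec Γ(U, k.1.1)
  let d : (∐ P) ⟶ U := Limits.Sigma.desc fun k => k.1.2.1.fromSpec
  let B0 : Scheme.{u} := ∐ P
  have hB0 : IsAffine B0 := inferInstanceAs (IsAffine (∐ P))
  let c : Spec Γ(B0, ⊤) ⟶ U := B0.isoSpec.inv ≫ d
  have hd : Flat d := IsZariskiLocalAtSource.sigmaDesc fun k => (inferInstance : Flat k.1.2.1.fromSpec)
  have hrc : Set.range (c ≫ f) = (V : Set X) := by
    refine Set.Subset.antisymm ?_ ?_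
    · rintro _ ⟨z, rfl⟩
      obtain ⟨k, y, hy⟩ := (sigmaOpenCover P).exists_eq (B0.isoSpec.inv z)
      show f (c z) ∈ V
      have : c z = k.1.2.1.fromSpec y := by
        show d (B0.isoSpec.inv z) = _
        rw [← hy, ← Scheme.Hom.comp_apply]
        exact congrArg (fun m : P k ⟶ U => m y) (Limits.Sigma.ι_desc _ k)
      rw [this]
      refine k.1.2.2 ?_
      have hm : k.1.2.1.fromSpec y ∈ Set.range k.1.2.1.fromSpec := ⟨y, rfl⟩
      rw [k.1.2.1.range_fromSpec] at hm
      exact hm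
    · intro v hv
      obtain ⟨W, hW⟩ := Set.mem_iUnion.1 (ht hv)
      obtain ⟨hWt, w, hw, rfl⟩ := Set.mem_iUnion.1 hW
      obtain ⟨y, rfl⟩ : w ∈ Set.range W.2.1.fromSpec := by rw [W.2.1.range_fromSpec]; exact hw
      refine ⟨B0.isoSpec.hom ((Limits.Sigma.ι P ⟨W, hWt⟩) y), ?_⟩
      show f (d (B0.isoSpec.inv (B0.isoSpec.hom _))) = _
      rw [← Scheme.Hom.comp_apply B0.isoSpec.hom, Iso.hom_inv_id]
      show f (d ((Limits.Sigma.ι P ⟨W, hWt⟩) y)) = _
      rw [← Scheme.Hom.comp_apply (Limits.Sigma.ι P _), Limits.Sigma.ι_desc]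
  let l := IsOpenImmersion.lift hV.fromSpec (c ≫ f) (by rw [hrc, hV.range_fromSpec])
  have hl : l ≫ hV.fromSpec = c ≫ f := IsOpenImmersion.lift_fac _ _ _
  refine ⟨Γ(B0, ⊤), Spec.preimage l, c, ?_, by rw [Spec.map_preimage, hl]⟩
  have : Flat l := by
    refine MorphismProperty.of_postcomp (W := @Flat) (W' := @IsOpenImmersion) l hV.fromSpec inferInstance ?_
    rw [hl]
    infer_instance
  rw [RingHom.FaithfullyFlat.iff_flat_and_comap_surjective, ← Flat.SpecMap_iff, Spec.map_preimage]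
  refine ⟨inferInstance, fun p => ?_⟩
  obtain ⟨z, hz⟩ : hV.fromSpec p ∈ Set.range (c ≫ f) := by rw [hrc, ← hV.range_fromSpec]; exact ⟨p, rfl⟩
  refine ⟨z, hV.fromSpec.isOpenEmbedding.injective ?_⟩
  show hV.fromSpec (Spec.map (Spec.preimage l) z) = _
  rw [Spec.map_preimage, ← Scheme.Hom.comp_apply, hl, hz]

theorem exists_closedImmersion {U X : Scheme.{u}} (f : U ⟶ X) [Flat f] [LocallyOfFinitePresentation f] [Surjective f]
    (P : ∀ T : Scheme.{u}, (T ⟶ X) → Prop)
    (hpre : ∀ (T T' : Scheme.{u}) (t : T' ⟶ T) (x : T ⟶ X), P T x → P T' (t ≫ x))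
    (hloc : ∀ (T : Scheme.{u}) (x : T ⟶ X) (𝒱 : Scheme.OpenCover.{u} T), (∀ i, P _ (𝒱.f i ≫ x)) → P T x)
    (hff : ∀ (T T' : Scheme.{u}) (t : T' ⟶ T) [Flat t] [Surjective t] [QuasiCompact t] (x : T ⟶ X),
      P T' (t ≫ x) → P T x)
    {Z₁ : Scheme.{u}} (i₁ : Z₁ ⟶ U) [IsClosedImmersion i₁]
    (hZ₁ : ∀ (T : Scheme.{u}) (y : T ⟶ U), P T (y ≫ f) ↔ ∃ z, z ≫ i₁ = y) :
    ∃ (Z : Scheme.{u}) (j : Z ⟶ X), IsClosedImmersion j ∧ ∀ (T : Scheme.{u}) (x : T ⟶ X), P T x ↔ ∃ z, z ≫ j = x := by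
  classical
  refine ClosedLocal.exists_closedImmersion X P hpre hloc (fun V : X.affineOpens => V.1)
    (.mk (iSup_affineOpens_eq_top X)) fun ⟨V, hV⟩ => ?_
  obtain ⟨B, θ, c, hθ, hc⟩ := exists_ring_cover f hV
  have hci : IsClosedImmersion (Limits.pullback.snd i₁ c) := inferInstance
  obtain ⟨I, eI, hI⟩ := IsClosedImmersion.Spec_iff.1 hci
  -- the criterion over `B`
  have hB : ∀ (R : Type u) [CommRing R] (ψ : B →+* R),
      P (Spec (CommRingCat.of R)) ((Spec.map (CommRingCat.ofHom ψ) ≫ c) ≫ f) ↔ I ≤ RingHom.ker ψ := by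
    intro R _ ψ
    rw [hZ₁]
    constructor
    · rintro ⟨z, hz⟩ b hb
      let w := Limits.pullback.lift z (Spec.map (CommRingCat.ofHom ψ)) hz ≫ eI.hom
      have e : w ≫ Spec.map (CommRingCat.ofHom (Ideal.Quotient.mk I)) = Spec.map (CommRingCat.ofHom ψ) := by
        rw [Category.assoc, ← hI]
        exact Limits.pullback.lift_snd _ _ _
      rw [← Spec.map_preimage w, ← Spec.map_comp] at e
      have e' := congrArg (fun m => m.hom b) (Spec.map_injective e)
      simp only [CommRingCat.hom_comp, CommRingCat.hom_ofHom, RingHom.comp_apply] at e'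
      rw [Ideal.Quotient.eq_zero_iff_mem.2 hb, map_zero] at e'
      exact e'.symm
    · intro h
      refine ⟨Spec.map (CommRingCat.ofHom (Ideal.Quotient.lift I ψ fun b hb => h hb)) ≫ eI.inv ≫
        Limits.pullback.fst i₁ c, ?_⟩
      simp only [Category.assoc]
      rw [Limits.pullback.condition, hI]
      simp only [Iso.inv_hom_id_assoc, Category.assoc]
      rw [← Spec.map_comp_assoc, ← CommRingCat.ofHom_comp, Ideal.Quotient.lift_comp_mk]
  have hsq : ∀ (R : Type u) [CommRing R] (ψ : B →+* R), (Spec.map (CommRingCat.ofHom ψ) ≫ c) ≫ f =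
      Spec.map (CommRingCat.ofHom (ψ.comp θ.hom)) ≫ hV.fromSpec := by
    intro R _ ψ
    rw [Category.assoc, ← hc, ← Spec.map_comp_assoc]
    rfl
  algebraize [θ.hom]
  have : Module.FaithfullyFlat Γ(X, V) B := hθ
  let J : Ideal Γ(X, V) := I.comap θ.hom
  have hJ : J.map θ.hom = I := map_comap_eq (A := Γ(X, V)) (B := B) I fun R _ ψ₁ ψ₂ he h2 => by
    rw [← hB, hsq] at h2 ⊢
    rw [show ψ₁.comp θ.hom = ψ₂.comp θ.hom from he]
    exact h2
  -- the criterion over `V`
  have hA : ∀ (R : Type u) [CommRing R] (χ : Γ(X, V) →+* R),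
      P (Spec (CommRingCat.of R)) (Spec.map (CommRingCat.ofHom χ) ≫ hV.fromSpec) ↔ J ≤ RingHom.ker χ := by
    intro R _ χ
    algebraize [χ]
    let R' := R ⊗[Γ(X, V)] B
    let ι₁ : R →+* R' := Algebra.TensorProduct.includeLeftRingHom
    let ψ : B →+* R' := (Algebra.TensorProduct.includeRight (R := Γ(X, V)) (A := R) (B := B)).toRingHom
    have hff' : (algebraMap R R').FaithfullyFlat :=
      RingHom.faithfullyFlat_algebraMap_iff.2 inferInstance
    have he : ι₁.comp χ = ψ.comp θ.hom := by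
      ext a
      show (algebraMap Γ(X, V) R a) ⊗ₜ[Γ(X, V)] (1 : B) = (1 : R) ⊗ₜ[Γ(X, V)] algebraMap Γ(X, V) B a
      rw [Algebra.algebraMap_eq_smul_one, Algebra.algebraMap_eq_smul_one, TensorProduct.smul_tmul]
    have key : Spec.map (CommRingCat.ofHom ι₁) ≫ Spec.map (CommRingCat.ofHom χ) ≫ hV.fromSpec =
        (Spec.map (CommRingCat.ofHom ψ) ≫ c) ≫ f := by
      rw [hsq, ← he, CommRingCat.ofHom_comp, Spec.map_comp_assoc]
    have hinj : Function.Injective ι₁ := hff'.injective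
    have h1 : P _ (Spec.map (CommRingCat.ofHom ι₁) ≫ Spec.map (CommRingCat.ofHom χ) ≫ hV.fromSpec) ↔
        J ≤ RingHom.ker χ := by
      rw [key, hB]
      constructor
      · intro h a ha
        exact hinj (((RingHom.congr_fun he a).trans (h ha)).trans (map_zero _).symm)
      · intro h
        rw [← hJ, Ideal.map_le_iff_le_comap]
        intro a ha
        show ψ (θ.hom a) = 0
        exact (RingHom.congr_fun he a).symm.trans ((congrArg ι₁ (h ha)).trans (map_zero _))
    have h2 := (flat_and_surjective_SpecMap_iff (CommRingCat.ofHom ι₁)).2 hff'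
    have := h2.1
    have := h2.2
    exact ⟨fun h => h1.1 (hpre _ _ _ _ h), fun h => hff _ _ (Spec.map (CommRingCat.ofHom ι₁)) _ (h1.2 h)⟩
  let A : CommRingCat.{u} := Γ(X, V)
  let mk : Γ(X, V) →+* Γ(X, V) ⧸ J := Ideal.Quotient.mk J
  have : IsClosedImmersion (Spec.map (CommRingCat.ofHom mk)) :=
    IsClosedImmersion.spec_of_surjective _ Ideal.Quotient.mk_surjective
  refine ⟨Spec (CommRingCat.of (Γ(X, V) ⧸ J)), Spec.map (CommRingCat.ofHom mk) ≫ hV.isoSpec.inv, inferInstance,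
    fun T x => ⟨fun hx => ?_, ?_⟩⟩
  · let 𝒱 := T.affineCover
    have hz : ∀ k, ∃ z : 𝒱.X k ⟶ Spec (CommRingCat.of (Γ(X, V) ⧸ J)),
        z ≫ Spec.map (CommRingCat.ofHom mk) = 𝒱.f k ≫ x ≫ hV.isoSpec.hom := by
      intro k
      let q : 𝒱.X k ⟶ Spec Γ(X, V) := 𝒱.f k ≫ x ≫ hV.isoSpec.hom
      let χ := (Spec.preimage q).hom
      have hq : Spec.map (CommRingCat.ofHom χ) = q := by simp only [χ, CommRingCat.ofHom_hom, Spec.map_preimage]
      have h := hpre _ _ (𝒱.f k) _ hx
      have hk : J ≤ RingHom.ker χ := (hA _ χ).1 (by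
        rw [hq, show q ≫ hV.fromSpec = 𝒱.f k ≫ x ≫ V.ι by simp [q, ← IsAffineOpen.isoSpec_inv_ι]]
        exact h)
      refine ⟨Spec.map (CommRingCat.ofHom (Ideal.Quotient.lift J χ fun b hb => hk hb)), ?_⟩
      refine Eq.trans ?_ hq
      rw [← Spec.map_comp]
      exact congrArg Spec.map (congrArg CommRingCat.ofHom (Ideal.Quotient.lift_comp_mk J χ _))
    choose z hz using hz
    refine ⟨𝒱.glueMorphisms z (fun p q => ?_), 𝒱.hom_ext _ _ fun p => ?_⟩
    · rw [← cancel_mono (Spec.map (CommRingCat.ofHom mk)), Category.assoc, Category.assoc, hz, hz,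
        ← Category.assoc, ← Category.assoc, Limits.pullback.condition]
      simp [Category.assoc]
    · rw [← Category.assoc, Scheme.Cover.ι_glueMorphisms, ← Category.assoc, hz p]
      simp
  · rintro ⟨z, rfl⟩
    have h := hpre _ _ z _ ((hA (Γ(X, V) ⧸ J) mk).2 fun b hb => Ideal.Quotient.eq_zero_iff_mem.2 hb)
    simpa [← IsAffineOpen.isoSpec_inv_ι] using h

end Groth.Agent.Misc15.ClosedDescent
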