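import Groth.Agent.Misc15.MagnetPointsS
import Mathlib.AlgebraicGeometry.Morphisms.Affine

/-! `A(N)_S × Spec R` is `Spec R[N]`; equivariance is automatic for extensions from `A(M)`. -/

set_option autoImplicit false
set_option backward.isDefEq.respectTransparency false
universe u

noncomputable section

open CategoryTheory CategoryTheory.Limits MonoidalCategory CartesianMonoidalCategory MonObj AlgebraicGeometry Opposite
open Magnet

namespace Groth.Agent.Misc15.MagnetPointsS

open Groth.Agent.Misc15.MagnetPoints (Z algZ charEquiv)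

variable {S : Scheme.{u}} {K : Type u} [CommRing K] {N : Type} [AddCommMonoid N]

theorem P_injective (s : Spec (CommRingCat.of K) ⟶ S) : Function.Injective (P (N := N) s) := by
  intro χ χ' h
  letI := algZ K
  exact (charEquiv K N).injective (CoactBr.pt_injective ((cancel_epi (toSpZ s).hom).1
    (((Over.mapPullbackAdj (fS S)).homEquiv _ _).injective h)))

theorem P_one (s : Spec (CommRingCat.of K) ⟶ S) :
    P s (1 : Multiplicative N →* K) = toUnit (Over.mk s) ≫ η[AMonS S N] := by
  obtain ⟨χ, hχ⟩ := P_surjective (N := N) s (toUnit (Over.mk s) ≫ η[AMonS S N])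
  have h1 : ∀ x : Over.mk s ⟶ AMonS S N, lift (toUnit (Over.mk s) ≫ η[AMonS S N]) x ≫ μ[AMonS S N] = x := by
    intro x
    rw [← lift_whiskerRight_assoc, MonObj.one_mul, leftUnitor_hom, lift_snd]
  have h := P_mul s χ 1
  rw [Hom.mul_def, hχ, h1] at h
  rw [h, _root_.mul_one, hχ]

instance isAffineHom_AMonS : IsAffineHom (AMonS S N).hom := by
  have h : IsAffineHom (AMon Z.{u} N).hom := inferInstanceAs (IsAffineHom (Spec.map _))
  exact MorphismProperty.pullback_snd (P := @IsAffineHom) _ _ h

theorem isIso_univPoint (R : Type u) [CommRing R] (s : Spec (CommRingCat.of R) ⟶ S) :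
    IsIso (univPoint N R s (𝟙 (Over.mk s))) := by
  set U := univPoint N R s (𝟙 (Over.mk s))
  let Z₀ := AMonS S N ⊗ Over.mk s
  have : IsAffine (Over.mk s).left := inferInstanceAs (IsAffine (Spec _))
  have : IsAffineHom (Limits.pullback.snd (AMonS S N).hom (Over.mk s).hom) := inferInstance
  have : IsAffine Z₀.left := isAffine_of_isAffineHom (Limits.pullback.snd (AMonS S N).hom (Over.mk s).hom)
  let sW := Z₀.left.isoSpec.inv ≫ Z₀.hom
  let pW : Over.mk sW ⟶ Z₀ := Over.homMk Z₀.left.isoSpec.inv rfl
  have : IsIso pW := by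
    have : IsIso ((Over.forget S).map pW) := inferInstanceAs (IsIso Z₀.left.isoSpec.inv)
    exact isIso_of_reflects_iso pW (Over.forget S)
  let φ := (Spec.preimage (pW ≫ snd _ _).left).hom
  obtain ⟨χ, hχ⟩ := P_surjective sW (pW ≫ fst _ _)
  letI := φ.toAlgebra
  let φhat : MA R N →ₐ[R] Γ(Z₀.left, ⊤) := MonoidAlgebra.lift _ _ _ χ
  have hφ : φhat.toRingHom.comp (algebraMap _ (MA R N)) = φ := φhat.comp_algebraMap
  have hy : Spec.map (CommRingCat.ofHom φ) = (pW ≫ snd _ _).left := by
    rw [show CommRingCat.ofHom φ = Spec.preimage (pW ≫ snd _ _).left from rfl, Spec.map_preimage]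
  let t : Over.mk sW ⟶ Over.mk (univBase N R s) := Over.homMk (Spec.map (CommRingCat.ofHom φhat.toRingHom)) (by
    show Spec.map (CommRingCat.ofHom φhat.toRingHom) ≫ Spec.map _ ≫ s = sW
    rw [← Spec.map_comp_assoc, ← CommRingCat.ofHom_comp, hφ, hy]
    exact Over.w (pW ≫ snd _ _))
  have key : t ≫ U = pW := by
    simp only [U, univPoint, Category.comp_id]
    rw [comp_lift, comp_P _ _ φhat.toRingHom t rfl]
    have h1 : (↑φhat.toRingHom : _ →* _).comp (MonoidAlgebra.of R (Multiplicative N)) = χ := by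
      ext n
      simp [φhat, Algebra.smul_def]
    have h2 : t ≫ univProj N R s = pW ≫ snd _ _ := by
      ext1
      show Spec.map (CommRingCat.ofHom φhat.toRingHom) ≫ Spec.map _ = _
      rw [← Spec.map_comp, ← CommRingCat.ofHom_comp, hφ, hy]
    rw [h1, h2, hχ, lift_comp_fst_snd]
  have : Mono U := by
    refine ⟨fun {W} a b h => ?_⟩
    ext1
    refine W.left.affineCover.hom_ext _ _ fun i => ?_
    let sA := W.left.affineCover.f i ≫ W.hom
    let r : Over.mk sA ⟶ W := Over.homMk (W.left.affineCover.f i) rfl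
    suffices r ≫ a = r ≫ b from congrArg Over.Hom.left this
    have h' : (r ≫ a) ≫ U = (r ≫ b) ≫ U := by rw [Category.assoc, Category.assoc, h]
    generalize r ≫ a = a' at h' ⊢
    generalize r ≫ b = b' at h' ⊢
    have e1 := congrArg (· ≫ fst _ _) h'
    have e2 := congrArg (· ≫ snd _ _) h'
    simp only [U, univPoint, Category.assoc, lift_fst, lift_snd, Category.comp_id] at e1 e2
    let fa := (Spec.preimage a'.left).hom
    let fb := (Spec.preimage b'.left).hom
    rw [comp_P _ _ fa a' (Spec.map_preimage _).symm, comp_P _ _ fb b' (Spec.map_preimage _).symm] at e1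
    have e3 := congrArg Over.Hom.left e2
    simp only [Over.comp_left] at e3
    have e3' : fa.comp (algebraMap R (MA R N)) = fb.comp (algebraMap R (MA R N)) := by
      have : Spec.map (CommRingCat.ofHom (fa.comp (algebraMap R (MA R N)))) =
          Spec.map (CommRingCat.ofHom (fb.comp (algebraMap R (MA R N)))) := by
        rw [CommRingCat.ofHom_comp, CommRingCat.ofHom_comp, Spec.map_comp, Spec.map_comp]
        simp only [fa, fb, CommRingCat.ofHom_hom, Spec.map_preimage]
        exact e3
      exact congrArg CommRingCat.Hom.hom (Spec.map_injective this)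
    have : fa = fb := MonoidAlgebra.ringHom_ext (fun r => by simpa using RingHom.congr_fun e3' r)
      (fun n => by simpa using DFunLike.congr_fun (P_injective _ e1) n)
    ext1
    rw [← Spec.map_preimage a'.left, ← Spec.map_preimage b'.left]
    exact congrArg (fun f => Spec.map (CommRingCat.ofHom f)) this
  refine ⟨inv pW ≫ t, ?_, ?_⟩
  · rw [← cancel_mono U, Category.assoc, Category.assoc, key, IsIso.inv_hom_id, Category.comp_id, Category.id_comp]
  · rw [Category.assoc, key, IsIso.inv_hom_id]

variable {M : Type} [AddCommMonoid M] {T X : Over S} [IsSeparated X.hom]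

/-- an extension to `A(N)` of an `A(M)`-equivariant map is equivariant -/
theorem isEquivariant_of_restrict (N' : AddSubmonoid M) (a : MonAct (AMonS S M) X) (φ : AMonS S N' ⊗ T ⟶ X)
    (x : T ⟶ X) (h : (AMonS.map S N'.subtype ▷ T) ≫ φ = (AMonS S M ◁ x) ≫ a.act) :
    MonAct.IsEquivariant ((subAct S M N').prod (MonAct.trivial (AMonS S M) T)) a φ := by
  let σ : AMonS S N' ⊗ (AMonS S M ⊗ T) ⟶ AMonS S M ⊗ (AMonS S N' ⊗ T) :=
    lift (snd _ _ ≫ fst _ _) (lift (fst _ _) (snd _ _ ≫ snd _ _))
  let σ' : AMonS S M ⊗ (AMonS S N' ⊗ T) ⟶ AMonS S N' ⊗ (AMonS S M ⊗ T) :=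
    lift (snd _ _ ≫ fst _ _) (lift (fst _ _) (snd _ _ ≫ snd _ _))
  have hσ : σ' ≫ σ = 𝟙 _ := by
    apply hom_ext_lift₂
    intro T' g z
    rw [← lift_comp_fst_snd z]
    simp [σ, σ']
  have : SplitEpi σ := ⟨σ', hσ⟩
  have := this.epi
  unfold MonAct.IsEquivariant
  rw [← cancel_epi σ]
  apply cancel_map N'.subtype Subtype.val_injective
  apply hom_ext_lift₂
  intro T' g z
  rw [← lift_comp_fst_snd z]
  generalize z ≫ fst _ _ = m
  generalize z ≫ snd _ _ = t
  have e : ∀ (m : T' ⟶ AMonS S M), lift (m ≫ AMonS.map S N'.subtype) t ≫ φ = lift m (t ≫ x) ≫ a.act := fun m => by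
    have := congrArg (lift m t ≫ ·) h
    simpa only [lift_whiskerRight_assoc, lift_whiskerLeft_assoc] using this
  simp only [σ, lift_whiskerRight_assoc, comp_lift_assoc, comp_lift, lift_fst, lift_snd, lift_fst_assoc, lift_snd_assoc,
    MonObj.comp_mul, Category.assoc, MonAct.lift_prod_act_assoc, MonAct.lift_trivial_act, lift_whiskerLeft_assoc, subAct,
    MonAct.lift_restrict_act, MonAct.lift_regular_act]
  rw [← MonObj.mul_comp, e, e, MonAct.lift_mul_act]

end Groth.Agent.Misc15.MagnetPointsS
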