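import Groth.Agent.Misc15.MagnetPointsS
import Groth.Agent.Misc15.MagnetAffine
import Groth.Agent.Misc15.FreeMonoidAlgebra
import Mathlib.AlgebraicGeometry.Sites.Fpqc

/-! `A(M)_S → A(N)_S` for a free extension of monoids is an fpqc cover; descent along it. -/

set_option autoImplicit false
universe u

noncomputable section

open CategoryTheory CategoryTheory.Limits MonoidalCategory CartesianMonoidalCategory MonObj AlgebraicGeometry Opposite
open Magnet

namespace Groth.Agent.Misc15.AMonCover

open Groth.Agent.Misc15.MagnetPoints (Z)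
open Groth.Agent.Misc15.MagnetPointsS

variable {S : Scheme.{u}}

/-- morphisms over `S` may be compared on affine schemes -/
theorem hom_ext_affine {V W : Over S} (a b : V ⟶ W)
    (h : ∀ (K : Type u) [CommRing K] (sK : Spec (CommRingCat.of K) ⟶ S) (r : Over.mk sK ⟶ V), r ≫ a = r ≫ b) :
    a = b := by
  apply Over.OverMorphism.ext
  refine V.left.affineCover.hom_ext _ _ fun i => ?_
  exact congrArg Over.Hom.left (h _ (V.left.affineCover.f i ≫ V.hom) (Over.homMk (V.left.affineCover.f i) rfl))

theorem isPullback_pullback_map {X Y : Scheme.{u}} (f : X ⟶ Y) {A B : Over Y} (g : A ⟶ B) :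
    IsPullback ((Over.pullback f).map g).left (Limits.pullback.fst A.hom f) (Limits.pullback.fst B.hom f) g.left := by
  have e1 : ((Over.pullback f).map g).left ≫ Limits.pullback.fst B.hom f = Limits.pullback.fst A.hom f ≫ g.left := by
    simp [Limits.pullback.lift_fst]
  have e2 : ((Over.pullback f).map g).left ≫ Limits.pullback.snd B.hom f = Limits.pullback.snd A.hom f := by
    simp
    exact Limits.pullback.lift_snd _ _ _
  have hbig : IsPullback (((Over.pullback f).map g).left ≫ Limits.pullback.snd B.hom f) (Limits.pullback.fst A.hom f)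
      f (g.left ≫ B.hom) := by
    rw [e2, Over.w g]
    exact (IsPullback.of_hasPullback A.hom f).flip
  exact IsPullback.of_right hbig e1 (IsPullback.of_hasPullback B.hom f).flip

variable {N M : Type} [AddCommMonoid N] [AddCommMonoid M] (c : N →+ M)

/-- flat, surjective and affine -/
structure IsCov {V W : Scheme.{u}} (p : V ⟶ W) : Prop where
  flat : Flat p
  surj : Surjective p
  affine : IsAffineHom p

theorem IsCov.of_isPullback {P X Y Z : Scheme.{u}} {fst : P ⟶ X} {snd : P ⟶ Y} {f : X ⟶ Z} {g : Y ⟶ Z}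
    (sq : IsPullback fst snd f g) (h : IsCov g) : IsCov fst :=
  ⟨MorphismProperty.of_isPullback (P := @Flat) sq.flip h.flat,
   MorphismProperty.of_isPullback (P := @Surjective) sq.flip h.surj,
   MorphismProperty.of_isPullback (P := @IsAffineHom) sq.flip h.affine⟩

variable (hc : (MonoidAlgebra.mapDomainRingHom Z.{u} (AddMonoidHom.toMultiplicative c)).FaithfullyFlat)

include hc in
theorem isCov_map : IsCov (AMonS.map S c).left := by
  refine IsCov.of_isPullback (isPullback_pullback_map _ (AMon.map Z.{u} c)) ?_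
  rw [AMon.map_left]
  have hff : ((MonoidAlgebra.mapDomainBialgHom Z.{u} (AddMonoidHom.toMultiplicative c)).toAlgHom.toRingHom).FaithfullyFlat := by
    convert hc using 1
    apply MonoidAlgebra.ringHom_ext <;> intros <;> simp
  have h := (flat_and_surjective_SpecMap_iff (CommRingCat.ofHom
    (MonoidAlgebra.mapDomainBialgHom Z.{u} (AddMonoidHom.toMultiplicative c)).toAlgHom.toRingHom)).2 hff
  have : IsAffine (AMon Z.{u} M).left := inferInstanceAs (IsAffine (Spec _))
  have : IsAffine (AMon Z.{u} N).left := inferInstanceAs (IsAffine (Spec _))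
  exact ⟨h.1, h.2, inferInstanceAs (IsAffineHom (AMon.map Z.{u} c).left)⟩

theorem isCov_whiskerRight {A B : Over S} (p : A ⟶ B) (hp : IsCov p.left) (T : Over S) : IsCov (p ▷ T).left := by
  have e1 : (p ▷ T).left ≫ Limits.pullback.fst B.hom T.hom = Limits.pullback.fst A.hom T.hom ≫ p.left :=
    Over.whiskerRight_left_fst p
  have e2 : (p ▷ T).left ≫ Limits.pullback.snd B.hom T.hom = Limits.pullback.snd A.hom T.hom :=
    Over.whiskerRight_left_snd p
  have hbig : IsPullback ((p ▷ T).left ≫ Limits.pullback.snd B.hom T.hom) (Limits.pullback.fst A.hom T.hom)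
      T.hom (p.left ≫ B.hom) := by
    rw [e2, Over.w p]
    exact (IsPullback.of_hasPullback A.hom T.hom).flip
  exact IsCov.of_isPullback (IsPullback.of_right hbig e1 (IsPullback.of_hasPullback B.hom T.hom).flip) hp

theorem isCov_whiskerLeft {A B : Over S} (p : A ⟶ B) (hp : IsCov p.left) (T : Over S) : IsCov (T ◁ p).left := by
  have e1 : (T ◁ p).left ≫ Limits.pullback.fst T.hom B.hom = Limits.pullback.fst T.hom A.hom :=
    Over.whiskerLeft_left_fst p
  have e2 : (T ◁ p).left ≫ Limits.pullback.snd T.hom B.hom = Limits.pullback.snd T.hom A.hom ≫ p.left :=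
    Over.whiskerLeft_left_snd p
  have hbig : IsPullback ((T ◁ p).left ≫ Limits.pullback.fst T.hom B.hom) (Limits.pullback.snd T.hom A.hom)
      T.hom (p.left ≫ B.hom) := by
    rw [e1, Over.w p]
    exact IsPullback.of_hasPullback T.hom A.hom
  exact IsCov.of_isPullback (IsPullback.of_right hbig e2 (IsPullback.of_hasPullback T.hom B.hom)) hp

theorem cancel_cov {A B X : Over S} (p : A ⟶ B) (hp : IsCov p.left) (f g : B ⟶ X) (h : p ≫ f = p ≫ g) : f = g := by
  have := hp.flat
  have := hp.surj
  have := Flat.epi_of_flat_of_surjective p.left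
  exact Over.OverMorphism.ext ((cancel_epi p.left).1 (congrArg Over.Hom.left h))

/-- descent of a morphism along a cover, checked on affine test schemes -/
theorem exists_desc {A B X : Over S} (p : A ⟶ B) (hp : IsCov p.left) (ψ : A ⟶ X)
    (h : ∀ (K : Type u) [CommRing K] (sK : Spec (CommRingCat.of K) ⟶ S) (r₁ r₂ : Over.mk sK ⟶ A),
      r₁ ≫ p = r₂ ≫ p → r₁ ≫ ψ = r₂ ≫ ψ) : ∃ φ : B ⟶ X, p ≫ φ = ψ := by
  have := hp.flat
  have := hp.surj
  have := hp.affine
  have : EffectiveEpi p.left := inferInstance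
  have hh : ∀ {W : Scheme.{u}} (g₁ g₂ : W ⟶ A.left), g₁ ≫ p.left = g₂ ≫ p.left → g₁ ≫ ψ.left = g₂ ≫ ψ.left := by
    intro W g₁ g₂ hg
    have hbase : g₂ ≫ A.hom = g₁ ≫ A.hom := by rw [← Over.w p, reassoc_of% hg]
    let V : Over S := Over.mk (g₁ ≫ A.hom)
    let a₁ : V ⟶ A := Over.homMk g₁ rfl
    let a₂ : V ⟶ A := Over.homMk g₂ hbase
    refine congrArg Over.Hom.left (hom_ext_affine (a₁ ≫ ψ) (a₂ ≫ ψ) fun K _ sK r => ?_)
    have e : a₁ ≫ p = a₂ ≫ p := Over.OverMorphism.ext hg
    simpa using h K sK (r ≫ a₁) (r ≫ a₂) (by rw [Category.assoc, e, Category.assoc])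
  have hw : p.left ≫ EffectiveEpi.desc p.left ψ.left hh ≫ X.hom = p.left ≫ B.hom := by
    rw [EffectiveEpi.fac_assoc, Over.w ψ, Over.w p]
  have := Flat.epi_of_flat_of_surjective p.left
  exact ⟨Over.homMk (EffectiveEpi.desc p.left ψ.left hh) ((cancel_epi p.left).1 hw),
    Over.OverMorphism.ext (EffectiveEpi.fac p.left ψ.left hh)⟩

/-- characters separate affine points -/
theorem map_comp_eq_iff {K : Type u} [CommRing K] (s : Spec (CommRingCat.of K) ⟶ S)
    (χ χ' : Multiplicative M →* K) :
    P s χ ≫ AMonS.map S c = P s χ' ≫ AMonS.map S c ↔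
      χ.comp (AddMonoidHom.toMultiplicative c) = χ'.comp (AddMonoidHom.toMultiplicative c) := by
  rw [P_comp_map, P_comp_map]
  exact ⟨fun h => P_injective s h, fun h => by rw [h]⟩

end Groth.Agent.Misc15.AMonCover
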