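import Groth.Agent.Misc15.AMonCover

/-! `A(M × P)_S = A(M)_S × A(P)_S`. -/

set_option autoImplicit false
universe u

noncomputable section

open CategoryTheory CategoryTheory.Limits MonoidalCategory CartesianMonoidalCategory MonObj AlgebraicGeometry Opposite
open Magnet

namespace Groth.Agent.Misc15.AMonProd

open Groth.Agent.Misc15.MagnetPointsS Groth.Agent.Misc15.AMonCover

variable {S : Scheme.{u}} (M P' : Type) [AddCommMonoid M] [AddCommMonoid P']

/-- the comparison map -/
def toProd : AMonS S (M × P') ⟶ AMonS S M ⊗ AMonS S P' :=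
  lift (AMonS.map S (AddMonoidHom.inl M P')) (AMonS.map S (AddMonoidHom.inr M P'))

/-- its inverse -/
def ofProd : AMonS S M ⊗ AMonS S P' ⟶ AMonS S (M × P') :=
  (fst _ _ ≫ AMonS.map S (AddMonoidHom.fst M P')) * (snd _ _ ≫ AMonS.map S (AddMonoidHom.snd M P'))

theorem isIso_toProd : IsIso (toProd (S := S) M P') := by
  refine ⟨ofProd M P', hom_ext_affine _ _ fun K _ sK r => ?_, hom_ext_affine _ _ fun K _ sK r => ?_⟩
  · obtain ⟨χ, rfl⟩ := P_surjective sK r
    rw [Category.comp_id, ofProd, toProd, MonObj.comp_mul, lift_fst_assoc, lift_snd_assoc, MonObj.comp_mul,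
      ← Category.assoc, ← Category.assoc, P_comp_map, P_comp_map, P_comp_map, P_comp_map, P_mul]
    congr 1
    refine MonoidHom.ext fun x => ?_
    show χ (Multiplicative.ofAdd (x.toAdd.1, 0)) * χ (Multiplicative.ofAdd (0, x.toAdd.2)) = χ x
    rw [← map_mul, ← ofAdd_add, Prod.mk_add_mk, _root_.add_zero, _root_.zero_add]
    rfl
  · obtain ⟨χ, hχ⟩ := P_surjective sK (r ≫ fst _ _)
    obtain ⟨η', hη⟩ := P_surjective sK (r ≫ snd _ _)
    rw [Category.comp_id, ← lift_comp_fst_snd r, ← hχ, ← hη, ofProd, toProd, comp_lift, comp_lift]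
    congr 1 <;>
    · rw [← Category.assoc, MonObj.comp_mul, lift_fst_assoc, lift_snd_assoc, P_comp_map, P_comp_map, P_mul,
        P_comp_map]
      congr 1
      refine MonoidHom.ext fun x => ?_
      first
      | (show χ (Multiplicative.ofAdd x.toAdd) * η' (Multiplicative.ofAdd 0) = χ x; simp)
      | (show χ (Multiplicative.ofAdd 0) * η' (Multiplicative.ofAdd x.toAdd) = η' x; simp)

end Groth.Agent.Misc15.AMonProd
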