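import Groth.Agent.Misc15.GradedLine
import Groth.Agent.Misc15.MagnetAffine
import Groth.Agent.Misc15.AMonCover
import Groth.Prelude.Def_Magnet3
import Mathlib.AlgebraicGeometry.Morphisms.Affine
import Mathlib.AlgebraicGeometry.Morphisms.Flat
import Mathlib.RingTheory.Localization.FractionRing

/-! Actions of the multiplicative monoid of the affine line: limit map, stable opens, coaction on stable affines. -/

set_option autoImplicit false
universe u

noncomputable section

open CategoryTheory CategoryTheory.Limits MonoidalCategory CartesianMonoidalCategory MonObj AlgebraicGeometry Opposite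
open Magnet
open Groth.Agent.Misc15.MagnetPointsS Groth.Agent.Misc15.AMonCover

namespace Groth.Agent.Misc15.AffineLine

variable {R : Type u} [CommRing R]


/-- the zero of the monoid `𝔸¹` -/
def zr (T : Over (Spec (CommRingCat.of R))) : T ⟶ (AMonS (Spec (CommRingCat.of R)) ℕ) :=
  (Over.homMk T.hom : T ⟶ Over.mk (𝟙 (Spec (CommRingCat.of R)))) ≫ P (𝟙 (Spec (CommRingCat.of R))) (powersHom R 0)

theorem comp_zr {T T' : Over (Spec (CommRingCat.of R))} (t : T' ⟶ T) : t ≫ zr T = zr T' := by
  rw [zr, zr, ← Category.assoc]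
  congr 1
  ext1
  exact Over.w t

theorem zr_eq {K : Type u} [CommRing K] (sK : Spec (CommRingCat.of K) ⟶ (Spec (CommRingCat.of R))) :
    zr (Over.mk sK) = P sK (powersHom K 0) := by
  rw [zr, comp_P (𝟙 (Spec (CommRingCat.of R))) sK (Spec.preimage sK).hom _ (by
    show sK = _
    simp)]
  congr 1
  ext
  simp

theorem P_pw_mul {K : Type u} [CommRing K] (sK : Spec (CommRingCat.of K) ⟶ (Spec (CommRingCat.of R))) (s t : K) :
    P sK (powersHom K s) * P sK (powersHom K t) = P sK (powersHom K (s * t)) := by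
  rw [P_mul]
  congr 1
  ext
  simp

theorem P_pw_one {K : Type u} [CommRing K] (sK : Spec (CommRingCat.of K) ⟶ (Spec (CommRingCat.of R))) :
    P sK (powersHom K 1) = (1 : Over.mk sK ⟶ (AMonS (Spec (CommRingCat.of R)) ℕ)) := by
  rw [Hom.one_def, ← P_one]
  congr 1
  ext
  simp

theorem mul_zr {T : Over (Spec (CommRingCat.of R))} (g : T ⟶ (AMonS (Spec (CommRingCat.of R)) ℕ)) : g * zr T = zr T := by
  refine hom_ext_affine _ _ fun K _ sK r => ?_
  rw [MonObj.comp_mul, comp_zr, zr_eq]
  obtain ⟨χ, hχ⟩ := P_surjective sK (r ≫ g)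
  obtain ⟨t, rfl⟩ := (powersHom K).surjective χ
  rw [← hχ, P_pw_mul, mul_zero]

variable {X Y : Over (Spec (CommRingCat.of R))} (a : MonAct (AMonS (Spec (CommRingCat.of R)) ℕ) X) (b : MonAct (AMonS (Spec (CommRingCat.of R)) ℕ) Y) (f : X ⟶ Y)

/-- the limit map `x ↦ 0 · x` -/
def e : X ⟶ X := lift (zr X) (𝟙 X) ≫ a.act

theorem comp_e {T : Over (Spec (CommRingCat.of R))} (x : T ⟶ X) : x ≫ e a = lift (zr T) x ≫ a.act := by
  rw [e, comp_lift_assoc, comp_zr, Category.comp_id]

theorem fixed_iff {T : Over (Spec (CommRingCat.of R))} (x : T ⟶ X) :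
    x ≫ e a = x ↔ ∀ (T' : Over (Spec (CommRingCat.of R))) (t : T' ⟶ T) (g : T' ⟶ (AMonS (Spec (CommRingCat.of R)) ℕ)), lift g (t ≫ x) ≫ a.act = t ≫ x := by
  constructor
  · intro h T' t g
    conv_lhs => rw [← h, ← Category.assoc, comp_e]
    rw [← MonAct.lift_mul_act, mul_zr, ← comp_e, Category.assoc, h]
  · intro h
    rw [comp_e]
    simpa using h T (𝟙 T) (zr T)

theorem e_idem : e a ≫ e a = e a := by
  rw [comp_e]
  conv_rhs => rw [e, ← mul_zr (zr X)]
  rw [MonAct.lift_mul_act, ← e]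

theorem e_comm (hf : MonAct.IsEquivariant a b f) : e a ≫ f = f ≫ e b := by
  rw [comp_e b f, e, Category.assoc, ((MonAct.isEquivariant_iff a b f).1 hf) X (zr X) (𝟙 X), Category.id_comp]

/-- opens stable under the action -/
abbrev Stable (U : X.left.Opens) : Prop :=
  (CartesianMonoidalCategory.snd (AMonS (Spec (CommRingCat.of R)) ℕ) X).left ⁻¹ᵁ U ≤ a.act.left ⁻¹ᵁ U

theorem act_mem {U : X.left.Opens} (hU : Stable a U) {T : Over (Spec (CommRingCat.of R))} (g : T ⟶ (AMonS (Spec (CommRingCat.of R)) ℕ)) (x : T ⟶ X) (p : T.left)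
    (hp : x.left p ∈ U) : (lift g x ≫ a.act).left p ∈ U := by
  have h1 : (lift g x).left p ∈ (CartesianMonoidalCategory.snd (AMonS (Spec (CommRingCat.of R)) ℕ) X).left ⁻¹ᵁ U := by
    show (CartesianMonoidalCategory.snd (AMonS (Spec (CommRingCat.of R)) ℕ) X).left ((lift g x).left p) ∈ U
    rw [← Scheme.Hom.comp_apply, ← Over.comp_left, lift_snd]
    exact hp
  have h2 := hU h1
  exact h2

theorem preimage_e {U : X.left.Opens} (hU : Stable a U) : (e a).left ⁻¹ᵁ U = U := by
  refine le_antisymm (fun x hx => ?_) fun x hx => ?_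
  · let κ := X.left.residueField x
    let sK : Spec (CommRingCat.of κ) ⟶ (Spec (CommRingCat.of R)) := X.left.fromSpecResidueField x ≫ X.hom
    let xx : Over.mk sK ⟶ X := Over.homMk (X.left.fromSpecResidueField x) rfl
    let cC : Over.mk (Spec.map (CommRingCat.ofHom (Polynomial.C (R := κ))) ≫ sK) ⟶ Over.mk sK :=
      Over.homMk (Spec.map (CommRingCat.ofHom (Polynomial.C (R := κ)))) rfl
    let sL := Spec.map (CommRingCat.ofHom (Polynomial.C (R := κ))) ≫ sK
    let o : Over.mk sL ⟶ X := lift (P sL (powersHom _ Polynomial.X)) (cC ≫ xx) ≫ a.act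
    let r0 : Over.mk sK ⟶ Over.mk sL :=
      Over.homMk (Spec.map (CommRingCat.ofHom (Polynomial.evalRingHom (0 : κ)))) (by
        show _ ≫ Spec.map _ ≫ sK = sK
        rw [← Spec.map_comp_assoc, ← CommRingCat.ofHom_comp,
          show (Polynomial.evalRingHom (0 : κ)).comp Polynomial.C = RingHom.id κ from RingHom.ext fun r => by simp]
        simp)
    have hr0 : r0 ≫ cC = 𝟙 _ := by
      ext1
      show Spec.map _ ≫ Spec.map _ = 𝟙 _
      rw [← Spec.map_comp, ← CommRingCat.ofHom_comp,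
        show (Polynomial.evalRingHom (0 : κ)).comp Polynomial.C = RingHom.id κ from RingHom.ext fun r => by simp]
      simp
    have h0 : r0 ≫ o = xx ≫ e a := by
      simp only [o]
      rw [comp_lift_assoc, reassoc_of% hr0, comp_P _ sK (Polynomial.evalRingHom (0 : κ)) r0 rfl, comp_e, zr_eq]
      congr 3
      ext
      simp
    let F := FractionRing (Polynomial κ)
    let sF : Spec (CommRingCat.of F) ⟶ (Spec (CommRingCat.of R)) := Spec.map (CommRingCat.ofHom (algebraMap (Polynomial κ) F)) ≫ sL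
    let rF : Over.mk sF ⟶ Over.mk sL := Over.homMk (Spec.map (CommRingCat.ofHom (algebraMap (Polynomial κ) F))) rfl
    let τ : F := algebraMap (Polynomial κ) F Polynomial.X
    have hτ : τ ≠ 0 := (map_ne_zero_iff _ (IsFractionRing.injective _ _)).2 Polynomial.X_ne_zero
    have hy : rF ≫ o = lift (P sF (powersHom F τ)) (rF ≫ cC ≫ xx) ≫ a.act := by
      simp only [o]
      rw [comp_lift_assoc, comp_P _ sF (algebraMap (Polynomial κ) F) rF rfl]
      congr 3
      ext
      simp [τ]
    let p₀ : Spec (CommRingCat.of κ) := ⟨⊥, Ideal.isPrime_bot⟩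
    let q : Spec (CommRingCat.of F) := ⟨⊥, Ideal.isPrime_bot⟩
    have hxx : xx.left p₀ = x := X.left.fromSpecResidueField_apply x p₀
    have hmem : o.left (r0.left p₀) ∈ U := by
      rw [← Scheme.Hom.comp_apply, ← Over.comp_left, h0, Over.comp_left, Scheme.Hom.comp_apply, hxx]
      exact hx
    have hgen : rF.left q ⤳ r0.left p₀ := by
      refine (PrimeSpectrum.le_iff_specializes _ _).1 ?_
      show Ideal.comap (algebraMap (Polynomial κ) F) ⊥ ≤ _
      rw [Ideal.comap_bot_of_injective _ (IsFractionRing.injective _ _)]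
      exact bot_le
    have hq : (rF ≫ o).left q ∈ U := by
      rw [Over.comp_left, Scheme.Hom.comp_apply]
      exact (hgen.map o.left.continuous).mem_open U.isOpen hmem
    rw [hy] at hq
    have h2 := act_mem a hU (P sF (powersHom F τ⁻¹)) _ q hq
    rw [← MonAct.lift_mul_act, P_pw_mul, inv_mul_cancel₀ hτ, P_pw_one, MonAct.lift_one_act] at h2
    have hqx : (rF ≫ cC ≫ xx).left q = x := by
      rw [Over.comp_left, Over.comp_left, Scheme.Hom.comp_apply, Scheme.Hom.comp_apply]
      exact X.left.fromSpecResidueField_apply x _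
    rwa [hqx] at h2
  · exact act_mem a hU (zr X) (𝟙 X) x hx

/-- for locally linear actions the limit map is affine -/
theorem isAffineHom_e (hX : ∀ x : X.left, ∃ U : X.left.Opens, x ∈ U ∧ IsAffineOpen U ∧ Stable a U) :
    IsAffineHom (e a).left := by
  refine isAffineHom_of_forall_exists_isAffineOpen _ fun x => ?_
  obtain ⟨U, hxU, hU, hs⟩ := hX x
  exact ⟨U, hxU, hU, (preimage_e a hs).symm ▸ hU⟩

section Chart

variable {U : X.left.Opens} (hU : IsAffineOpen U)

/-- the point `x` is given by the ring map `χ` on the chart `U` -/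
def IsPt {K : Type u} [CommRing K] {sK : Spec (CommRingCat.of K) ⟶ (Spec (CommRingCat.of R))} (x : Over.mk sK ⟶ X) (χ : Γ(X.left, U) →+* K) : Prop :=
  x.left = Spec.map (CommRingCat.ofHom χ) ≫ hU.fromSpec

theorem IsPt.unique {K : Type u} [CommRing K] {sK : Spec (CommRingCat.of K) ⟶ (Spec (CommRingCat.of R))} {x : Over.mk sK ⟶ X}
    {χ χ' : Γ(X.left, U) →+* K} (h : IsPt hU x χ) (h' : IsPt hU x χ') : χ = χ' := by
  have := (cancel_mono hU.fromSpec).1 (h.symm.trans h')
  simpa using congrArg CommRingCat.Hom.hom (Spec.map_injective this)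

theorem IsPt.comp {K L : Type u} [CommRing K] [CommRing L] {sK : Spec (CommRingCat.of K) ⟶ (Spec (CommRingCat.of R))}
    {sL : Spec (CommRingCat.of L) ⟶ (Spec (CommRingCat.of R))} {x : Over.mk sK ⟶ X} {χ : Γ(X.left, U) →+* K} (h : IsPt hU x χ)
    (θ : K →+* L) (t : Over.mk sL ⟶ Over.mk sK) (ht : t.left = Spec.map (CommRingCat.ofHom θ)) :
    IsPt hU (t ≫ x) (θ.comp χ) := by
  show (t ≫ x).left = _
  rw [Over.comp_left, h, ht, CommRingCat.ofHom_comp, Spec.map_comp, Category.assoc]

/-- the tautological point of the chart -/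
def pU : Over.mk (hU.fromSpec ≫ X.hom) ⟶ X := Over.homMk hU.fromSpec rfl

theorem isPt_pU : IsPt hU (pU hU) (RingHom.id _) := by
  show hU.fromSpec = _
  simp

/-- the base map of a ring valued point of the chart -/
abbrev base {K : Type u} [CommRing K] (χ : Γ(X.left, U) →+* K) : Spec (CommRingCat.of K) ⟶ (Spec (CommRingCat.of R)) :=
  Spec.map (CommRingCat.ofHom χ) ≫ hU.fromSpec ≫ X.hom

/-- the point given by a ring map -/
def mkPt {K : Type u} [CommRing K] (χ : Γ(X.left, U) →+* K) : Over.mk (base hU χ) ⟶ X :=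
  Over.homMk (Spec.map (CommRingCat.ofHom χ) ≫ hU.fromSpec) (Category.assoc _ _ _)

theorem isPt_mkPt {K : Type u} [CommRing K] (χ : Γ(X.left, U) →+* K) : IsPt hU (mkPt hU χ) χ := rfl

theorem exists_isPt {K : Type u} [CommRing K] {sK : Spec (CommRingCat.of K) ⟶ (Spec (CommRingCat.of R))} (x : Over.mk sK ⟶ X)
    (hx : ∀ p, x.left p ∈ U) : ∃ χ, IsPt hU x χ := by
  refine ⟨(Spec.preimage (IsOpenImmersion.lift hU.fromSpec x.left ?_)).hom, ?_⟩
  · rw [hU.range_fromSpec]
    rintro _ ⟨p, rfl⟩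
    exact hx p
  · show x.left = _
    simp only [CommRingCat.ofHom_hom, Spec.map_preimage]
    exact (IsOpenImmersion.lift_fac _ _ _).symm

theorem IsPt.mem {K : Type u} [CommRing K] {sK : Spec (CommRingCat.of K) ⟶ (Spec (CommRingCat.of R))} {x : Over.mk sK ⟶ X}
    {χ : Γ(X.left, U) →+* K} (h : IsPt hU x χ) (p : Spec (CommRingCat.of K)) : x.left p ∈ U := by
  rw [h, Scheme.Hom.comp_apply]
  exact hU.range_fromSpec.subset ⟨_, rfl⟩

/-- coaction of the monoid on a stable chart -/
theorem exists_coaction (hs : Stable a U) :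
    ∃ ρ : Γ(X.left, U) →+* Polynomial Γ(X.left, U),
      (∀ (K : Type u) [CommRing K] (sK : Spec (CommRingCat.of K) ⟶ (Spec (CommRingCat.of R))) (x : Over.mk sK ⟶ X) (χ : Γ(X.left, U) →+* K)
        (t : K), IsPt hU x χ → IsPt hU (lift (P sK (powersHom K t)) x ≫ a.act) ((Polynomial.eval₂RingHom χ t).comp ρ)) ∧
      (∀ r, (ρ r).eval 1 = r) ∧ ∀ r n, ρ ((ρ r).coeff n) = Polynomial.monomial n ((ρ r).coeff n) := by
  let xA : Over.mk (base hU (Polynomial.C (R := Γ(X.left, U)))) ⟶ X := mkPt hU _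
  obtain ⟨ρ, hρ⟩ := exists_isPt hU (lift (P _ (powersHom _ (Polynomial.X (R := Γ(X.left, U))))) xA ≫ a.act)
    (fun p => act_mem a hs _ _ p ((isPt_mkPt hU _).mem hU p))
  have key : ∀ (K : Type u) [CommRing K] (sK : Spec (CommRingCat.of K) ⟶ (Spec (CommRingCat.of R))) (x : Over.mk sK ⟶ X)
      (χ : Γ(X.left, U) →+* K) (t : K), IsPt hU x χ →
      IsPt hU (lift (P sK (powersHom K t)) x ≫ a.act) ((Polynomial.eval₂RingHom χ t).comp ρ) := by
    intro K _ sK x χ t hx
    have hcomp : (Polynomial.eval₂RingHom χ t).comp Polynomial.C = χ := RingHom.ext fun r => by simp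
    let r : Over.mk sK ⟶ Over.mk (base hU (Polynomial.C (R := Γ(X.left, U)))) :=
      Over.homMk (Spec.map (CommRingCat.ofHom (Polynomial.eval₂RingHom χ t))) (by
        show _ ≫ Spec.map _ ≫ hU.fromSpec ≫ X.hom = sK
        rw [← Spec.map_comp_assoc, ← CommRingCat.ofHom_comp, hcomp, ← Category.assoc, ← hx]
        exact Over.w x)
    have hrx : r ≫ xA = x := by
      ext1
      show Spec.map _ ≫ Spec.map _ ≫ hU.fromSpec = x.left
      rw [← Spec.map_comp_assoc, ← CommRingCat.ofHom_comp, hcomp, hx]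
    have : r ≫ lift (P _ (powersHom _ (Polynomial.X (R := Γ(X.left, U))))) xA ≫ a.act =
        lift (P sK (powersHom K t)) x ≫ a.act := by
      rw [comp_lift_assoc, hrx, comp_P _ sK _ r rfl]
      congr 3
      ext
      simp
    rw [← this]
    exact hρ.comp hU (Polynomial.eval₂RingHom χ t) r rfl
  refine ⟨ρ, key, fun r => ?_, fun r n => ?_⟩
  · have h := key _ _ (pU hU) (RingHom.id _) 1 (isPt_pU hU)
    rw [P_pw_one, MonAct.lift_one_act] at h
    exact RingHom.congr_fun (h.unique hU (isPt_pU hU)) r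
  · let c : Γ(X.left, U) →+* Polynomial (Polynomial Γ(X.left, U)) := Polynomial.C.comp Polynomial.C
    let x₂ := mkPt hU c
    have h1 := key _ _ _ _ (Polynomial.C Polynomial.X) (isPt_mkPt hU c)
    have h2 := key _ _ _ _ (Polynomial.X) h1
    rw [← MonAct.lift_mul_act, P_pw_mul] at h2
    have h3 := RingHom.congr_fun (h2.unique hU (key _ _ _ _ (Polynomial.X * Polynomial.C Polynomial.X) (isPt_mkPt hU c))) r
    have e1 : (Polynomial.eval₂RingHom c (Polynomial.C Polynomial.X)).comp ρ = Polynomial.C.comp ρ := by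
      refine RingHom.ext fun s => ?_
      simp only [RingHom.comp_apply, Polynomial.coe_eval₂RingHom, c]
      rw [← Polynomial.hom_eval₂, Polynomial.eval₂_C_X]
    rw [e1] at h3
    simp only [RingHom.comp_apply, Polynomial.coe_eval₂RingHom] at h3
    have h4 := congrArg (fun p : Polynomial (Polynomial Γ(X.left, U)) => p.coeff n) h3
    rw [Polynomial.eval₂_eq_sum, Polynomial.eval₂_eq_sum, Polynomial.sum_def, Polynomial.sum_def,
      Polynomial.finsetSum_coeff, Polynomial.finsetSum_coeff] at h4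
    have lhs : ∀ i, ((Polynomial.C.comp ρ) ((ρ r).coeff i) * Polynomial.X ^ i).coeff n =
        if n = i then ρ ((ρ r).coeff i) else 0 := fun i => by
      simp [Polynomial.coeff_C_mul_X_pow]
    have rhs : ∀ i, (c ((ρ r).coeff i) * (Polynomial.X * Polynomial.C Polynomial.X) ^ i).coeff n =
        if n = i then Polynomial.monomial i ((ρ r).coeff i) else 0 := fun i => by
      rw [mul_pow, ← map_pow, mul_comm (Polynomial.X ^ i), ← _root_.mul_assoc]
      simp only [c, RingHom.comp_apply, ← map_mul, Polynomial.C_mul_X_pow_eq_monomial, Polynomial.coeff_monomial, eq_comm]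
    simp only [lhs, rhs, Finset.sum_ite_eq, Polynomial.mem_support_iff] at h4
    by_cases hn : (ρ r).coeff n = 0
    · rw [hn]; simp
    · simpa [hn] using h4

theorem coaction_zero {ρ : Γ(X.left, U) →+* Polynomial Γ(X.left, U)}
    (hρ : ∀ (K : Type u) [CommRing K] (sK : Spec (CommRingCat.of K) ⟶ (Spec (CommRingCat.of R))) (x : Over.mk sK ⟶ X) (χ : Γ(X.left, U) →+* K)
        (t : K), IsPt hU x χ → IsPt hU (lift (P sK (powersHom K t)) x ≫ a.act) ((Polynomial.eval₂RingHom χ t).comp ρ))
    {K : Type u} [CommRing K] {sK : Spec (CommRingCat.of K) ⟶ (Spec (CommRingCat.of R))} {x : Over.mk sK ⟶ X}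
    {χ : Γ(X.left, U) →+* K} (hx : IsPt hU x χ) :
    IsPt hU (x ≫ e a) (χ.comp (Polynomial.constantCoeff.comp ρ)) := by
  rw [comp_e, zr_eq]
  convert hρ K sK x χ 0 hx using 1
  refine RingHom.ext fun s => ?_
  simp [Polynomial.eval₂_at_zero]

end Chart

end Groth.Agent.Misc15.AffineLine
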