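import Mathlib.AlgebraicGeometry.Morphisms.SchemeTheoreticallyDominant
import Mathlib.AlgebraicGeometry.Morphisms.ClosedImmersion
import Mathlib.AlgebraicGeometry.Morphisms.Flat
import Mathlib.AlgebraicGeometry.Morphisms.Separated
import Mathlib.CategoryTheory.Monoidal.Cartesian.Over

/-! Products with a scheme-theoretically dominant morphism over a field. -/

set_option autoImplicit false
universe u

open CategoryTheory MonoidalCategory CartesianMonoidalCategory AlgebraicGeometry

noncomputable section

namespace Groth.Agent.Misc15.DominantWhisker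

variable {k : Type u} [Field k]

theorem dominant_whiskerRight {G M : Over (Spec (CommRingCat.of k))} (i : G ⟶ M) [QuasiCompact i.left]
    [IsSchemeTheoreticallyDominant i.left] (Z : Over (Spec (CommRingCat.of k))) :
    IsSchemeTheoreticallyDominant (i ▷ Z).left := by
  have : Flat Z.hom := inferInstance
  have : Flat (Limits.pullback.fst M.hom Z.hom) := inferInstance
  have e1 : (i ▷ Z).left ≫ Limits.pullback.fst M.hom Z.hom = Limits.pullback.fst G.hom Z.hom ≫ i.left :=
    Over.whiskerRight_left_fst i
  have e2 : (i ▷ Z).left ≫ Limits.pullback.snd M.hom Z.hom = Limits.pullback.snd G.hom Z.hom :=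
    Over.whiskerRight_left_snd i
  have hbig : IsPullback (Limits.pullback.fst G.hom Z.hom) ((i ▷ Z).left ≫ Limits.pullback.snd M.hom Z.hom)
      (i.left ≫ M.hom) Z.hom := by
    rw [e2, Over.w i]
    exact IsPullback.of_hasPullback G.hom Z.hom
  have hsq := IsPullback.of_bot hbig e1.symm (IsPullback.of_hasPullback M.hom Z.hom)
  exact IsSchemeTheoreticallyDominant.of_isPullback hsq

/-- a map factors through a closed immersion if its restriction along a dominant map does -/
theorem exists_factor {S : Scheme.{u}} {P Q X Z : Over S} (p : P ⟶ Q) [IsSchemeTheoreticallyDominant p.left]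
    (j : Z ⟶ X) [IsClosedImmersion j.left] (q : Q ⟶ X) (r : P ⟶ Z) (h : p ≫ q = r ≫ j) :
    ∃ s : Q ⟶ Z, s ≫ j = q := by
  have hle : j.left.ker ≤ q.left.ker := by
    have h1 : (p ≫ q).left.ker = q.left.ker := by
      rw [Over.comp_left, Scheme.Hom.ker_comp, p.left.ker_eq_bot, Scheme.IdealSheafData.map_bot]
    rw [← h1, h, Over.comp_left]
    exact Scheme.Hom.le_ker_comp _ _
  refine ⟨Over.homMk (IsClosedImmersion.lift j.left q.left hle) (by
    rw [← Over.w j, IsClosedImmersion.lift_fac_assoc, Over.w q]), ?_⟩
  ext1
  exact IsClosedImmersion.lift_fac _ _ _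

theorem mono_of_closedImmersion {S : Scheme.{u}} {X Z : Over S} (j : Z ⟶ X) [IsClosedImmersion j.left] : Mono j := by
  have : Mono j.left := inferInstance
  exact (Over.forget _).mono_of_mono_map this

end Groth.Agent.Misc15.DominantWhisker

namespace Groth.Agent.Misc15.DominantWhisker

variable {k : Type u} [Field k]

theorem quasiCompact_whiskerRight {S : Scheme.{u}} {G M : Over S} (i : G ⟶ M) [QuasiCompact i.left] (Z : Over S) :
    QuasiCompact (i ▷ Z).left := by
  have e1 : (i ▷ Z).left ≫ Limits.pullback.fst M.hom Z.hom = Limits.pullback.fst G.hom Z.hom ≫ i.left :=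
    Over.whiskerRight_left_fst i
  have e2 : (i ▷ Z).left ≫ Limits.pullback.snd M.hom Z.hom = Limits.pullback.snd G.hom Z.hom :=
    Over.whiskerRight_left_snd i
  have hbig : IsPullback (Limits.pullback.fst G.hom Z.hom) ((i ▷ Z).left ≫ Limits.pullback.snd M.hom Z.hom)
      (i.left ≫ M.hom) Z.hom := by
    rw [e2, Over.w i]
    exact IsPullback.of_hasPullback G.hom Z.hom
  have hsq := IsPullback.of_bot hbig e1.symm (IsPullback.of_hasPullback M.hom Z.hom)
  exact MorphismProperty.of_isPullback (P := @QuasiCompact) hsq inferInstance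

theorem dominant_whiskerLeft (G : Over (Spec (CommRingCat.of k))) {V W : Over (Spec (CommRingCat.of k))} (f : V ⟶ W)
    [QuasiCompact f.left] [IsSchemeTheoreticallyDominant f.left] :
    IsSchemeTheoreticallyDominant (G ◁ f).left := by
  have : Flat G.hom := inferInstance
  have : Flat (Limits.pullback.snd G.hom W.hom) := inferInstance
  have e1 : (G ◁ f).left ≫ Limits.pullback.fst G.hom W.hom = Limits.pullback.fst G.hom V.hom :=
    Over.whiskerLeft_left_fst f
  have e2 : (G ◁ f).left ≫ Limits.pullback.snd G.hom W.hom = Limits.pullback.snd G.hom V.hom ≫ f.left :=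
    Over.whiskerLeft_left_snd f
  have hbig : IsPullback (Limits.pullback.snd G.hom V.hom) ((G ◁ f).left ≫ Limits.pullback.fst G.hom W.hom)
      (f.left ≫ W.hom) G.hom := by
    rw [e1, Over.w f]
    exact (IsPullback.of_hasPullback G.hom V.hom).flip
  have hsq := IsPullback.of_bot hbig e2.symm (IsPullback.of_hasPullback G.hom W.hom).flip
  exact IsSchemeTheoreticallyDominant.of_isPullback hsq

/-- dominant maps cancel against maps to separated schemes -/
theorem cancel {S : Scheme.{u}} {P Q X : Over S} [IsSeparated X.hom] (p : P ⟶ Q)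
    [IsSchemeTheoreticallyDominant p.left] (f g : Q ⟶ X) (h : p ≫ f = p ≫ g) : f = g := by
  let e : Limits.equalizer f g ⟶ Q := Limits.equalizer.ι f g
  obtain ⟨s, hs⟩ := exists_factor p e (𝟙 Q) (Limits.equalizer.lift p h) (by
    rw [Category.comp_id, Limits.equalizer.lift_ι])
  rw [← Category.id_comp f, ← Category.id_comp g, ← hs, Category.assoc, Category.assoc,
    Limits.equalizer.condition]

end Groth.Agent.Misc15.DominantWhisker
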