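import Groth.Agent.Misc15.AffineLine
import Groth.Agent.Misc15.DominantWhisker
import Mathlib.AlgebraicGeometry.Morphisms.Etale

/-! Equivariant morphisms of locally linear `𝔸¹`-schemes which are isomorphisms on fixed points. -/

set_option autoImplicit false
universe u

noncomputable section

open CategoryTheory CategoryTheory.Limits MonoidalCategory CartesianMonoidalCategory MonObj AlgebraicGeometry Opposite
open Magnet
open Groth.Agent.Misc15.MagnetPointsS Groth.Agent.Misc15.AMonCover

namespace Groth.Agent.Misc15.AffineLine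

variable {R : Type u} [CommRing R] {X Y : Over (Spec (CommRingCat.of R))}
  (a : MonAct (AMonS (Spec (CommRingCat.of R)) ℕ) X) (b : MonAct (AMonS (Spec (CommRingCat.of R)) ℕ) Y) (f : X ⟶ Y)

theorem isIso_of_fixed (hX : ∀ x : X.left, ∃ U : X.left.Opens, x ∈ U ∧ IsAffineOpen U ∧ Stable a U)
    (hY : ∀ y : Y.left, ∃ U : Y.left.Opens, y ∈ U ∧ IsAffineOpen U ∧ Stable b U)
    (hf : MonAct.IsEquivariant a b f) (h1 : IsIso (MonAct.fixedPsh.map f hf))
    (h2 : IsPullback (MonAct.fixedPsh.map f hf) (MonAct.fixedPshι a) (MonAct.fixedPshι b) (yoneda.map f))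
    (V : X.left.Opens) [Flat (V.ι ≫ f.left)]
    (h3 : ∀ (T : Over (Spec (CommRingCat.of R))) (x : (MonAct.fixedPsh a).obj (op T)), x.1.left ⁻¹ᵁ V = ⊤) :
    IsIso f := by
  -- fixed points are reflected
  have hrefl : ∀ {T : Over (Spec (CommRingCat.of R))} (x : T ⟶ X), (x ≫ f) ≫ e b = x ≫ f → x ≫ e a = x := by
    intro T x hx
    obtain ⟨z, -, hz⟩ := (CategoryTheory.Limits.Types.isPullback_iff _ _ _ _).1 (h2.app (op T)) |>.2.2
      ⟨x ≫ f, (fixed_iff b _).1 hx⟩ x rfl
    have hz' : z.1 = x := hz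
    rw [← hz']
    exact (fixed_iff a _).2 z.2
  have hbij : ∀ T : Over (Spec (CommRingCat.of R)), Function.Bijective ((MonAct.fixedPsh.map f hf).app (op T)) :=
    fun T => (CategoryTheory.isIso_iff_bijective _).1 inferInstance
  have hinj : ∀ {T : Over (Spec (CommRingCat.of R))} (x y : T ⟶ X), x ≫ e a = x → y ≫ e a = y → x ≫ f = y ≫ f → x = y := by
    intro T x y hx hy hxy
    exact congrArg Subtype.val ((hbij T).1 (a₁ := ⟨x, (fixed_iff a x).1 hx⟩) (a₂ := ⟨y, (fixed_iff a y).1 hy⟩)
      (Subtype.ext hxy))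
  -- the fixed points of the target lift
  let FY := Limits.equalizer (e b) (𝟙 Y)
  let iY : FY ⟶ Y := Limits.equalizer.ι (e b) (𝟙 Y)
  have hiY : iY ≫ e b = iY := (Limits.equalizer.condition (e b) (𝟙 Y)).trans (Category.comp_id _)
  obtain ⟨⟨σ, hσ'⟩, hσf'⟩ := (hbij FY).2 ⟨iY, (fixed_iff b iY).1 hiY⟩
  have hσ : σ ≫ e a = σ := (fixed_iff a σ).2 hσ'
  have hσf : σ ≫ f = iY := congrArg Subtype.val hσf'
  let π : Y ⟶ FY := Limits.equalizer.lift (e b) ((e_idem b).trans (Category.comp_id _).symm)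
  have hπ : π ≫ iY = e b := Limits.equalizer.lift_ι _ _
  have heX : e a = f ≫ π ≫ σ := by
    refine hinj _ _ (e_idem a) ?_ ?_
    · rw [Category.assoc, Category.assoc, hσ]
    · rw [Category.assoc, Category.assoc, hσf, hπ, e_comm a b f hf]
  have : Mono iY.left := inferInstanceAs (Mono ((Over.forget _).map iY))
  have : Mono σ.left := by
    have : Mono (σ.left ≫ f.left) := by rw [← Over.comp_left, hσf]; infer_instance
    exact mono_of_mono σ.left f.left
  have : IsAffineHom (e a).left := isAffineHom_e a hX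
  have : IsAffineHom (e b).left := isAffineHom_e b hY
  have hπaff : IsAffineHom π.left := by
    have : IsAffineHom (π.left ≫ iY.left) := by rw [← Over.comp_left, hπ]; infer_instance
    exact MorphismProperty.of_postcomp (W := @IsAffineHom) (W' := @IsSeparated) π.left iY.left inferInstance this
  have hfaff : IsAffineHom f.left := by
    have h : IsAffineHom ((f.left ≫ π.left) ≫ σ.left) := by
      rw [Category.assoc, ← Over.comp_left, ← Over.comp_left, ← heX]; infer_instance
    have h' : IsAffineHom (f.left ≫ π.left) :=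
      MorphismProperty.of_postcomp (W := @IsAffineHom) (W' := @IsSeparated) (f.left ≫ π.left) σ.left inferInstance h
    exact MorphismProperty.of_postcomp (W := @IsAffineHom) (W' := @IsSeparated) f.left π.left inferInstance h'
  -- reduce to stable affine charts of the target
  suffices IsIso ((Over.forget _).map f) from isIso_of_reflects_iso f (Over.forget _)
  show IsIso f.left
  choose U hyU hU hUs using hY
  refine (IsZariskiLocalAtTarget.iff_of_iSup_eq_top (P := MorphismProperty.isomorphisms Scheme.{u}) U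
    (top_le_iff.1 fun y _ => TopologicalSpace.Opens.mem_iSup.2 ⟨y, hyU y⟩)).2 (fun i => ?_)
  show IsIso (f.left ∣_ U i)
  refine (isIso_morphismRestrict_iff_isIso_app f.left (hU i)).2 ?_
  have hW : IsAffineOpen (f.left ⁻¹ᵁ U i) := (hU i).preimage f.left
  have hWs : Stable a (f.left ⁻¹ᵁ U i) := by
    intro z hz
    have h4 : ((AMonS (Spec (CommRingCat.of R)) ℕ ◁ f) ≫ b.act).left z ∈ U i := by
      refine hUs i (x := ((AMonS (Spec (CommRingCat.of R)) ℕ) ◁ f).left z) ?_
      show (CartesianMonoidalCategory.snd _ Y).left (((AMonS (Spec (CommRingCat.of R)) ℕ) ◁ f).left z) ∈ U i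
      rw [← Scheme.Hom.comp_apply, ← Over.comp_left, whiskerLeft_snd]
      exact hz
    rw [← hf] at h4
    exact h4
  obtain ⟨ρA, hρA, hA1, hA2⟩ := exists_coaction a hW hWs
  obtain ⟨ρB, hρB, hB1, hB2⟩ := exists_coaction b (hU i) (hUs i)
  let φ : Γ(Y.left, U i) →+* Γ(X.left, f.left ⁻¹ᵁ U i) := (f.left.app (U i)).hom
  suffices Function.Bijective φ from (ConcreteCategory.isIso_iff_bijective (f.left.app (U i))).2 this
  have hfs : Spec.map (CommRingCat.ofHom φ) ≫ (hU i).fromSpec = hW.fromSpec ≫ f.left := by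
    have := (hU i).SpecMap_appLE_fromSpec f.left hW le_rfl
    rw [← Scheme.Hom.app_eq_appLE] at this
    exact this
  -- images of points
  have hpush : ∀ {K : Type u} [CommRing K] {sK : Spec (CommRingCat.of K) ⟶ Spec (CommRingCat.of R)} {x : Over.mk sK ⟶ X}
      {χ : Γ(X.left, f.left ⁻¹ᵁ U i) →+* K}, IsPt hW x χ → IsPt (hU i) (x ≫ f) (χ.comp φ) := by
    intro K _ sK x χ hx
    show (x ≫ f).left = _
    rw [Over.comp_left, hx, Category.assoc, ← hfs, CommRingCat.ofHom_comp, Spec.map_comp, Category.assoc]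
  have hρ : ∀ r, ρA (φ r) = (ρB r).map φ := by
    intro r
    let C' : Γ(X.left, f.left ⁻¹ᵁ U i) →+* Polynomial Γ(X.left, f.left ⁻¹ᵁ U i) := Polynomial.C
    have h4 := hpush (hρA _ _ _ _ Polynomial.X (isPt_mkPt hW C'))
    rw [Category.assoc, (MonAct.isEquivariant_iff a b f).1 hf] at h4
    have h5 := RingHom.congr_fun (h4.unique (hU i) (hρB _ _ _ _ Polynomial.X (hpush (isPt_mkPt hW C')))) r
    simp only [RingHom.comp_apply, Polynomial.coe_eval₂RingHom, C', Polynomial.eval₂_C_X] at h5
    exact h5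
  -- the lift of the fixed points of the target
  have hq : ∀ p, (pU (hU i) ≫ π ≫ σ).left p ∈ f.left ⁻¹ᵁ U i := fun p => by
    have h4 : ((pU (hU i) ≫ π ≫ σ) ≫ f).left p ∈ U i := by
      simp only [Category.assoc, hσf, hπ]
      rw [Over.comp_left, Scheme.Hom.comp_apply]
      exact (preimage_e b (hUs i)).ge ((isPt_pU (hU i)).mem (hU i) p)
    exact h4
  obtain ⟨ψ, hψ⟩ := exists_isPt (K := Γ(Y.left, U i)) hW (pU (hU i) ≫ π ≫ σ) hq
  have hψ1 : ∀ r, ψ (φ r) = (ρB r).coeff 0 := by
    intro r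
    have h4 := hpush hψ
    simp only [Category.assoc, hσf, hπ] at h4
    exact RingHom.congr_fun (h4.unique (hU i) (coaction_zero b (hU i) hρB (isPt_pU (hU i)))) r
  have hψfix : (pU (hU i) ≫ π ≫ σ) ≫ e a = pU (hU i) ≫ π ≫ σ := by
    simp only [Category.assoc, hσ]
  have hψ0 : ∀ r, φ (ψ r) = (ρA r).coeff 0 := by
    intro r
    let t : Over.mk (hW.fromSpec ≫ X.hom) ⟶ Over.mk ((hU i).fromSpec ≫ Y.hom) :=
      Over.homMk (Spec.map (CommRingCat.ofHom φ)) (by
        show _ ≫ (hU i).fromSpec ≫ Y.hom = hW.fromSpec ≫ X.hom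
        rw [reassoc_of% hfs, Over.w f])
    have ht : t ≫ pU (hU i) = pU hW ≫ f := by
      ext1
      exact hfs
    have h4 := hψ.comp hW φ t rfl
    rw [reassoc_of% ht, ← heX] at h4
    exact RingHom.congr_fun (h4.unique hW (coaction_zero a hW hρA (isPt_pU hW))) r
  refine GradedLine.bijective ρA ρB φ ψ hA1 hB1 hA2 hB2 hρ hψ0 hψ1 (fun r hr => ?_) ?_
  · let J : Ideal Γ(X.left, f.left ⁻¹ᵁ U i) := Ideal.span (φ '' {s | (ρB s).coeff 0 = 0})
    let x := mkPt hW (Ideal.Quotient.mk J)
    have hxf := hpush (isPt_mkPt hW (Ideal.Quotient.mk J))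
    have h4 := coaction_zero b (hU i) hρB hxf
    have hfix : (x ≫ f) ≫ e b = x ≫ f := by
      have e : ((Ideal.Quotient.mk J).comp φ).comp (Polynomial.constantCoeff.comp ρB) = (Ideal.Quotient.mk J).comp φ := by
        refine RingHom.ext fun s => ?_
        simp only [RingHom.comp_apply, Polynomial.constantCoeff_apply]
        rw [Ideal.Quotient.eq, ← map_sub]
        refine Ideal.subset_span ⟨_, ?_, rfl⟩
        show (ρB ((ρB s).coeff 0 - s)).coeff 0 = 0
        rw [map_sub, Polynomial.coeff_sub, hB2, Polynomial.coeff_monomial, if_pos rfl, sub_self]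
      rw [e] at h4
      ext1
      exact h4.trans hxf.symm
    have h5 := coaction_zero a hW hρA (isPt_mkPt hW (Ideal.Quotient.mk J))
    rw [hrefl x hfix] at h5
    have h6 := RingHom.congr_fun (h5.unique hW (isPt_mkPt hW _)) r
    simp only [RingHom.comp_apply, Polynomial.constantCoeff_apply, hr, map_zero] at h6
    exact Ideal.Quotient.eq_zero_iff_mem.1 h6.symm
  · intro p hp hpK s hs
    let pp : Spec (CommRingCat.of Γ(Y.left, U i)) := ⟨p, hp⟩
    have hP : (p.comap ψ).comap φ = p := by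
      refine Ideal.ext fun s => ?_
      rw [Ideal.mem_comap, Ideal.mem_comap, hψ1]
      have : s - (ρB s).coeff 0 ∈ p := hpK _ (by
        rw [map_sub, Polynomial.coeff_sub, hB2, Polynomial.coeff_monomial, if_pos rfl, sub_self])
      refine ⟨fun h => ?_, fun h => ?_⟩
      · simpa using p.add_mem h this
      · simpa using p.sub_mem h this
    let P : Spec (CommRingCat.of Γ(X.left, f.left ⁻¹ᵁ U i)) := ⟨p.comap ψ, inferInstance⟩
    have hPV : hW.fromSpec P ∈ V := by
      have h4 : (pU (hU i) ≫ π ≫ σ).left pp ∈ V := by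
        have := h3 _ ⟨pU (hU i) ≫ π ≫ σ, (fixed_iff a _).1 hψfix⟩
        exact this.ge trivial
      rwa [hψ, Scheme.Hom.comp_apply] at h4
    obtain ⟨g, hgP, hgV⟩ : ∃ g, P ∈ PrimeSpectrum.basicOpen g ∧ PrimeSpectrum.basicOpen g ≤ hW.fromSpec ⁻¹ᵁ V := by
      obtain ⟨_, ⟨g, rfl⟩, h4, h5⟩ := PrimeSpectrum.isTopologicalBasis_basic_opens.exists_subset_of_mem_open hPV
        (hW.fromSpec ⁻¹ᵁ V).isOpen
      exact ⟨g, h4, h5⟩
    let A' := Localization.Away g
    let θ : Γ(X.left, f.left ⁻¹ᵁ U i) →+* A' := algebraMap _ _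
    have hθ : Set.range (Spec.map (CommRingCat.ofHom θ) ≫ hW.fromSpec) ⊆ Set.range V.ι := by
      rw [Scheme.Opens.range_ι]
      rintro _ ⟨q, rfl⟩
      refine hgV ?_
      show (Spec.map (CommRingCat.ofHom θ) q) ∈ PrimeSpectrum.basicOpen g
      show _ ∈ SetLike.coe (PrimeSpectrum.basicOpen g)
      rw [← PrimeSpectrum.localization_away_comap_range A' g]
      exact ⟨q, rfl⟩
    have hflat : (θ.comp φ).Flat := by
      let l := IsOpenImmersion.lift V.ι _ hθ
      have : IsOpenImmersion (l ≫ V.ι) := by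
        rw [IsOpenImmersion.lift_fac]
        infer_instance
      have : IsOpenImmersion l := IsOpenImmersion.of_comp l V.ι
      have h4 : Flat (Spec.map (CommRingCat.ofHom (θ.comp φ)) ≫ (hU i).fromSpec) := by
        rw [CommRingCat.ofHom_comp, Spec.map_comp, Category.assoc, hfs, ← Category.assoc,
          ← IsOpenImmersion.lift_fac V.ι _ hθ, Category.assoc]
        infer_instance
      have h5 : Flat (Spec.map (CommRingCat.ofHom (θ.comp φ))) :=
        MorphismProperty.of_postcomp (W := @Flat) (W' := @IsOpenImmersion) _ (hU i).fromSpec inferInstance h4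
      exact Flat.SpecMap_iff.1 h5
    obtain ⟨P', hP'⟩ : P ∈ Set.range (PrimeSpectrum.comap θ) :=
      (PrimeSpectrum.localization_away_comap_range A' g).symm ▸ hgP
    obtain ⟨r, hr, hrP⟩ := GradedLine.mem_map_ann_eq_top (θ.comp φ) hflat s
      (by rw [RingHom.comp_apply, hs, map_zero]) (P := P'.asIdeal)
    refine ⟨r, hr, ?_⟩
    rw [← Ideal.comap_comap, show P'.asIdeal.comap θ = p.comap ψ from congrArg PrimeSpectrum.asIdeal hP', hP] at hrP
    exact hrP

end Groth.Agent.Misc15.AffineLine
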