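import Groth.Prelude.Def_Magnet4
import Mathlib.LinearAlgebra.FreeModule.PID
import Mathlib.GroupTheory.Finiteness

/-! A face of a finitely generated submonoid of a finitely generated group is the zero locus of a height. -/

set_option autoImplicit false

namespace Groth.Agent.Misc15.FaceHeight

/-- Gordan's alternative in a finitely generated abelian group -/
theorem exists_pos_functional {M : Type} [AddCommGroup M] [AddGroup.FG M] :
    ∀ {k : ℕ} (v : Fin k → M), (∀ c : Fin k → ℕ, ∑ i, c i • v i = 0 → ∀ i, c i = 0) →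
      ∃ f : M →+ ℤ, ∀ i, 0 < f (v i) := by
  intro k
  induction k with
  | zero => exact fun v _ => ⟨0, fun i => i.elim0⟩
  | succ k ih =>
    intro v hv
    let u : Fin k → M := fun i => v i.succ
    have hu : ∀ c : Fin k → ℕ, ∑ i, c i • u i = 0 → ∀ i, c i = 0 := by
      intro c hc i
      have := hv (Fin.cons 0 c) (by rw [Fin.sum_univ_succ]; simpa using hc) i.succ
      simpa using this
    obtain ⟨f, hf⟩ := ih u hu
    by_cases h0 : 0 < f (v 0)
    · exact ⟨f, fun i => Fin.cases h0 hf i⟩
    -- project to the kernel of `f`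
    let w : Fin k → M := fun i => (f (u i)).toNat • v 0 + (-f (v 0)).toNat • u i
    have hw : ∀ c : Fin k → ℕ, ∑ i, c i • w i = 0 → ∀ i, c i = 0 := by
      intro c hc i
      have h1 := hv (Fin.cons (∑ j, c j * (f (u j)).toNat) (fun j => c j * (-f (v 0)).toNat)) (by
        rw [Fin.sum_univ_succ]
        simp only [Fin.cons_zero, Fin.cons_succ]
        rw [Finset.sum_smul, ← Finset.sum_add_distrib]
        refine Eq.trans (Finset.sum_congr rfl fun j _ => ?_) hc
        simp only [w, u, smul_add, mul_smul]) 0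
      simp only [Fin.cons_zero, Finset.sum_eq_zero_iff, Finset.mem_univ, mul_eq_zero, true_implies] at h1
      refine (h1 i).resolve_right ?_
      have := hf i
      omega
    obtain ⟨g, hg⟩ := ih w hw
    let h : M →+ ℤ := g (v 0) • f - f (v 0) • g
    have hh : ∀ i, 0 < h (u i) := by
      intro i
      have h1 := hg i
      simp only [w, map_add, map_nsmul, nsmul_eq_mul] at h1
      rw [Int.toNat_of_nonneg (hf i).le, Int.toNat_of_nonneg (by omega : 0 ≤ -f (v 0))] at h1
      show 0 < g (v 0) • f (u i) - f (v 0) • g (u i)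
      simp only [smul_eq_mul]
      nlinarith
    have hh0 : h (v 0) = 0 := by
      show g (v 0) • f (v 0) - f (v 0) • g (v 0) = 0
      simp [smul_eq_mul, mul_comm]
    -- a functional positive at `v 0`
    obtain ⟨p, hp⟩ : ∃ p : M →+ ℤ, 0 < p (v 0) := by
      have : Module.Finite ℤ M := Module.Finite.iff_addGroup_fg.2 inferInstance
      let T := Submodule.torsion ℤ M
      have : Module.Free ℤ (M ⧸ T) := Module.free_of_finite_type_torsion_free'
      let b := Module.Free.chooseBasis ℤ (M ⧸ T)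
      have hne : T.mkQ (v 0) ≠ 0 := by
        intro hz
        obtain ⟨⟨r, hr⟩, hrv⟩ := (Submodule.Quotient.mk_eq_zero _).1 hz
        have hr' : r ≠ 0 := mem_nonZeroDivisors_iff_ne_zero.1 hr
        have hn : r.natAbs • v 0 = 0 := by
          rcases Int.natAbs_eq r with e | e
          · rw [← natCast_zsmul, ← e]; exact hrv
          · rw [← natCast_zsmul, show (r.natAbs : ℤ) = -r by omega, neg_smul]
            exact neg_eq_zero.2 hrv
        have := hv (Fin.cons r.natAbs 0) (by rw [Fin.sum_univ_succ]; simpa using hn) 0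
        simp at this
        exact hr' this
      obtain ⟨j, hj⟩ : ∃ j, b.coord j (T.mkQ (v 0)) ≠ 0 := by
        by_contra hall
        push_neg at hall
        exact hne (b.repr.injective (Finsupp.ext fun j => by simpa using hall j))
      let q : M →+ ℤ := ((b.coord j).comp T.mkQ).toAddMonoidHom
      rcases lt_or_gt_of_ne (show q (v 0) ≠ 0 from hj) with h' | h'
      · exact ⟨-q, by simpa using h'⟩
      · exact ⟨q, h'⟩
    let n : ℤ := 1 + ∑ i, |p (u i)|
    refine ⟨n • h + p, fun i => Fin.cases ?_ (fun j => ?_) i⟩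
    · simpa [hh0] using hp
    · have h1 := hh j
      have h2 : |p (u j)| ≤ ∑ i, |p (u i)| :=
        Finset.single_le_sum (f := fun i => |p (u i)|) (fun _ _ => abs_nonneg _) (Finset.mem_univ j)
      show 0 < n • h (u j) + p (u j)
      simp only [n, smul_eq_mul]
      have h3 := neg_abs_le (p (u j))
      nlinarith [abs_nonneg (p (u j))]

theorem exists_functional {M : Type} [AddCommGroup M] [AddGroup.FG M] {N F : AddSubmonoid M} (hN : N.FG)
    (hF : Magnet.IsFace N F) : ∃ g : M →+ ℤ, ∀ x ∈ N, 0 ≤ g x ∧ (g x = 0 ↔ x ∈ F) := by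
  classical
  obtain ⟨G, hG⟩ := hN
  let G' := G.filter (· ∉ F)
  let e := G'.equivFin
  let FF : AddSubgroup M := AddSubgroup.closure (F : Set M)
  have hdiff : ∀ x ∈ FF, ∃ p ∈ F, ∃ q ∈ F, x = p - q := by
    intro x hx
    induction hx using AddSubgroup.closure_induction with
    | mem x hx => exact ⟨x, hx, 0, F.zero_mem, (sub_zero x).symm⟩
    | zero => exact ⟨0, F.zero_mem, 0, F.zero_mem, (sub_zero 0).symm⟩
    | add x y _ _ hx hy =>
      obtain ⟨p, hp, q, hq, rfl⟩ := hx
      obtain ⟨p', hp', q', hq', rfl⟩ := hy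
      exact ⟨p + p', F.add_mem hp hp', q + q', F.add_mem hq hq', by abel⟩
    | neg x _ hx =>
      obtain ⟨p, hp, q, hq, rfl⟩ := hx
      exact ⟨q, hq, p, hp, neg_sub p q⟩
  have hGN : ∀ g ∈ G, g ∈ N := fun g hg => hG ▸ AddSubmonoid.subset_closure hg
  have hsum : ∀ (s : Finset (Fin G'.card)) (c : Fin G'.card → ℕ),
      (∑ i ∈ s, c i • ((e.symm i : M))) ∈ F → ∀ i ∈ s, c i = 0 := by
    intro s c hs i hi
    by_contra hne
    have hmem : ∀ j, ((e.symm j : M)) ∈ N := fun j => hGN _ (Finset.mem_filter.1 (e.symm j).2).1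
    rw [← Finset.add_sum_erase _ _ hi] at hs
    have h1 := (hF.mem_of_add_mem _ (N.nsmul_mem (hmem i) _) _
      (sum_mem fun j _ => N.nsmul_mem (hmem j) _) hs).1
    obtain ⟨m, hm⟩ := Nat.exists_eq_succ_of_ne_zero hne
    rw [hm, succ_nsmul] at h1
    exact (Finset.mem_filter.1 (e.symm i).2).2 (hF.mem_of_add_mem _ (N.nsmul_mem (hmem i) m) _ (hmem i) h1).2
  have : AddGroup.FG (M ⧸ FF) := inferInstance
  obtain ⟨f, hf⟩ := exists_pos_functional (fun i => QuotientAddGroup.mk' FF (e.symm i : M)) (fun c hc i => by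
    simp only [← map_nsmul, ← map_sum] at hc
    obtain ⟨p, hp, q, hq, hpq⟩ := hdiff _ ((QuotientAddGroup.eq_zero_iff _).1 hc)
    have hS : (∑ j, c j • ((e.symm j : M))) ∈ N :=
      sum_mem fun j _ => N.nsmul_mem (hGN _ (Finset.mem_filter.1 (e.symm j).2).1) _
    have h2 : (∑ j, c j • ((e.symm j : M))) + q = p := by rw [hpq, sub_add_cancel]
    exact hsum Finset.univ c (hF.mem_of_add_mem _ hS _ (hF.le hq) (h2 ▸ hp)).1 i (Finset.mem_univ i))
  let g : M →+ ℤ := f.comp (QuotientAddGroup.mk' FF)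
  have hzero : ∀ x ∈ F, g x = 0 := fun x hx => by
    show f (QuotientAddGroup.mk' FF x) = 0
    rw [(QuotientAddGroup.eq_zero_iff x).2 (AddSubgroup.subset_closure hx) |> fun h => (show QuotientAddGroup.mk' FF x = 0 from h), map_zero]
  have hkey : ∀ x ∈ N, 0 ≤ g x ∧ (g x = 0 → x ∈ F) := by
    intro x hx
    rw [← hG] at hx
    induction hx using AddSubmonoid.closure_induction with
    | mem x hx =>
      by_cases hxF : x ∈ F
      · exact ⟨(hzero x hxF).ge, fun _ => hxF⟩
      · have h1 := hf (e ⟨x, Finset.mem_filter.2 ⟨hx, hxF⟩⟩)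
        rw [Equiv.symm_apply_apply] at h1
        exact ⟨h1.le, fun h => absurd h h1.ne'⟩
    | zero => exact ⟨(map_zero g).ge, fun _ => F.zero_mem⟩
    | add x y _ _ hx hy =>
      refine ⟨by rw [map_add]; omega, fun h => ?_⟩
      rw [map_add] at h
      exact F.add_mem (hx.2 (by omega)) (hy.2 (by omega))
  exact ⟨g, fun x hx => ⟨(hkey x hx).1, (hkey x hx).2, hzero x⟩⟩

theorem exists_height {M : Type} [AddCommGroup M] [AddGroup.FG M] {N F : AddSubmonoid M} (hN : N.FG)
    (hF : Magnet.IsFace N F) : ∃ h : N →+ ℕ, ∀ n : N, h n = 0 ↔ (n : M) ∈ F := by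
  obtain ⟨g, hg⟩ := exists_functional hN hF
  refine ⟨{ toFun := fun n => (g n).toNat, map_zero' := by simp, map_add' := fun n m => ?_ }, fun n => ⟨fun h => ?_, fun h => ?_⟩⟩
  · have h1 := (hg _ n.2).1
    have h2 := (hg _ m.2).1
    simp only [AddSubmonoid.coe_add, map_add]
    omega
  · have h1 := (hg _ n.2).1
    have h' : (g n).toNat = 0 := h
    exact (hg _ n.2).2.1 (by omega)
  · show (g n).toNat = 0
    rw [(hg _ n.2).2.2 h]
    rfl

end Groth.Agent.Misc15.FaceHeight
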