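import Groth.Agent.Misc15.TPoints
import Groth.Agent.Misc15.FaceHeight
import Mathlib.RingTheory.Localization.FractionRing

/-! An open subset of `A(N) × T` stable under the torus and containing the closed orbit section is everything. -/

set_option autoImplicit false
universe u

noncomputable section

open CategoryTheory CategoryTheory.Limits MonoidalCategory CartesianMonoidalCategory MonObj AlgebraicGeometry Opposite
open Magnet

namespace Groth.Agent.Misc15.StableOpen

open Groth.Agent.Misc15.MagnetPoints (Z algZ charEquiv)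
open Groth.Agent.Misc15.MagnetPointsS Groth.Agent.Misc15.AMonCover

variable {M : Type} [AddCommGroup M] (N : AddSubmonoid M)

/-- the character killing all non-units -/
def unitInd (K : Type u) [CommRing K] : Multiplicative N →* K :=
  letI := Classical.dec
  { toFun := fun n => if (n.toAdd : M) ∈ unitFace N then 1 else 0
    map_one' := if_pos (unitFace N).zero_mem
    map_mul' := fun a b => by
      show (if (a.toAdd : M) + (b.toAdd : M) ∈ unitFace N then (1 : K) else 0) = _
      by_cases ha : (a.toAdd : M) ∈ unitFace N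
      · by_cases hb : (b.toAdd : M) ∈ unitFace N
        · rw [if_pos ((unitFace N).add_mem ha hb), if_pos ha, if_pos hb, _root_.mul_one]
        · rw [if_neg (fun h => hb (((isFace_unitFace N).add_mem_iff a.toAdd.2 b.toAdd.2).1 h).2), if_neg hb, mul_zero]
      · rw [if_neg (fun h => ha (((isFace_unitFace N).add_mem_iff a.toAdd.2 b.toAdd.2).1 h).1), if_neg ha, zero_mul] }

variable {S : Scheme.{u}} {T : Over S}

/-- the closed orbit section: the unit of `A(N*)` followed by the face morphism -/
def sec : T ⟶ AMonS S N :=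
  (toUnit T ≫ η[AMonS S (unitFace N)]) ≫ AMonS.faceMap S (isFace_unitFace N)

theorem comp_sec {T' : Over S} (t : T' ⟶ T) : t ≫ sec N (T := T) = sec N := by
  rw [sec, sec, ← Category.assoc, ← Category.assoc, toUnit_unique (t ≫ toUnit T) (toUnit T')]

theorem sec_eq_P {K : Type u} [CommRing K] (sK : Spec (CommRingCat.of K) ⟶ S) :
    sec N (T := Over.mk sK) = P sK (unitInd N K) := by
  letI := algZ K
  rw [sec, ← P_one, TPoints.P_comp_faceMap]
  congr 1
  refine MonoidHom.ext fun n => ?_
  obtain ⟨n, rfl⟩ : ∃ m, Multiplicative.ofAdd m = n := ⟨n.toAdd, rfl⟩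
  show charEquiv K (unitFace N) 1 (faceAlgHom Z.{u} (isFace_unitFace N) (MonoidAlgebra.single (Multiplicative.ofAdd n) 1)) = _
  by_cases hn : (n : M) ∈ unitFace N
  · rw [faceAlgHom_single_of_mem _ _ n hn, charEquiv, MonoidAlgebra.lift_single]
    erw [Algebra.smul_def, map_one, _root_.one_mul]
    exact (if_pos hn).symm
  · rw [faceAlgHom_single_of_not_mem _ _ n hn, map_zero]
    exact (if_neg hn).symm

/-- the point given by a character and a point of `T` -/
abbrev pt {K : Type u} [CommRing K] (sK : Spec (CommRingCat.of K) ⟶ S) (t : Over.mk sK ⟶ T)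
    (χ : Multiplicative N →* K) : Over.mk sK ⟶ AMonS S N ⊗ T :=
  lift (P sK χ) t

theorem pt_eq {K : Type u} [CommRing K] (sK : Spec (CommRingCat.of K) ⟶ S) (t : Over.mk sK ⟶ T)
    (χ : Multiplicative N →* K) :
    (pt N sK t χ).left =
      Spec.map (CommRingCat.ofHom (MonoidAlgebra.lift K K (Multiplicative N) χ).toRingHom) ≫
        (univPoint N K sK t).left := by
  let r : Over.mk sK ⟶ Over.mk (univBase N K sK) :=
    Over.homMk (Spec.map (CommRingCat.ofHom (MonoidAlgebra.lift K K (Multiplicative N) χ).toRingHom)) (by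
      show _ ≫ Spec.map _ ≫ sK = sK
      rw [← Spec.map_comp_assoc, ← CommRingCat.ofHom_comp, AlgHom.toRingHom_eq_coe, AlgHom.comp_algebraMap]
      simp)
  have : pt N sK t χ = r ≫ univPoint N K sK t := by
    rw [univPoint, comp_lift, comp_P _ _ (MonoidAlgebra.lift K K (Multiplicative N) χ).toRingHom r rfl]
    have e : r ≫ univProj N K sK = 𝟙 _ := by
      ext1
      show Spec.map _ ≫ Spec.map _ = 𝟙 _
      rw [← Spec.map_comp, ← CommRingCat.ofHom_comp, AlgHom.toRingHom_eq_coe, AlgHom.comp_algebraMap]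
      simp
    rw [reassoc_of% e]
    congr 2
    refine MonoidHom.ext fun n => ?_
    simp
  rw [this]
  rfl

theorem eq_top [AddGroup.FG M] (W : (AMonS S N ⊗ T).left.Opens)
    (hW : (CartesianMonoidalCategory.snd (AMonS S M) (AMonS S N ⊗ T)).left ⁻¹ᵁ W ≤
      ((subAct S M N).prod (MonAct.trivial (AMonS S M) T)).act.left ⁻¹ᵁ W)
    (h0 : (lift (sec N) (𝟙 T)).left ⁻¹ᵁ W = ⊤) : W = ⊤ := by
  classical
  have stab : ∀ {L : Type u} [Field L] (sL : Spec (CommRingCat.of L) ⟶ S) (t : Over.mk sL ⟶ T)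
      (χ : Multiplicative N →* L) (γ : Multiplicative M →* L) (x : Spec (CommRingCat.of L)),
      (pt N sL t χ).left x ∈ W →
        (pt N sL t (γ.comp (AddMonoidHom.toMultiplicative N.subtype) * χ)).left x ∈ W := by
    intro L _ sL t χ γ x hx
    let q : Over.mk sL ⟶ AMonS S M ⊗ (AMonS S N ⊗ T) := lift (P sL γ) (pt N sL t χ)
    have h1 : q.left x ∈ (CartesianMonoidalCategory.snd (AMonS S M) (AMonS S N ⊗ T)).left ⁻¹ᵁ W := by
      show (CartesianMonoidalCategory.snd (AMonS S M) (AMonS S N ⊗ T)).left (q.left x) ∈ W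
      rw [← Scheme.Hom.comp_apply, ← Over.comp_left, lift_snd]
      exact hx
    have h2 : ((subAct S M N).prod (MonAct.trivial (AMonS S M) T)).act.left (q.left x) ∈ W := hW h1
    rw [← Scheme.Hom.comp_apply, ← Over.comp_left] at h2
    have e : q ≫ ((subAct S M N).prod (MonAct.trivial (AMonS S M) T)).act =
        pt N sL t (γ.comp (AddMonoidHom.toMultiplicative N.subtype) * χ) := by
      simp only [q, pt, MonAct.lift_prod_act, MonAct.lift_trivial_act]
      unfold subAct
      rw [MonAct.lift_restrict_act, MonAct.lift_regular_act, P_comp_map, P_mul]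
    rwa [e] at h2
  refine eq_top_iff.2 fun z _ => ?_
  let K := (AMonS S N ⊗ T).left.residueField z
  let sK : Spec (CommRingCat.of K) ⟶ S := (AMonS S N ⊗ T).left.fromSpecResidueField z ≫ (AMonS S N ⊗ T).hom
  let zz : Over.mk sK ⟶ AMonS S N ⊗ T := Over.homMk ((AMonS S N ⊗ T).left.fromSpecResidueField z) rfl
  obtain ⟨p, hp⟩ := P_surjective sK (zz ≫ fst _ _)
  -- a field with a character of `M` extending `p` on the units
  let Zg : AddSubgroup M :=
    { unitFace N with
      neg_mem' := by
        rintro x ⟨hx, y, hy, hxy⟩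
        rw [neg_eq_of_add_eq_zero_right hxy]
        exact ⟨hy, x, hx, by rw [add_comm, hxy]⟩ }
  let ρ : Multiplicative Zg →* K :=
    p.comp (AddMonoidHom.toMultiplicative (Zg.subtype.codRestrict N fun x => (unitFace_le N) x.2))
  let ω : MonoidAlgebra ℤ (Multiplicative Zg) →+* MonoidAlgebra ℤ (Multiplicative M) :=
    MonoidAlgebra.mapDomainRingHom ℤ (AddMonoidHom.toMultiplicative Zg.subtype)
  have hω : ω.FaithfullyFlat := by
    refine FreeMonoidAlgebra.faithfullyFlat _ (fun d : M ⧸ Zg => Multiplicative.ofAdd d.out) ⟨?_, ?_⟩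
    · rintro ⟨d, x⟩ ⟨d', x'⟩ h
      have h' : d.out + (x.toAdd : M) = d'.out + (x'.toAdd : M) := congrArg Multiplicative.toAdd h
      have hd : d = d' := by
        have h1 := congrArg (QuotientAddGroup.mk' Zg) h'
        rw [map_add, map_add, show QuotientAddGroup.mk' Zg (x.toAdd : M) = 0 from
          (QuotientAddGroup.eq_zero_iff _).2 x.toAdd.2, show QuotientAddGroup.mk' Zg (x'.toAdd : M) = 0 from
          (QuotientAddGroup.eq_zero_iff _).2 x'.toAdd.2, _root_.add_zero, _root_.add_zero] at h1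
        simpa using h1
      subst hd
      have : x = x' := Multiplicative.toAdd.injective (Subtype.ext (add_left_cancel h'))
      rw [this]
    · intro m
      refine ⟨(QuotientAddGroup.mk' Zg m.toAdd,
        Multiplicative.ofAdd ⟨-(QuotientAddGroup.mk' Zg m.toAdd).out + m.toAdd, ?_⟩), ?_⟩
      · rw [← QuotientAddGroup.eq]
        exact QuotientAddGroup.out_eq' _
      · apply Multiplicative.toAdd.injective
        exact add_neg_cancel_left _ _
  let θ : MonoidAlgebra ℤ (Multiplicative Zg) →+* K :=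
    MonoidAlgebra.liftNCRingHom (algebraMap ℤ K) ρ fun _ _ => Commute.all _ _
  obtain ⟨L₀, _, e₀, ζ, hζ⟩ : ∃ (L₀ : Type u) (_ : Field L₀) (e₀ : K →+* L₀) (ζ : Multiplicative M →* L₀),
      ∀ x : Multiplicative Zg, ζ (AddMonoidHom.toMultiplicative Zg.subtype x) = e₀ (ρ x) := by
    algebraize [ω, θ]
    have : Module.FaithfullyFlat (MonoidAlgebra ℤ (Multiplicative Zg)) (MonoidAlgebra ℤ (Multiplicative M)) := hω
    let K' := TensorProduct (MonoidAlgebra ℤ (Multiplicative Zg)) K (MonoidAlgebra ℤ (Multiplicative M))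
    have hff : (algebraMap K K').FaithfullyFlat := RingHom.faithfullyFlat_algebraMap_iff.2 inferInstance
    have : Nontrivial K' := hff.injective.nontrivial
    obtain ⟨m, hm⟩ := Ideal.exists_maximal K'
    letI := Ideal.Quotient.field m
    refine ⟨K' ⧸ m, inferInstance, (Ideal.Quotient.mk m).comp (algebraMap K K'),
      ((Ideal.Quotient.mk m).comp (Algebra.TensorProduct.includeRight.toRingHom :
        MonoidAlgebra ℤ (Multiplicative M) →+* K') : MonoidAlgebra ℤ (Multiplicative M) →* K' ⧸ m).comp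
          (MonoidAlgebra.of ℤ _), fun x => ?_⟩
    show Ideal.Quotient.mk m (TensorProduct.tmul _ (1 : K) _) = Ideal.Quotient.mk m (TensorProduct.tmul _ (ρ x) 1)
    congr 1
    have h1 : ρ x = θ (MonoidAlgebra.of ℤ _ x) := by
      simp [θ, MonoidAlgebra.liftNCRingHom_single]
    have h2 : MonoidAlgebra.of ℤ (Multiplicative M) (AddMonoidHom.toMultiplicative Zg.subtype x) =
        ω (MonoidAlgebra.of ℤ _ x) := (MonoidAlgebra.mapDomain_single).symm
    rw [h1, h2]
    show TensorProduct.tmul _ (1 : K) (algebraMap _ (MonoidAlgebra ℤ (Multiplicative M)) _) =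
      TensorProduct.tmul _ (algebraMap _ K _) 1
    rw [Algebra.algebraMap_eq_smul_one, Algebra.algebraMap_eq_smul_one, TensorProduct.smul_tmul]
  let sL₀ := Spec.map (CommRingCat.ofHom e₀) ≫ sK
  let t₀ : Over.mk sL₀ ⟶ T := (Over.homMk (Spec.map (CommRingCat.ofHom e₀)) rfl : Over.mk sL₀ ⟶ Over.mk sK) ≫ zz ≫ snd _ _
  let p₀ : Multiplicative N →* L₀ := (e₀ : K →* L₀).comp p
  let q : Multiplicative N →* L₀ := ζ.comp (AddMonoidHom.toMultiplicative N.subtype) * unitInd N L₀
  have hq0 : ∀ x, (pt N sL₀ t₀ q).left x ∈ W := by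
    intro x
    refine stab sL₀ t₀ _ ζ x ?_
    have : pt N sL₀ t₀ (unitInd N L₀) = t₀ ≫ lift (sec N) (𝟙 T) := by
      rw [pt, ← sec_eq_P, comp_lift, comp_sec, Category.comp_id]
    rw [this]
    exact (h0 ▸ trivial : t₀.left x ∈ (lift (sec N) (𝟙 T)).left ⁻¹ᵁ W)
  have hqn : ∀ n : N, q (Multiplicative.ofAdd n) = if (n : M) ∈ unitFace N then p₀ (Multiplicative.ofAdd n) else 0 := by
    intro n
    show ζ _ * (if (n : M) ∈ unitFace N then (1 : L₀) else 0) = _
    split_ifs with hn
    · rw [_root_.mul_one]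
      exact hζ (Multiplicative.ofAdd ⟨(n : M), hn⟩)
    · rw [mul_zero]
  -- a basic open around the degenerate point
  let ev : (Multiplicative N →* L₀) → (MA L₀ N →+* L₀) := fun χ => (MonoidAlgebra.lift L₀ L₀ _ χ).toRingHom
  let W' := (univPoint N L₀ sL₀ t₀).left ⁻¹ᵁ W
  let pL : Spec (CommRingCat.of L₀) := IsLocalRing.closedPoint L₀
  have hqW : Spec.map (CommRingCat.ofHom (ev q)) pL ∈ W' := by
    show (univPoint N L₀ sL₀ t₀).left _ ∈ W
    rw [← Scheme.Hom.comp_apply, ← pt_eq]
    exact hq0 pL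
  obtain ⟨_, ⟨f, rfl⟩, hqf, hfW⟩ := (PrimeSpectrum.isTopologicalBasis_basic_opens (R := MA L₀ N)).exists_subset_of_mem_open
    (a := Spec.map (CommRingCat.ofHom (ev q)) pL) (u := W'.carrier) hqW W'.isOpen
  have hfq : ev q f ≠ 0 := by
    intro h
    refine hqf ?_
    show ev q f ∈ pL.asIdeal
    rw [h]
    exact Ideal.zero_mem _
  -- the degenerating curve
  let N₁ : AddSubmonoid M := AddSubmonoid.closure
    ((f.coeff.support.image fun n : Multiplicative N => (n.toAdd : M)) : Set M)
  have hN₁le : N₁ ≤ N := AddSubmonoid.closure_le.2 fun x hx => by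
    obtain ⟨n, -, rfl⟩ := Finset.mem_image.1 hx
    exact n.toAdd.2
  have hface : IsFace N₁ (unitFace N ⊓ N₁) :=
    ⟨inf_le_right, fun x hx y hy h => by
      have h1 := (isFace_unitFace N).mem_of_add_mem x (hN₁le hx) y (hN₁le hy) h.1
      exact ⟨⟨h1.1, hx⟩, h1.2, hy⟩⟩
  obtain ⟨g, hg⟩ := FaceHeight.exists_functional (M := M) ⟨_, rfl⟩ hface
  let L := FractionRing (Polynomial L₀)
  let c : L₀ →+* L := (algebraMap (Polynomial L₀) L).comp Polynomial.C
  let s : L := algebraMap (Polynomial L₀) L Polynomial.X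
  have hs : s ≠ 0 := fun h => Polynomial.X_ne_zero (IsFractionRing.injective (Polynomial L₀) L (h.trans (map_zero _).symm))
  let γ : Multiplicative M →* L :=
    { toFun := fun m => s ^ g m.toAdd
      map_one' := by simp
      map_mul' := fun a b => by rw [toAdd_mul, map_add, zpow_add₀ hs] }
  let γ' : Multiplicative M →* L :=
    { toFun := fun m => s ^ (-g m.toAdd)
      map_one' := by simp
      map_mul' := fun a b => by rw [toAdd_mul, map_add, _root_.neg_add, zpow_add₀ hs] }
  let sL := Spec.map (CommRingCat.ofHom c) ≫ sL₀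
  let tc : Over.mk sL ⟶ Over.mk sL₀ := Over.homMk (Spec.map (CommRingCat.ofHom c)) rfl
  let χ : Multiplicative N →* L := γ.comp (AddMonoidHom.toMultiplicative N.subtype) * (c : L₀ →* L).comp p₀
  have hχp : γ'.comp (AddMonoidHom.toMultiplicative N.subtype) * χ = (c : L₀ →* L).comp p₀ := by
    refine MonoidHom.ext fun n => ?_
    show s ^ (-g (n.toAdd : M)) * (s ^ g (n.toAdd : M) * c (p₀ n)) = c (p₀ n)
    rw [← _root_.mul_assoc, ← zpow_add₀ hs, neg_add_cancel, zpow_zero, _root_.one_mul]
  -- evaluation of `f` along the curve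
  let F : MA L₀ N →+* L := MonoidAlgebra.liftNCRingHom c χ fun _ _ => Commute.all _ _
  let P₁ : Polynomial L₀ := f.coeff.sum fun n r => Polynomial.C (r * p₀ n) * Polynomial.X ^ (g (n.toAdd : M)).toNat
  have hF : F f = algebraMap (Polynomial L₀) L P₁ := by
    conv_lhs => rw [← MonoidAlgebra.sum_coeff_single f]
    rw [Finsupp.sum, map_sum, map_finsuppSum]
    refine Finset.sum_congr rfl fun n hn => ?_
    simp only [F, MonoidAlgebra.liftNCRingHom_single]
    show c (f.coeff n) * (s ^ g (n.toAdd : M) * c (p₀ n)) = _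
    have hmem : (n.toAdd : M) ∈ N₁ := AddSubmonoid.subset_closure (Finset.mem_image.2 ⟨n, hn, rfl⟩)
    conv_lhs => rw [← Int.toNat_of_nonneg (hg _ hmem).1, zpow_natCast]
    rw [map_mul, map_pow, Polynomial.C_mul, map_mul]
    show c (f.coeff n) * (s ^ _ * c (p₀ n)) = c (f.coeff n) * c (p₀ n) * s ^ _
    ring
  have hP₁ : P₁.eval 0 = ev q f := by
    conv_rhs => rw [← MonoidAlgebra.sum_coeff_single f]
    rw [Finsupp.sum, map_sum]
    simp only [P₁, Finsupp.sum, Polynomial.eval_finsetSum]
    refine Finset.sum_congr rfl fun n hn => ?_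
    have hmem : (n.toAdd : M) ∈ N₁ := AddSubmonoid.subset_closure (Finset.mem_image.2 ⟨n, hn, rfl⟩)
    simp only [ev, AlgHom.toRingHom_eq_coe, RingHom.coe_coe, MonoidAlgebra.lift_single, smul_eq_mul,
      Polynomial.eval_mul, Polynomial.eval_C, Polynomial.eval_pow, Polynomial.eval_X]
    have := hqn n.toAdd
    rw [ofAdd_toAdd] at this
    rw [this]
    split_ifs with hn'
    · have h0 : g (n.toAdd : M) = 0 := (hg _ hmem).2.2 ⟨hn', hmem⟩
      rw [h0]
      simp
    · have h1 : g (n.toAdd : M) ≠ 0 := fun h => hn' ((hg _ hmem).2.1 h).1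
      have h2 := (hg _ hmem).1
      rw [zero_pow (by omega), mul_zero, mul_zero]
  have hFne : F f ≠ 0 := by
    rw [hF]
    intro h
    apply hfq
    rw [← hP₁, IsFractionRing.injective (Polynomial L₀) L (h.trans (map_zero _).symm), Polynomial.eval_zero]
  let xL : Spec (CommRingCat.of L) := IsLocalRing.closedPoint L
  have hFW : Spec.map (CommRingCat.ofHom F) xL ∈ W' := hfW (fun h => hFne (by
    have h' : F f ∈ (⊥ : Ideal L) := by
      rw [← IsLocalRing.maximalIdeal_eq_bot]
      exact (Ideal.mem_comap (f := F) (K := IsLocalRing.maximalIdeal L)).1 h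
    simpa using h'))
  have hχW : (pt N sL (tc ≫ t₀) χ).left xL ∈ W := by
    let r : Over.mk sL ⟶ Over.mk (univBase N L₀ sL₀) := Over.homMk (Spec.map (CommRingCat.ofHom F)) (by
      show _ ≫ Spec.map _ ≫ sL₀ = Spec.map _ ≫ sL₀
      rw [← Spec.map_comp_assoc, ← CommRingCat.ofHom_comp]
      congr 3
      ext r
      simp [F, MonoidAlgebra.coe_algebraMap, MonoidAlgebra.liftNCRingHom_single])
    have e : pt N sL (tc ≫ t₀) χ = r ≫ univPoint N L₀ sL₀ t₀ := by
      rw [univPoint, comp_lift, comp_P _ _ F r rfl]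
      have e1 : r ≫ univProj N L₀ sL₀ = tc := by
        ext1
        show Spec.map _ ≫ Spec.map _ = Spec.map _
        rw [← Spec.map_comp, ← CommRingCat.ofHom_comp]
        congr 2
        ext r
        simp [F, MonoidAlgebra.coe_algebraMap, MonoidAlgebra.liftNCRingHom_single]
      rw [reassoc_of% e1]
      congr 2
      refine MonoidHom.ext fun n => ?_
      simp [F, MonoidAlgebra.liftNCRingHom_single]
    rw [e]
    exact hFW
  have hfin := stab sL (tc ≫ t₀) χ γ' xL hχW
  rw [hχp] at hfin
  let down : Over.mk sL ⟶ Over.mk sK := tc ≫ Over.homMk (Spec.map (CommRingCat.ofHom e₀)) rfl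
  have hd : down ≫ P sK p = P sL ((c.comp e₀ : K →* L).comp p) := comp_P _ _ (c.comp e₀) down (by
    show Spec.map _ ≫ Spec.map _ = _
    rw [← Spec.map_comp, ← CommRingCat.ofHom_comp]) p
  have hz : pt N sL (tc ≫ t₀) ((c : L₀ →* L).comp p₀) = down ≫ zz := by
    refine CartesianMonoidalCategory.hom_ext _ _ ?_ ?_
    · rw [pt, lift_fst, Category.assoc, ← hp, hd]
      rfl
    · rw [pt, lift_snd]
      simp only [t₀, down, Category.assoc]
  rw [hz] at hfin
  rwa [Over.comp_left, Scheme.Hom.comp_apply, show zz.left (down.left xL) = z from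
    Scheme.fromSpecResidueField_apply z _] at hfin

end Groth.Agent.Misc15.StableOpen
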