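import Groth.Agent.Misc15.HeightFilt
import Groth.Agent.Misc15.StableOpen
import Groth.Agent.Misc15.MagnetAffine
import Groth.Agent.KerEval.Ferrand
import Mathlib.RingTheory.FiniteType
import Mathlib.AlgebraicGeometry.Morphisms.UniversallyOpen

/-! Equivariant morphisms out of `A(N) × T` agreeing on all neighbourhoods of a face are equal. -/

set_option autoImplicit false
universe u

noncomputable section

open CategoryTheory CategoryTheory.Limits MonoidalCategory CartesianMonoidalCategory MonObj AlgebraicGeometry Opposite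
open Magnet

namespace Groth.Agent.Misc15.AgreeFace

open Groth.Agent.Misc15.MagnetPointsS Groth.Agent.Misc15.AMonCover
open Groth.Agent.Misc15.HeightFilt (Height J)
open Groth.Agent.KerEval (sp sp_comp jAway range_jAway)

section locus

variable {Z X : Scheme.{u}} (a b : Z ⟶ X)

/-- the largest open on which two morphisms agree -/
def locus : Z.Opens := ⨆ V : {V : Z.Opens // V.ι ≫ a = V.ι ≫ b}, V.1

theorem le_locus {V : Z.Opens} (h : V.ι ≫ a = V.ι ≫ b) : V ≤ locus a b :=
  le_iSup_of_le (⟨V, h⟩ : {V : Z.Opens // V.ι ≫ a = V.ι ≫ b}) le_rfl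

theorem locus_spec : (locus a b).ι ≫ a = (locus a b).ι ≫ b := by
  refine Scheme.hom_ext_of_forall _ _ fun x => ?_
  obtain ⟨⟨V, hV⟩, hx⟩ := TopologicalSpace.Opens.mem_iSup.1 x.2
  refine ⟨(locus a b).ι ⁻¹ᵁ V, hx, ?_⟩
  rw [← morphismRestrict_ι_assoc, ← morphismRestrict_ι_assoc, hV]

theorem eq_of_locus_eq_top (h : locus a b = ⊤) : a = b := by
  refine Scheme.hom_ext_of_forall _ _ fun x => ⟨locus a b, ?_, locus_spec a b⟩
  rw [h]; trivial

end locus

variable {S : Scheme.{u}} {M : Type} [AddCommGroup M] {N Q : AddSubmonoid M} (h : Height N Q)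
  {K : Type u} [CommRing K]

/-- two morphisms out of `Spec K[N]` agreeing on all steps agree near the face -/
theorem exists_nhd {X : Scheme.{u}} (a b : Spec (CommRingCat.of (MA K N)) ⟶ X)
    (hab : ∀ n, sp (Ideal.Quotient.mk (J h K n)) ≫ a = sp (Ideal.Quotient.mk (J h K n)) ≫ b)
    (p : PrimeSpectrum (MA K N)) (hp : J h K 1 ≤ p.asIdeal) :
    ∃ D : (Spec (CommRingCat.of (MA K N))).Opens, p ∈ D ∧ D.ι ≫ a = D.ι ≫ b := by
  classical
  obtain ⟨q, hq⟩ : p ∈ Set.range (PrimeSpectrum.comap (Ideal.Quotient.mk (J h K 1))) := by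
    rw [range_comap_of_surjective _ _ Ideal.Quotient.mk_surjective, Ideal.mk_ker]
    exact hp
  have hpt : a p = b p := by
    rw [← hq]
    exact congrArg (fun m : _ ⟶ X => m.base q) (hab 1)
  obtain ⟨V, hV, hpV, -⟩ := exists_isAffineOpen_mem_and_subset (x := a p) (U := ⊤) trivial
  obtain ⟨_, ⟨f, rfl⟩, hpf, hfV⟩ := (PrimeSpectrum.isTopologicalBasis_basic_opens (R := MA K N)).exists_subset_of_mem_open
    (a := p) (u := (a ⁻¹ᵁ V ⊓ b ⁻¹ᵁ V).carrier) ⟨hpV, show b p ∈ V from hpt ▸ hpV⟩ (a ⁻¹ᵁ V ⊓ b ⁻¹ᵁ V).isOpen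
  let f₀ := FacePushout.inclHom K h.face.le (FacePushout.faceHom K h.face f)
  have hf₀ : f₀ ∉ p.asIdeal := fun h0 => hpf (by
    have := add_mem (hp (HeightFilt.sub_incl_face_mem h K f)) h0
    rwa [sub_add_cancel] at this)
  let d := f * f₀
  have hpd : d ∉ p.asIdeal := fun hd => (p.2.mem_or_mem hd).elim hpf hf₀
  let L := Localization.Away d
  have hr : ∀ c : Spec (CommRingCat.of (MA K N)) ⟶ X, (a ⁻¹ᵁ V ⊓ b ⁻¹ᵁ V) ≤ c ⁻¹ᵁ V →
      Set.range (jAway d ≫ c).base ⊆ (V : Set X) := by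
    rintro c hc _ ⟨z, rfl⟩
    have hz : (jAway d).base z ∈ (PrimeSpectrum.basicOpen d : Set (PrimeSpectrum (MA K N))) := by
      rw [← range_jAway]
      exact ⟨z, rfl⟩
    refine hc (hfV ?_)
    exact fun hzf => hz (Ideal.mul_mem_right _ _ hzf)
  obtain ⟨θ, hθ⟩ := KerEval.Sq.exists_factor hV (jAway d ≫ a) (hr a inf_le_left)
  obtain ⟨θ', hθ'⟩ := KerEval.Sq.exists_factor hV (jAway d ≫ b) (hr b inf_le_right)
  have hθθ : θ = θ' := by
    ext c
    obtain ⟨⟨x, s⟩, hx⟩ := IsLocalization.surj (Submonoid.powers d) (θ c - θ' c)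
    have hn : ∀ n, ∃ l : ℕ, d ^ l * x ∈ J h K n := by
      intro n
      let πn := Ideal.Quotient.mk (J h K n)
      let Ln := Localization.Away (πn d)
      let μn : L →+* Ln := IsLocalization.Away.map L Ln πn d
      have hμ : μn.comp (algebraMap (MA K N) L) = (algebraMap _ Ln).comp πn := IsLocalization.map_comp _
      have e : μn.comp θ = μn.comp θ' := by
        have e' : sp (μn.comp θ) ≫ hV.fromSpec = sp (μn.comp θ') ≫ hV.fromSpec := by
          rw [sp_comp, sp_comp, Category.assoc, Category.assoc, hθ, hθ', ← Category.assoc, ← Category.assoc,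
            ← sp_comp, hμ, sp_comp, Category.assoc, Category.assoc, hab n]
        exact congrArg CommRingCat.Hom.hom (Spec.map_injective ((cancel_mono hV.fromSpec).1 e'))
      have h1 : μn (algebraMap _ L x) = 0 := by
        rw [← hx, map_mul, map_sub, show μn (θ c) = μn (θ' c) from RingHom.congr_fun e c, sub_self, zero_mul]
      rw [← RingHom.comp_apply, hμ, RingHom.comp_apply, IsLocalization.map_eq_zero_iff (Submonoid.powers (πn d))] at h1
      obtain ⟨⟨_, l, rfl⟩, hl⟩ := h1
      refine ⟨l, Ideal.Quotient.eq_zero_iff_mem.1 ?_⟩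
      rw [map_mul, map_pow]
      exact hl
    obtain ⟨k, hk⟩ := HeightFilt.exists_pow_mul_eq_zero h K f x hn
    have hx0 : algebraMap (MA K N) L x = 0 := by
      rw [IsLocalization.map_eq_zero_iff (Submonoid.powers d)]
      refine ⟨⟨_, k, rfl⟩, ?_⟩
      show (f * f₀) ^ k * x = 0
      rw [mul_pow, _root_.mul_assoc, hk, mul_zero]
    rw [hx0] at hx
    exact sub_eq_zero.1 ((IsLocalization.map_units L s).mul_left_eq_zero.1 hx)
  have hj : jAway d ≫ a = jAway d ≫ b := by rw [← hθ, ← hθ', hθθ]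
  refine ⟨(jAway d).opensRange, ?_, ?_⟩
  · show p ∈ Set.range (jAway d).base
    rw [range_jAway]
    exact hpd
  · rw [← Scheme.Hom.isoOpensRange_inv_comp (jAway d), Category.assoc, Category.assoc, hj]

variable (S)

/-- the inverse of `A(M)` -/
abbrev negMap : AMonS S M ⟶ AMonS S M := AMonS.map S (-AddMonoidHom.id M)

variable {S}

theorem mul_negMap {T : Over S} (γ : T ⟶ AMonS S M) : γ * (γ ≫ negMap S) = 1 := by
  refine AMonCover.hom_ext_affine _ _ fun L _ sL r => ?_
  obtain ⟨χ, hχ⟩ := P_surjective sL (r ≫ γ)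
  rw [MonObj.comp_mul, MonObj.comp_one, ← Category.assoc, ← hχ, P_comp_map, P_mul, Hom.one_def, ← P_one]
  congr 1
  refine MonoidHom.ext fun m => ?_
  obtain ⟨m, rfl⟩ : ∃ n, Multiplicative.ofAdd n = m := ⟨m.toAdd, rfl⟩
  show χ (Multiplicative.ofAdd m) * χ (Multiplicative.ofAdd (-m)) = 1
  rw [← map_mul, ← ofAdd_add, add_neg_cancel, ofAdd_zero, map_one]

theorem negMap_mul {T : Over S} (γ : T ⟶ AMonS S M) : (γ ≫ negMap S) * γ = 1 := by
  refine AMonCover.hom_ext_affine _ _ fun L _ sL r => ?_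
  obtain ⟨χ, hχ⟩ := P_surjective sL (r ≫ γ)
  rw [MonObj.comp_mul, MonObj.comp_one, ← Category.assoc, ← hχ, P_comp_map, P_mul, Hom.one_def, ← P_one]
  congr 1
  refine MonoidHom.ext fun m => ?_
  obtain ⟨m, rfl⟩ : ∃ n, Multiplicative.ofAdd n = m := ⟨m.toAdd, rfl⟩
  show χ (Multiplicative.ofAdd (-m)) * χ (Multiplicative.ofAdd m) = 1
  rw [← map_mul, ← ofAdd_add, neg_add_cancel, ofAdd_zero, map_one]

/-- `(g, z) ↦ (g, g z)` -/
def shear {Z : Over S} (c : MonAct (AMonS S M) Z) : AMonS S M ⊗ Z ≅ AMonS S M ⊗ Z where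
  hom := lift (fst _ _) c.act
  inv := lift (fst _ _) (lift (fst _ _ ≫ negMap S) (snd _ _) ≫ c.act)
  hom_inv_id := by
    refine CartesianMonoidalCategory.hom_ext _ _ (by simp) ?_
    rw [Category.assoc, lift_snd, comp_lift_assoc, lift_fst_assoc, lift_snd, Category.id_comp]
    conv_lhs => arg 1; arg 2; rw [← Category.id_comp c.act, ← lift_fst_snd]
    rw [← c.lift_mul_act, negMap_mul]
    exact c.lift_one_act _
  inv_hom_id := by
    refine CartesianMonoidalCategory.hom_ext _ _ (by simp) ?_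
    rw [Category.assoc, lift_snd, Category.id_comp]
    conv_lhs => arg 2; rw [← Category.id_comp c.act, ← lift_fst_snd]
    rw [comp_lift_assoc, lift_fst, lift_snd, ← c.lift_mul_act, mul_negMap]
    exact c.lift_one_act _

variable [AddGroup.FG M]

theorem flat_lfp_hom : Flat (AMonS S M).hom ∧ LocallyOfFinitePresentation (AMonS S M).hom := by
  have : IsNoetherianRing (ULift.{u} ℤ) := isNoetherianRing_of_ringEquiv ℤ ULift.ringEquiv.symm
  have : Monoid.FG (Multiplicative M) := AddMonoid.fg_iff_mul_fg.1 (AddGroup.fg_iff_addMonoid_fg.1 inferInstance)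
  have hff : (algebraMap (ULift.{u} ℤ) (MonoidAlgebra (ULift.{u} ℤ) (Multiplicative M))).Flat :=
    RingHom.flat_algebraMap_iff.2 inferInstance
  have hfp : (algebraMap (ULift.{u} ℤ) (MonoidAlgebra (ULift.{u} ℤ) (Multiplicative M))).FinitePresentation :=
    RingHom.finitePresentation_algebraMap.2 ((Algebra.FinitePresentation.of_finiteType).1 inferInstance)
  constructor
  · refine MorphismProperty.pullback_snd (P := @Flat) _ _ ?_
    exact (HasRingHomProperty.Spec_iff (P := @Flat)).2 hff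
  · refine MorphismProperty.pullback_snd (P := @LocallyOfFinitePresentation) _ _ ?_
    exact (HasRingHomProperty.Spec_iff (P := @LocallyOfFinitePresentation)).2 hfp

theorem act_flat_open {Z : Over S} (c : MonAct (AMonS S M) Z) : Flat c.act.left ∧ IsOpenMap c.act.left := by
  obtain ⟨h1, h2⟩ := flat_lfp_hom (S := S) (M := M)
  have hf : Flat (CartesianMonoidalCategory.snd (AMonS S M) Z).left :=
    MorphismProperty.pullback_snd (P := @Flat) _ _ h1
  have hl : LocallyOfFinitePresentation (CartesianMonoidalCategory.snd (AMonS S M) Z).left :=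
    MorphismProperty.pullback_snd (P := @LocallyOfFinitePresentation) _ _ h2
  have e : c.act.left = (shear c).hom.left ≫ (CartesianMonoidalCategory.snd (AMonS S M) Z).left := by
    rw [← Over.comp_left, shear, lift_snd]
  have : IsIso (shear c).hom.left := inferInstanceAs (IsIso ((Over.forget S).map (shear c).hom))
  have hfa : Flat c.act.left := by rw [e]; infer_instance
  have hla : LocallyOfFinitePresentation c.act.left := by rw [e]; infer_instance
  exact ⟨hfa, isOpenMap_of_generalizingMap _ (Flat.generalizingMap _)⟩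

theorem eq_of_levels (sK : Spec (CommRingCat.of K) ⟶ S) {X : Over S} (aX : MonAct (AMonS S M) X)
    (φ φ' : AMonS S N ⊗ Over.mk sK ⟶ X)
    (hφ : MonAct.IsEquivariant ((subAct S M N).prod (MonAct.trivial (AMonS S M) _)) aX φ)
    (hφ' : MonAct.IsEquivariant ((subAct S M N).prod (MonAct.trivial (AMonS S M) _)) aX φ')
    (hlev : ∀ n, sp (Ideal.Quotient.mk (J h K n)) ≫ (univPoint N K sK (𝟙 _) ≫ φ).left =
      sp (Ideal.Quotient.mk (J h K n)) ≫ (univPoint N K sK (𝟙 _) ≫ φ').left) : φ = φ' := by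
  classical
  have := isIso_univPoint (N := N) K sK
  let e : Over.mk (univBase N K sK) ≅ AMonS S N ⊗ Over.mk sK := asIso (univPoint N K sK (𝟙 _))
  have : IsIso e.inv.left := inferInstanceAs (IsIso ((Over.forget S).map e.inv))
  let W := locus φ.left φ'.left
  have hface : ∀ z, J h K 1 ≤ PrimeSpectrum.asIdeal z → e.hom.left z ∈ W := by
    intro z hz
    obtain ⟨D, hzD, hD⟩ := exists_nhd h _ _ hlev z hz
    have hab : D.ι ≫ e.hom.left ≫ φ.left = D.ι ≫ e.hom.left ≫ φ'.left := hD
    refine le_locus φ.left φ'.left (V := e.inv.left ⁻¹ᵁ D) ?_ (show e.inv.left (e.hom.left z) ∈ D from ?_)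
    · have e2 : (e.inv.left ⁻¹ᵁ D).ι = (e.inv.left ∣_ D) ≫ D.ι ≫ e.hom.left := by
        rw [morphismRestrict_ι_assoc, ← Over.comp_left, Iso.inv_hom_id, Over.id_left, Category.comp_id]
      rw [e2, Category.assoc, Category.assoc, hab]
      simp only [Category.assoc]
    · rw [← Scheme.Hom.comp_apply, ← Over.comp_left, Iso.hom_inv_id]
      exact hzD
  refine Over.OverMorphism.ext (eq_of_locus_eq_top _ _ (StableOpen.eq_top N W ?_ ?_))
  · set c := (subAct S M N).prod (MonAct.trivial (AMonS S M) (Over.mk sK))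
    obtain ⟨hflat, hopen⟩ := act_flat_open c
    let O := (CartesianMonoidalCategory.snd (AMonS S M) (AMonS S N ⊗ Over.mk sK)).left ⁻¹ᵁ W
    let V : (AMonS S N ⊗ Over.mk sK).left.Opens := ⟨c.act.left '' O, hopen _ O.isOpen⟩
    have hOV : O ≤ c.act.left ⁻¹ᵁ V := fun z hz => ⟨z, hz, rfl⟩
    let p := c.act.left.resLE V O hOV
    have hp : p ≫ V.ι = O.ι ≫ c.act.left := Scheme.Hom.resLE_comp_ι _ _
    have : Flat p := by
      show Flat (_ ≫ _)
      infer_instance
    have : Surjective p := ⟨fun v => by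
      obtain ⟨z, hz, hzv⟩ := v.2
      refine ⟨⟨z, hz⟩, Subtype.ext ?_⟩
      have := congrArg (fun m : O.toScheme ⟶ _ => m.base ⟨z, hz⟩) hp
      exact this.trans hzv⟩
    have := Flat.epi_of_flat_of_surjective p
    have hW : W.ι ≫ φ.left = W.ι ≫ φ'.left := locus_spec _ _
    have hsnd : O.ι ≫ (AMonS S M ◁ φ).left = O.ι ≫ (AMonS S M ◁ φ').left := by
      have k : ∀ ψ : AMonS S N ⊗ Over.mk sK ⟶ X, (O.ι ≫ (AMonS S M ◁ ψ).left) ≫ pullback.snd _ _ =
          ((CartesianMonoidalCategory.snd (AMonS S M) (AMonS S N ⊗ Over.mk sK)).left ∣_ W) ≫ W.ι ≫ ψ.left := by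
        intro ψ
        rw [morphismRestrict_ι_assoc, Category.assoc, Over.whiskerLeft_left_snd]
        rfl
      refine pullback.hom_ext ?_ ?_
      · rw [Category.assoc, Category.assoc, Over.whiskerLeft_left_fst, Over.whiskerLeft_left_fst]
      · rw [k, k, hW]
    have hV : V.ι ≫ φ.left = V.ι ≫ φ'.left := by
      unfold MonAct.IsEquivariant at hφ hφ'
      rw [← cancel_epi p, reassoc_of% hp, reassoc_of% hp, ← Over.comp_left, ← Over.comp_left, hφ, hφ',
        Over.comp_left, Over.comp_left, reassoc_of% hsnd]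
    intro z hz
    exact le_locus _ _ hV ⟨z, hz, rfl⟩
  · refine top_le_iff.1 fun t _ => ?_
    let q : Over.mk sK ⟶ AMonS S Q ⊗ Over.mk sK := lift (StableOpen.sec Q) (𝟙 _)
    have hq : lift (StableOpen.sec N) (𝟙 _) = q ≫ (AMonS.faceMap S h.face ▷ Over.mk sK) := by
      rw [lift_whiskerRight, StableOpen.sec_eq_P, StableOpen.sec_eq_P, TPoints.P_comp_faceMap]
      congr 2
      refine MonoidHom.ext fun n => ?_
      obtain ⟨n, rfl⟩ : ∃ m, Multiplicative.ofAdd m = n := ⟨n.toAdd, rfl⟩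
      letI := MagnetPoints.algZ K
      show (if (n : M) ∈ unitFace N then (1 : K) else 0) =
        MagnetPoints.charEquiv K Q (StableOpen.unitInd Q K) (faceAlgHom MagnetPoints.Z.{u} h.face
          (MonoidAlgebra.single (Multiplicative.ofAdd n) 1))
      by_cases hn : (n : M) ∈ Q
      · rw [faceAlgHom_single_of_mem _ _ n hn, MagnetPoints.charEquiv, MonoidAlgebra.lift_single]
        erw [Algebra.smul_def, map_one, _root_.one_mul]
        show _ = if (n : M) ∈ unitFace Q then (1 : K) else 0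
        congr 1
        refine propext ⟨fun ⟨_, y, hy, hxy⟩ => ⟨hn, y, ?_, hxy⟩, fun ⟨hx, y, hy, hxy⟩ => ⟨h.face.le hx, y, h.face.le hy, hxy⟩⟩
        exact (h.face.mem_of_add_mem _ n.2 _ hy (by rw [hxy]; exact Q.zero_mem)).2
      · rw [faceAlgHom_single_of_not_mem _ _ n hn, map_zero, if_neg]
        rintro ⟨_, y, hy, hxy⟩
        exact hn (h.face.mem_of_add_mem _ n.2 _ hy (by rw [hxy]; exact Q.zero_mem)).1
    have := isIso_univPoint (N := Q) K sK
    let eQ : Over.mk (univBase Q K sK) ≅ AMonS S Q ⊗ Over.mk sK := asIso (univPoint Q K sK (𝟙 _))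
    show (lift (StableOpen.sec N) (𝟙 (Over.mk sK))).left t ∈ W
    rw [hq, show q = (q ≫ eQ.inv) ≫ eQ.hom by rw [Category.assoc, Iso.inv_hom_id, Category.comp_id],
      Category.assoc (q ≫ eQ.inv), show eQ.hom ≫ (AMonS.faceMap S h.face ▷ Over.mk sK) =
        FacePushout.specHom sK (FacePushout.faceHom K h.face) (FacePushout.faceHom_algebraMap K h.face) ≫ e.hom
        from (FacePushout.spec_face_univPoint sK h.face (𝟙 _)).symm, Over.comp_left, Over.comp_left,
      Scheme.Hom.comp_apply, Scheme.Hom.comp_apply]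
    refine hface _ ?_
    rw [HeightFilt.J_one]
    intro x hx
    show FacePushout.faceHom K h.face x ∈ ((q ≫ eQ.inv).left t).asIdeal
    rw [RingHom.mem_ker.1 hx]
    exact Ideal.zero_mem _

end Groth.Agent.Misc15.AgreeFace
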