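import Groth.Agent.Misc15.AttrFactor
import Groth.Agent.Misc15.DominantWhisker

/-! Attractors of arbitrary closed subschemes. -/

set_option autoImplicit false
universe u

noncomputable section

open CategoryTheory CategoryTheory.Limits MonoidalCategory CartesianMonoidalCategory MonObj AlgebraicGeometry Opposite
open Magnet
open Groth.Agent.Misc15.MagnetPointsS
open Groth.Agent.Misc15.AttrIdeal (incl incl_injective)

namespace Groth.Agent.Misc15.AttrClosedGen

variable {S : Scheme.{u}}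

/-- every point of `A(N) × T` has a neighbourhood mapping through a universal point -/
theorem exists_univPoint_nhd {N : Type} [AddCommMonoid N] {T : Over S} (z : (AMonS S N ⊗ T).left) :
    ∃ (W : (AMonS S N ⊗ T).left.Opens) (R : Type u) (_ : CommRing R) (s : Spec (CommRingCat.of R) ⟶ S)
      (j : Over.mk s ⟶ T) (t : Over.mk (W.ι ≫ (AMonS S N ⊗ T).hom) ⟶ Over.mk (univBase N R s)),
      z ∈ W ∧ t ≫ univPoint N R s j = Over.homMk W.ι rfl := by
  obtain ⟨U, hU, hyU, -⟩ := exists_isAffineOpen_mem_and_subset (U := ⊤)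
    (show (CartesianMonoidalCategory.snd (AMonS S N) T).left z ∈ (⊤ : T.left.Opens) from trivial)
  obtain ⟨W, hW, hzW, hWs⟩ := exists_isAffineOpen_mem_and_subset
    (show z ∈ ((CartesianMonoidalCategory.snd (AMonS S N) T).left ⁻¹ᵁ U) from hyU)
  let sW := hW.fromSpec ≫ (AMonS S N ⊗ T).hom
  let pW : Over.mk sW ⟶ AMonS S N ⊗ T := Over.homMk hW.fromSpec rfl
  let sR := hU.fromSpec ≫ T.hom
  let j : Over.mk sR ⟶ T := Over.homMk hU.fromSpec rfl
  have hrange : Set.range (pW ≫ CartesianMonoidalCategory.snd _ _).left ⊆ Set.range hU.fromSpec := by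
    rw [hU.range_fromSpec]
    rintro _ ⟨q, rfl⟩
    have : hW.fromSpec q ∈ (W : Set _) := by rw [← hW.range_fromSpec]; exact ⟨q, rfl⟩
    exact hWs this
  let y := IsOpenImmersion.lift hU.fromSpec (pW ≫ CartesianMonoidalCategory.snd _ _).left hrange
  obtain ⟨χ, hχ⟩ := P_surjective sW (pW ≫ CartesianMonoidalCategory.fst _ _)
  let φ : Γ(T.left, U) →+* Γ((AMonS S N ⊗ T).left, W) := (Spec.preimage y).hom
  letI := φ.toAlgebra
  let φhat : MA Γ(T.left, U) N →ₐ[Γ(T.left, U)] Γ((AMonS S N ⊗ T).left, W) :=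
    MonoidAlgebra.lift _ _ _ χ
  have hφ : φhat.toRingHom.comp (algebraMap _ (MA Γ(T.left, U) N)) = φ := φhat.comp_algebraMap
  have hy : Spec.map (CommRingCat.ofHom φ) ≫ hU.fromSpec = (pW ≫ CartesianMonoidalCategory.snd _ _).left := by
    rw [show CommRingCat.ofHom φ = Spec.preimage y from rfl, Spec.map_preimage]
    exact IsOpenImmersion.lift_fac _ _ _
  let t : Over.mk sW ⟶ Over.mk (univBase N _ sR) := Over.homMk (Spec.map (CommRingCat.ofHom φhat.toRingHom)) (by
    show Spec.map (CommRingCat.ofHom φhat.toRingHom) ≫ Spec.map _ ≫ hU.fromSpec ≫ T.hom = sW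
    rw [← Spec.map_comp_assoc, ← CommRingCat.ofHom_comp, hφ, reassoc_of% hy]
    exact Over.w (pW ≫ CartesianMonoidalCategory.snd _ _))
  have key : pW = t ≫ univPoint N _ sR j := by
    rw [univPoint, CartesianMonoidalCategory.comp_lift, comp_P _ _ φhat.toRingHom t rfl]
    have h1 : (↑φhat.toRingHom : _ →* _).comp (MonoidAlgebra.of Γ(T.left, U) (Multiplicative N)) = χ := by
      ext n
      simp [φhat, Algebra.smul_def]
    have h2 : t ≫ univProj N _ sR ≫ j = pW ≫ CartesianMonoidalCategory.snd _ _ := by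
      ext1
      show Spec.map (CommRingCat.ofHom φhat.toRingHom) ≫ Spec.map _ ≫ hU.fromSpec = _
      rw [← Spec.map_comp_assoc, ← CommRingCat.ofHom_comp, hφ, hy]
    rw [h1, h2, hχ, CartesianMonoidalCategory.lift_comp_fst_snd]
  let i : Over.mk (W.ι ≫ (AMonS S N ⊗ T).hom) ⟶ Over.mk sW := Over.homMk hW.isoSpec.hom (by
    show hW.isoSpec.hom ≫ hW.fromSpec ≫ _ = _
    rw [hW.isoSpec_hom, hW.toSpecΓ_fromSpec_assoc]
    rfl)
  refine ⟨W, _, inferInstance, sR, j, i ≫ t, hzW, ?_⟩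
  rw [Category.assoc, ← key]
  apply Over.OverMorphism.ext
  show hW.isoSpec.hom ≫ hW.fromSpec = _
  rw [hW.isoSpec_hom, hW.toSpecΓ_fromSpec]
  rfl

/-- lifting along a monomorphism is local -/
theorem exists_lift_of_local {V X Y : Over S} (f : X ⟶ Y) [Mono f.left] (φ : V ⟶ Y)
    (h : ∀ z : V.left, ∃ (W : V.left.Opens) (g : Over.mk (W.ι ≫ V.hom) ⟶ X),
      z ∈ W ∧ g ≫ f = (Over.homMk W.ι rfl : Over.mk (W.ι ≫ V.hom) ⟶ V) ≫ φ) :
    ∃ ψ : V ⟶ X, ψ ≫ f = φ := by
  classical
  choose W g hzW hg using h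
  let 𝒲 := V.left.openCoverOfIsOpenCover W
    (TopologicalSpace.IsOpenCover.mk (top_le_iff.1 fun z _ => TopologicalSpace.Opens.mem_iSup.2 ⟨z, hzW z⟩))
  have hgl : ∀ i, (g i).left ≫ f.left = 𝒲.f i ≫ φ.left := fun i => congrArg Over.Hom.left (hg i)
  let G := 𝒲.glueMorphisms (fun i => (g i).left) (fun i k => by
    rw [← cancel_mono f.left, Category.assoc, Category.assoc]
    refine (congrArg (_ ≫ ·) (hgl i)).trans (Eq.trans ?_ (congrArg (_ ≫ ·) (hgl k)).symm)
    exact Limits.pullback.condition_assoc (f := 𝒲.f i) (g := 𝒲.f k) φ.left)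
  have hG : G ≫ f.left = φ.left := 𝒲.hom_ext _ _ fun i => by
    rw [← Category.assoc, 𝒲.ι_glueMorphisms]
    exact hgl i
  exact ⟨Over.homMk G (by rw [← Over.w f, reassoc_of% hG, Over.w φ]), Over.OverMorphism.ext hG⟩

variable {M : Type} [AddCommMonoid M] (N : AddSubmonoid M) {X Y : Over S} (aX : MonAct (AMonS S M) X)
  (aY : MonAct (AMonS S M) Y) (f : X ⟶ Y) (hf : MonAct.IsEquivariant aX aY f)

include hf in
/-- `X^N = Y^N ×_Y X` for every closed equivariant immersion -/
theorem exists_lift [IsClosedImmersion f.left] {T : Over S} (φ : (attr aY N).obj (op T)) (x : T ⟶ X)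
    (h : (attrToX aY N).app (op T) φ = x ≫ f) :
    ∃ ψ : (attr aX N).obj (op T), ψ.1 ≫ f = φ.1 := by
  have hm : Mono f := DominantWhisker.mono_of_closedImmersion f
  have hres : (AMonS.map S N.subtype ▷ T) ≫ φ.1 = (AMonS S M ◁ x) ≫ aX.act ≫ f := by
    unfold MonAct.IsEquivariant at hf
    rw [AttrRep.restrict_eq N aY φ, h, hf, ← MonoidalCategory.whiskerLeft_comp_assoc]
  obtain ⟨ψ, hψ⟩ : ∃ ψ : AMonS S N ⊗ T ⟶ X, ψ ≫ f = φ.1 := by
    refine exists_lift_of_local f φ.1 fun z => ?_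
    obtain ⟨W, R, _, s, j, t, hzW, ht⟩ := exists_univPoint_nhd z
    have : IsSchemeTheoreticallyDominant (AttrRep.tIncl N R s).left :=
      AttrRep.dominant_spec _ (incl_injective N R)
    have e : univPoint N R s j = univPoint N R s (𝟙 _) ≫ (AMonS S N ◁ j) := by
      rw [univPoint, univPoint, lift_whiskerLeft, Category.comp_id]
    obtain ⟨g, hg⟩ := DominantWhisker.exists_factor (AttrRep.tIncl N R s) f (univPoint N R s j ≫ φ.1)
      (univPoint M R s (𝟙 _) ≫ (AMonS S M ◁ j) ≫ (AMonS S M ◁ x) ≫ aX.act) (by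
        rw [e, Category.assoc, reassoc_of% (AttrRep.tIncl_univPoint N R s), ← whisker_exchange_assoc, hres]
        simp only [Category.assoc])
    exact ⟨W, t ≫ g, hzW, by rw [Category.assoc, hg, reassoc_of% ht]⟩
  refine ⟨⟨ψ, ?_⟩, hψ⟩
  have h2 := φ.2
  unfold MonAct.IsEquivariant at hf h2 ⊢
  rw [← cancel_mono f, Category.assoc, Category.assoc, hψ, h2, hf, ← MonoidalCategory.whiskerLeft_comp_assoc, hψ]

end Groth.Agent.Misc15.AttrClosedGen
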