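import Groth.Agent.Misc15.AttrFactor
import Groth.Agent.Misc15.DominantWhisker

/-! Attractors of closed subschemes of relatively affine schemes. -/

set_option autoImplicit false
universe u

noncomputable section

open CategoryTheory CategoryTheory.Limits MonoidalCategory CartesianMonoidalCategory MonObj AlgebraicGeometry Opposite
open Magnet
open Groth.Agent.Misc15.MagnetPointsS
open Groth.Agent.Misc15.AttrIdeal (incl incl_injective)

namespace Groth.Agent.Misc15.AttrRep

variable {S : Scheme.{u}} {M : Type} [AddCommMonoid M] (N : AddSubmonoid M) {Y Z : Over S}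
  (aY : MonAct (AMonS S M) Y) (aZ : MonAct (AMonS S M) Z) (f : Z ⟶ Y) (hf : MonAct.IsEquivariant aZ aY f)

include hf in
theorem inImage_closed [IsAffineHom Y.hom] [IsClosedImmersion f.left] {T : Over S} (z : T ⟶ Z)
    (h : InImage N aY T (z ≫ f)) : InImage N aZ T z := by
  have hsY : IsSeparated Y.hom := inferInstance
  have : IsAffineHom Z.hom := by rw [← Over.w f]; infer_instance
  have hsZ : IsSeparated Z.hom := inferInstance
  refine inImage_of_affine N aZ z fun K _ sK t U _ _ => ?_
  have h' := h.comp N aY t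
  rw [← Category.assoc] at h'
  obtain ⟨ψ, hψ⟩ := (inImage_affine_iff N aY K sK ((t ≫ z) ≫ f)).1 h'
  refine (inImage_affine_iff N aZ K sK (t ≫ z)).2 ?_
  have e : orbit aY K sK ((t ≫ z) ≫ f) = orbit aZ K sK (t ≫ z) ≫ f := by
    simp only [orbit, Category.assoc]
    rw [← Category.assoc t z f, ← Category.assoc (univProj M K sK) (t ≫ z) f]
    exact ((MonAct.isEquivariant_iff _ _ f).1 hf _ _ _).symm
  rw [e] at hψ
  have : IsSchemeTheoreticallyDominant (tIncl N K sK).left := dominant_spec _ (incl_injective N K)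
  obtain ⟨s, hs⟩ := DominantWhisker.exists_factor (tIncl N K sK) f ψ (orbit aZ K sK (t ≫ z)) hψ
  have : Mono f := DominantWhisker.mono_of_closedImmersion f
  exact ⟨s, (cancel_mono f).1 (by rw [Category.assoc, hs, hψ])⟩

theorem postcomp_eval {T : Over S} (φ : (attr aZ N).obj (op T)) :
    (attrToX aY N).app (op T) ((MonAct.eqvHom.postcomp (subAct S M N) f hf).app (op T) φ) =
      (attrToX aZ N).app (op T) φ ≫ f := by
  show CartesianMonoidalCategory.lift (toUnit T ≫ η[AMonS S N]) (𝟙 T) ≫ φ.1 ≫ f =
    (CartesianMonoidalCategory.lift (toUnit T ≫ η[AMonS S N]) (𝟙 T) ≫ φ.1) ≫ f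
  rw [Category.assoc]

end Groth.Agent.Misc15.AttrRep
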