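import Groth.Agent.Misc15.AttrFactor

/-! Functoriality of attractors of relatively affine schemes in the monoid. -/

set_option autoImplicit false
universe u

noncomputable section

open CategoryTheory CategoryTheory.Limits MonoidalCategory CartesianMonoidalCategory MonObj AlgebraicGeometry Opposite
open Magnet
open Groth.Agent.Misc15.MagnetPointsS
open Groth.Agent.Misc15.AttrIdeal (incl incl_injective mem_range_incl)

namespace Groth.Agent.Misc15.AttrRep

variable {S : Scheme.{u}} {M Z : Type} [AddCommMonoid M] [AddCommMonoid Z] (f : M →+ Z) {X : Over S}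
  (a : MonAct (AMonS S M) X) (Y : AddSubmonoid Z) (K : Type u) [CommRing K]

/-- `m ↦ [f m] ⊗ [m]` -/
def twistHom : Multiplicative M →* MA (MA K M) Z :=
  ((MonoidAlgebra.of (MA K M) (Multiplicative Z)).comp (AddMonoidHom.toMultiplicative f)) *
    (((algebraMap (MA K M) (MA (MA K M) Z)) : _ →* _).comp (MonoidAlgebra.of K (Multiplicative M)))

/-- `K[M] → K[M][Z]` -/
def twist : MA K M →+* MA (MA K M) Z :=
  MonoidAlgebra.liftNCRingHom ((algebraMap (MA K M) (MA (MA K M) Z)).comp (algebraMap K (MA K M))) (twistHom f K)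
    (fun _ _ => Commute.all _ _)

theorem twist_single (m : Multiplicative M) (r : K) :
    twist f K (MonoidAlgebra.single m r) =
      MonoidAlgebra.single (Multiplicative.ofAdd (f m.toAdd)) (MonoidAlgebra.single m r) := by
  simp [twist, twistHom, MonoidAlgebra.liftNCRingHom_single, MonoidAlgebra.coe_algebraMap,
    MonoidAlgebra.single_mul_single]

theorem twist_algebraMap :
    (twist f K).comp (algebraMap K (MA K M)) = (algebraMap (MA K M) (MA (MA K M) Z)).comp (algebraMap K (MA K M)) := by
  ext r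
  simp [twist_single, MonoidAlgebra.coe_algebraMap]

theorem mem_range_of_twist (w : MA K M) (hw : twist f K w ∈ (incl Y (MA K M)).range) :
    w ∈ (incl (Y.comap f) K).range := by
  classical
  rw [mem_range_incl] at hw ⊢
  intro m hm
  have key : ∀ v : MA K M,
      ((twist f K v).coeff (Multiplicative.ofAdd (f m.toAdd))).coeff m = v.coeff m := by
    intro v
    induction v using MonoidAlgebra.induction_linear with
    | zero => simp
    | add p q hp hq => simp [map_add, hp, hq]
    | single n r =>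
      rw [twist_single]
      by_cases hn : n = m
      · subst hn; simp
      · by_cases hfn : f n.toAdd = f m.toAdd
        · simp [hfn, hn]
        · simp [hn, hfn]
  have h0 := hw (Multiplicative.ofAdd (f m.toAdd)) hm
  rw [← key w, h0]
  simp

theorem attrComap_eval {T : Over S} (φ : (attr a (Y.comap f)).obj (op T)) :
    (attrToX (a.restrict (AMonS.map S f)) Y).app (op T) ((attrComap a f Y).app (op T) φ) =
      (attrToX a (Y.comap f)).app (op T) φ := by
  show CartesianMonoidalCategory.lift (toUnit T ≫ η[AMonS S Y]) (𝟙 T) ≫ (AMonS.map S _ ▷ T) ≫ φ.1 =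
    CartesianMonoidalCategory.lift (toUnit T ≫ η[AMonS S (Y.comap f)]) (𝟙 T) ≫ φ.1
  rw [lift_whiskerRight_assoc, Category.assoc, IsMonHom.one_hom]

variable (sK : Spec (CommRingCat.of K) ⟶ S)

theorem comp_orbit {L : Type u} [CommRing L] {W : Type} [AddCommMonoid W] (b : MonAct (AMonS S W) X)
    (sL : Spec (CommRingCat.of L) ⟶ S) (φ : MA K W →+* L) (t : Over.mk sL ⟶ Over.mk (univBase W K sK))
    (ht : t.left = Spec.map (CommRingCat.ofHom φ)) (x : Over.mk sK ⟶ X) :
    t ≫ orbit b K sK x = CartesianMonoidalCategory.lift (P sL ((φ : MA K W →* L).comp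
      (MonoidAlgebra.of K (Multiplicative W)))) ((t ≫ univProj W K sK) ≫ x) ≫ b.act := by
  rw [orbit, comp_lift_assoc, comp_P _ _ φ t ht, Category.assoc]

theorem inImage_comap_affine [IsAffineHom X.hom] {U : S.Opens} (hU : IsAffineOpen U)
    (hs : Set.range sK ⊆ (U : Set S)) (x : Over.mk sK ⟶ X)
    (h : InImage Y (a.restrict (AMonS.map S f)) (Over.mk sK) x) : InImage (Y.comap f) a (Over.mk sK) x := by
  classical
  have hsep : IsSeparated X.hom := inferInstance
  obtain ⟨ψ, hψ⟩ := (inImage_affine_iff Y (a.restrict (AMonS.map S f)) K sK x).1 h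
  have hV := hU.preimage X.hom
  have hsub : ∀ {B : Type u} [CommRing B] (sB : Spec (CommRingCat.of B) ⟶ S) (g : Over.mk sB ⟶ X),
      Set.range sB ⊆ (U : Set S) → Set.range g.left ⊆ ((X.hom ⁻¹ᵁ U : X.left.Opens) : Set X.left) := by
    intro B _ sB g hB
    rintro _ ⟨w, rfl⟩
    show X.hom (g.left w) ∈ U
    rw [← Scheme.Hom.comp_apply, show g.left ≫ X.hom = sB from Over.w g]
    exact hB ⟨w, rfl⟩
  have hub : ∀ (P : Type) [AddCommMonoid P], Set.range (univBase P K sK) ⊆ (U : Set S) := by
    intro P _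
    rintro _ ⟨w, rfl⟩
    exact hs ⟨_, rfl⟩
  obtain ⟨θ, hθ⟩ := lift_affine hV (orbit a K sK x).left (hsub _ _ (hub M))
  -- the orbit map of the universal translate of `x`
  let K' := MA K M
  let sK' := univBase M K sK
  let tZ : Over.mk (univBase Z K' sK') ⟶ Over.mk (univBase Z K sK) :=
    Over.homMk (Spec.map (CommRingCat.ofHom (MonoidAlgebra.mapRingHom (Multiplicative Z) (algebraMap K K')))) (by
      show Spec.map _ ≫ Spec.map _ ≫ sK = Spec.map _ ≫ Spec.map _ ≫ sK
      rw [← Spec.map_comp_assoc, ← Spec.map_comp_assoc, ← CommRingCat.ofHom_comp, ← CommRingCat.ofHom_comp,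
        comap_algebraMap])
  let tY : Over.mk (univBase Y K' sK') ⟶ Over.mk (univBase Y K sK) :=
    Over.homMk (Spec.map (CommRingCat.ofHom (MonoidAlgebra.mapRingHom (Multiplicative Y) (algebraMap K K')))) (by
      show Spec.map _ ≫ Spec.map _ ≫ sK = Spec.map _ ≫ Spec.map _ ≫ sK
      rw [← Spec.map_comp_assoc, ← Spec.map_comp_assoc, ← CommRingCat.ofHom_comp, ← CommRingCat.ofHom_comp,
        comap_algebraMap])
  have hsq : tIncl Y K' sK' ≫ tY = tZ ≫ tIncl Y K sK := by
    ext1
    show Spec.map (CommRingCat.ofHom (incl Y K')) ≫ Spec.map _ = Spec.map _ ≫ Spec.map (CommRingCat.ofHom (incl Y K))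
    rw [← Spec.map_comp, ← Spec.map_comp, ← CommRingCat.ofHom_comp, ← CommRingCat.ofHom_comp]
    congr 2
    apply MonoidAlgebra.ringHom_ext <;> intros <;> simp [incl]
  let tt : Over.mk (univBase Z K' sK') ⟶ Over.mk (univBase M K sK) :=
    Over.homMk (Spec.map (CommRingCat.ofHom (twist f K))) (by
      show Spec.map _ ≫ Spec.map _ ≫ sK = Spec.map _ ≫ Spec.map _ ≫ sK
      rw [← Spec.map_comp_assoc, ← Spec.map_comp_assoc, ← CommRingCat.ofHom_comp, ← CommRingCat.ofHom_comp,
        twist_algebraMap])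
  let χM : Multiplicative M →* MA K' Z :=
    ((algebraMap K' (MA K' Z)) : _ →* _).comp (MonoidAlgebra.of K (Multiplicative M))
  let χZ : Multiplicative M →* MA K' Z :=
    (MonoidAlgebra.of K' (Multiplicative Z)).comp (AddMonoidHom.toMultiplicative f)
  let p : Over.mk (univBase Z K' sK') ⟶ Over.mk sK := tZ ≫ univProj Z K sK
  have hAlg : ∀ (W : Type) [AddCommMonoid W] (r : K'), algebraMap K' (MA K' W) r = MonoidAlgebra.single 1 r := by
    intro W _ r
    exact congrFun (MonoidAlgebra.coe_algebraMap (R := K') (A := K') (M := Multiplicative W)) r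
  have hχ1 : (↑(twist f K) : _ →* _).comp (MonoidAlgebra.of K (Multiplicative M)) = χM * χZ := by
    refine MonoidHom.ext fun m => ?_
    show twist f K (MonoidAlgebra.single m 1) = algebraMap K' (MA K' Z) (MonoidAlgebra.single m 1) *
      MonoidAlgebra.single (Multiplicative.ofAdd (f m.toAdd)) 1
    rw [twist_single, hAlg Z, MonoidAlgebra.single_mul_single, _root_.one_mul, _root_.mul_one]
  have hχ2 : ((↑(MonoidAlgebra.mapRingHom (Multiplicative Z) (algebraMap K K')) : _ →* _).comp
      (MonoidAlgebra.of K (Multiplicative Z))).comp (AddMonoidHom.toMultiplicative f) = χZ := by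
    ext m
    simp [χZ]
  have hp : tt ≫ univProj M K sK = p := by
    ext1
    show Spec.map _ ≫ Spec.map _ = Spec.map _ ≫ Spec.map _
    rw [← Spec.map_comp, ← Spec.map_comp, ← CommRingCat.ofHom_comp, ← CommRingCat.ofHom_comp, twist_algebraMap,
      comap_algebraMap]
  have e1 : tt ≫ orbit a K sK x =
      CartesianMonoidalCategory.lift (P (univBase Z K' sK') (χM * χZ)) (p ≫ x) ≫ a.act := by
    rw [comp_orbit K sK a _ (twist f K) tt rfl x, hχ1, hp]
  have e2 : tZ ≫ orbit (a.restrict (AMonS.map S f)) K sK x =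
      CartesianMonoidalCategory.lift (P (univBase Z K' sK') χZ) (p ≫ x) ≫ a.act := by
    rw [comp_orbit K sK _ _ (MonoidAlgebra.mapRingHom (Multiplicative Z) (algebraMap K K')) tZ rfl x,
      MonAct.lift_restrict_act, P_comp_map, hχ2]
  let gM' := P (univBase Y K' sK') (((algebraMap K' (MA K' Y)) : _ →* _).comp (MonoidAlgebra.of K (Multiplicative M)))
  let g := CartesianMonoidalCategory.lift gM' (tY ≫ ψ) ≫ a.act
  have e3 : tIncl Y K' sK' ≫ g = tt ≫ orbit a K sK x := by
    rw [e1, ← P_mul, a.lift_mul_act, ← e2, ← hψ, ← Category.assoc tZ, ← hsq, Category.assoc, comp_lift_assoc,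
      comp_P _ _ (incl Y K') (tIncl Y K' sK') rfl]
    congr 3
    refine MonoidHom.ext fun m => ?_
    show incl Y K' (algebraMap K' (MA K' Y) (MonoidAlgebra.single m 1)) = algebraMap K' (MA K' Z) (MonoidAlgebra.single m 1)
    exact RingHom.congr_fun (incl_comp_algebraMap Y K') _
  obtain ⟨θg, hθg⟩ := lift_affine hV g.left (hsub _ _ (by
    rintro _ ⟨w, rfl⟩
    exact hub M ⟨_, rfl⟩))
  have hr : ∀ b, θ b ∈ (incl (Y.comap f) K).range := by
    intro b
    refine mem_range_of_twist f Y K _ ⟨θg b, ?_⟩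
    have e := congrArg Over.Hom.left e3
    change (tIncl Y K' sK').left ≫ g.left = tt.left ≫ (orbit a K sK x).left at e
    rw [← hθ, ← hθg] at e
    have e' : Spec.map (CommRingCat.ofHom ((incl Y K').comp θg)) ≫ hV.fromSpec =
        Spec.map (CommRingCat.ofHom ((twist f K).comp θ)) ≫ hV.fromSpec := by
      rw [CommRingCat.ofHom_comp, CommRingCat.ofHom_comp, Spec.map_comp, Spec.map_comp, Category.assoc, Category.assoc]
      exact e
    exact RingHom.congr_fun (congrArg CommRingCat.Hom.hom (Spec.map_injective ((cancel_mono hV.fromSpec).1 e'))) b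
  obtain ⟨ψ', hψ'⟩ := exists_factor_ring hU (incl (Y.comap f) K) (incl_injective _ K)
    (univBase (Y.comap f) K sK) (hub _) θ (by
      rw [hθ, show (orbit a K sK x).left ≫ X.hom = univBase M K sK from Over.w _]
      exact (Over.w (tIncl (Y.comap f) K sK)).symm) hr
  refine (inImage_affine_iff _ a K sK x).2 ⟨ψ', ?_⟩
  ext1
  exact hψ'.trans hθ

end Groth.Agent.Misc15.AttrRep
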