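import Groth.Agent.Misc15.AMonProd
import Groth.Agent.Misc15.AttrComapAffine

/-! Change of group of an attractor whose magnet lies in the image. -/

set_option autoImplicit false
universe u

noncomputable section

open CategoryTheory CategoryTheory.Limits MonoidalCategory CartesianMonoidalCategory MonObj AlgebraicGeometry Opposite
open Magnet

namespace Groth.Agent.Misc15.AttrComapGroup

open Groth.Agent.Misc15.MagnetPoints (Z)
open Groth.Agent.Misc15.MagnetPointsS Groth.Agent.Misc15.AMonCover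
open scoped TensorProduct

variable {S : Scheme.{u}} {M Z' : Type} [AddCommGroup M] [AddCommGroup Z'] (f : M →+ Z') (Y : AddSubmonoid Z')
  {X : Over S} (a : MonAct (AMonS S M) X)

/-- restriction of `f` to the magnets -/
abbrev c : (Y.comap f) →+ Y := (f.comp (Y.comap f).subtype).codRestrict Y fun x => x.2

/-- `n ↦ (n, f n)` -/
abbrev graphHom : (Y.comap f) →+ M × Y := (Y.comap f).subtype.prod (c f Y)

variable (hY : Y ≤ AddMonoidHom.mrange f)

include hY in
theorem faithfullyFlat_graph :
    (MonoidAlgebra.mapDomainRingHom Z.{u} (AddMonoidHom.toMultiplicative (graphHom f Y))).FaithfullyFlat := by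
  classical
  have hs : ∀ d : f.range, ∃ m : M, f m = (d : Z') := fun d => d.2
  choose σ hσ using hs
  refine FreeMonoidAlgebra.faithfullyFlat _
    (fun d : f.range => Multiplicative.ofAdd (σ d, (0 : Y))) ⟨?_, ?_⟩
  · rintro ⟨d, n⟩ ⟨d', n'⟩ h
    have h' : (σ d + (n.toAdd : M), (0 : Y) + c f Y n.toAdd) = (σ d' + (n'.toAdd : M), (0 : Y) + c f Y n'.toAdd) :=
      congrArg Multiplicative.toAdd h
    rw [Prod.mk.injEq, _root_.zero_add, _root_.zero_add] at h'
    have hc : f (n.toAdd : M) = f (n'.toAdd : M) := congrArg Subtype.val h'.2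
    have hd : d = d' := by
      have h1 := congrArg f h'.1
      rw [map_add, map_add, hσ, hσ, hc] at h1
      exact Subtype.ext (add_right_cancel h1)
    subst hd
    have : n = n' := Multiplicative.toAdd.injective (Subtype.ext (add_left_cancel h'.1))
    rw [this]
  · intro p
    obtain ⟨m, y, rfl⟩ : ∃ (m : M) (y : Y), Multiplicative.ofAdd (m, y) = p := ⟨p.toAdd.1, p.toAdd.2, rfl⟩
    obtain ⟨m', hm'⟩ := hY y.2
    let d : f.range := ⟨f m - y, m - m', by rw [map_sub, hm']⟩
    have hn : f (m - σ d) = (y : Z') := by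
      rw [map_sub, hσ]
      exact sub_sub_cancel _ _
    refine ⟨(d, Multiplicative.ofAdd ⟨m - σ d, by show f (m - σ d) ∈ Y; rw [hn]; exact y.2⟩), ?_⟩
    apply Multiplicative.toAdd.injective
    refine Prod.ext (add_sub_cancel _ _) (Subtype.ext ?_)
    show (0 : Z') + f (m - σ d) = y
    rw [_root_.zero_add, hn]

/-- `(g, b) ↦ g · b` -/
def mulMap : AMonS S M ⊗ AMonS S Y ⟶ AMonS S (Y.comap f) :=
  (fst _ _ ≫ AMonS.map S (Y.comap f).subtype) * (snd _ _ ≫ AMonS.map S (c f Y))

theorem lift_mulMap {T : Over S} (g : T ⟶ AMonS S M) (b : T ⟶ AMonS S Y) :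
    lift g b ≫ mulMap f Y = (g ≫ AMonS.map S (Y.comap f).subtype) * (b ≫ AMonS.map S (c f Y)) := by
  rw [mulMap, MonObj.comp_mul, lift_fst_assoc, lift_snd_assoc]

include hY in
theorem isCov_mulMap : IsCov (mulMap (S := S) f Y).left := by
  have h := isCov_map (S := S) _ (faithfullyFlat_graph f Y hY)
  have := AMonProd.isIso_toProd (S := S) M Y
  have e : AMonS.map S (graphHom f Y) = AMonProd.toProd M Y ≫ mulMap f Y := by
    refine hom_ext_affine _ _ fun K _ sK r => ?_
    obtain ⟨χ, rfl⟩ := P_surjective sK r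
    rw [← Category.assoc, AMonProd.toProd, comp_lift, P_comp_map, P_comp_map, P_comp_map, lift_mulMap, P_comp_map,
      P_comp_map, P_mul]
    congr 1
    refine MonoidHom.ext fun n => ?_
    show χ (Multiplicative.ofAdd ((n.toAdd : M), c f Y n.toAdd)) =
      χ (Multiplicative.ofAdd ((n.toAdd : M), (0 : Y))) * χ (Multiplicative.ofAdd ((0 : M), c f Y n.toAdd))
    rw [← map_mul, ← ofAdd_add, Prod.mk_add_mk, _root_.add_zero, _root_.zero_add]
  have e2 : (mulMap f Y).left = (inv (AMonProd.toProd (S := S) M Y)).left ≫ (AMonS.map S (graphHom f Y)).left := by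
    rw [← Over.comp_left, e, IsIso.inv_hom_id_assoc]
  have hi : IsIso (inv (AMonProd.toProd (S := S) M Y)).left :=
    inferInstanceAs (IsIso ((Over.forget S).map (inv (AMonProd.toProd (S := S) M Y))))
  rw [e2]
  exact ⟨(MorphismProperty.cancel_left_of_respectsIso (P := @Flat) _ _).2 h.flat,
    (MorphismProperty.cancel_left_of_respectsIso (P := @Surjective) _ _).2 h.surj,
    (MorphismProperty.cancel_left_of_respectsIso (P := @IsAffineHom) _ _).2 h.affine⟩

include hY in
theorem orbit_injective {T : Over S} (φ φ' : (attr a (Y.comap f)).obj (op T))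
    (h : (AMonS.map S (c f Y) ▷ T) ≫ φ.1 = (AMonS.map S (c f Y) ▷ T) ≫ φ'.1) : φ = φ' := by
  refine Subtype.ext (cancel_cov _ (isCov_whiskerRight _ (isCov_mulMap f Y hY) T) _ _ ?_)
  apply hom_ext_lift₃
  intro T' g b t
  have key : ∀ ψ : (attr a (Y.comap f)).obj (op T),
      lift (lift g b) t ≫ (mulMap f Y ▷ T) ≫ ψ.1 =
        lift g (lift b t ≫ (AMonS.map S (c f Y) ▷ T) ≫ ψ.1) ≫ a.act := by
    intro ψ
    have h1 := (MonAct.mem_eqvHom_iff ψ.1).1 ψ.2 T' g (b ≫ AMonS.map S (c f Y)) t
    have h2 : lift g (b ≫ AMonS.map S (c f Y)) ≫ (subAct S M (Y.comap f)).act = lift g b ≫ mulMap f Y := by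
      unfold subAct
      rw [MonAct.lift_restrict_act, MonAct.lift_regular_act, lift_mulMap]
    rw [h2] at h1
    rw [← lift_whiskerRight_assoc b t (AMonS.map S (c f Y)), ← lift_whiskerRight_assoc (lift g b) t (mulMap f Y)] at h1
    exact h1
  rw [key, key, h]

variable {T : Over S}

include hY in
theorem exists_extend (ψ : (attr (a.restrict (AMonS.map S f)) Y).obj (op T)) :
    ∃ φ : (attr a (Y.comap f)).obj (op T), (AMonS.map S (c f Y) ▷ T) ≫ φ.1 = ψ.1 := by
  classical
  have hcov := isCov_whiskerRight _ (isCov_mulMap (S := S) f Y hY) T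
  let ψ' : (AMonS S M ⊗ AMonS S Y) ⊗ T ⟶ X :=
    lift (fst _ _ ≫ fst _ _) (lift (fst _ _ ≫ snd _ _) (snd _ _) ≫ ψ.1) ≫ a.act
  have hψ' : ∀ {T' : Over S} (g : T' ⟶ AMonS S M) (b : T' ⟶ AMonS S Y) (t : T' ⟶ T),
      lift (lift g b) t ≫ ψ' = lift g (lift b t ≫ ψ.1) ≫ a.act := by
    intro T' g b t
    simp [ψ', comp_lift_assoc]
  obtain ⟨φ, hφ⟩ := exists_desc (mulMap f Y ▷ T) hcov ψ' (by
    intro K _ sK r₁ r₂ e
    obtain ⟨χ, hχ⟩ := P_surjective sK ((r₁ ≫ fst _ _) ≫ fst _ _)
    obtain ⟨η₁, hη₁⟩ := P_surjective sK ((r₁ ≫ fst _ _) ≫ snd _ _)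
    obtain ⟨χ', hχ'⟩ := P_surjective sK ((r₂ ≫ fst _ _) ≫ fst _ _)
    obtain ⟨η₂, hη₂⟩ := P_surjective sK ((r₂ ≫ fst _ _) ≫ snd _ _)
    obtain ⟨t, ht⟩ : ∃ t, t = r₁ ≫ snd _ _ := ⟨_, rfl⟩
    have et : r₂ ≫ snd _ _ = t := by
      rw [ht]
      simpa using (congrArg (· ≫ snd _ _) e).symm
    have hr₁ : r₁ = lift (lift (P sK χ) (P sK η₁)) t := by
      rw [hχ, hη₁, ht, lift_comp_fst_snd, lift_comp_fst_snd]
    have hr₂ : r₂ = lift (lift (P sK χ') (P sK η₂)) t := by
      rw [hχ', hη₂, ← et, lift_comp_fst_snd, lift_comp_fst_snd]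
    have ef : P sK ((χ.comp (AddMonoidHom.toMultiplicative (Y.comap f).subtype)) *
        (η₁.comp (AddMonoidHom.toMultiplicative (c f Y)))) =
      P sK ((χ'.comp (AddMonoidHom.toMultiplicative (Y.comap f).subtype)) *
        (η₂.comp (AddMonoidHom.toMultiplicative (c f Y)))) := by
      have := congrArg (· ≫ fst _ _) e
      rw [hr₁, hr₂, lift_whiskerRight, lift_whiskerRight, lift_fst, lift_fst, lift_mulMap, lift_mulMap] at this
      rwa [P_comp_map, P_comp_map, P_comp_map, P_comp_map, P_mul, P_mul] at this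
    have ec := P_injective sK ef
    let ρ : Multiplicative M →* K :=
      { toFun := fun m => χ m * χ' m⁻¹
        map_one' := by simp
        map_mul' := fun m m' => by
          rw [mul_inv, map_mul, map_mul]
          exact _root_.mul_mul_mul_comm _ _ _ _ }
    have hχρ : χ = χ' * ρ := by
      refine MonoidHom.ext fun m => ?_
      show χ m = χ' m * (χ m * χ' m⁻¹)
      rw [_root_.mul_left_comm, ← map_mul, mul_inv_cancel, map_one, _root_.mul_one]
    have hn : ∀ n : Y.comap f, ρ (Multiplicative.ofAdd (n : M)) * η₁ (Multiplicative.ofAdd (c f Y n)) =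
        η₂ (Multiplicative.ofAdd (c f Y n)) := by
      intro n
      have h1 : χ (Multiplicative.ofAdd (n : M)) * η₁ (Multiplicative.ofAdd (c f Y n)) =
          χ' (Multiplicative.ofAdd (n : M)) * η₂ (Multiplicative.ofAdd (c f Y n)) :=
        DFunLike.congr_fun ec (Multiplicative.ofAdd n)
      show χ _ * χ' _ * _ = _
      rw [_root_.mul_comm (χ _), _root_.mul_assoc, h1, ← _root_.mul_assoc, ← map_mul, inv_mul_cancel, map_one,
        _root_.one_mul]
    have hker : ∀ k, f k = 0 → ρ (Multiplicative.ofAdd k) = 1 := by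
      intro k hk
      have h0 := hn ⟨k, by show f k ∈ Y; rw [hk]; exact Y.zero_mem⟩
      have h0' := hn ⟨0, (Y.comap f).zero_mem⟩
      rw [show c f Y ⟨k, _⟩ = 0 from Subtype.ext hk] at h0
      rw [show c f Y ⟨0, _⟩ = 0 from Subtype.ext (map_zero f)] at h0'
      rw [ofAdd_zero, map_one, _root_.mul_one, map_one] at h0
      exact h0
    -- `ρ` comes from a character of the range of `f`
    let φ₀ : Multiplicative M →* Multiplicative f.range := AddMonoidHom.toMultiplicative f.rangeRestrict
    have hφ₀ : Function.Surjective φ₀ := f.rangeRestrict_surjective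
    have hfac : ∀ m m', φ₀ m = φ₀ m' → ρ m = ρ m' := by
      intro m m' h
      have h' : f (m.toAdd - m'.toAdd) = 0 := by
        rw [map_sub, sub_eq_zero]
        exact congrArg (fun d : Multiplicative f.range => (d.toAdd : Z')) h
      have h1 := hker _ h'
      rw [show m = Multiplicative.ofAdd (m.toAdd - m'.toAdd) * m' from
        Multiplicative.toAdd.injective (sub_add_cancel _ _).symm, map_mul, h1, _root_.one_mul]
    choose sec hsec using hφ₀
    let ζ₀ : Multiplicative f.range →* K :=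
      { toFun := fun d => ρ (sec d)
        map_one' := (hfac (sec 1) 1 (by rw [hsec, map_one])).trans (map_one ρ)
        map_mul' := fun d d' => by
          rw [← map_mul]
          exact hfac _ _ (by rw [map_mul, hsec, hsec, hsec]) }
    -- make it extend to `Z'` after a faithfully flat extension
    let j₀ : Multiplicative f.range →* Multiplicative Z' := AddMonoidHom.toMultiplicative f.range.subtype
    let ω : MonoidAlgebra ℤ (Multiplicative f.range) →+* MonoidAlgebra ℤ (Multiplicative Z') :=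
      MonoidAlgebra.mapDomainRingHom ℤ j₀
    have hω : ω.FaithfullyFlat := by
      refine FreeMonoidAlgebra.faithfullyFlat j₀ (fun d : Z' ⧸ f.range => Multiplicative.ofAdd d.out) ⟨?_, ?_⟩
      · rintro ⟨d, p⟩ ⟨d', p'⟩ h
        have h' : d.out + (p.toAdd : Z') = d'.out + (p'.toAdd : Z') := congrArg Multiplicative.toAdd h
        have hd : d = d' := by
          have h1 := congrArg (QuotientAddGroup.mk' f.range) h'
          rw [map_add, map_add, show QuotientAddGroup.mk' f.range (p.toAdd : Z') = 0 from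
            (QuotientAddGroup.eq_zero_iff _).2 p.toAdd.2, show QuotientAddGroup.mk' f.range (p'.toAdd : Z') = 0 from
            (QuotientAddGroup.eq_zero_iff _).2 p'.toAdd.2, _root_.add_zero, _root_.add_zero] at h1
          simpa using h1
        subst hd
        have : p = p' := Multiplicative.toAdd.injective (Subtype.ext (add_left_cancel h'))
        rw [this]
      · intro m
        refine ⟨(QuotientAddGroup.mk' f.range m.toAdd,
          Multiplicative.ofAdd ⟨-(QuotientAddGroup.mk' f.range m.toAdd).out + m.toAdd, ?_⟩), ?_⟩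
        · rw [← QuotientAddGroup.eq]
          exact QuotientAddGroup.out_eq' _
        · apply Multiplicative.toAdd.injective
          exact add_neg_cancel_left _ _
    let θ : MonoidAlgebra ℤ (Multiplicative f.range) →+* K :=
      MonoidAlgebra.liftNCRingHom (algebraMap ℤ K) ζ₀ fun _ _ => Commute.all _ _
    algebraize [ω, θ]
    let K' := K ⊗[MonoidAlgebra ℤ (Multiplicative f.range)] MonoidAlgebra ℤ (Multiplicative Z')
    let e₁ : K →+* K' := Algebra.TensorProduct.includeLeftRingHom
    let ζ : Multiplicative Z' →* K' :=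
      ((Algebra.TensorProduct.includeRight (R := MonoidAlgebra ℤ (Multiplicative f.range)) (A := K)
        (B := MonoidAlgebra ℤ (Multiplicative Z'))).toRingHom : MonoidAlgebra ℤ (Multiplicative Z') →* K').comp
        (MonoidAlgebra.of ℤ (Multiplicative Z'))
    have : Module.FaithfullyFlat (MonoidAlgebra ℤ (Multiplicative f.range)) (MonoidAlgebra ℤ (Multiplicative Z')) := hω
    have he₁ : (algebraMap K K').FaithfullyFlat := RingHom.faithfullyFlat_algebraMap_iff.2 inferInstance
    have hζ : ∀ m : Multiplicative M, e₁ (ρ m) = ζ (AddMonoidHom.toMultiplicative f m) := by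
      intro m
      have h1 : ρ m = θ (MonoidAlgebra.of ℤ _ (φ₀ m)) := by
        simp only [θ, MonoidAlgebra.of_apply, MonoidAlgebra.liftNCRingHom_single, map_one, _root_.one_mul]
        exact hfac _ _ (hsec (φ₀ m)).symm
      have h2 : MonoidAlgebra.of ℤ (Multiplicative Z') (AddMonoidHom.toMultiplicative f m) =
          ω (MonoidAlgebra.of ℤ _ (φ₀ m)) := by
        simp only [ω, MonoidAlgebra.of_apply, MonoidAlgebra.mapDomainRingHom_apply, MonoidAlgebra.mapDomain_single]
        rfl
      show (ρ m) ⊗ₜ (1 : MonoidAlgebra ℤ (Multiplicative Z')) = (1 : K) ⊗ₜ MonoidAlgebra.of ℤ _ _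
      rw [h1, h2]
      show algebraMap _ K _ ⊗ₜ[_] _ = _ ⊗ₜ[_] algebraMap _ (MonoidAlgebra ℤ (Multiplicative Z')) _
      rw [Algebra.algebraMap_eq_smul_one, Algebra.algebraMap_eq_smul_one, TensorProduct.smul_tmul]
    let sK' := Spec.map (CommRingCat.ofHom e₁) ≫ sK
    let p : Over.mk sK' ⟶ Over.mk sK := Over.homMk (Spec.map (CommRingCat.ofHom e₁)) rfl
    have hp : IsCov p.left := by
      have h := (flat_and_surjective_SpecMap_iff (CommRingCat.ofHom e₁)).2 he₁
      exact ⟨h.1, h.2, inferInstanceAs (IsAffineHom (Spec.map _))⟩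
    refine cancel_cov p hp _ _ ?_
    let pe : (Multiplicative M →* K) → (Multiplicative M →* K') := fun χ₁ => (e₁ : K →* K').comp χ₁
    have hg : pe χ = pe χ' * ζ.comp (AddMonoidHom.toMultiplicative f) := by
      refine MonoidHom.ext fun m => ?_
      show e₁ (χ m) = e₁ (χ' m) * _
      rw [hχρ]
      show e₁ (χ' m * ρ m) = _
      rw [map_mul, hζ]
      rfl
    have hb : (e₁ : K →* K').comp η₂ =
        ζ.comp (AddMonoidHom.toMultiplicative Y.subtype) * (e₁ : K →* K').comp η₁ := by
      refine MonoidHom.ext fun y => ?_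
      obtain ⟨m, hm⟩ := hY y.toAdd.2
      have hy : y = Multiplicative.ofAdd (c f Y ⟨m, by show f m ∈ Y; rw [hm]; exact y.toAdd.2⟩) :=
        Multiplicative.toAdd.injective (Subtype.ext hm.symm)
      rw [hy]
      show e₁ (η₂ _) = ζ _ * e₁ (η₁ _)
      rw [← hn, map_mul, hζ]
      rfl
    rw [hr₁, hr₂, hψ', hψ', comp_lift_assoc, comp_lift_assoc, comp_lift_assoc, comp_lift_assoc, comp_P _ _ e₁ p rfl, comp_P _ _ e₁ p rfl, comp_P _ _ e₁ p rfl, comp_P _ _ e₁ p rfl]
    rw [show (e₁ : K →* K').comp χ = _ from hg, hb, ← P_mul, ← P_mul, ← P_comp_map, ← P_comp_map, a.lift_mul_act]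
    congr 2
    have h3 := (MonAct.mem_eqvHom_iff ψ.1).1 ψ.2 _ (P sK' ζ) (P sK' ((e₁ : K →* K').comp η₁)) (p ≫ t)
    unfold subAct at h3
    rw [MonAct.lift_restrict_act, MonAct.lift_regular_act, MonAct.lift_restrict_act] at h3
    exact h3.symm)
  have heq : MonAct.IsEquivariant ((subAct S M (Y.comap f)).prod (MonAct.trivial (AMonS S M) T)) a φ := by
    unfold MonAct.IsEquivariant
    apply cancel_cov _ (isCov_whiskerLeft _ hcov (AMonS S M))
    apply hom_ext_lift₂
    intro T' g p
    obtain ⟨g', b, t, rfl⟩ : ∃ g' b t, lift (lift g' b) t = p :=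
      ⟨(p ≫ fst _ _) ≫ fst _ _, (p ≫ fst _ _) ≫ snd _ _, p ≫ snd _ _, by rw [lift_comp_fst_snd, lift_comp_fst_snd]⟩
    rw [lift_whiskerLeft_assoc, lift_whiskerLeft_assoc, lift_whiskerLeft_assoc, lift_whiskerRight,
      MonAct.lift_prod_act_assoc]
    simp only [lift_fst, lift_snd, MonAct.lift_trivial_act]
    have h1 : lift g (lift g' b ≫ mulMap f Y) ≫ (subAct S M (Y.comap f)).act = lift (g * g') b ≫ mulMap f Y := by
      unfold subAct
      rw [MonAct.lift_restrict_act, MonAct.lift_regular_act, lift_mulMap, lift_mulMap, MonObj.mul_comp,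
        _root_.mul_assoc]
    have h2 : lift (lift g' b ≫ mulMap f Y) t ≫ φ = lift g' (lift b t ≫ ψ.1) ≫ a.act := by
      rw [← lift_whiskerRight_assoc, hφ, hψ']
    rw [h1, ← lift_whiskerRight_assoc, hφ, hψ', h2, a.lift_mul_act]
  refine ⟨⟨φ, heq⟩, ?_⟩
  apply hom_ext_lift₂
  intro T' b t
  have h1 := congrArg (lift (lift (1 : T' ⟶ AMonS S M) b) t ≫ ·) hφ
  simp only [lift_whiskerRight_assoc, hψ', lift_mulMap, MonObj.one_comp, _root_.one_mul, a.lift_one_act] at h1
  rw [lift_whiskerRight_assoc]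
  exact h1

end Groth.Agent.Misc15.AttrComapGroup
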