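import Mathlib.Algebra.MonoidAlgebra.MapDomain
import Mathlib.RingTheory.Ideal.Span
import Mathlib.RingTheory.Ideal.Maps

/-! The ideal of homogeneous components outside a submonoid. -/

set_option autoImplicit false
universe u

noncomputable section

namespace Groth.Agent.Misc15.AttrIdeal

variable {M : Type} [AddCommMonoid M] (N : AddSubmonoid M)

/-- `K[N] → K[M]` -/
abbrev incl (K : Type u) [CommRing K] :
    MonoidAlgebra K (Multiplicative N) →+* MonoidAlgebra K (Multiplicative M) :=
  MonoidAlgebra.mapDomainRingHom K (AddMonoidHom.toMultiplicative N.subtype)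

theorem incl_injective (K : Type u) [CommRing K] : Function.Injective (incl N K) :=
  MonoidAlgebra.mapDomain_injective Subtype.val_injective

theorem mem_range_incl (K : Type u) [CommRing K] (w : MonoidAlgebra K (Multiplicative M)) :
    w ∈ (incl N K).range ↔ ∀ m : Multiplicative M, m.toAdd ∉ N → w.coeff m = 0 := by
  classical
  constructor
  · rintro ⟨v, rfl⟩ m hm
    rw [incl, MonoidAlgebra.mapDomainRingHom_apply, MonoidAlgebra.coeff_mapDomain]
    refine Finsupp.mapDomain_notin_range _ _ ?_
    rintro ⟨n, rfl⟩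
    exact hm n.toAdd.2
  · intro h
    rw [← MonoidAlgebra.sum_coeff_single w]
    refine Subring.sum_mem _ fun m hm => ?_
    by_cases hN : m.toAdd ∈ N
    · exact ⟨MonoidAlgebra.single (Multiplicative.ofAdd ⟨m.toAdd, hN⟩) (w.coeff m), MonoidAlgebra.mapDomain_single⟩
    · rw [h m hN]
      simp

theorem exists_ideal {A : Type u} [CommRing A] (θ : A →+* MonoidAlgebra A (Multiplicative M)) :
    ∃ I : Ideal A, ∀ (K : Type u) [CommRing K] (χ : A →+* K),
      I ≤ RingHom.ker χ ↔ ∀ a, MonoidAlgebra.mapRingHom (Multiplicative M) χ (θ a) ∈ (incl N K).range := by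
  refine ⟨Ideal.span {b | ∃ (a : A) (m : Multiplicative M), m.toAdd ∉ N ∧ b = (θ a).coeff m}, fun K _ χ => ?_⟩
  rw [Ideal.span_le]
  constructor
  · intro h a
    rw [mem_range_incl]
    intro m hm
    have := h ⟨a, m, hm, rfl⟩
    simpa using this
  · rintro h _ ⟨a, m, hm, rfl⟩
    have := (mem_range_incl N K _).1 (h a) m hm
    simpa using this

end Groth.Agent.Misc15.AttrIdeal
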