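import Groth.Prelude.Def_Magnet4
import Groth.Agent.Misc15.MagnetAffine
import Groth.Agent.Misc15.AttrIdeal
import Groth.Agent.Misc15.ClosedLocal
import Groth.Agent.S18285
import Groth.Agent.S18294
import Mathlib.AlgebraicGeometry.Sites.Fpqc

/-! Attractors of relatively affine schemes. -/

set_option autoImplicit false
universe u

noncomputable section

open CategoryTheory CategoryTheory.Limits MonoidalCategory CartesianMonoidalCategory MonObj AlgebraicGeometry Opposite
open Magnet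
open Groth.Agent.Misc15.MagnetPointsS

namespace Groth.Agent.Misc15.AttrRep

variable {S : Scheme.{u}} {M : Type} [AddCommMonoid M] (N : AddSubmonoid M) {X : Over S}
  (a : MonAct (AMonS S M) X)

theorem evalAt_map {T T' : Over S} (t : T' ⟶ T) (φ : (attr a N).obj (op T)) :
    (attrToX a N).app (op T') ((attr a N).map t.op φ) = t ≫ (attrToX a N).app (op T) φ :=
  ConcreteCategory.congr_hom ((attrToX a N).naturality t.op) φ

/-- `x` is in the image of the attractor -/
def InImage (T : Over S) (x : T ⟶ X) : Prop :=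
  ∃ φ : (attr a N).obj (op T), (attrToX a N).app (op T) φ = x

theorem InImage.comp {T T' : Over S} (t : T' ⟶ T) {x : T ⟶ X} (h : InImage N a T x) : InImage N a T' (t ≫ x) := by
  obtain ⟨φ, rfl⟩ := h
  exact ⟨(attr a N).map t.op φ, evalAt_map N a t φ⟩

theorem restrict_eq {T : Over S} (φ : (attr a N).obj (op T)) :
    (AMonS.map S N.subtype ▷ T) ≫ φ.1 = (AMonS S M ◁ (attrToX a N).app (op T) φ) ≫ a.act := by
  apply hom_ext_lift₂
  intro T' g t
  have h1 := (MonAct.mem_eqvHom_iff φ.1).1 φ.2 T' g 1 t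
  unfold subAct at h1
  rw [MonAct.lift_restrict_act, MonAct.lift_regular_act, _root_.mul_one] at h1
  rw [lift_whiskerRight_assoc, h1, lift_whiskerLeft_assoc, MonAct.eqvHom.evalAt_app, comp_lift_assoc,
    Category.comp_id, ← Category.assoc t (toUnit _), toUnit_unique (t ≫ toUnit _) (toUnit T'), ← Hom.one_def]

/-- `x` extends iff its orbit map does -/
theorem inImage_iff [IsSeparated X.hom] {T : Over S} (x : T ⟶ X) :
    InImage N a T x ↔ ∃ φ : AMonS S N ⊗ T ⟶ X, (AMonS.map S N.subtype ▷ T) ≫ φ = (AMonS S M ◁ x) ≫ a.act := by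
  constructor
  · rintro ⟨φ, rfl⟩
    exact ⟨φ.1, restrict_eq N a φ⟩
  · rintro ⟨φ, h⟩
    refine ⟨⟨φ, isEquivariant_of_restrict N a φ x h⟩, ?_⟩
    rw [MonAct.eqvHom.evalAt_app]
    have h1 := congrArg (CartesianMonoidalCategory.lift (toUnit T ≫ η[AMonS S M]) (𝟙 T) ≫ ·) h
    simp only [lift_whiskerRight_assoc, lift_whiskerLeft_assoc, Category.assoc, IsMonHom.one_hom,
      Category.id_comp] at h1
    refine h1.trans ?_
    rw [← Hom.one_def]
    exact a.lift_one_act x

theorem inImage_of_cover [IsSeparated X.hom] {T : Over S} (x : T ⟶ X) (𝒱 : Scheme.OpenCover.{u} T.left)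
    (h : ∀ i, InImage N a (Over.mk (𝒱.f i ≫ T.hom)) (Over.homMk (𝒱.f i) rfl ≫ x)) : InImage N a T x := by
  classical
  let R : Sieve T := (Sieve.overEquiv T).symm (Sieve.ofArrows 𝒱.X 𝒱.f)
  have hR : R ∈ (QuotSh.J Scheme.fppfPrecoverage S) T := by
    refine GrothendieckTopology.overEquiv_symm_mem_over _ T _ ?_
    exact Precoverage.toGrothendieck_mono Scheme.zariskiPrecoverage_le_fppfPrecoverage _ 𝒱.mem_grothendieckTopology
  have hmem : ∀ (W : Over S) (b : W ⟶ T), R b → InImage N a W (b ≫ x) := by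
    intro W b hb
    rw [Sieve.overEquiv_symm_iff] at hb
    obtain ⟨_, c, _, ⟨i⟩, hc⟩ := hb
    let c' : W ⟶ Over.mk (𝒱.f i ≫ T.hom) := Over.homMk c (by
      show c ≫ 𝒱.f i ≫ T.hom = W.hom
      rw [← Category.assoc, hc, Over.w b])
    have : b = c' ≫ (Over.homMk (𝒱.f i) rfl : Over.mk (𝒱.f i ≫ T.hom) ⟶ T) := by
      ext1; exact hc.symm
    rw [this, Category.assoc]
    exact (h i).comp N a c'
  choose φ hφ using hmem
  have hinj := fun W => Groth.Agent.S18285.result S M X a N W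
  let fam : Presieve.FamilyOfElements (attr a N) R.arrows := fun W b hb => φ W b hb
  have hfam : fam.Compatible := by
    intro W₁ W₂ W g₁ g₂ f₁ f₂ h₁ h₂ hc
    apply hinj W
    show (attrToX a N).app (op W) _ = (attrToX a N).app (op W) _
    rw [evalAt_map, evalAt_map]
    show g₁ ≫ (attrToX a N).app (op W₁) (φ W₁ f₁ h₁) = g₂ ≫ (attrToX a N).app (op W₂) (φ W₂ f₂ h₂)
    rw [hφ, hφ, ← Category.assoc, hc, Category.assoc]
  obtain ⟨Φ, hΦ, -⟩ := ((isSheaf_iff_isSheaf_of_type _ _).1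
    (Groth.Agent.S18294.result S (AMonS S M) (AMonS S N) X (subAct S M N) a)) R hR fam hfam
  refine ⟨Φ, ?_⟩
  let y : T ⟶ X := (attrToX a N).app (op T) Φ
  suffices y = x from this
  ext1
  refine 𝒱.hom_ext _ _ fun i => ?_
  let b : Over.mk (𝒱.f i ≫ T.hom) ⟶ T := Over.homMk (𝒱.f i) rfl
  have hb : R b := by
    rw [Sieve.overEquiv_symm_iff]
    exact Sieve.ofArrows_mk _ _ i
  have h1 : b ≫ (attrToX a N).app (op T) Φ = b ≫ x := by
    rw [← evalAt_map, hΦ b hb]
    exact hφ _ b hb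
  exact congrArg Over.Hom.left h1

section Affine

variable (K : Type u) [CommRing K] (sK : Spec (CommRingCat.of K) ⟶ S)

theorem incl_comp_algebraMap :
    (Groth.Agent.Misc15.AttrIdeal.incl N K).comp (algebraMap K (MA K N)) = algebraMap K (MA K M) :=
  (MonoidAlgebra.mapDomainAlgHom K K (AddMonoidHom.toMultiplicative N.subtype)).comp_algebraMap

/-- `Spec K[M] ⟶ Spec K[N]` over `S` -/
def tIncl : Over.mk (univBase M K sK) ⟶ Over.mk (univBase N K sK) :=
  Over.homMk (Spec.map (CommRingCat.ofHom (Groth.Agent.Misc15.AttrIdeal.incl N K))) (by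
    show _ ≫ Spec.map _ ≫ sK = Spec.map _ ≫ sK
    rw [← Spec.map_comp_assoc, ← CommRingCat.ofHom_comp, incl_comp_algebraMap])

theorem tIncl_left : (tIncl N K sK).left = Spec.map (CommRingCat.ofHom (Groth.Agent.Misc15.AttrIdeal.incl N K)) := rfl

theorem tIncl_univPoint :
    tIncl N K sK ≫ univPoint N K sK (𝟙 _) = univPoint M K sK (𝟙 _) ≫ (AMonS.map S N.subtype ▷ _) := by
  rw [univPoint, univPoint, comp_lift, comp_P _ _ (Groth.Agent.Misc15.AttrIdeal.incl N K) (tIncl N K sK) rfl,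
    lift_whiskerRight, P_comp_map]
  congr 1
  · congr 1
    apply MonoidHom.ext
    intro n
    exact MonoidAlgebra.mapDomain_single
  · ext1
    show Spec.map (CommRingCat.ofHom (Groth.Agent.Misc15.AttrIdeal.incl N K)) ≫ Spec.map _ ≫ 𝟙 _ = Spec.map _ ≫ 𝟙 _
    rw [← Spec.map_comp_assoc, ← CommRingCat.ofHom_comp, incl_comp_algebraMap]

/-- the orbit map of a `K`-point on `Spec K[M]` -/
def orbit (x : Over.mk sK ⟶ X) : Over.mk (univBase M K sK) ⟶ X :=
  CartesianMonoidalCategory.lift (P (univBase M K sK) (MonoidAlgebra.of K (Multiplicative M)))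
    (univProj M K sK ≫ x) ≫ a.act

/-- the criterion on an affine test scheme -/
theorem inImage_affine_iff [IsSeparated X.hom] (x : Over.mk sK ⟶ X) :
    InImage N a (Over.mk sK) x ↔ ∃ ψ, tIncl N K sK ≫ ψ = orbit a K sK x := by
  have := isIso_univPoint (N := N) K sK
  have := isIso_univPoint (N := M) K sK
  have e : univPoint M K sK (𝟙 _) ≫ (AMonS S M ◁ x) ≫ a.act = orbit a K sK x := by
    rw [univPoint, lift_whiskerLeft_assoc, Category.comp_id]
    rfl
  rw [inImage_iff]
  constructor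
  · rintro ⟨φ, hφ⟩
    exact ⟨univPoint N K sK (𝟙 _) ≫ φ, by rw [reassoc_of% (tIncl_univPoint N K sK), hφ, e]⟩
  · rintro ⟨ψ, hψ⟩
    refine ⟨inv (univPoint N K sK (𝟙 _)) ≫ ψ, ?_⟩
    rw [← cancel_epi (univPoint M K sK (𝟙 _)), ← reassoc_of% (tIncl_univPoint N K sK), IsIso.hom_inv_id_assoc,
      hψ, e]

theorem comap_algebraMap {A : Type u} [CommRing A] (χ : A →+* K) :
    (MonoidAlgebra.mapRingHom (Multiplicative M) χ).comp (algebraMap A (MA A M)) =
      (algebraMap K (MA K M)).comp χ := by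
  ext r
  simp [MonoidAlgebra.coe_algebraMap]

variable {A : Type u} [CommRing A] (sA : Spec (CommRingCat.of A) ⟶ S) (χ : A →+* K)

theorem orbit_comp (xA : Over.mk sA ⟶ X) (t : Over.mk sK ⟶ Over.mk sA) (ht : t.left = Spec.map (CommRingCat.ofHom χ)) :
    (orbit a K sK (t ≫ xA)).left =
      Spec.map (CommRingCat.ofHom (MonoidAlgebra.mapRingHom (Multiplicative M) χ)) ≫ (orbit a A sA xA).left := by
  let tc : Over.mk (univBase M K sK) ⟶ Over.mk (univBase M A sA) :=
    Over.homMk (Spec.map (CommRingCat.ofHom (MonoidAlgebra.mapRingHom (Multiplicative M) χ))) (by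
      show Spec.map _ ≫ Spec.map _ ≫ sA = Spec.map _ ≫ sK
      rw [← Spec.map_comp_assoc, ← CommRingCat.ofHom_comp, comap_algebraMap, CommRingCat.ofHom_comp,
        Spec.map_comp_assoc, show sK = t.left ≫ sA from (Over.w t).symm, ht])
  have : orbit a K sK (t ≫ xA) = tc ≫ orbit a A sA xA := by
    rw [orbit, orbit, comp_lift_assoc, comp_P _ _ (MonoidAlgebra.mapRingHom (Multiplicative M) χ) tc rfl]
    congr 2
    · congr 1
      ext n
      simp
    · ext1
      show Spec.map _ ≫ t.left ≫ xA.left = Spec.map _ ≫ Spec.map _ ≫ xA.left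
      rw [ht, ← Spec.map_comp_assoc, ← Spec.map_comp_assoc, ← CommRingCat.ofHom_comp, ← CommRingCat.ofHom_comp,
        comap_algebraMap]
  rw [this]
  rfl

end Affine

/-- maps from affine schemes into an affine open -/
theorem lift_affine {V : X.left.Opens} (hV : IsAffineOpen V) {B : Type u} [CommRing B]
    (f : Spec (CommRingCat.of B) ⟶ X.left) (hf : Set.range f ⊆ (V : Set X.left)) :
    ∃ θ : Γ(X.left, V) →+* B, Spec.map (CommRingCat.ofHom θ) ≫ hV.fromSpec = f := by
  refine ⟨(Spec.preimage (IsOpenImmersion.lift hV.fromSpec f (hV.range_fromSpec.symm ▸ hf))).hom, ?_⟩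
  simp only [CommRingCat.ofHom_hom, Spec.map_preimage]
  exact IsOpenImmersion.lift_fac _ _ _

/-- over an affine open of the base, extension is a condition on rings -/
theorem key_affine [IsAffineHom X.hom] {U : S.Opens} (hU : IsAffineOpen U) :
    ∃ I : Ideal Γ(X.left, X.hom ⁻¹ᵁ U), ∀ (K : Type u) [CommRing K] (χ : Γ(X.left, X.hom ⁻¹ᵁ U) →+* K)
      (sK : Spec (CommRingCat.of K) ⟶ S) (x : Over.mk sK ⟶ X)
      (_ : x.left = Spec.map (CommRingCat.ofHom χ) ≫ (hU.preimage X.hom).fromSpec),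
      InImage N a (Over.mk sK) x ↔ I ≤ RingHom.ker χ := by
  classical
  have hV := hU.preimage X.hom
  have hsep : IsSeparated X.hom := inferInstance
  let sA := hV.fromSpec ≫ X.hom
  let xA : Over.mk sA ⟶ X := Over.homMk hV.fromSpec rfl
  have hmem : ∀ {B : Type u} [CommRing B] (f : Spec (CommRingCat.of B) ⟶ X.left)
      (q : Spec (CommRingCat.of B) ⟶ Spec Γ(X.left, X.hom ⁻¹ᵁ U)),
      f ≫ X.hom = q ≫ sA → Set.range f ⊆ ((X.hom ⁻¹ᵁ U : X.left.Opens) : Set X.left) := by
    intro B _ f q hfq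
    rintro _ ⟨w, rfl⟩
    show X.hom (f w) ∈ U
    rw [← Scheme.Hom.comp_apply, hfq]
    have : hV.fromSpec (q w) ∈ ((X.hom ⁻¹ᵁ U : X.left.Opens) : Set X.left) := by
      rw [← hV.range_fromSpec]; exact ⟨_, rfl⟩
    exact this
  obtain ⟨θ, hθ⟩ := lift_affine hV (orbit a _ sA xA).left
    (hmem _ (Spec.map (CommRingCat.ofHom (algebraMap _ (MA Γ(X.left, X.hom ⁻¹ᵁ U) M)))) (Over.w (orbit a _ sA xA)))
  obtain ⟨I, hI⟩ := Groth.Agent.Misc15.AttrIdeal.exists_ideal N θ
  refine ⟨I, fun K _ χ sK x hx => ?_⟩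
  have hsK : sK = Spec.map (CommRingCat.ofHom χ) ≫ sA := by
    rw [← Category.assoc, ← hx]
    exact (Over.w x).symm
  let t : Over.mk sK ⟶ Over.mk sA := Over.homMk (Spec.map (CommRingCat.ofHom χ)) hsK.symm
  have hxt : x = t ≫ xA := by ext1; exact hx
  have ho : (orbit a K sK x).left =
      Spec.map (CommRingCat.ofHom ((MonoidAlgebra.mapRingHom (Multiplicative M) χ).comp θ)) ≫ hV.fromSpec := by
    rw [hxt, orbit_comp a K sK sA χ xA t rfl, ← hθ, ← Spec.map_comp_assoc, ← CommRingCat.ofHom_comp]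
  rw [inImage_affine_iff, hI K χ]
  constructor
  · rintro ⟨ψ, hψ⟩ b
    obtain ⟨ψr, hψr⟩ := lift_affine hV ψ.left (hmem _
      (Spec.map (CommRingCat.ofHom (algebraMap K (MA K N))) ≫ Spec.map (CommRingCat.ofHom χ))
      (by rw [Over.w ψ]; show Spec.map _ ≫ sK = _; rw [hsK, Category.assoc]))
    refine ⟨ψr b, ?_⟩
    have e := congrArg Over.Hom.left hψ
    rw [Over.comp_left, ho, tIncl_left, ← hψr, ← Spec.map_comp_assoc, cancel_mono, ← CommRingCat.ofHom_comp] at e
    exact congr($(Spec.map_injective e) b)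
  · intro h
    let θK := (MonoidAlgebra.mapRingHom (Multiplicative M) χ).comp θ
    let eR := RingEquiv.ofBijective (Groth.Agent.Misc15.AttrIdeal.incl N K).rangeRestrict
      ⟨fun p q hpq => Groth.Agent.Misc15.AttrIdeal.incl_injective N K (congrArg Subtype.val hpq),
        (Groth.Agent.Misc15.AttrIdeal.incl N K).rangeRestrict_surjective⟩
    obtain ⟨ψr, hψr⟩ : ∃ ψr : Γ(X.left, X.hom ⁻¹ᵁ U) →+* MA K N,
        (Groth.Agent.Misc15.AttrIdeal.incl N K).comp ψr = θK :=
      ⟨eR.symm.toRingHom.comp (θK.codRestrict (Groth.Agent.Misc15.AttrIdeal.incl N K).range h),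
        RingHom.ext fun b => congrArg Subtype.val (eR.apply_symm_apply (θK.codRestrict _ h b))⟩
    -- the base of `ψr` is `K ⟶ K[N]`
    have hU' : IsAffine (U : Scheme.{u}) := hU
    have hr : ∀ {B : Type u} [CommRing B] (q : Spec (CommRingCat.of B) ⟶ Spec Γ(X.left, X.hom ⁻¹ᵁ U)),
        Set.range (q ≫ sA) ⊆ Set.range U.ι := by
      intro B _ q
      rw [Scheme.Opens.range_ι]
      rintro _ ⟨w, rfl⟩
      show X.hom ((q ≫ hV.fromSpec) w) ∈ U
      exact hmem (q ≫ hV.fromSpec) q (Category.assoc _ _ _) ⟨w, rfl⟩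
    let w0 := (Spec.preimage (IsOpenImmersion.lift U.ι sA
      (by simpa using hr (𝟙 (Spec Γ(X.left, X.hom ⁻¹ᵁ U)))) ≫ (U : Scheme.{u}).isoSpec.hom)).hom
    have hw0 : Spec.map (CommRingCat.ofHom w0) ≫ (U : Scheme.{u}).isoSpec.inv ≫ U.ι = sA := by
      simp only [w0, CommRingCat.ofHom_hom, Spec.map_preimage, Category.assoc, Iso.hom_inv_id_assoc]
      exact IsOpenImmersion.lift_fac _ _ _
    have hbase : Spec.map (CommRingCat.ofHom ψr) ≫ sA = univBase N K sK := by
      have e1 : (Groth.Agent.Misc15.AttrIdeal.incl N K).comp (ψr.comp w0) =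
          (Groth.Agent.Misc15.AttrIdeal.incl N K).comp ((algebraMap K (MA K N)).comp (χ.comp w0)) := by
        rw [← RingHom.comp_assoc, hψr, ← RingHom.comp_assoc, incl_comp_algebraMap]
        have e2 : Spec.map (CommRingCat.ofHom θK) ≫ sA = univBase M K sK := by
          rw [← Category.assoc, ← ho]
          exact Over.w _
        rw [univBase, hsK, ← hw0, ← Spec.map_comp_assoc, ← Spec.map_comp_assoc, ← Spec.map_comp_assoc, cancel_mono,
          ← CommRingCat.ofHom_comp, ← CommRingCat.ofHom_comp, ← CommRingCat.ofHom_comp] at e2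
        exact congrArg CommRingCat.Hom.hom (Spec.map_injective e2)
      have e3 : ψr.comp w0 = (algebraMap K (MA K N)).comp (χ.comp w0) :=
        RingHom.ext fun b => Groth.Agent.Misc15.AttrIdeal.incl_injective N K (RingHom.congr_fun e1 b)
      rw [univBase, hsK, ← hw0, ← Spec.map_comp_assoc, ← Spec.map_comp_assoc, ← Spec.map_comp_assoc,
        ← CommRingCat.ofHom_comp, ← CommRingCat.ofHom_comp, ← CommRingCat.ofHom_comp, e3,
        RingHom.comp_assoc]
    refine ⟨Over.homMk (Spec.map (CommRingCat.ofHom ψr) ≫ hV.fromSpec) ((Category.assoc _ _ _).trans hbase), ?_⟩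
    ext1
    rw [Over.comp_left, ho, tIncl_left]
    show Spec.map _ ≫ Spec.map _ ≫ hV.fromSpec = _
    rw [← Spec.map_comp_assoc, ← CommRingCat.ofHom_comp, hψr]

end Groth.Agent.Misc15.AttrRep
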