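import Groth.Agent.Misc15.AMonCover
import Groth.Agent.Misc15.AttrRep

/-! Attractors for magnets over which the monoid scheme is an fpqc cover: descent of orbit maps. -/

set_option autoImplicit false
universe u

noncomputable section

open CategoryTheory CategoryTheory.Limits MonoidalCategory CartesianMonoidalCategory MonObj AlgebraicGeometry Opposite
open Magnet

namespace Groth.Agent.Misc15.AttrDescent

open Groth.Agent.Misc15.MagnetPoints (Z)
open Groth.Agent.Misc15.MagnetPointsS Groth.Agent.Misc15.AMonCover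

variable {S : Scheme.{u}} {M : Type} [AddCommMonoid M] (N : AddSubmonoid M) {X : Over S}
  (a : MonAct (AMonS S M) X)
  (hc : (MonoidAlgebra.mapDomainRingHom Z.{u} (AddMonoidHom.toMultiplicative N.subtype)).FaithfullyFlat)

include hc

theorem eval_injective {T : Over S} (φ φ' : (attr a N).obj (op T))
    (h : (attrToX a N).app (op T) φ = (attrToX a N).app (op T) φ') : φ = φ' :=
  Subtype.ext (cancel_cov _ (isCov_whiskerRight _ (isCov_map (S := S) _ hc) T) _ _
    ((AttrRep.restrict_eq N a φ).trans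
      ((congrArg (fun x => (AMonS S M ◁ x) ≫ a.act) h).trans (AttrRep.restrict_eq N a φ').symm)))

theorem exists_of_orbit {T : Over S} (x : T ⟶ X)
    (h : ∀ (K : Type u) [CommRing K] (sK : Spec (CommRingCat.of K) ⟶ S) (χ χ' : Multiplicative M →* K)
      (t : Over.mk sK ⟶ T), χ.comp (AddMonoidHom.toMultiplicative N.subtype) =
        χ'.comp (AddMonoidHom.toMultiplicative N.subtype) →
      lift (P sK χ) (t ≫ x) ≫ a.act = lift (P sK χ') (t ≫ x) ≫ a.act) :
    ∃ φ : (attr a N).obj (op T), (attrToX a N).app (op T) φ = x := by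
  have hcov := isCov_whiskerRight _ (isCov_map (S := S) _ hc) T
  obtain ⟨φ, hφ⟩ := exists_desc (AMonS.map S N.subtype ▷ T) hcov ((AMonS S M ◁ x) ≫ a.act) (by
    intro K _ sK r₁ r₂ e
    obtain ⟨χ, hχ⟩ := P_surjective sK (r₁ ≫ fst _ _)
    obtain ⟨χ', hχ'⟩ := P_surjective sK (r₂ ≫ fst _ _)
    have hr₁ : r₁ = lift (P sK χ) (r₁ ≫ snd _ _) := by rw [hχ, lift_comp_fst_snd]
    have hr₂ : r₂ = lift (P sK χ') (r₂ ≫ snd _ _) := by rw [hχ', lift_comp_fst_snd]
    have ef : P sK χ ≫ AMonS.map S N.subtype = P sK χ' ≫ AMonS.map S N.subtype := by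
      have := congrArg (· ≫ fst _ _) e
      rwa [hr₁, hr₂, lift_whiskerRight, lift_whiskerRight, lift_fst, lift_fst] at this
    have es : r₁ ≫ snd _ _ = r₂ ≫ snd _ _ := by
      have := congrArg (· ≫ snd _ _) e
      simpa using this
    rw [hr₁, hr₂, lift_whiskerLeft_assoc, lift_whiskerLeft_assoc, es]
    exact h K sK χ χ' _ ((map_comp_eq_iff _ _ _ _).1 ef))
  have heq : MonAct.IsEquivariant ((subAct S M N).prod (MonAct.trivial (AMonS S M) T)) a φ := by
    unfold MonAct.IsEquivariant
    apply cancel_cov _ (isCov_whiskerLeft _ hcov (AMonS S M))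
    apply hom_ext_lift₂
    intro T' g p
    obtain ⟨g', t, rfl⟩ : ∃ g' t, lift g' t = p := ⟨p ≫ fst _ _, p ≫ snd _ _, lift_comp_fst_snd p⟩
    rw [lift_whiskerLeft_assoc, lift_whiskerLeft_assoc, lift_whiskerLeft_assoc, lift_whiskerRight,
      MonAct.lift_prod_act_assoc]
    simp only [lift_fst, lift_snd, MonAct.lift_trivial_act]
    have h1 : lift g (g' ≫ AMonS.map S N.subtype) ≫ (subAct S M N).act = (g * g') ≫ AMonS.map S N.subtype := by
      unfold subAct
      rw [MonAct.lift_restrict_act, MonAct.lift_regular_act, MonObj.mul_comp]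
    have h2 : lift (g' ≫ AMonS.map S N.subtype) t ≫ φ = lift g' (t ≫ x) ≫ a.act := by
      rw [← lift_whiskerRight_assoc, hφ, lift_whiskerLeft_assoc]
    rw [h1, ← lift_whiskerRight_assoc, hφ, lift_whiskerLeft_assoc, h2, a.lift_mul_act]
  refine ⟨⟨φ, heq⟩, ?_⟩
  rw [MonAct.eqvHom.evalAt_app]
  have h1 := congrArg (lift (toUnit T ≫ η[AMonS S M]) (𝟙 T) ≫ ·) hφ
  simp only [lift_whiskerRight_assoc, lift_whiskerLeft_assoc, Category.assoc, IsMonHom.one_hom,
    Category.id_comp] at h1
  refine h1.trans ?_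
  rw [← Hom.one_def]
  exact a.lift_one_act x

end Groth.Agent.Misc15.AttrDescent
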