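import Groth.Agent.Misc15.AttrRep

/-! Criteria for the image of the attractor of a relatively affine scheme: factor through a subring; dominance. -/

set_option autoImplicit false
universe u

noncomputable section

open CategoryTheory CategoryTheory.Limits MonoidalCategory CartesianMonoidalCategory MonObj AlgebraicGeometry Opposite
open Magnet
open Groth.Agent.Misc15.MagnetPointsS
open Groth.Agent.Misc15.AttrIdeal (incl incl_injective mem_range_incl)

namespace Groth.Agent.Misc15.AttrRep

variable {S : Scheme.{u}} {M : Type} [AddCommMonoid M] (N : AddSubmonoid M) {X : Over S}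
  (a : MonAct (AMonS S M) X)

/-- `Spec` of an injective ring map is scheme-theoretically dominant -/
theorem dominant_spec {D E : Type u} [CommRing D] [CommRing E] (φ : D →+* E)
    (hφ : Function.Injective φ) : IsSchemeTheoreticallyDominant (Spec.map (CommRingCat.ofHom φ)) := by
  refine ⟨?_⟩
  have hinj : Function.Injective (Spec.map (CommRingCat.ofHom φ)).appTop := by
    intro a b hab
    apply (Scheme.ΓSpecIso (CommRingCat.of D)).commRingCatIsoToRingEquiv.injective
    apply hφ
    have h := Scheme.ΓSpecIso_naturality (CommRingCat.ofHom φ)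
    have ha := congrArg (fun k => k.hom a) h
    have hb := congrArg (fun k => k.hom b) h
    simp only [CommRingCat.hom_comp, RingHom.comp_apply, CommRingCat.hom_ofHom] at ha hb
    exact ha.symm.trans ((congrArg _ hab).trans hb)
  rw [Scheme.ker_of_isAffine, (RingHom.injective_iff_ker_eq_bot _).mp hinj]
  refine eq_bot_iff.mpr fun U => ?_
  rw [Scheme.IdealSheafData.ofIdealTop_ideal, Ideal.map_bot]
  exact bot_le

/-- to be in the image may be checked on affine pieces mapping into affine opens of the base -/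
theorem inImage_of_affine [IsSeparated X.hom] {T : Over S} (x : T ⟶ X)
    (h : ∀ (K : Type u) [CommRing K] (sK : Spec (CommRingCat.of K) ⟶ S) (t : Over.mk sK ⟶ T) (U : S.Opens),
      IsAffineOpen U → Set.range sK ⊆ (U : Set S) → InImage N a (Over.mk sK) (t ≫ x)) :
    InImage N a T x := by
  classical
  have hc : ∀ p : T.left, ∃ U : S.Opens, IsAffineOpen U ∧ ∃ W : T.left.Opens, IsAffineOpen W ∧ p ∈ W ∧
      W ≤ T.hom ⁻¹ᵁ U := by
    intro p
    obtain ⟨U, hU, hpU, -⟩ := exists_isAffineOpen_mem_and_subset (x := T.hom p) (U := ⊤) trivial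
    obtain ⟨W, hW, hpW, hle⟩ := exists_isAffineOpen_mem_and_subset (x := p) (U := T.hom ⁻¹ᵁ U) hpU
    exact ⟨U, hU, W, hW, hpW, hle⟩
  choose U hU W hW hpW hle using hc
  let 𝒱 : Scheme.OpenCover.{u} T.left := Scheme.Cover.mkOfCovers T.left
    (fun p => Spec Γ(T.left, W p)) (fun p => (hW p).fromSpec)
    (fun p => ⟨p, by
      have : p ∈ Set.range (hW p).fromSpec := by rw [(hW p).range_fromSpec]; exact hpW p
      exact this⟩) (fun p => inferInstance)
  refine inImage_of_cover N a x 𝒱 fun p => ?_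
  refine h Γ(T.left, W p) ((hW p).fromSpec ≫ T.hom) (Over.homMk (𝒱.f p) rfl) (U p) (hU p) ?_
  rintro _ ⟨w, rfl⟩
  refine hle p ?_
  have : (hW p).fromSpec w ∈ Set.range (hW p).fromSpec := ⟨w, rfl⟩
  rw [(hW p).range_fromSpec] at this
  exact this

variable {U : S.Opens} (hU : IsAffineOpen U)

/-- a map of affine schemes into `X` factors through a smaller ring as soon as its ring map does -/
theorem exists_factor_ring [IsAffineHom X.hom] {R₀ R₁ : Type u} [CommRing R₀] [CommRing R₁] (jr : R₁ →+* R₀)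
    (hj : Function.Injective jr) (s₁ : Spec (CommRingCat.of R₁) ⟶ S) (hs : Set.range s₁ ⊆ (U : Set S))
    (θ : Γ(X.left, X.hom ⁻¹ᵁ U) →+* R₀)
    (hθ : (Spec.map (CommRingCat.ofHom θ) ≫ (hU.preimage X.hom).fromSpec) ≫ X.hom =
      Spec.map (CommRingCat.ofHom jr) ≫ s₁)
    (hr : ∀ b, θ b ∈ jr.range) :
    ∃ ψ : Over.mk s₁ ⟶ X, Spec.map (CommRingCat.ofHom jr) ≫ ψ.left =
      Spec.map (CommRingCat.ofHom θ) ≫ (hU.preimage X.hom).fromSpec := by
  classical
  have hV := hU.preimage X.hom
  let eR := RingEquiv.ofBijective jr.rangeRestrict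
    ⟨fun p q hpq => hj (congrArg Subtype.val hpq), jr.rangeRestrict_surjective⟩
  let θ₁ : Γ(X.left, X.hom ⁻¹ᵁ U) →+* R₁ := eR.symm.toRingHom.comp (θ.codRestrict jr.range hr)
  have hθ₁ : jr.comp θ₁ = θ :=
    RingHom.ext fun b => congrArg Subtype.val (eR.apply_symm_apply (θ.codRestrict jr.range hr b))
  have hlift : ∀ {B : Type u} [CommRing B] (f : Spec (CommRingCat.of B) ⟶ S), Set.range f ⊆ (U : Set S) →
      ∃ χ : Γ(S, U) →+* B, Spec.map (CommRingCat.ofHom χ) ≫ hU.fromSpec = f :=
    fun f hf => lift_affine (X := Over.mk (𝟙 S)) hU f hf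
  obtain ⟨w, hw⟩ := hlift s₁ hs
  obtain ⟨w', hw'⟩ := hlift ((Spec.map (CommRingCat.ofHom θ₁) ≫ hV.fromSpec) ≫ X.hom) (by
    rintro _ ⟨p, rfl⟩
    have : hV.fromSpec (Spec.map (CommRingCat.ofHom θ₁) p) ∈ Set.range hV.fromSpec := ⟨_, rfl⟩
    rw [hV.range_fromSpec] at this
    exact this)
  have hww : jr.comp w' = jr.comp w := by
    have e : Spec.map (CommRingCat.ofHom (jr.comp w')) ≫ hU.fromSpec =
        Spec.map (CommRingCat.ofHom (jr.comp w)) ≫ hU.fromSpec := by
      rw [CommRingCat.ofHom_comp, CommRingCat.ofHom_comp, Spec.map_comp, Spec.map_comp, Category.assoc,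
        Category.assoc, hw, hw', ← hθ, ← Category.assoc, ← Spec.map_comp_assoc, ← CommRingCat.ofHom_comp, hθ₁]
    exact congrArg CommRingCat.Hom.hom (Spec.map_injective ((cancel_mono hU.fromSpec).1 e))
  have hb : (Spec.map (CommRingCat.ofHom θ₁) ≫ hV.fromSpec) ≫ X.hom = s₁ := by
    rw [← hw', ← hw, RingHom.ext fun b => hj (RingHom.congr_fun hww b)]
  refine ⟨Over.homMk (Spec.map (CommRingCat.ofHom θ₁) ≫ hV.fromSpec) hb, ?_⟩
  show Spec.map _ ≫ Spec.map _ ≫ hV.fromSpec = _
  rw [← Spec.map_comp_assoc, ← CommRingCat.ofHom_comp, hθ₁]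

end Groth.Agent.Misc15.AttrRep
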