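import Groth.Agent.Misc15.AttrFactor
import Mathlib.AlgebraicGeometry.Morphisms.FinitePresentation

/-! Attractors of relatively affine schemes of finite type only depend on finitely many degrees. -/

set_option autoImplicit false
universe u

noncomputable section

open CategoryTheory CategoryTheory.Limits MonoidalCategory CartesianMonoidalCategory MonObj AlgebraicGeometry Opposite
open Magnet
open Groth.Agent.Misc15.MagnetPointsS
open Groth.Agent.Misc15.AttrIdeal (incl incl_injective mem_range_incl)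

namespace Groth.Agent.Misc15.AttrRep

variable {S : Scheme.{u}} {M : Type} [AddCommMonoid M] {X : Over S} (a : MonAct (AMonS S M) X)

theorem attrMap_eval {N L : AddSubmonoid M} (h : N ≤ L) {T : Over S} (φ : (attr a N).obj (op T)) :
    (attrToX a L).app (op T) ((attrMap a h).app (op T) φ) = (attrToX a N).app (op T) φ := by
  show CartesianMonoidalCategory.lift (toUnit T ≫ η[AMonS S L]) (𝟙 T) ≫ (AMonS.map S _ ▷ T) ≫ φ.1 =
    CartesianMonoidalCategory.lift (toUnit T ≫ η[AMonS S N]) (𝟙 T) ≫ φ.1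
  rw [lift_whiskerRight_assoc, Category.assoc, IsMonHom.one_hom]

/-- over an affine open of the base finitely many degrees decide membership of every attractor -/
theorem exists_finset_degrees [IsAffineHom X.hom] [LocallyOfFiniteType X.hom] {U : S.Opens} (hU : IsAffineOpen U) :
    ∃ E : Finset M, ∀ (N L : AddSubmonoid M), (∀ m ∈ E, m ∈ N → m ∈ L) →
      ∀ (K : Type u) [CommRing K] (sK : Spec (CommRingCat.of K) ⟶ S), Set.range sK ⊆ (U : Set S) →
        ∀ x : Over.mk sK ⟶ X, InImage N a (Over.mk sK) x → InImage L a (Over.mk sK) x := by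
  classical
  have hsep : IsSeparated X.hom := inferInstance
  have hV := hU.preimage X.hom
  let α := (X.hom.appLE U (X.hom ⁻¹ᵁ U) le_rfl).hom
  have hα : Spec.map (CommRingCat.ofHom α) ≫ hU.fromSpec = hV.fromSpec ≫ X.hom :=
    hU.SpecMap_appLE_fromSpec X.hom hV le_rfl
  have hft : α.FiniteType := X.hom.finiteType_appLE hU hV le_rfl
  letI := α.toAlgebra
  obtain ⟨G, hG⟩ : (⊤ : Subalgebra Γ(S, U) Γ(X.left, X.hom ⁻¹ᵁ U)).FG := hft.1
  let sA := hV.fromSpec ≫ X.hom
  let xA : Over.mk sA ⟶ X := Over.homMk hV.fromSpec rfl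
  have hmemA : ∀ {B : Type u} [CommRing B] (sB : Spec (CommRingCat.of B) ⟶ S) (g : Over.mk sB ⟶ X),
      Set.range sB ⊆ (U : Set S) → Set.range g.left ⊆ ((X.hom ⁻¹ᵁ U : X.left.Opens) : Set X.left) := by
    intro B _ sB g hB
    rintro _ ⟨w, rfl⟩
    show X.hom (g.left w) ∈ U
    rw [← Scheme.Hom.comp_apply, show g.left ≫ X.hom = sB from Over.w g]
    exact hB ⟨w, rfl⟩
  have hrA : Set.range sA ⊆ (U : Set S) := by
    rintro _ ⟨w, rfl⟩
    have : hV.fromSpec w ∈ Set.range hV.fromSpec := ⟨_, rfl⟩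
    rw [hV.range_fromSpec] at this
    exact this
  obtain ⟨θ, hθ⟩ := lift_affine hV (orbit a _ sA xA).left
    (hmemA _ _ (by rintro _ ⟨w, rfl⟩; exact hrA ⟨_, rfl⟩))
  refine ⟨G.biUnion fun g => (θ g).coeff.support.image Multiplicative.toAdd, fun N L hNL K _ sK hs x hx => ?_⟩
  obtain ⟨χ, hχ⟩ := lift_affine hV x.left (hmemA sK x hs)
  have hsK : sK = Spec.map (CommRingCat.ofHom χ) ≫ sA := by
    rw [← Category.assoc, hχ]
    exact (Over.w x).symm
  let t : Over.mk sK ⟶ Over.mk sA := Over.homMk (Spec.map (CommRingCat.ofHom χ)) hsK.symm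
  have hxt : x = t ≫ xA := by ext1; exact hχ.symm
  let θK := (MonoidAlgebra.mapRingHom (Multiplicative M) χ).comp θ
  have ho : (orbit a K sK x).left = Spec.map (CommRingCat.ofHom θK) ≫ hV.fromSpec := by
    rw [hxt, orbit_comp a K sK sA χ xA t rfl, ← hθ, ← Spec.map_comp_assoc, ← CommRingCat.ofHom_comp]
  have hub : ∀ (P : Type) [AddCommMonoid P], Set.range (univBase P K sK) ⊆ (U : Set S) := by
    intro P _
    rintro _ ⟨w, rfl⟩
    exact hs ⟨_, rfl⟩
  obtain ⟨ψ, hψ⟩ := (inImage_affine_iff N a K sK x).1 hx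
  obtain ⟨ψr, hψr⟩ := lift_affine hV ψ.left (hmemA _ ψ (hub N))
  have hN : ∀ b, θK b ∈ (incl N K).range := fun b => ⟨ψr b, by
    have e := congrArg Over.Hom.left hψ
    rw [Over.comp_left, ho, tIncl_left, ← hψr, ← Spec.map_comp_assoc, cancel_mono, ← CommRingCat.ofHom_comp] at e
    exact congr($(Spec.map_injective e) b)⟩
  -- the base goes to constants
  have hbase : θK.comp α = (algebraMap K (MA K M)).comp (χ.comp α) := by
    have e2 : Spec.map (CommRingCat.ofHom θK) ≫ sA = univBase M K sK := by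
      rw [← Category.assoc, ← ho]
      exact Over.w _
    simp only [sA] at e2
    rw [univBase, hsK] at e2
    simp only [sA, ← hα] at e2
    rw [← Spec.map_comp_assoc, ← Spec.map_comp_assoc, ← Spec.map_comp_assoc, cancel_mono,
      ← CommRingCat.ofHom_comp, ← CommRingCat.ofHom_comp, ← CommRingCat.ofHom_comp] at e2
    exact congrArg CommRingCat.Hom.hom (Spec.map_injective e2)
  have hL : ∀ b, θK b ∈ (incl L K).range := by
    intro b
    have hb : b ∈ Algebra.adjoin Γ(S, U) (G : Set Γ(X.left, X.hom ⁻¹ᵁ U)) := hG ▸ Algebra.mem_top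
    induction hb using Algebra.adjoin_induction with
    | mem g hg =>
      rw [mem_range_incl]
      intro m hm
      by_contra h0
      refine hm (hNL m.toAdd (Finset.mem_biUnion.2 ⟨g, hg, Finset.mem_image.2 ⟨m, ?_, rfl⟩⟩) ?_)
      · refine Finsupp.mem_support_iff.2 fun h1 => h0 ?_
        simp [θK, h1]
      · by_contra hmN
        exact h0 ((mem_range_incl N K _).1 (hN g) m hmN)
    | algebraMap r =>
      refine ⟨algebraMap K (MA K L) (χ (α r)), ?_⟩
      exact (RingHom.congr_fun (incl_comp_algebraMap L K) _).trans (RingHom.congr_fun hbase r).symm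
    | add p q _ _ hp hq => rw [map_add]; exact add_mem hp hq
    | mul p q _ _ hp hq => rw [map_mul]; exact mul_mem hp hq
  obtain ⟨ψ', hψ'⟩ := exists_factor_ring hU (incl L K) (incl_injective _ K) (univBase L K sK) (hub _) θK (by
      rw [← ho, show (orbit a K sK x).left ≫ X.hom = univBase M K sK from Over.w _]
      exact (Over.w (tIncl L K sK)).symm) hL
  refine (inImage_affine_iff L a K sK x).2 ⟨ψ', ?_⟩
  ext1
  exact hψ'.trans ho.symm

/-- to be in the image may be checked on affine pieces mapping into affine opens of the base -/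
theorem inImage_of_affine_cover (N : AddSubmonoid M) [IsSeparated X.hom] {T : Over S} (x : T ⟶ X)
    {β : Sort _} (V : β → S.Opens) (hV : iSup V = ⊤)
    (h : ∀ (K : Type u) [CommRing K] (sK : Spec (CommRingCat.of K) ⟶ S) (t : Over.mk sK ⟶ T) (U : β),
      Set.range sK ⊆ (V U : Set S) → InImage N a (Over.mk sK) (t ≫ x)) :
    InImage N a T x := by
  classical
  have hc : ∀ p : T.left, ∃ U : β, ∃ W : T.left.Opens, IsAffineOpen W ∧ p ∈ W ∧
      W ≤ T.hom ⁻¹ᵁ V U := by
    intro p
    obtain ⟨U, hpU⟩ := TopologicalSpace.Opens.mem_iSup.1 (hV ▸ trivial : T.hom p ∈ iSup V)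
    obtain ⟨W, hW, hpW, hle⟩ := exists_isAffineOpen_mem_and_subset (x := p) (U := T.hom ⁻¹ᵁ V U) hpU
    exact ⟨U, W, hW, hpW, hle⟩
  choose U W hW hpW hle using hc
  let 𝒱 : Scheme.OpenCover.{u} T.left := Scheme.Cover.mkOfCovers T.left
    (fun p => Spec Γ(T.left, W p)) (fun p => (hW p).fromSpec)
    (fun p => ⟨p, by
      have : p ∈ Set.range (hW p).fromSpec := by rw [(hW p).range_fromSpec]; exact hpW p
      exact this⟩) (fun p => inferInstance)
  refine inImage_of_cover N a x 𝒱 fun p => ?_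
  refine h Γ(T.left, W p) ((hW p).fromSpec ≫ T.hom) (Over.homMk (𝒱.f p) rfl) (U p) ?_
  rintro _ ⟨w, rfl⟩
  refine hle p ?_
  have : (hW p).fromSpec w ∈ Set.range (hW p).fromSpec := ⟨w, rfl⟩
  rw [(hW p).range_fromSpec] at this
  exact this


end Groth.Agent.Misc15.AttrRep
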