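import Groth.Agent.Misc15.AttrRep

/-! The attractor over an affine open of the base is a closed subscheme. -/

set_option autoImplicit false
universe u

noncomputable section

open CategoryTheory CategoryTheory.Limits MonoidalCategory CartesianMonoidalCategory MonObj AlgebraicGeometry Opposite
open Magnet
open Groth.Agent.Misc15.MagnetPointsS

namespace Groth.Agent.Misc15.AttrRep

variable {S : Scheme.{u}} {M : Type} [AddCommMonoid M] (N : AddSubmonoid M) {X : Over S}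
  (a : MonAct (AMonS S M) X)

/-- over an affine open of the base the image is cut out by the ideal of forbidden components -/
theorem exists_closed_affine [IsAffineHom X.hom] {U : S.Opens} (hU : IsAffineOpen U) :
    ∃ (Z : Scheme.{u}) (j : Z ⟶ ↑(X.hom ⁻¹ᵁ U)), IsClosedImmersion j ∧
      ∀ (T : Scheme.{u}) (x : T ⟶ ↑(X.hom ⁻¹ᵁ U)),
        InImage N a (Over.mk ((x ≫ (X.hom ⁻¹ᵁ U).ι) ≫ X.hom)) (Over.homMk (x ≫ (X.hom ⁻¹ᵁ U).ι) rfl) ↔
          ∃ z, z ≫ j = x := by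
  classical
  have hV := hU.preimage X.hom
  have hsep : IsSeparated X.hom := inferInstance
  obtain ⟨I, hI⟩ := key_affine N a hU
  let mk : Γ(X.left, X.hom ⁻¹ᵁ U) →+* Γ(X.left, X.hom ⁻¹ᵁ U) ⧸ I := Ideal.Quotient.mk I
  have : IsClosedImmersion (Spec.map (CommRingCat.ofHom mk)) :=
    IsClosedImmersion.spec_of_surjective _ Ideal.Quotient.mk_surjective
  let eV : Spec Γ(X.left, X.hom ⁻¹ᵁ U) ≅ ((X.hom ⁻¹ᵁ U : X.left.Opens) : Scheme.{u}) := hV.isoSpec.symm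
  have heV : eV.hom ≫ (X.hom ⁻¹ᵁ U).ι = hV.fromSpec := by rfl
  refine ⟨Spec (CommRingCat.of (Γ(X.left, X.hom ⁻¹ᵁ U) ⧸ I)), Spec.map (CommRingCat.ofHom mk) ≫ eV.hom, inferInstance, fun T x => ⟨?_, ?_⟩⟩
  · intro hx
    let 𝒱 := T.affineCover
    have hloc : ∀ i, ∃ z : 𝒱.X i ⟶ Spec (CommRingCat.of (Γ(X.left, X.hom ⁻¹ᵁ U) ⧸ I)),
        z ≫ Spec.map (CommRingCat.ofHom mk) ≫ eV.hom = 𝒱.f i ≫ x := by
      intro i
      let c : 𝒱.X i ⟶ Spec Γ(X.left, X.hom ⁻¹ᵁ U) := 𝒱.f i ≫ x ≫ eV.inv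
      let χ := (Spec.preimage c).hom
      have hc : Spec.map (CommRingCat.ofHom χ) = c := by simp only [χ, CommRingCat.ofHom_hom, Spec.map_preimage]
      have hcf : c ≫ hV.fromSpec = 𝒱.f i ≫ x ≫ (X.hom ⁻¹ᵁ U).ι := by
        simp only [c, Category.assoc, ← heV, Iso.inv_hom_id_assoc]
      let r : Over.mk (𝒱.f i ≫ ((x ≫ (X.hom ⁻¹ᵁ U).ι) ≫ X.hom)) ⟶ Over.mk ((x ≫ (X.hom ⁻¹ᵁ U).ι) ≫ X.hom) :=
        Over.homMk (𝒱.f i) rfl
      have hk : I ≤ RingHom.ker χ :=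
        (hI _ χ _ (r ≫ Over.homMk (x ≫ (X.hom ⁻¹ᵁ U).ι) rfl) (by
          show 𝒱.f i ≫ x ≫ (X.hom ⁻¹ᵁ U).ι = _
          rw [hc]; exact hcf.symm)).1 (hx.comp N a r)
      refine ⟨Spec.map (CommRingCat.ofHom (Ideal.Quotient.lift I χ fun b hb => hk hb)), ?_⟩
      refine (Spec.map_comp_assoc _ _ _).symm.trans ?_
      show Spec.map (CommRingCat.ofHom ((Ideal.Quotient.lift I χ fun b hb => hk hb).comp mk)) ≫ _ = _
      rw [Ideal.Quotient.lift_comp_mk, hc]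
      exact (Category.assoc _ _ _).trans (congrArg (𝒱.f i ≫ ·)
        ((Category.assoc _ _ _).trans ((congrArg (x ≫ ·) eV.inv_hom_id).trans (Category.comp_id _))))
    choose z hz using hloc
    refine ⟨𝒱.glueMorphisms z (fun p q => ?_), 𝒱.hom_ext _ _ fun p => ?_⟩
    · rw [← cancel_mono (Spec.map (CommRingCat.ofHom mk) ≫ eV.hom), Category.assoc, Category.assoc, hz, hz,
        ← Category.assoc, ← Category.assoc, pullback.condition]
    · rw [← Category.assoc]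
      exact (congrArg (· ≫ _) (𝒱.ι_glueMorphisms _ _ p)).trans (hz p)
  · rintro ⟨z, rfl⟩
    let s0 := Spec.map (CommRingCat.ofHom mk) ≫ hV.fromSpec ≫ X.hom
    let x0 : Over.mk s0 ⟶ X := Over.homMk (Spec.map (CommRingCat.ofHom mk) ≫ hV.fromSpec) (Category.assoc _ _ _)
    have h0 := (hI (Γ(X.left, X.hom ⁻¹ᵁ U) ⧸ I) mk s0 x0 rfl).2 (fun b hb => Ideal.Quotient.eq_zero_iff_mem.2 hb)
    let r : Over.mk (((z ≫ Spec.map (CommRingCat.ofHom mk) ≫ eV.hom) ≫ (X.hom ⁻¹ᵁ U).ι) ≫ X.hom) ⟶ Over.mk s0 :=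
      Over.homMk z (by
        show z ≫ Spec.map _ ≫ hV.fromSpec ≫ X.hom = _
        simp only [Over.mk_hom, Category.assoc, ← heV])
    have := h0.comp N a r
    convert this using 1
    ext1
    show _ ≫ (X.hom ⁻¹ᵁ U).ι = z ≫ Spec.map _ ≫ hV.fromSpec
    simp only [Category.assoc, heV]

end Groth.Agent.Misc15.AttrRep
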