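import Groth.Prelude.Def_DeRham
import Mathlib.RingTheory.Kaehler.Basic
import Mathlib.LinearAlgebra.ExteriorPower.Basic

/-! Surjectivity of the Čech differential on top forms of coordinate strata. -/

set_option autoImplicit false

universe u

open exteriorPower

namespace Groth.Agent.Misc15.CechForms

variable {k A : Type u} [CommRing k] [CommRing A] [Algebra k A] {d n : ℕ} (t : Fin d → A) (e : Fin n ↪ Fin d)

/-- The ideal of the stratum `J`. -/
abbrev idl (J : Finset (Fin n)) : Ideal A := ⨆ i ∈ J, Ideal.span {t (e i)}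

lemma mk_eq_zero {J : Finset (Fin n)} {i : Fin n} (h : i ∈ J) :
    Ideal.Quotient.mk (idl t e J) (t (e i)) = 0 :=
  Ideal.Quotient.eq_zero_iff_mem.mpr
    (Submodule.mem_iSup_of_mem i (Submodule.mem_iSup_of_mem h (Ideal.mem_span_singleton_self _)))

lemma span_D (J : Finset (Fin n))
    (htop : Submodule.span A (Set.range fun i => KaehlerDifferential.D k A (t i)) = ⊤)
    {m : ℕ} (c : Fin m → Fin d) (hc : ∀ i, i ∈ Set.range c ∨ i ∈ J.map e) :
    Submodule.span (A ⧸ idl t e J)
      (Set.range fun l => KaehlerDifferential.D k (A ⧸ idl t e J) (Ideal.Quotient.mk _ (t (c l)))) = ⊤ := by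
  set f := KaehlerDifferential.map k k A (A ⧸ idl t e J) with hf
  set N := Submodule.span (A ⧸ idl t e J)
      (Set.range fun l => KaehlerDifferential.D k (A ⧸ idl t e J) (Ideal.Quotient.mk _ (t (c l))))
  have h1 : (N.restrictScalars A).comap f = ⊤ := by
    rw [eq_top_iff, ← htop, Submodule.span_le]
    rintro _ ⟨i, rfl⟩
    simp only [SetLike.mem_coe, Submodule.mem_comap, hf, KaehlerDifferential.map_D,
      Submodule.restrictScalars_mem]
    rcases hc i with ⟨l, rfl⟩ | hi
    · exact Submodule.subset_span ⟨l, rfl⟩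
    · obtain ⟨j, hj, rfl⟩ := Finset.mem_map.mp hi
      rw [Ideal.Quotient.algebraMap_eq, mk_eq_zero t e hj, map_zero]
      exact N.zero_mem
  rw [eq_top_iff]
  rintro x -
  obtain ⟨y, rfl⟩ := KaehlerDifferential.map_surjective_of_surjective k k A (A ⧸ idl t e J)
    Ideal.Quotient.mk_surjective x
  exact (h1.ge (Submodule.mem_top (x := y)) : y ∈ (N.restrictScalars A).comap f)

lemma span_top_form {R M : Type*} [CommRing R] [AddCommGroup M] [Module R M] {m : ℕ} {v : Fin m → M}
    (hv : Submodule.span R (Set.range v) = ⊤) (x : ⋀[R]^m M) : ∃ a : R, x = a • ιMulti R m v := by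
  have h : x ∈ Submodule.span R (Set.range (ιMulti_family R m v)) := by
    rw [ιMulti_family_span_of_span R hv]; trivial
  have h2 : Submodule.span R (Set.range (ιMulti_family R m v)) ≤ Submodule.span R {ιMulti R m v} := by
    rw [Submodule.span_le]
    rintro _ ⟨s, rfl⟩
    apply Submodule.subset_span
    have he : ∀ f : Fin m ↪o Fin m, (f : Fin m → Fin m) = id := fun f =>
      (f.strictMono.range_inj strictMono_id).1
        (by rw [Set.range_id, Set.range_eq_univ]; exact Finite.surjective_of_injective f.injective)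
    rw [Set.mem_singleton_iff, ιMulti_family, he, Function.comp_id]
  obtain ⟨a, ha⟩ := Submodule.mem_span_singleton.mp (h2 h)
  exact ⟨a, ha.symm⟩

variable (k) in
/-- Forms of degree `p` on the stratum `J`. -/
abbrev Forms (J : Finset (Fin n)) (p : ℕ) : Type u :=
  ↥(⋀[(A ⧸ idl t e J)]^p (Ω[(A ⧸ idl t e J)⁄k]))

variable (ψ : ∀ (I J : Finset (Fin n)) (p : ℕ), Forms k t e I p →+ Forms k t e J p)

lemma exists_lift_single
    (hψ : ∀ (I J : Finset (Fin n)) (h : I ⊆ J),
      DeRham.IsCxMap (KaehlerDifferential.D k (A ⧸ idl t e I)) (KaehlerDifferential.D k (A ⧸ idl t e J))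
        (Ideal.Quotient.factor (biSup_mono h)) (ψ I J))
    (htop : Submodule.span A (Set.range fun i => KaehlerDifferential.D k A (t i)) = ⊤)
    (m : ℕ) (I J : Finset (Fin n)) (hIJ : I ⊆ J) (hJ : J.card + m = d) (x : Forms k t e J m) :
    ∃ L : Forms k t e I m, ψ I J m L = x ∧
      ∀ J' : Finset (Fin n), I ⊆ J' → ¬ J' ⊆ J → ψ I J' m L = 0 := by
  have hcard : ((J.map e)ᶜ).card = m := by
    rw [Finset.card_compl, Finset.card_map, Fintype.card_fin]; omega
  set c := ((J.map e)ᶜ).orderEmbOfFin hcard with hc_def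
  have hrange : Set.range c = (((J.map e)ᶜ : Finset (Fin d)) : Set (Fin d)) :=
    Finset.range_orderEmbOfFin _ _
  have hc : ∀ i, i ∈ Set.range c ∨ i ∈ J.map e := fun i => by
    by_cases h : i ∈ J.map e
    · exact Or.inr h
    · left; rw [hrange, Finset.mem_coe, Finset.mem_compl]; exact h
  obtain ⟨a, rfl⟩ := span_top_form (span_D t e J htop c hc) x
  obtain ⟨a, rfl⟩ := Ideal.Quotient.mk_surjective a
  refine ⟨DeRham.gen (KaehlerDifferential.D k (A ⧸ idl t e I)) m (Ideal.Quotient.mk _ a)
    (fun l => Ideal.Quotient.mk _ (t (c l))), ?_, ?_⟩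
  · rw [hψ I J hIJ]
    rfl
  · intro J' hIJ' hne
    obtain ⟨j', hj', hj'J⟩ := Finset.not_subset.mp hne
    rw [hψ I J' hIJ']
    obtain ⟨l, hl⟩ : e j' ∈ Set.range c := by
      rw [hrange, Finset.mem_coe, Finset.mem_compl, Finset.mem_map']; exact hj'J
    rw [DeRham.gen, AlternatingMap.map_coord_zero _ l, smul_zero]
    show KaehlerDifferential.D k (A ⧸ idl t e J')
      (Ideal.Quotient.factor _ (Ideal.Quotient.mk _ (t (c l)))) = 0
    rw [Ideal.Quotient.factor_mk, hl, mk_eq_zero t e hj', map_zero]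

/-- The Čech differential onto the top forms of the strata is surjective. -/
theorem exists_lift
    (hψ : ∀ (I J : Finset (Fin n)) (h : I ⊆ J),
      DeRham.IsCxMap (KaehlerDifferential.D k (A ⧸ idl t e I)) (KaehlerDifferential.D k (A ⧸ idl t e J))
        (Ideal.Quotient.factor (biSup_mono h)) (ψ I J))
    (htop : Submodule.span A (Set.range fun i => KaehlerDifferential.D k A (t i)) = ⊤)
    (s m : ℕ) (hs : s + 1 + m = d) (g : ∀ J : Finset (Fin n), Forms k t e J m) :
    ∃ ω : ∀ I : Finset (Fin n), Forms k t e I m,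
      ∀ J : Finset (Fin n), J.card = s + 1 →
        (∑ j ∈ J.attach, ((-1 : ℤ) ^ (J.filter (fun i => i < j.1)).card) •
            ψ (J.erase j.1) J m (ω (J.erase j.1))) = g J := by
  classical
  let T : Finset (Finset (Fin n)) := Finset.univ.filter (fun J => J.card = s + 1)
  have hT : ∀ J : T, J.1.card = s + 1 := fun J => (Finset.mem_filter.mp J.2).2
  have hne : ∀ J : T, J.1.Nonempty := fun J => Finset.card_pos.mp (by rw [hT J]; omega)
  let j₀ : T → Fin n := fun J => (hne J).choose
  have hj₀ : ∀ J : T, j₀ J ∈ J.1 := fun J => (hne J).choose_spec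
  choose L hL hL0 using fun J : T => exists_lift_single t e ψ hψ htop m (J.1.erase (j₀ J)) J.1
    (Finset.erase_subset _ _) (by rw [hT J]; omega)
    (((-1 : ℤ) ^ (J.1.filter (fun i => i < j₀ J)).card) • g J.1)
  refine ⟨∑ J : T, Pi.single (M := fun I => Forms k t e I m) (J.1.erase (j₀ J)) (L J),
    fun J' hJ' => ?_⟩
  have hmem : J' ∈ T := Finset.mem_filter.mpr ⟨Finset.mem_univ _, hJ'⟩
  have key : ∀ (I₀ I : Finset (Fin n)) (x : Forms k t e I₀ m), I = I₀ →
      ψ I J' m (Pi.single (M := fun I => Forms k t e I m) I₀ x I) = ψ I₀ J' m x := by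
    rintro I₀ I x rfl; rw [Pi.single_eq_same]
  simp only [Finset.sum_apply, map_sum, Finset.smul_sum]
  rw [Finset.sum_comm, Finset.sum_eq_single (⟨J', hmem⟩ : T)]
  · rw [Finset.sum_eq_single (⟨j₀ ⟨J', hmem⟩, hj₀ ⟨J', hmem⟩⟩ : {x // x ∈ J'})]
    · rw [key _ _ _ rfl, hL ⟨J', hmem⟩, smul_smul, ← pow_add, Even.neg_one_pow ⟨_, rfl⟩, one_smul]
    · intro j _ hj
      rw [Pi.single_eq_of_ne, map_zero, smul_zero]
      intro h
      exact hj (Subtype.ext (Finset.erase_injOn J' j.2 (hj₀ ⟨J', hmem⟩) h))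
    · intro h; exact absurd (Finset.mem_attach _ _) h
  · intro J _ hJ
    refine Finset.sum_eq_zero fun j _ => ?_
    by_cases h : J'.erase j.1 = J.1.erase (j₀ J)
    · rw [key _ _ _ h, hL0 J J' (h ▸ Finset.erase_subset _ _) ?_, smul_zero]
      intro hsub
      exact hJ (Subtype.ext (Finset.eq_of_subset_of_card_le hsub (by rw [hT J, hJ'])).symm)
    · rw [Pi.single_eq_of_ne h, map_zero, smul_zero]
  · intro h; exact absurd (Finset.mem_univ _) h

end Groth.Agent.Misc15.CechForms
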