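import Groth.Prelude.Def_DefoConn
import Groth.Prelude.Def_DefoSh2
import Groth.Agent.KTor28.Divisor
import Groth.Agent.DCat.PhiDiag
import Groth.Agent.DCat.PullTensor
import Groth.Agent.Props12.FinLocFree
import Groth.Agent.Coherent.ModulesExact
import Groth.Agent.CAlgH3.LocFreeFactor

/-! Linear algebra of deformations of connections over first-order deformations. -/

set_option autoImplicit false
set_option backward.isDefEq.respectTransparency false
set_option backward.isDefEq.respectTransparency.types false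
set_option linter.style.haveILetI false
universe u

open CategoryTheory CategoryTheory.Limits AlgebraicGeometry Opposite TopologicalSpace
open Groth.Agent Groth.Agent.ModStalk Groth.Agent.DCat Groth.Agent.AmpleLib
open Groth.Agent.KTor28 (st)

namespace Groth.Agent.Misc15.DefoConnAlg

variable {X : Scheme.{u}} {Ω' : X.Modules}

/-- the first-variable tensor map -/
noncomputable abbrev T (Ω' : X.Modules) {M N : X.Modules} (φ : M ⟶ N) :
    CohB1.tensorMod M Ω' ⟶ CohB1.tensorMod N Ω' := KoszTw.tensorMap φ (𝟙 Ω')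

/-- morphisms of the abelian sheaves -/
noncomputable abbrev A {M N : X.Modules} (φ : M ⟶ N) : Coh.toAb M ⟶ Coh.toAb N :=
  (SheafOfModules.toSheaf X.ringCatSheaf).map φ

theorem T_tmul {M N : X.Modules} (φ : M ⟶ N) (U : X.Opens) (a : Γ(M, U)) (b : Γ(Ω', U)) :
    (T Ω' φ).app U (tmul a b) = tmul (φ.app U a) b := by
  rw [T, ← KoszTw.tensorBi_map_app]
  exact DCat.PullTensor.tensorBi_map_tmul φ U a b

theorem T_comp {M N P : X.Modules} (φ : M ⟶ N) (ψ : N ⟶ P) : T Ω' (φ ≫ ψ) = T Ω' φ ≫ T Ω' ψ := by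
  rw [T, T, T, ← KoszTw.tensorMap_comp, Category.id_comp]

theorem T_id (M : X.Modules) : T Ω' (𝟙 M) = 𝟙 _ := KoszTw.tensorMap_id M Ω'

theorem T_add {M N : X.Modules} (φ ψ : M ⟶ N) : T Ω' (φ + ψ) = T Ω' φ + T Ω' ψ := by
  refine AmpleLib.hom_ext fun U a b => ?_
  rw [T_tmul]
  show tmul ((φ + ψ).app U a) b = (T Ω' φ).app U (tmul a b) + (T Ω' ψ).app U (tmul a b)
  rw [T_tmul, T_tmul, ← tmul_add_left]
  rfl

theorem A_comp {M N P : X.Modules} (φ : M ⟶ N) (ψ : N ⟶ P) : A (φ ≫ ψ) = A φ ≫ A ψ :=
  (SheafOfModules.toSheaf X.ringCatSheaf).map_comp φ ψ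

theorem A_add {M N : X.Modules} (φ ψ : M ⟶ N) : A (φ + ψ) = A φ + A ψ :=
  (SheafOfModules.toSheaf X.ringCatSheaf).map_add

theorem A_zero (M N : X.Modules) : A (0 : M ⟶ N) = 0 :=
  (SheafOfModules.toSheaf X.ringCatSheaf).map_zero _ _

theorem A_id (M : X.Modules) : A (𝟙 M) = 𝟙 _ :=
  (SheafOfModules.toSheaf X.ringCatSheaf).map_id _

theorem T_zero (M N : X.Modules) : T Ω' (0 : M ⟶ N) = 0 := by
  have := T_add (Ω' := Ω') (0 : M ⟶ N) 0
  rwa [add_zero, left_eq_add] at this

theorem horizontal_iff {M M' : X.Modules} {c : Coh.toAb M ⟶ Coh.toAb (CohB1.tensorMod M Ω')}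
    {c' : Coh.toAb M' ⟶ Coh.toAb (CohB1.tensorMod M' Ω')} {φ : M ⟶ M'} :
    ConnSh.IsHorizontal c c' φ ↔ c ≫ A (T Ω' φ) = A φ ≫ c' := by
  constructor
  · intro h
    refine Sheaf.hom_ext (NatTrans.ext (funext fun U => ?_))
    ext e
    exact (h U.unop e).symm
  · intro h U e
    exact (ConcreteCategory.congr_hom
      (congrArg (fun g : Coh.toAb M ⟶ Coh.toAb (CohB1.tensorMod M' Ω') => g.hom.app (op U)) h) e).symm

/-- an additive map which is linear is a morphism of modules -/
theorem exists_linear {M N : X.Modules} (Δ : Coh.toAb M ⟶ Coh.toAb N)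
    (h : ∀ (U : X.Opens) (t : Γ(X, U)) (e : Γ(M, U)), ConnSh.secApp Δ U (t • e) = t • ConnSh.secApp Δ U e) :
    ∃ φ : M ⟶ N, A φ = Δ :=
  ⟨⟨PresheafOfModules.homMk Δ.hom fun U t e => h U.unop t e⟩, rfl⟩

/-- a difference of connections is linear -/
theorem exists_linear_sub {f : Scheme.{u}} {p : X ⟶ f} {δ : OmegaSh.Der p Ω'} {M : X.Modules}
    {c c' : Coh.toAb M ⟶ Coh.toAb (CohB1.tensorMod M Ω')} (hc : ConnSh.IsConn δ M c) (hc' : ConnSh.IsConn δ M c') :
    ∃ φ : M ⟶ CohB1.tensorMod M Ω', A φ = c - c' := by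
  refine exists_linear _ fun U t e => ?_
  show ConnSh.secApp c U (t • e) - ConnSh.secApp c' U (t • e) = t • (ConnSh.secApp c U e - ConnSh.secApp c' U e)
  rw [hc U t e, hc' U t e, smul_sub]
  abel

section Tensor

/-- tensoring keeps a short exact sequence with locally free quotient exact -/
theorem shortExact_tensor {S : ShortComplex X.Modules} (hS : S.ShortExact) [Coh.IsQCoh S.X₃]
    (h₃ : FlatMod.IsFinLocFree S.X₃) (M : X.Modules) : (S.map ((shT X).flip.obj M)).ShortExact := by
  refine (ShortComplex.shortExact_iff_of_iso (S.mapNatIso (PhiDiag.comm M))).2 ?_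
  have hst : ∀ x : X, ((S.map ((shT X).obj M)).map (DerSch.stalkFunctor X x)).ShortExact := fun x => by
    haveI : Module.Free (X.presheaf.stalk x) (S.X₃.presheaf.stalk x) := Props12.free_stalk_of_isFinLocFree _ h₃ x
    let U := S.map (DerSch.stalkFunctor X x)
    have hU : U.ShortExact := hS.map_of_exact _
    have hi := (ModuleCat.mono_iff_injective U.f).1 hU.mono_f
    have hs := (ModuleCat.epi_iff_surjective U.g).1 hU.epi_g
    have hex := (ShortComplex.ShortExact.moduleCat_exact_iff_function_exact U).1 hU.exact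
    haveI : Module.Projective (X.presheaf.stalk x) U.X₃ :=
      inferInstanceAs (Module.Projective (X.presheaf.stalk x) (S.X₃.presheaf.stalk x))
    obtain ⟨l, hl⟩ := Module.projective_lifting_property U.g.hom LinearMap.id hs
    have hr : ∃ r : U.X₂ →ₗ[X.presheaf.stalk x] U.X₁, r.comp U.f.hom = LinearMap.id :=
      (((hex.split_tfae hi hs).out 0 1 :
        (∃ l, U.g.hom ∘ₗ l = LinearMap.id) ↔ ∃ r, r ∘ₗ U.f.hom = LinearMap.id)).1 ⟨l, hl⟩
    obtain ⟨r, hr⟩ := hr
    have hinj : Function.Injective (U.f.hom.lTensor (st x M)) := by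
      refine Function.LeftInverse.injective (g := r.lTensor (st x M)) fun z => ?_
      rw [← LinearMap.comp_apply, ← LinearMap.lTensor_comp, hr, LinearMap.lTensor_id, LinearMap.id_apply]
    have h1 : (U.map (MonoidalCategory.tensorLeft (st x M))).ShortExact := by
      refine ShortComplex.ShortExact.mk' ?_ ?_ ?_
      · exact (ShortComplex.ShortExact.moduleCat_exact_iff_function_exact _).2 (lTensor_exact (st x M) hex hs)
      · exact (ModuleCat.mono_iff_injective _).2 hinj
      · exact (ModuleCat.epi_iff_surjective _).2 (LinearMap.lTensor_surjective _ hs)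
    exact (ShortComplex.shortExact_iff_of_iso (ShortComplex.isoMk (stalkTensorIso x M S.X₁) (stalkTensorIso x M S.X₂)
      (stalkTensorIso x M S.X₃) (stalkTensor_nat₂ x M S.f).symm (stalkTensor_nat₂ x M S.g).symm)).2 h1
  refine ShortComplex.ShortExact.mk' (OmegaLib.exact_of_stalks _ fun x => (hst x).exact) ?_ ?_
  · exact OmegaLib.mono_of_stalks_injective _ fun x => (ModuleCat.mono_iff_injective _).1 (hst x).mono_f
  · exact OmegaLib.epi_of_stalks_surjective _ fun x => (ModuleCat.epi_iff_surjective _).1 (hst x).epi_g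

theorem flip_map (M : X.Modules) {N N' : X.Modules} (φ : N ⟶ N') :
    ((shT X).flip.obj M).map φ = T M φ := KoszTw.tensorBi_map_app φ M

end Tensor

variable {k : Type u} [Field k] [X.Over (Spec (CommRingCat.of k))] {E : X.Modules}
  (D : DefoSh.Defo E (ArtFun.Art.dual k k)) (ι : E ⟶ D.sheaf)
  (hι : D.π ≫ ι = D.act (DualNumber.eps : DualNumber k))

theorem epi_π : Epi D.π := OmegaLib.epi_of_stalks_surjective _ fun x => D.surj x

include hι in
theorem ι_π : ι ≫ D.π = 0 := by
  haveI := epi_π D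
  rw [← cancel_epi D.π, comp_zero, ← Category.assoc, hι]
  exact D.act_π _ rfl

include hι in
/-- the sequence `0 → E → D → E → 0` -/
theorem shortExact : (ShortComplex.mk ι D.π (ι_π D ι hι)).ShortExact := by
  let Ad := ArtFun.Art.dual k k
  let ε : Ad := (DualNumber.eps : DualNumber k)
  have hεm : ε ∈ IsLocalRing.maximalIdeal Ad := by rw [ArtFun.Art.mem_maximalIdeal_iff]; rfl
  have hker : ∀ (x : X) (v : D.sheaf.presheaf.stalk x), RefHull.stalkMapₗ D.π x v = 0 →
      ∃ w, RefHull.stalkMapₗ (D.act ε) x w = v := by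
    intro x v hv
    letI : Module Ad (D.sheaf.presheaf.stalk x) := DefoSh.stalkModule D.sheaf D.act.toRingHom x
    have h := D.ker_le x v hv
    have hle : IsLocalRing.maximalIdeal Ad ≤ Ideal.span {ε} := by
      intro z hz
      rw [ArtFun.Art.mem_maximalIdeal_iff] at hz
      refine Ideal.mem_span_singleton.2 ⟨(TrivSqZeroExt.inl (TrivSqZeroExt.snd (show DualNumber k from z)) : DualNumber k), ?_⟩
      change (show DualNumber k from z) = DualNumber.eps * TrivSqZeroExt.inl _
      ext
      · have hz' : TrivSqZeroExt.fst (show DualNumber k from z) = 0 := hz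
        simpa using hz'
      · simp
    replace h := Submodule.smul_mono_left hle h
    rw [Submodule.ideal_span_singleton_smul, Submodule.mem_smul_pointwise_iff_exists] at h
    obtain ⟨w, -, hw⟩ := h
    exact ⟨w, hw⟩
  have hinj : ∀ x : X, Function.Injective (RefHull.stalkMapₗ ι x) := by
    intro x
    letI : Module Ad (D.sheaf.presheaf.stalk x) := DefoSh.stalkModule D.sheaf D.act.toRingHom x
    haveI : Module.Flat Ad (D.sheaf.presheaf.stalk x) := D.flat x
    refine (injective_iff_map_eq_zero _).2 fun w hw => ?_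
    obtain ⟨v, rfl⟩ := D.surj x w
    rw [← DefoSh.stalkMapₗ_comp_apply, hι] at hw
    have hεv : ε • v = 0 := hw
    have hrel := Module.Flat.isTrivialRelation_of_sum_smul_eq_zero (f := fun _ : Unit => ε) (x := fun _ : Unit => v)
      (by simpa using hεv)
    obtain ⟨κ, a, y, hy, hay⟩ := hrel
    rw [show v = _ from hy (), map_sum]
    refine Finset.sum_eq_zero fun j _ => ?_
    show RefHull.stalkMapₗ D.π x (RefHull.stalkMapₗ (D.act (a () j)) x (y j)) = 0
    rw [← DefoSh.stalkMapₗ_comp_apply, D.act_π]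
    · exact DefoSh.stalkMapₗ_zero_apply x (y j)
    · have h0 : ε * a () j = 0 := by simpa using hay j
      have h1 := congrArg (fun q : DualNumber k => TrivSqZeroExt.snd q) h0
      have h2 : TrivSqZeroExt.fst (show DualNumber k from a () j) = 0 := by
        have : TrivSqZeroExt.snd ((DualNumber.eps : DualNumber k) * (show DualNumber k from a () j)) = 0 := h1
        simpa using this
      exact h2
  refine ShortComplex.ShortExact.mk' (OmegaLib.exact_of_stalks _ fun x => ?_) ?_ (epi_π D)
  · rw [ShortComplex.moduleCat_exact_iff]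
    intro v hv
    obtain ⟨w, hw⟩ := hker x v hv
    refine ⟨RefHull.stalkMapₗ D.π x w, ?_⟩
    show RefHull.stalkMapₗ ι x _ = v
    rw [← DefoSh.stalkMapₗ_comp_apply, hι]
    exact hw
  · exact OmegaLib.mono_of_stalks_injective _ hinj

end Groth.Agent.Misc15.DefoConnAlg

namespace Groth.Agent.Misc15.DefoConnAlg

variable {X : Scheme.{u}} {Ω' : X.Modules} {k : Type u} [Field k] [X.Over (Spec (CommRingCat.of k))] {E : X.Modules}
  (hE : FlatMod.IsFinLocFree E)
  (D : DefoSh.Defo E (ArtFun.Art.dual k k)) (ι : E ⟶ D.sheaf)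
  (hι : D.π ≫ ι = D.act (DualNumber.eps : DualNumber k))

theorem epi_A {M N : X.Modules} (φ : M ⟶ N) [Epi φ] : Epi (A φ) := inferInstance

include hE hι in
/-- the tensored sequence -/
theorem shortExact_T (M : X.Modules) :
    (ShortComplex.mk (T M ι) (T M D.π) (by rw [← T_comp, ι_π D ι hι, T_zero])).ShortExact := by
  haveI : Coh.IsQCoh E := Groth.Agent.CAlgH3.LocFreeFactor.isQCoh_of_finLocFree hE
  refine (ShortComplex.shortExact_iff_of_iso ?_).1
    (shortExact_tensor (S := ShortComplex.mk ι D.π (ι_π D ι hι)) (shortExact D ι hι) hE M)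
  exact ShortComplex.isoMk (CategoryTheory.Iso.refl _) (CategoryTheory.Iso.refl _) (CategoryTheory.Iso.refl _)
    ((Category.id_comp _).trans ((flip_map M ι).symm.trans (Category.comp_id _).symm))
    ((Category.id_comp _).trans ((flip_map M D.π).symm.trans (Category.comp_id _).symm))

include hι in
theorem act_eq (z : ArtFun.Art.dual k k) :
    (D.act z : D.sheaf ⟶ D.sheaf) = (TrivSqZeroExt.fst (show DualNumber k from z)) • 𝟙 D.sheaf +
      (TrivSqZeroExt.snd (show DualNumber k from z)) • (D.π ≫ ι) := by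
  let w : DualNumber k := z
  have hw : z = algebraMap k (ArtFun.Art.dual k k) w.fst + w.snd • (show ArtFun.Art.dual k k from (DualNumber.eps : DualNumber k)) := by
    show w = algebraMap k (DualNumber k) w.fst + w.snd • (DualNumber.eps : DualNumber k)
    ext <;> simp [TrivSqZeroExt.algebraMap_eq_inl]
  conv_lhs => rw [hw, map_add, map_smul, AlgHom.commutes, Algebra.algebraMap_eq_smul_one]
  rw [hι]
  rfl

/-- commuting with `ε` and reducing to zero: factors through `π` and `ι` -/
theorem exists_factor (S : ShortComplex X.Modules) (hS : S.ShortExact)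
    (Δ : D.sheaf ⟶ S.X₂) (h1 : Δ ≫ S.g = 0) (hιD : ι ≫ D.π = 0)
    (h2 : ι ≫ Δ = 0) (hex : (ShortComplex.mk ι D.π hιD).ShortExact) :
    ∃ φ : E ⟶ S.X₁, D.π ≫ φ ≫ S.f = Δ := by
  haveI := hS.mono_f
  haveI := hex.epi_g
  let ψ := hS.exact.lift Δ h1
  have hψ : ψ ≫ S.f = Δ := hS.exact.lift_f Δ h1
  have hψι : ι ≫ ψ = 0 := by
    rw [← cancel_mono S.f, Category.assoc, hψ, h2, zero_comp]
  refine ⟨hex.exact.desc ψ hψι, ?_⟩
  rw [← Category.assoc, hex.exact.g_desc ψ hψι, hψ]

end Groth.Agent.Misc15.DefoConnAlg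

namespace Groth.Agent.Misc15.DefoConnAlg

variable {X : Scheme.{u}} {Ω' : X.Modules} {k : Type u} [Field k] [X.Over (Spec (CommRingCat.of k))] {E : X.Modules}
  (D : DefoSh.Defo E (ArtFun.Art.dual k k)) (ι : E ⟶ D.sheaf)
  (hι : D.π ≫ ι = D.act (DualNumber.eps : DualNumber k))

theorem T_smul (a : k) {M N : X.Modules} (φ : M ⟶ N) : T Ω' (a • φ) = a • T Ω' φ := by
  refine AmpleLib.hom_ext fun U x b => ?_
  rw [T_tmul, KLin.smul_app_apply, KLin.smul_app_apply, T_tmul]
  exact tmul_smul_left _ _ _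

include hι in
theorem ι_act (z : ArtFun.Art.dual k k) :
    ι ≫ (D.act z : D.sheaf ⟶ D.sheaf) = (TrivSqZeroExt.fst (show DualNumber k from z)) • ι := by
  rw [act_eq D ι hι z]
  simp only [Preadditive.comp_add, Linear.comp_smul, Category.comp_id]
  rw [← Category.assoc, ι_π D ι hι, zero_comp, smul_zero, add_zero]

include hι in
theorem act_π (z : ArtFun.Art.dual k k) :
    (D.act z : D.sheaf ⟶ D.sheaf) ≫ D.π = (TrivSqZeroExt.fst (show DualNumber k from z)) • D.π := by
  rw [act_eq D ι hι z]
  simp only [Preadditive.add_comp, Linear.smul_comp, Category.id_comp, Category.assoc]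
  rw [ι_π D ι hι, comp_zero, smul_zero, add_zero]

variable {δ : OmegaSh.Der (X ↘ Spec (CommRingCat.of k)) Ω'} {nabla : Coh.toAb E ⟶ Coh.toAb (CohB1.tensorMod E Ω')}

include hι in
/-- the `ε`-part of a deformed connection -/
theorem ι_conn (c : DefoSh.DefoConn δ nabla D) : A ι ≫ c.conn = nabla ≫ A (T Ω' ι) := by
  haveI := epi_π D
  haveI : Epi (A D.π) := epi_A D.π
  rw [← cancel_epi (A D.π), ← Category.assoc, ← A_comp, hι,
    ← horizontal_iff.1 (c.act_horizontal (DualNumber.eps : DualNumber k)), ← hι, T_comp, A_comp,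
    ← Category.assoc, horizontal_iff.1 c.π_horizontal, Category.assoc]

include hι in
theorem mono_T (hE : FlatMod.IsFinLocFree E) : Mono (T Ω' ι) := (shortExact_T hE D ι hι Ω').mono_f

end Groth.Agent.Misc15.DefoConnAlg
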