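import Groth.Agent.Misc15.DivDescentMain

/-! Descent of effective Cartier divisors over a normal base: uniform order along maximal points of fibres. -/

set_option autoImplicit false
set_option backward.isDefEq.respectTransparency false
set_option backward.isDefEq.respectTransparency.types false
universe u

open AlgebraicGeometry CategoryTheory CategoryTheory.Limits TopologicalSpace IsLocalRing

namespace Groth.Agent.Misc15.DivDescent

variable {X Y : Scheme.{u}} [IsLocallyNoetherian X] [IsLocallyNoetherian Y] {f : X ⟶ Y} {J : X.IdealSheafData}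

/-- The fibre over `y` has no embedded associated points. -/
def NoEmb (f : X ⟶ Y) (y : Y) : Prop :=
  ∀ z z' : ↥(f.fiber y),
    IsAssociatedPrime (maximalIdeal ↑((f.fiber y).presheaf.stalk z)) ↑((f.fiber y).presheaf.stalk z) →
    IsAssociatedPrime (maximalIdeal ↑((f.fiber y).presheaf.stalk z')) ↑((f.fiber y).presheaf.stalk z') →
    z' ⤳ z → z' = z

theorem comap_fromSpecStalk_ideal (J : X.IdealSheafData) (x : X) :
    (J.comap (X.fromSpecStalk x)).ideal ⟨⊤, isAffineOpen_top _⟩ =
      (stk J x).map (Scheme.ΓSpecIso (X.presheaf.stalk x)).inv.hom := by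
  obtain ⟨_, ⟨U, hU, rfl⟩, hxU, -⟩ :=
    X.isBasis_affineOpens.exists_subset_of_mem_open (Set.mem_univ x) isOpen_univ
  have htop : (⊤ : (Spec (X.presheaf.stalk x)).Opens) ≤ (X.fromSpecStalk x) ⁻¹ᵁ U := by
    intro p _
    show X.fromSpecStalk x p ∈ U
    have : X.fromSpecStalk x p ⤳ x := by
      have h := ((IsLocalRing.specializes_closedPoint p)).map (X.fromSpecStalk x).continuous
      rwa [Scheme.fromSpecStalk_closedPoint] at h
    exact this.mem_open U.isOpen hxU
  rw [ProjLib.comap_ideal_eq J (X.fromSpecStalk x) ⟨U, hU⟩ ⟨⊤, isAffineOpen_top _⟩ htop,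
    stk_eq J ⟨U, hU⟩ hxU, Ideal.map_map]
  congr 1
  show ((X.fromSpecStalk x).appLE U ⊤ htop).hom =
    (X.presheaf.germ U x hxU ≫ (Scheme.ΓSpecIso (X.presheaf.stalk x)).inv).hom
  rw [Scheme.Hom.appLE, Scheme.fromSpecStalk_app hxU]
  simp only [Category.assoc, ← Functor.map_comp, ← op_comp]
  rw [Subsingleton.elim (homOfLE htop ≫ homOfLE le_top) (𝟙 _), op_id, CategoryTheory.Functor.map_id, Category.comp_id]

theorem comap_fromSpecStalk_ideal_eq_span (J : X.IdealSheafData) (x : X) (a : X.presheaf.stalk x) :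
    (J.comap (X.fromSpecStalk x)).ideal ⟨⊤, isAffineOpen_top _⟩ =
      Ideal.span {(Scheme.ΓSpecIso (X.presheaf.stalk x)).inv a} ↔ stk J x = Ideal.span {a} := by
  rw [comap_fromSpecStalk_ideal]
  constructor
  · intro h
    have h1 := congrArg (Ideal.comap (Scheme.ΓSpecIso (X.presheaf.stalk x)).inv.hom) h
    rw [← Set.image_singleton, ← Ideal.map_span] at h1
    have hb := ConcreteCategory.bijective_of_isIso (Scheme.ΓSpecIso (X.presheaf.stalk x)).inv
    rwa [Ideal.comap_map_of_bijective _ hb, Ideal.comap_map_of_bijective _ hb] at h1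
  · intro h
    rw [h, Ideal.map_span, Set.image_singleton]

theorem φ_nzd [Flat f] {x : X} {y : Y} (hx : f x = y) {π : Y.presheaf.stalk y}
    (hπ0 : π ∈ nonZeroDivisors (Y.presheaf.stalk y)) : φ f hx π ∈ nonZeroDivisors (X.presheaf.stalk x) := by
  letI : Algebra (Y.presheaf.stalk y) (X.presheaf.stalk x) := (φ f hx).toAlgebra
  haveI : Module.Flat (Y.presheaf.stalk y) (X.presheaf.stalk x) := flat_φ f hx
  have h0 := (regular_pair_map (B := X.presheaf.stalk x) (a := π) (b := 1)
    (fun z hz => mem_nonZeroDivisors_iff_right.1 hπ0 z (by rw [mul_comm, hz]))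
    (fun z hz => by rwa [one_mul] at hz)).1
  exact mem_nonZeroDivisors_iff_right.2 fun z hz => h0 z ((mul_comm _ _).trans hz)

theorem φ_spec {z x : X} (h : z ⤳ x) {y : Y} (hz : f z = y) (hx : f x = y) (a : Y.presheaf.stalk y) :
    (X.presheaf.stalkSpecializes h).hom (φ f hx a) = φ f hz a := by
  show ((Y.presheaf.stalkSpecializes _ ≫ f.stalkMap x) ≫ X.presheaf.stalkSpecializes h).hom a =
    (Y.presheaf.stalkSpecializes _ ≫ f.stalkMap z).hom a
  rw [Category.assoc, ← Scheme.Hom.stalkSpecializes_stalkMap f z x h, ← Category.assoc,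
    TopCat.Presheaf.stalkSpecializes_comp]

/-- A generalization lies over `y` iff its prime contains the uniformizer. -/
theorem eq_of_π_mem {z x : X} (h : z ⤳ x) {y : Y} (hx : f x = y) {π : Y.presheaf.stalk y}
    (hπ : maximalIdeal (Y.presheaf.stalk y) = Ideal.span {π}) (hm : φ f hx π ∈ primeOf h) : f z = y := by
  have hzy : f z ⤳ y := hx ▸ h.map f.continuous
  refine eq_of_primeOf_eq hzy (specializes_refl y) ?_
  rw [primeOf_refl, ← primeOf_comap f h rfl hx hzy]
  refine le_antisymm (le_maximalIdeal (Ideal.IsPrime.comap _ (hK := isPrime_primeOf h)).ne_top) ?_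
  rw [hπ, Ideal.span_singleton_le_iff_mem]
  exact hm

theorem π_mem_primeOf {z x : X} (h : z ⤳ x) {y : Y} (hz : f z = y) (hx : f x = y) {π : Y.presheaf.stalk y}
    (hπ : maximalIdeal (Y.presheaf.stalk y) = Ideal.span {π}) : φ f hx π ∈ primeOf h := by
  have h1 := primeOf_comap f h hz hx (specializes_refl y)
  rw [primeOf_refl, hπ] at h1
  exact h1.symm.le (Ideal.mem_span_singleton_self π)

theorem ker_fiberι {y : Y} (t : f.fiber y) {z : X} (ht : f.fiberι y t = z) (hz : f z = y)
    {π : Y.presheaf.stalk y} (hπ : maximalIdeal (Y.presheaf.stalk y) = Ideal.span {π}) :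
    RingHom.ker ((f.fiberι y).stalkMap t).hom =
      Ideal.span {φ f ((congrArg f ht).trans hz) π} := by
  subst ht
  have key : ∀ (x' : X) (hx' : f x' = y),
      (maximalIdeal (Y.presheaf.stalk (f x'))).map (f.stalkMap x').hom = Ideal.span {φ f hx' π} := by
    intro x' hx'
    subst hx'
    rw [φ_rfl, hπ, Ideal.map_span, Set.image_singleton]
  rw [(Props12.stalkMap_fiberι f y t).2]
  exact key _ _

/-- An associated prime of `O_x / π O_x` is an associated point of the fibre. -/
theorem isAssociated_fiber {z x : X} (h : z ⤳ x) {y : Y} (hx : f x = y) {π : Y.presheaf.stalk y}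
    (hπ : maximalIdeal (Y.presheaf.stalk y) = Ideal.span {π})
    (hQ : IsAssociatedPrime (primeOf h) (X.presheaf.stalk x ⧸ Ideal.span {φ f hx π}))
    (t : f.fiber y) (ht : f.fiberι y t = z) :
    IsAssociatedPrime (maximalIdeal ↑((f.fiber y).presheaf.stalk t)) ↑((f.fiber y).presheaf.stalk t) := by
  obtain ⟨hQp, e, he⟩ := isAssociatedPrime_iff.1 hQ
  obtain ⟨e, rfl⟩ := Ideal.Quotient.mk_surjective e
  subst ht
  have hz : f (f.fiberι y t) = y := (f.range_fiberι y).le ⟨t, rfl⟩
  let q := ((f.fiberι y).stalkMap t).hom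
  let σ := (X.presheaf.stalkSpecializes h).hom
  have hker : RingHom.ker q = Ideal.span {σ (φ f hx π)} := by
    rw [φ_spec h hz hx]
    exact ker_fiberι t rfl hz hπ
  have hann : ∀ b, b ∈ primeOf h ↔ φ f hx π ∣ b * e := by
    intro b
    rw [he, Submodule.mem_colon_singleton, Submodule.mem_bot]
    show b • (Ideal.Quotient.mk _ e) = 0 ↔ _
    rw [Algebra.smul_def, Ideal.Quotient.algebraMap_eq, ← map_mul, Ideal.Quotient.eq_zero_iff_mem,
      Ideal.mem_span_singleton]
  have hne : q (σ e) ≠ 0 := by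
    intro h0
    rw [← RingHom.mem_ker, hker, Ideal.mem_span_singleton] at h0
    obtain ⟨s, hs, hd⟩ := (specializes_dvd h).1 h0
    exact hs ((hann s).2 hd)
  haveI : IsNoetherianRing ↑((f.fiber y).presheaf.stalk t) :=
    isNoetherianRing_of_surjective _ _ q ((f.fiberι y).stalkMap_surjective t)
  refine isAssociatedPrime_iff.2 ⟨(maximalIdeal.isMaximal _).isPrime, q (σ e), ?_⟩
  ext b
  rw [Submodule.mem_colon_singleton, Submodule.mem_bot, smul_eq_mul]
  constructor
  · intro hb
    obtain ⟨b, rfl⟩ := (f.fiberι y).stalkMap_surjective t b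
    letI := σ.toAlgebra
    haveI := isLocalization_stalkSpecializes h
    obtain ⟨⟨a, s⟩, has⟩ := IsLocalization.surj
      ((IsUnit.submonoid (X.presheaf.stalk (f.fiberι y t))).comap σ) b
    have hs : IsUnit (σ s) := s.2
    replace has : b * σ s = σ a := has
    have ha : a ∈ primeOf h := by
      by_contra ha
      rw [notMem_primeOf, ← has] at ha
      exact hb ((isUnit_of_mul_isUnit_left ha).map _)
    obtain ⟨w, hw⟩ := (hann a).1 ha
    refine (hs.map q).mul_right_eq_zero.1 ?_
    show q (σ s) * (q b * q (σ e)) = 0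
    rw [← map_mul, ← map_mul, ← RingHom.mem_ker, hker, Ideal.mem_span_singleton]
    exact ⟨σ w, by rw [← map_mul, ← hw, map_mul, ← has]; ring⟩
  · intro hb hu
    exact hne (hu.mul_right_eq_zero.1 hb)

variable [Flat f]

/-- Associated primes of `O_x / π O_x` are the maximal points of the fibre. -/
theorem maximal_of_associated {z x : X} (h : z ⤳ x) {y : Y} (hx : f x = y) {π : Y.presheaf.stalk y}
    (hπ : maximalIdeal (Y.presheaf.stalk y) = Ideal.span {π}) (hfib : NoEmb f y)
    (hQ : IsAssociatedPrime (primeOf h) (X.presheaf.stalk x ⧸ Ideal.span {φ f hx π})) :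
    f z = y ∧ ∀ w, f w = y → w ⤳ z → w = z := by
  have hle : Ideal.span {φ f hx π} ≤ primeOf h := by
    have := hQ.annihilator_le
    rwa [Submodule.annihilator_top, Ideal.annihilator_quotient] at this
  have hz : f z = y := eq_of_π_mem h hx hπ (hle (Ideal.mem_span_singleton_self _))
  refine ⟨hz, fun w hw hwz => ?_⟩
  have := isPrime_primeOf (hwz.trans h)
  obtain ⟨Q', hQ'min, hQ'le⟩ := Ideal.exists_minimalPrimes_le (J := primeOf (hwz.trans h))
    (show Ideal.span {φ f hx π} ≤ _ from
      (Ideal.span_singleton_le_iff_mem _).2 (π_mem_primeOf (hwz.trans h) hw hx hπ))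
  obtain ⟨w', hw'x, rfl⟩ := exists_point Q' hQ'min.1.1
  have hass : IsAssociatedPrime (primeOf hw'x) (X.presheaf.stalk x ⧸ Ideal.span {φ f hx π}) := by
    apply Module.associatedPrimes.minimalPrimes_annihilator_subset_associatedPrimes
    rwa [Ideal.annihilator_quotient]
  have hw' : f w' = y := eq_of_π_mem hw'x hx hπ (hQ'min.1.2 (Ideal.mem_span_singleton_self _))
  obtain ⟨t, ht⟩ : ∃ t, f.fiberι y t = z := ⟨_, f.fiberι_fiberHomeo_symm y ⟨z, hz⟩⟩
  obtain ⟨t', ht'⟩ : ∃ t', f.fiberι y t' = w' := ⟨_, f.fiberι_fiberHomeo_symm y ⟨w', hw'⟩⟩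
  have hsp : ∀ {u v : X} (hu : u ⤳ x) (hv : v ⤳ x), primeOf hu ≤ primeOf hv → u ⤳ v := by
    intro u v hu hv huv
    obtain ⟨_, ⟨U, hU, rfl⟩, hxU, -⟩ :=
      X.isBasis_affineOpens.exists_subset_of_mem_open (Set.mem_univ x) isOpen_univ
    have := Ideal.comap_mono (f := (X.presheaf.germ U x hxU).hom) huv
    rw [comap_germ_primeOf hu hU hxU, comap_germ_primeOf hv hU hxU] at this
    have h2 := ((PrimeSpectrum.le_iff_specializes _ _).1 this).map hU.fromSpec.continuous
    rwa [hU.fromSpec_primeIdealOf, hU.fromSpec_primeIdealOf] at h2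
  have h1 : w' ⤳ w := hsp hw'x (hwz.trans h) hQ'le
  have htt : t' ⤳ t := by
    rw [← (f.fiberι y).isEmbedding.toIsInducing.specializes_iff, ht, ht']
    exact h1.trans hwz
  obtain rfl := hfib t t' (isAssociated_fiber h hx hπ hQ t ht) (isAssociated_fiber hw'x hx hπ hass t' ht') htt
  obtain rfl : w' = z := ht'.symm.trans ht
  exact (hwz.antisymm h1).eq

/-- Descent over a point with discrete valuation local ring, from the orders at maximal points of the fibre. -/
theorem descAt_dvr_of_order (hJ : BlowUp.IsEffCartierIdeal J) (y : Y) (hfib : NoEmb f y)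
    (π : Y.presheaf.stalk y) (hπ : maximalIdeal (Y.presheaf.stalk y) = Ideal.span {π})
    (hπ0 : π ∈ nonZeroDivisors (Y.presheaf.stalk y))
    (hgen : ∀ x : X, f x ⤳ y → f x ≠ y → stk J x = ⊤) (n : ℕ)
    (hord : ∀ (x : X) (hx : f x = y), (∀ z : X, f z = y → z ⤳ x → z = x) →
      stk J x = Ideal.span {φ f hx (π ^ n)}) : DescAt f J y := by
  refine ⟨π ^ n, fun x hx => ?_⟩
  obtain ⟨g, hg, hgJ⟩ := exists_gen hJ x
  let p := φ f hx π
  have hp : p ∈ nonZeroDivisors (X.presheaf.stalk x) := φ_nzd hx hπ0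
  -- at a maximal point of the fibre
  have hloc : ∀ z (h : z ⤳ x), f z = y → (∀ w, f w = y → w ⤳ z → w = z) →
      Ideal.span {(X.presheaf.stalkSpecializes h).hom g} =
        Ideal.span {(X.presheaf.stalkSpecializes h).hom (p ^ n)} := by
    intro z h hz hmax
    have h1 := hord z hz hmax
    rw [stk_specializes J h, hgJ, Ideal.map_span, Set.image_singleton] at h1
    rw [h1, ← φ_spec h hz hx, map_pow (φ f hx)]
  have step : ∀ k ≤ n, p ^ k ∣ g := by
    intro k
    induction k with
    | zero => intro _; simp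
    | succ k ih =>
      intro hk
      obtain ⟨g', hg'⟩ := ih (by omega)
      suffices h : p ∣ g' by rw [hg', pow_succ]; exact mul_dvd_mul_left _ h
      by_contra hnd
      have hne : (Ideal.Quotient.mk (Ideal.span {p})) g' ≠ 0 := by
        rwa [Ne, Ideal.Quotient.eq_zero_iff_mem, Ideal.mem_span_singleton]
      obtain ⟨Q, hQ, hQle⟩ := exists_le_isAssociatedPrime_of_isNoetherianRing (X.presheaf.stalk x)
        (Ideal.Quotient.mk (Ideal.span {p}) g') hne
      obtain ⟨z, hzx, rfl⟩ := exists_point Q hQ.1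
      obtain ⟨hz, hmax⟩ := maximal_of_associated hzx hx hπ hfib hQ
      obtain ⟨w, hw⟩ := Ideal.span_singleton_le_span_singleton.1 (hloc z hzx hz hmax).le
      obtain ⟨s, hs, c, hc⟩ := (specializes_dvd hzx).1 (show (X.presheaf.stalkSpecializes hzx).hom (p ^ n) ∣
        (X.presheaf.stalkSpecializes hzx).hom g from ⟨w, hw⟩)
      have hd : p ∣ s * g' := by
        obtain ⟨d, rfl⟩ : ∃ d, n = k + 1 + d := ⟨n - (k + 1), by omega⟩
        refine ⟨p ^ d * c, (mul_cancel_left_mem_nonZeroDivisors (pow_mem hp k)).1 ?_⟩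
        rw [mul_left_comm, ← hg', hc]; ring
      refine hs (hQle ?_)
      rw [Submodule.mem_colon_singleton, Submodule.mem_bot]
      show s • (Ideal.Quotient.mk _ g') = 0
      rw [Algebra.smul_def, Ideal.Quotient.algebraMap_eq, ← map_mul, Ideal.Quotient.eq_zero_iff_mem,
        Ideal.mem_span_singleton]
      exact hd
  obtain ⟨v, hv⟩ := step n le_rfl
  have hvu : IsUnit v := by
    by_contra hvu
    obtain ⟨Q, hQmin⟩ := (Ideal.nonempty_minimalPrimes (I := Ideal.span {v})
      (fun h => hvu (Ideal.span_singleton_eq_top.1 h)))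
    have hvQ : v ∈ Q := hQmin.1.2 (Ideal.mem_span_singleton_self v)
    have := hQmin.1.1
    obtain ⟨z, hzx, rfl⟩ := exists_point Q hQmin.1.1
    suffices IsUnit ((X.presheaf.stalkSpecializes hzx).hom v) from (notMem_primeOf hzx v).2 this hvQ
    by_cases hpQ : p ∈ primeOf hzx
    · have hz : f z = y := eq_of_π_mem hzx hx hπ hpQ
      have hmax : ∀ w, f w = y → w ⤳ z → w = z := by
        intro w hw hwz
        refine eq_of_primeOf_eq (hwz.trans hzx) hzx ?_
        by_contra hne
        have hle : primeOf (hwz.trans hzx) ≤ primeOf hzx := by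
          intro a ha
          by_contra ha'
          refine (notMem_primeOf (hwz.trans hzx) a).2 ?_ ha
          rw [← TopCat.Presheaf.stalkSpecializes_comp _ hwz hzx]
          exact ((notMem_primeOf hzx a).1 ha').map (X.presheaf.stalkSpecializes hwz).hom
        have hp' : p ∈ primeOf (hwz.trans hzx) := π_mem_primeOf _ hw hx hπ
        have := isPrime_primeOf (hwz.trans hzx)
        obtain ⟨q, hqmin, hqle⟩ := Ideal.exists_minimalPrimes_le (I := ⊥) (J := primeOf (hwz.trans hzx)) bot_le
        have hq := hqmin.1.1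
        have h0 : q ≠ primeOf (hwz.trans hzx) := fun e =>
          Ideal.disjoint_nonZeroDivisors_of_mem_minimalPrimes hqmin |>.ne_of_mem (e.symm ▸ hp') hp rfl
        have h1 := Ideal.height_add_one_le_of_lt_of_isPrime (lt_of_le_of_ne hqle h0)
        have h2 := Ideal.height_add_one_le_of_lt_of_isPrime (lt_of_le_of_ne hle hne)
        have h3 : (primeOf hzx).height ≤ 1 :=
          Ideal.height_le_one_of_isPrincipal_of_mem_minimalPrimes _ _ hQmin
        have h4 : (1 : ℕ∞) ≤ (primeOf (hwz.trans hzx)).height := le_trans le_add_self h1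
        have h5 : (2 : ℕ∞) ≤ 1 := (le_trans (by rw [← one_add_one_eq_two]; gcongr) h2).trans h3
        simp at h5
      have h1 := hloc z hzx hz hmax
      rw [hv, map_mul] at h1
      obtain ⟨c, hc⟩ := Ideal.span_singleton_le_span_singleton.1 h1.ge
      refine isUnit_of_dvd_one ⟨c, ?_⟩
      have hσ : (X.presheaf.stalkSpecializes hzx).hom (p ^ n) ∈ nonZeroDivisors (X.presheaf.stalk z) := by
        rw [map_pow, φ_spec hzx hz hx]
        exact pow_mem (φ_nzd hz hπ0) n
      refine (mul_cancel_left_mem_nonZeroDivisors hσ).1 ?_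
      rw [mul_one, ← mul_assoc]
      exact hc
    · have hne : f z ≠ y := fun e => hpQ (π_mem_primeOf hzx e hx hπ)
      have h1 := hgen z (hx ▸ hzx.map f.continuous) hne
      rw [stk_specializes J hzx, hgJ, Ideal.map_span, Set.image_singleton, Ideal.span_singleton_eq_top, hv,
        map_mul] at h1
      exact isUnit_of_mul_isUnit_right h1
  rw [hgJ, hv, map_pow]
  exact le_antisymm (Ideal.span_singleton_le_span_singleton.2 (Dvd.intro _ rfl))
    (Ideal.span_singleton_le_span_singleton.2 (hvu.mul_right_dvd.2 dvd_rfl))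

end Groth.Agent.Misc15.DivDescent
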