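import Mathlib.LinearAlgebra.TensorProduct.RightExactness
import Mathlib.LinearAlgebra.TensorProduct.Basis
import Mathlib.RingTheory.TensorProduct.Maps
import Mathlib.RingTheory.Flat.Basic
import Mathlib.LinearAlgebra.Basis.VectorSpace

/-! The ideal cutting out the points `x` at which `(id ⊗ x) ∘ θ` lands in `B ⊗ R ⊆ C ⊗ R`. -/

set_option autoImplicit false
universe u

open scoped TensorProduct

noncomputable section

namespace Groth.Agent.Misc15.ExtendIdeal

variable {k : Type u} [Field k]

theorem eq_zero_of_dual {W R : Type u} [AddCommGroup W] [Module k W] [AddCommGroup R] [Module k R] (z : W ⊗[k] R)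
    (h : ∀ ℓ : W →ₗ[k] k, TensorProduct.lid k R (LinearMap.rTensor R ℓ z) = 0) : z = 0 := by
  classical
  let b := Module.Free.chooseBasis k W
  let e := TensorProduct.equivFinsuppOfBasisLeft (N := R) b
  apply e.injective
  rw [map_zero]
  ext i
  have hi := h (b.coord i)
  rw [Finsupp.zero_apply, ← hi]
  clear hi h
  induction z using TensorProduct.induction_on with
  | zero => simp
  | tmul w r => simp [e]
  | add x y hx hy => simp [hx, hy]

theorem exists_ideal {A B C : Type u} [CommRing A] [CommRing B] [CommRing C] [Algebra k A] [Algebra k B]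
    [Algebra k C] (ι : B →ₐ[k] C) (θ : A →ₐ[k] C ⊗[k] A) :
    ∃ I : Ideal A, ∀ (R : Type u) [CommRing R] [Algebra k R] (x : A →ₐ[k] R),
      I ≤ RingHom.ker x ↔
        ∀ a, Algebra.TensorProduct.map (AlgHom.id k C) x (θ a) ∈
          Set.range (Algebra.TensorProduct.map ι (AlgHom.id k R)) := by
  let π : C →ₗ[k] C ⧸ LinearMap.range ι.toLinearMap := (LinearMap.range ι.toLinearMap).mkQ
  let F : ((C ⧸ LinearMap.range ι.toLinearMap) →ₗ[k] k) → A → A := fun ℓ a =>
    TensorProduct.lid k A (LinearMap.rTensor A (ℓ.comp π) (θ a))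
  refine ⟨Ideal.span (Set.range (Function.uncurry F)), fun R _ _ x => ?_⟩
  have hex : Function.Exact (LinearMap.rTensor R ι.toLinearMap) (LinearMap.rTensor R π) :=
    rTensor_exact R (LinearMap.exact_map_mkQ_range _) (Submodule.mkQ_surjective _)
  have hF : ∀ ℓ a, x (F ℓ a) = TensorProduct.lid k R (LinearMap.rTensor R (ℓ.comp π)
      (Algebra.TensorProduct.map (AlgHom.id k C) x (θ a))) := by
    intro ℓ a
    simp only [F]
    generalize θ a = w
    induction w using TensorProduct.induction_on with
    | zero => simp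
    | tmul c r => simp
    | add y z hy hz => simp only [map_add, hy, hz]
  have hmap : (Algebra.TensorProduct.map ι (AlgHom.id k R)).toLinearMap = LinearMap.rTensor R ι.toLinearMap := by
    ext b r
    simp
  have hr : ∀ w : C ⊗[k] R, w ∈ Set.range (Algebra.TensorProduct.map ι (AlgHom.id k R)) ↔
      ∀ ℓ : (C ⧸ LinearMap.range ι.toLinearMap) →ₗ[k] k,
        TensorProduct.lid k R (LinearMap.rTensor R (ℓ.comp π) w) = 0 := by
    intro w
    rw [← AlgHom.coe_toLinearMap, hmap]
    refine (hex w).symm.trans ⟨fun h ℓ => ?_, fun h => eq_zero_of_dual _ fun ℓ => ?_⟩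
    · rw [LinearMap.rTensor_comp, LinearMap.comp_apply, h, map_zero, map_zero]
    · rw [← LinearMap.comp_apply (LinearMap.rTensor R ℓ), ← LinearMap.rTensor_comp]
      exact h ℓ
  rw [Ideal.span_le]
  constructor
  · intro h a
    rw [hr]
    intro ℓ
    rw [← hF]
    exact h ⟨(ℓ, a), rfl⟩
  · rintro h _ ⟨⟨ℓ, a⟩, rfl⟩
    show x (F ℓ a) = 0
    rw [hF]
    exact (hr _).1 (h a) ℓ

end Groth.Agent.Misc15.ExtendIdeal
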