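import Groth.Agent.Misc15.LiftLevels
import Groth.Agent.S18294

/-! Lifting equivariant morphisms out of `A(N) × T` along étale morphisms, given a lift on a face. -/

set_option autoImplicit false
universe u

noncomputable section

open CategoryTheory CategoryTheory.Limits MonoidalCategory CartesianMonoidalCategory MonObj AlgebraicGeometry Opposite
open Magnet

namespace Groth.Agent.Misc15.FaceLift

open Groth.Agent.Misc15.MagnetPointsS
open Groth.Agent.Misc15.HeightFilt (Height J)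
open Groth.Agent.Misc15.FiltExt (sp sp_comp)

variable {S : Scheme.{u}} {M : Type} [AddCommGroup M] {N Q : AddSubmonoid M} (h : Height N Q)
  {U X : Over S} {f : U ⟶ X}

/-- a lift along an étale morphism is determined by its restriction to the face -/
theorem ext_of_face [IsSeparated U.hom] [Etale f.left] {T : Over S} (ψ ψ' : AMonS S N ⊗ T ⟶ U)
    (hf : ψ ≫ f = ψ' ≫ f)
    (hq : (AMonS.faceMap S h.face ▷ T) ≫ ψ = (AMonS.faceMap S h.face ▷ T) ≫ ψ') : ψ = ψ' := by
  refine hom_ext_univPoint _ _ fun R _ s j => ?_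
  let anti : ∀ {m n : ℕ}, m ≤ n → J h R n ≤ J h R m := fun hmn => HeightFilt.J_anti h R hmn
  have sq : ∀ n, 1 ≤ n → J h R n * J h R n ≤ J h R (n + 1) := fun n hn =>
    (HeightFilt.J_mul_le h R n n).trans (HeightFilt.J_anti h R (by omega))
  refine FiltExt.eq_of_forall_quot (J h R) (HeightFilt.eq_zero_of_forall h R) _ _ fun n => ?_
  suffices key : sp (Ideal.Quotient.mk (J h R (n + 1))) ≫ (univPoint N R s j ≫ ψ).left =
      sp (Ideal.Quotient.mk (J h R (n + 1))) ≫ (univPoint N R s j ≫ ψ').left by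
    rw [← Ideal.Quotient.factor_comp_mk (anti (Nat.le_succ n)), sp_comp, Category.assoc, Category.assoc, key]
  refine FiltExt.ext_level (J h R) anti sq f.left (show 1 ≤ n + 1 by omega) _ _ ?_ ?_
  · simp only [Category.assoc, ← Over.comp_left, hf]
  · have hface : sp (FacePushout.faceHom R h.face) ≫ (univPoint N R s j ≫ ψ).left =
        sp (FacePushout.faceHom R h.face) ≫ (univPoint N R s j ≫ ψ').left := by
      have e := FacePushout.spec_face_univPoint s h.face j
      show (FacePushout.specHom s _ (FacePushout.faceHom_algebraMap R h.face) ≫ univPoint N R s j ≫ ψ).left =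
        (FacePushout.specHom s _ (FacePushout.faceHom_algebraMap R h.face) ≫ univPoint N R s j ≫ ψ').left
      rw [reassoc_of% e, reassoc_of% e, hq]
    have e1 : ((Ideal.Quotient.mk (J h R 1)).comp (FacePushout.inclHom R h.face.le)).comp
        (FacePushout.faceHom R h.face) = Ideal.Quotient.mk (J h R 1) :=
      RingHom.ext fun w => (Ideal.Quotient.eq.2 (HeightFilt.sub_incl_face_mem h R w)).symm
    rw [← Category.assoc, ← Category.assoc, ← sp_comp, Ideal.Quotient.factor_comp_mk, ← e1, sp_comp,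
      Category.assoc, Category.assoc, hface]

variable [AddGroup.FG M] {aU : MonAct (AMonS S M) U} {aX : MonAct (AMonS S M) X}

/-- lifts exist -/
theorem exists_lift [IsAffineHom U.hom] [Etale f.left] (hf : MonAct.IsEquivariant aU aX f) {T : Over S}
    (φ : (attr aX N).obj (op T)) (u : (attr aU Q).obj (op T))
    (huf : u.1 ≫ f = (AMonS.faceMap S h.face ▷ T) ≫ φ.1) :
    ∃ ψ : (attr aU N).obj (op T), ψ.1 ≫ f = φ.1 ∧ (AMonS.faceMap S h.face ▷ T) ≫ ψ.1 = u.1 := by
  classical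
  have hsep : IsSeparated U.hom := inferInstance
  have hc : ∀ p : T.left, ∃ V : S.Opens, IsAffineOpen V ∧ ∃ W : T.left.Opens, IsAffineOpen W ∧ p ∈ W ∧
      W ≤ T.hom ⁻¹ᵁ V := by
    intro p
    obtain ⟨V, hV, hpV, -⟩ := exists_isAffineOpen_mem_and_subset (x := T.hom p) (U := ⊤) trivial
    obtain ⟨W, hW, hpW, hle⟩ := exists_isAffineOpen_mem_and_subset (x := p) (U := T.hom ⁻¹ᵁ V) hpV
    exact ⟨V, hV, W, hW, hpW, hle⟩
  choose V hV W hW hpW hle using hc
  let 𝒱 : Scheme.OpenCover.{u} T.left := Scheme.Cover.mkOfCovers T.left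
    (fun p => Spec Γ(T.left, W p)) (fun p => (hW p).fromSpec)
    (fun p => ⟨p, by
      have : p ∈ Set.range (hW p).fromSpec := by rw [(hW p).range_fromSpec]; exact hpW p
      exact this⟩) (fun p => inferInstance)
  let R : Sieve T := (Sieve.overEquiv T).symm (Sieve.ofArrows 𝒱.X 𝒱.f)
  have hR : R ∈ (QuotSh.J Scheme.fppfPrecoverage S) T := by
    refine GrothendieckTopology.overEquiv_symm_mem_over _ T _ ?_
    exact Precoverage.toGrothendieck_mono Scheme.zariskiPrecoverage_le_fppfPrecoverage _ 𝒱.mem_grothendieckTopology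
  have hmem : ∀ (W' : Over S) (b : W' ⟶ T), R b → ∃ ψ : (attr aU N).obj (op W'),
      ψ.1 ≫ f = (AMonS S N ◁ b) ≫ φ.1 ∧
      (AMonS.faceMap S h.face ▷ W') ≫ ψ.1 = (AMonS S Q ◁ b) ≫ u.1 := by
    intro W' b hb
    rw [Sieve.overEquiv_symm_iff] at hb
    obtain ⟨_, c, _, ⟨p⟩, hc⟩ := hb
    let sK : Spec Γ(T.left, W p) ⟶ S := (hW p).fromSpec ≫ T.hom
    let r : Over.mk sK ⟶ T := Over.homMk (hW p).fromSpec rfl
    let c' : W' ⟶ Over.mk sK := Over.homMk c (by
      show c ≫ 𝒱.f p ≫ T.hom = W'.hom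
      rw [← Category.assoc, hc, Over.w b])
    have hb' : b = c' ≫ r := by ext1; exact hc.symm
    obtain ⟨ψ₀, hψe, hψf, hψq⟩ := LiftLevels.exists_lift_affine h aU aX hf sK (hV p) (by
      rintro _ ⟨z, rfl⟩
      refine hle p ?_
      have : (hW p).fromSpec z ∈ Set.range (hW p).fromSpec := ⟨z, rfl⟩
      rw [(hW p).range_fromSpec] at this
      exact this)
      ((attr aX N).map r.op φ).1 ((attr aX N).map r.op φ).2 ((attr aU Q).map r.op u).1 ((attr aU Q).map r.op u).2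
      (by
        show ((AMonS S Q ◁ r) ≫ u.1) ≫ f = (AMonS.faceMap S h.face ▷ _) ≫ (AMonS S N ◁ r) ≫ φ.1
        rw [Category.assoc, huf, ← whisker_exchange_assoc])
    refine ⟨(attr aU N).map c'.op ⟨ψ₀, hψe⟩, ?_, ?_⟩
    · show ((AMonS S N ◁ c') ≫ ψ₀) ≫ f = _
      rw [Category.assoc, hψf, hb']
      show (AMonS S N ◁ c') ≫ (AMonS S N ◁ r) ≫ φ.1 = _
      rw [← MonoidalCategory.whiskerLeft_comp_assoc]
    · show (AMonS.faceMap S h.face ▷ W') ≫ (AMonS S N ◁ c') ≫ ψ₀ = _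
      rw [← whisker_exchange_assoc, hψq, hb']
      show (AMonS S Q ◁ c') ≫ (AMonS S Q ◁ r) ≫ u.1 = _
      rw [← MonoidalCategory.whiskerLeft_comp_assoc]
  choose ψ hψf hψq using hmem
  let fam : Presieve.FamilyOfElements (attr aU N) R.arrows := fun W' b hb => ψ W' b hb
  have hfam : fam.Compatible := by
    intro W₁ W₂ W' g₁ g₂ b₁ b₂ h₁ h₂ hcc
    refine Subtype.ext (ext_of_face (f := f) h _ _ ?_ ?_)
    · show ((AMonS S N ◁ g₁) ≫ (ψ W₁ b₁ h₁).1) ≫ f = ((AMonS S N ◁ g₂) ≫ (ψ W₂ b₂ h₂).1) ≫ f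
      rw [Category.assoc, Category.assoc, hψf, hψf, ← MonoidalCategory.whiskerLeft_comp_assoc, hcc,
        MonoidalCategory.whiskerLeft_comp_assoc]
    · show (AMonS.faceMap S h.face ▷ W') ≫ (AMonS S N ◁ g₁) ≫ (ψ W₁ b₁ h₁).1 =
        (AMonS.faceMap S h.face ▷ W') ≫ (AMonS S N ◁ g₂) ≫ (ψ W₂ b₂ h₂).1
      rw [← whisker_exchange_assoc, ← whisker_exchange_assoc, hψq, hψq, ← MonoidalCategory.whiskerLeft_comp_assoc,
        hcc, MonoidalCategory.whiskerLeft_comp_assoc]
  obtain ⟨Ψ, hΨ, -⟩ := ((isSheaf_iff_isSheaf_of_type _ _).1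
    (Groth.Agent.S18294.result S (AMonS S M) (AMonS S N) U (subAct S M N) aU)) R hR fam hfam
  have hΨ' : ∀ W' (b : W' ⟶ T) (hb : R b), (AMonS S N ◁ b) ≫ Ψ.1 = (ψ W' b hb).1 := fun W' b hb =>
    congrArg Subtype.val (hΨ b hb)
  refine ⟨Ψ, congrArg Subtype.val (((isSheaf_iff_isSheaf_of_type _ _).1
    (Groth.Agent.S18294.result S (AMonS S M) (AMonS S N) X (subAct S M N) aX) R hR).isSeparatedFor.ext
    (t₁ := (MonAct.eqvHom.postcomp (subAct S M N) f hf).app (op T) Ψ) (t₂ := φ) fun W' b hb => Subtype.ext ?_),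
    congrArg Subtype.val (((isSheaf_iff_isSheaf_of_type _ _).1
    (Groth.Agent.S18294.result S (AMonS S M) (AMonS S Q) U (subAct S M Q) aU) R hR).isSeparatedFor.ext
    (t₁ := (attrFace aU h.face).app (op T) Ψ) (t₂ := u) fun W' b hb => Subtype.ext ?_)⟩
  · show (AMonS S N ◁ b) ≫ Ψ.1 ≫ f = (AMonS S N ◁ b) ≫ φ.1
    rw [← Category.assoc, hΨ' W' b hb, hψf]
  · show (AMonS S Q ◁ b) ≫ (AMonS.faceMap S h.face ▷ T) ≫ Ψ.1 = (AMonS S Q ◁ b) ≫ u.1
    rw [whisker_exchange_assoc, hΨ' W' b hb, hψq]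

end Groth.Agent.Misc15.FaceLift
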