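import Groth.Agent.Misc15.TPoints
import Groth.Agent.KerEval.Ferrand

/-! Push-out squares of diagonalizable monoid schemes along face morphisms, stable under base change. -/

set_option autoImplicit false
universe u

noncomputable section

open CategoryTheory CategoryTheory.Limits MonoidalCategory CartesianMonoidalCategory MonObj AlgebraicGeometry Opposite
open Magnet

namespace Groth.Agent.Misc15.FacePushout

open Groth.Agent.Misc15.MagnetPoints (Z algZ charEquiv)
open Groth.Agent.Misc15.MagnetPointsS Groth.Agent.Misc15.AMonCover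
open Groth.Agent.KerEval (Sq)

variable {S : Scheme.{u}} {M : Type} [AddCommMonoid M]

/-- `K[B] → K[A]` for `B ≤ A`, ring map -/
abbrev inclHom (K : Type u) [CommRing K] {A B : AddSubmonoid M} (h : B ≤ A) : MA K B →+* MA K A :=
  MonoidAlgebra.mapDomainRingHom K (AddMonoidHom.toMultiplicative (AddSubmonoid.inclusion h))

/-- the face projection as a ring map -/
abbrev faceHom (K : Type u) [CommRing K] {A F : AddSubmonoid M} (h : IsFace A F) : MA K A →+* MA K F :=
  (faceAlgHom K h).toRingHom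

/-- the morphism on affine pieces belonging to a `K`-algebra map of monoid algebras -/
def specHom {K : Type u} [CommRing K] (sK : Spec (CommRingCat.of K) ⟶ S) {A B : AddSubmonoid M}
    (φ : MA K B →+* MA K A) (hφ : φ.comp (algebraMap K (MA K B)) = algebraMap K (MA K A)) :
    Over.mk (univBase A K sK) ⟶ Over.mk (univBase B K sK) :=
  Over.homMk (Spec.map (CommRingCat.ofHom φ)) (by
    show _ ≫ Spec.map _ ≫ sK = Spec.map _ ≫ sK
    rw [← Spec.map_comp_assoc, ← CommRingCat.ofHom_comp, hφ])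

theorem inclHom_algebraMap (K : Type u) [CommRing K] {A B : AddSubmonoid M} (h : B ≤ A) :
    (inclHom K h).comp (algebraMap K (MA K B)) = algebraMap K (MA K A) :=
  (MonoidAlgebra.mapDomainAlgHom K K (AddMonoidHom.toMultiplicative (AddSubmonoid.inclusion h))).comp_algebraMap

theorem faceHom_algebraMap (K : Type u) [CommRing K] {A F : AddSubmonoid M} (h : IsFace A F) :
    (faceHom K h).comp (algebraMap K (MA K A)) = algebraMap K (MA K F) :=
  (faceAlgHom K h).comp_algebraMap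

variable {K : Type u} [CommRing K] (sK : Spec (CommRingCat.of K) ⟶ S) {T : Over S}

theorem spec_incl_univPoint {A B : AddSubmonoid M} (h : B ≤ A) (j : Over.mk sK ⟶ T) :
    specHom sK (inclHom K h) (inclHom_algebraMap K h) ≫ univPoint B K sK j =
      univPoint A K sK j ≫ (AMonS.map S (AddSubmonoid.inclusion h) ▷ T) := by
  rw [univPoint, univPoint, comp_lift, comp_P _ _ (inclHom K h) (specHom sK _ (inclHom_algebraMap K h)) rfl,
    lift_whiskerRight, P_comp_map, ← Category.assoc]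
  congr 1
  · congr 1
    refine MonoidHom.ext fun n => ?_
    exact MonoidAlgebra.mapDomain_single
  · congr 1
    ext1
    show Spec.map _ ≫ Spec.map _ = Spec.map _
    rw [← Spec.map_comp, ← CommRingCat.ofHom_comp, inclHom_algebraMap]

theorem face_char (K : Type u) [CommRing K] {A F : AddSubmonoid M} (h : IsFace A F) :
    letI := algZ (MA K F)
    (faceHom K h : MA K A →* MA K F).comp (MonoidAlgebra.of K (Multiplicative A)) =
      (charEquiv (MA K F) A).symm ((charEquiv (MA K F) F (MonoidAlgebra.of K (Multiplicative F))).comp (faceAlgHom Z.{u} h)) := by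
  letI := algZ (MA K F)
  refine MonoidHom.ext fun n => ?_
  obtain ⟨n, rfl⟩ : ∃ m, Multiplicative.ofAdd m = n := ⟨n.toAdd, rfl⟩
  show faceAlgHom K h (MonoidAlgebra.single (Multiplicative.ofAdd n) 1) =
    charEquiv (MA K F) F (MonoidAlgebra.of K (Multiplicative F))
      (faceAlgHom Z.{u} h (MonoidAlgebra.single (Multiplicative.ofAdd n) 1))
  by_cases hn : (n : M) ∈ F
  · rw [faceAlgHom_single_of_mem K h n hn, faceAlgHom_single_of_mem Z.{u} h n hn, charEquiv,
      MonoidAlgebra.lift_single]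
    erw [Algebra.smul_def, map_one, _root_.one_mul]
    rfl
  · rw [faceAlgHom_single_of_not_mem K h n hn, faceAlgHom_single_of_not_mem Z.{u} h n hn, map_zero]

theorem spec_face_univPoint {A F : AddSubmonoid M} (h : IsFace A F) (j : Over.mk sK ⟶ T) :
    specHom sK (faceHom K h) (faceHom_algebraMap K h) ≫ univPoint A K sK j =
      univPoint F K sK j ≫ (AMonS.faceMap S h ▷ T) := by
  rw [univPoint, univPoint, comp_lift, comp_P _ _ (faceHom K h) (specHom sK _ (faceHom_algebraMap K h)) rfl,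
    lift_whiskerRight, TPoints.P_comp_faceMap, ← Category.assoc, face_char]
  have e : specHom sK (faceHom K h) (faceHom_algebraMap K h) ≫ univProj A K sK = univProj F K sK := by
    ext1
    show Spec.map _ ≫ Spec.map _ = Spec.map _
    rw [← Spec.map_comp, ← CommRingCat.ofHom_comp, faceHom_algebraMap]
  rw [e]

variable {N N' L L' : AddSubmonoid M} (hNL : N ≤ L) (hN'L' : N' ≤ L') (hL : IsFace L' L) (hN : IsFace N' N)
  (hdiff : (N' : Set M) = (L' : Set M) \ ((L : Set M) \ (N : Set M)))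

include hdiff in
theorem mem_iff (x : M) : x ∈ N' ↔ x ∈ L' ∧ (x ∈ L → x ∈ N) := by
  rw [← SetLike.mem_coe, hdiff]
  simp only [Set.mem_diff, SetLike.mem_coe, not_and, not_not]

theorem face_coeff {A F : AddSubmonoid M} (h : IsFace A F) (a : MA K A) (x : F) :
    (faceHom K h a).coeff (Multiplicative.ofAdd x) =
      a.coeff (Multiplicative.ofAdd (AddSubmonoid.inclusion h.le x)) := by
  classical
  induction a using MonoidAlgebra.induction_linear with
  | zero => simp
  | add p q hp hq => rw [map_add, MonoidAlgebra.coeff_add, MonoidAlgebra.coeff_add, Finsupp.add_apply, Finsupp.add_apply, hp, hq]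
  | single n r =>
    obtain ⟨n, rfl⟩ : ∃ m, Multiplicative.ofAdd m = n := ⟨n.toAdd, rfl⟩
    show (faceAlgHom K h (MonoidAlgebra.single (Multiplicative.ofAdd n) r)).coeff _ = _
    by_cases hn : (n : M) ∈ F
    · rw [faceAlgHom_single_of_mem K h n hn, MonoidAlgebra.coeff_single, MonoidAlgebra.coeff_single,
        Finsupp.single_apply, Finsupp.single_apply]
      congr 1
      simp [Subtype.ext_iff]
    · rw [faceAlgHom_single_of_not_mem K h n hn, MonoidAlgebra.coeff_zero, Finsupp.zero_apply,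
        MonoidAlgebra.coeff_single, Finsupp.single_apply, if_neg]
      intro he
      exact hn (by rw [congrArg Subtype.val (Multiplicative.ofAdd.injective he)]; exact x.2)

theorem incl_coeff {A B : AddSubmonoid M} (h : B ≤ A) (a : MA K B) (x : B) :
    (inclHom K h a).coeff (Multiplicative.ofAdd (AddSubmonoid.inclusion h x)) = a.coeff (Multiplicative.ofAdd x) := by
  rw [inclHom, MonoidAlgebra.mapDomainRingHom_apply, MonoidAlgebra.coeff_mapDomain]
  have hi : Function.Injective (AddMonoidHom.toMultiplicative (AddSubmonoid.inclusion h)) := fun p q hpq =>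
    Multiplicative.toAdd.injective (Subtype.ext (congrArg (fun z : Multiplicative A => (z.toAdd : M)) hpq))
  exact Finsupp.mapDomain_apply hi _ (Multiplicative.ofAdd x)

theorem incl_coeff_notMem {A B : AddSubmonoid M} (h : B ≤ A) (a : MA K B) (x : A) (hx : (x : M) ∉ B) :
    (inclHom K h a).coeff (Multiplicative.ofAdd x) = 0 := by
  rw [inclHom, MonoidAlgebra.mapDomainRingHom_apply, MonoidAlgebra.coeff_mapDomain]
  refine Finsupp.mapDomain_notin_range _ _ ?_
  rintro ⟨y, hy⟩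
  have e : (y.toAdd : M) = (x : M) := congrArg (fun z : Multiplicative A => (z.toAdd : M)) hy
  exact hx (e ▸ y.toAdd.2)

variable (K)

/-- `K[N'] = K[L'] ×_{K[L]} K[N]` -/
def sq : Sq (MA K N') (MA K N) (MA K L') (MA K L) where
  f := faceHom K hN
  g := inclHom K hN'L'
  q := inclHom K hNL
  p := faceHom K hL
  surj := fun b => by
    classical
    induction b using MonoidAlgebra.induction_linear with
    | zero => exact ⟨0, map_zero _⟩
    | add p q hp hq =>
      obtain ⟨a, rfl⟩ := hp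
      obtain ⟨a', rfl⟩ := hq
      exact ⟨a + a', map_add _ _ _⟩
    | single x r =>
      exact ⟨MonoidAlgebra.single (Multiplicative.ofAdd (AddSubmonoid.inclusion hL.le x.toAdd)) r,
        faceAlgHom_single_of_mem K hL (AddSubmonoid.inclusion hL.le x.toAdd) x.toAdd.2 r⟩
  comm := fun c => by
    refine MonoidAlgebra.ext (Finsupp.ext fun x => ?_)
    obtain ⟨x, rfl⟩ : ∃ m, Multiplicative.ofAdd m = x := ⟨x.toAdd, rfl⟩
    rw [face_coeff hL]
    by_cases hx : (x : M) ∈ N
    · obtain ⟨y, rfl⟩ : ∃ y : N, AddSubmonoid.inclusion hNL y = x := ⟨⟨x, hx⟩, rfl⟩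
      rw [incl_coeff, face_coeff hN, show AddSubmonoid.inclusion hL.le (AddSubmonoid.inclusion hNL y) =
        AddSubmonoid.inclusion hN'L' (AddSubmonoid.inclusion hN.le y) from rfl, incl_coeff]
    · rw [incl_coeff_notMem hNL _ _ hx, incl_coeff_notMem hN'L' _ _ (fun h => hx (((mem_iff hdiff _).1 h).2 x.2))]
  exist := fun a b h => by
    classical
    let c : MA K N' := MonoidAlgebra.ofCoeff (b.coeff.comapDomain
      (AddMonoidHom.toMultiplicative (AddSubmonoid.inclusion hN'L'))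
      (fun p _ q _ hpq => Multiplicative.toAdd.injective
        (Subtype.ext (congrArg (fun z : Multiplicative L' => (z.toAdd : M)) hpq))))
    have hc : ∀ x : N', c.coeff (Multiplicative.ofAdd x) =
        b.coeff (Multiplicative.ofAdd (AddSubmonoid.inclusion hN'L' x)) := fun x => by
      simp [c]
    refine ⟨c, MonoidAlgebra.ext (Finsupp.ext fun x => ?_), MonoidAlgebra.ext (Finsupp.ext fun x => ?_)⟩
    · obtain ⟨x, rfl⟩ : ∃ m, Multiplicative.ofAdd m = x := ⟨x.toAdd, rfl⟩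
      rw [face_coeff hN, hc]
      have h1 := congrArg (fun w : MA K L => w.coeff (Multiplicative.ofAdd (AddSubmonoid.inclusion hNL x))) h
      simp only [incl_coeff, face_coeff] at h1
      exact h1.symm
    · obtain ⟨x, rfl⟩ : ∃ m, Multiplicative.ofAdd m = x := ⟨x.toAdd, rfl⟩
      by_cases hx : (x : M) ∈ N'
      · obtain ⟨y, rfl⟩ : ∃ y : N', AddSubmonoid.inclusion hN'L' y = x := ⟨⟨x, hx⟩, rfl⟩
        rw [incl_coeff, hc]
      · rw [incl_coeff_notMem hN'L' _ _ hx]
        rw [mem_iff hdiff] at hx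
        push_neg at hx
        obtain ⟨hxL, hxN⟩ := hx x.2
        have h1 := congrArg (fun w : MA K L => w.coeff (Multiplicative.ofAdd (⟨(x : M), hxL⟩ : L))) h
        simp only [face_coeff] at h1
        rw [incl_coeff_notMem hNL _ _ (by exact hxN)] at h1
        exact h1
  ext := fun c c' _ h => by
    refine MonoidAlgebra.ext (Finsupp.ext fun x => ?_)
    obtain ⟨x, rfl⟩ : ∃ m, Multiplicative.ofAdd m = x := ⟨x.toAdd, rfl⟩
    rw [← incl_coeff hN'L', ← incl_coeff hN'L', h]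

variable {K} {X : Over S}

include hNL hdiff in
theorem hom_ext_affine' (f g : AMonS S N' ⊗ Over.mk sK ⟶ X)
    (h₁ : (AMonS.map S (AddSubmonoid.inclusion hN'L') ▷ _) ≫ f = (AMonS.map S (AddSubmonoid.inclusion hN'L') ▷ _) ≫ g)
    (h₂ : (AMonS.faceMap S hN ▷ _) ≫ f = (AMonS.faceMap S hN ▷ _) ≫ g) (hL : IsFace L' L) : f = g := by
  have := isIso_univPoint (N := N') K sK
  rw [← cancel_epi (univPoint N' K sK (𝟙 _))]
  apply Over.OverMorphism.ext
  refine (sq K hNL hN'L' hL hN hdiff).hom_ext _ _ ?_ ?_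
  · have := congrArg (fun m => (univPoint N K sK (𝟙 _) ≫ m).left) h₂
    simp only [← reassoc_of% (spec_face_univPoint sK hN (𝟙 _))] at this
    exact this
  · have := congrArg (fun m => (univPoint L' K sK (𝟙 _) ≫ m).left) h₁
    simp only [← reassoc_of% (spec_incl_univPoint sK hN'L' (𝟙 _))] at this
    exact this

include hdiff in
theorem exists_hom_affine (f₁ : AMonS S L' ⊗ Over.mk sK ⟶ X) (f₂ : AMonS S N ⊗ Over.mk sK ⟶ X)
    (w : (AMonS.faceMap S hL ▷ _) ≫ f₁ = (AMonS.map S (AddSubmonoid.inclusion hNL) ▷ _) ≫ f₂) :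
    ∃ φ : AMonS S N' ⊗ Over.mk sK ⟶ X,
      (AMonS.map S (AddSubmonoid.inclusion hN'L') ▷ _) ≫ φ = f₁ ∧ (AMonS.faceMap S hN ▷ _) ≫ φ = f₂ := by
  have := isIso_univPoint (N := N') K sK
  have := isIso_univPoint (N := L') K sK
  have := isIso_univPoint (N := N) K sK
  let g₁ := univPoint L' K sK (𝟙 _) ≫ f₁
  let g₂ := univPoint N K sK (𝟙 _) ≫ f₂
  have hw : specHom sK (inclHom K hNL) (inclHom_algebraMap K hNL) ≫ g₂ =
      specHom sK (faceHom K hL) (faceHom_algebraMap K hL) ≫ g₁ := by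
    rw [reassoc_of% (spec_incl_univPoint sK hNL (𝟙 _)), reassoc_of% (spec_face_univPoint sK hL (𝟙 _)), w]
  obtain ⟨m, hm₁, hm₂⟩ := (sq K hNL hN'L' hL hN hdiff).exists_hom g₂.left g₁.left (congrArg Over.Hom.left hw)
  have hm : m ≫ X.hom = univBase N' K sK := by
    refine (sq K hNL hN'L' hL hN hdiff).hom_ext _ _ ?_ ?_
    · rw [← Category.assoc, hm₁, Over.w g₂]
      exact (Over.w (specHom sK _ (faceHom_algebraMap K hN))).symm
    · rw [← Category.assoc, hm₂, Over.w g₁]
      exact (Over.w (specHom sK _ (inclHom_algebraMap K hN'L'))).symm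
  let m' : Over.mk (univBase N' K sK) ⟶ X := Over.homMk m hm
  refine ⟨inv (univPoint N' K sK (𝟙 _)) ≫ m', ?_, ?_⟩
  · rw [← cancel_epi (univPoint L' K sK (𝟙 _)), ← reassoc_of% (spec_incl_univPoint sK hN'L' (𝟙 _)),
      IsIso.hom_inv_id_assoc]
    exact Over.OverMorphism.ext hm₂
  · rw [← cancel_epi (univPoint N K sK (𝟙 _)), ← reassoc_of% (spec_face_univPoint sK hN (𝟙 _)),
      IsIso.hom_inv_id_assoc]
    exact Over.OverMorphism.ext hm₁

include hNL hL hdiff in
theorem hom_ext (f g : AMonS S N' ⊗ T ⟶ X)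
    (h₁ : (AMonS.map S (AddSubmonoid.inclusion hN'L') ▷ T) ≫ f = (AMonS.map S (AddSubmonoid.inclusion hN'L') ▷ T) ≫ g)
    (h₂ : (AMonS.faceMap S hN ▷ T) ≫ f = (AMonS.faceMap S hN ▷ T) ≫ g) : f = g := by
  apply hom_ext_univPoint
  intro R _ s j
  have e : univPoint N' R s j = univPoint N' R s (𝟙 _) ≫ (AMonS S N' ◁ j) := by
    rw [univPoint, univPoint, lift_whiskerLeft, Category.comp_id]
  rw [e, Category.assoc, Category.assoc]
  congr 1
  refine hom_ext_affine' s hNL hN'L' hN hdiff _ _ ?_ ?_ hL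
  · rw [← whisker_exchange_assoc, h₁, whisker_exchange_assoc]
  · rw [← whisker_exchange_assoc, h₂, whisker_exchange_assoc]

include hdiff in
theorem exists_hom (f₁ : AMonS S L' ⊗ T ⟶ X) (f₂ : AMonS S N ⊗ T ⟶ X)
    (w : (AMonS.faceMap S hL ▷ T) ≫ f₁ = (AMonS.map S (AddSubmonoid.inclusion hNL) ▷ T) ≫ f₂) :
    ∃ φ : AMonS S N' ⊗ T ⟶ X,
      (AMonS.map S (AddSubmonoid.inclusion hN'L') ▷ T) ≫ φ = f₁ ∧ (AMonS.faceMap S hN ▷ T) ≫ φ = f₂ := by
  classical
  have hex : ∀ (R : Type u) [CommRing R] (s : Spec (CommRingCat.of R) ⟶ S) (r : Over.mk s ⟶ T),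
      ∃ φ : AMonS S N' ⊗ Over.mk s ⟶ X,
        (AMonS.map S (AddSubmonoid.inclusion hN'L') ▷ _) ≫ φ = (AMonS S L' ◁ r) ≫ f₁ ∧
          (AMonS.faceMap S hN ▷ _) ≫ φ = (AMonS S N ◁ r) ≫ f₂ := fun R _ s r =>
    exists_hom_affine s hNL hN'L' hL hN hdiff _ _ (by
      rw [← whisker_exchange_assoc, w, whisker_exchange_assoc])
  choose φ hφ₁ hφ₂ using hex
  let ιA := T.left.affineOpens
  let fA : ∀ W : ιA, Spec Γ(T.left, W.1) ⟶ T.left := fun W => W.2.fromSpec
  let 𝒱 : Scheme.OpenCover.{u} T.left := Scheme.Cover.mkOfCovers ιA (fun W => Spec Γ(T.left, W.1)) fA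
    (fun x => by
      obtain ⟨W, hW, hx, -⟩ := exists_isAffineOpen_mem_and_subset (x := x) (U := ⊤) trivial
      have : x ∈ Set.range hW.fromSpec := by rw [hW.range_fromSpec]; exact hx
      obtain ⟨y, hy⟩ := this
      exact ⟨⟨W, hW⟩, y, hy⟩) (fun W => (inferInstance : IsOpenImmersion W.2.fromSpec))
  let r : ∀ i : ιA, Over.mk (fA i ≫ T.hom) ⟶ T := fun i => Over.homMk (fA i) rfl
  let A := AMonS S N' ⊗ T
  have hφ₁' : ∀ i, (AMonS.map S (AddSubmonoid.inclusion hN'L') ▷ Over.mk (fA i ≫ T.hom)) ≫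
      φ _ (fA i ≫ T.hom) (r i) = (AMonS S L' ◁ r i) ≫ f₁ := fun i => hφ₁ _ _ (r i)
  have hφ₂' : ∀ i, (AMonS.faceMap S hN ▷ Over.mk (fA i ≫ T.hom)) ≫
      φ _ (fA i ≫ T.hom) (r i) = (AMonS S N ◁ r i) ≫ f₂ := fun i => hφ₂ _ _ (r i)
  have hsq : ∀ i, IsPullback (AMonS S N' ◁ r i).left (Limits.pullback.snd (AMonS S N').hom (Over.mk (fA i ≫ T.hom)).hom)
      (Limits.pullback.snd (AMonS S N').hom T.hom) (fA i) := by
    intro i
    have e1 : (AMonS S N' ◁ r i).left ≫ Limits.pullback.fst (AMonS S N').hom T.hom = Limits.pullback.fst _ _ :=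
      Over.whiskerLeft_left_fst (r i)
    have hbig : IsPullback ((AMonS S N' ◁ r i).left ≫ Limits.pullback.fst (AMonS S N').hom T.hom)
        (Limits.pullback.snd (AMonS S N').hom (Over.mk (fA i ≫ T.hom)).hom) (AMonS S N').hom (fA i ≫ T.hom) := by
      rw [e1]
      exact IsPullback.of_hasPullback _ _
    exact IsPullback.of_right hbig (Over.whiskerLeft_left_snd (r i)) (IsPullback.of_hasPullback _ _)
  have hopen : ∀ i, IsOpenImmersion (AMonS S N' ◁ r i).left := fun i =>
    MorphismProperty.of_isPullback (P := @IsOpenImmersion) (hsq i).flip (inferInstanceAs (IsOpenImmersion i.2.fromSpec))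
  let 𝒲 : Scheme.OpenCover.{u} A.left := Scheme.Cover.mkOfCovers ιA
    (fun i => (AMonS S N' ⊗ Over.mk (fA i ≫ T.hom)).left) (fun i => (AMonS S N' ◁ r i).left)
    (fun x => by
      obtain ⟨i, y, hy⟩ := 𝒱.exists_eq ((CartesianMonoidalCategory.snd (AMonS S N') T).left x)
      obtain ⟨z, hz, -⟩ := Scheme.exists_preimage_of_isPullback (hsq i) x y hy.symm
      exact ⟨i, z, hz⟩) (fun i => hopen i)
  let g : ∀ i, 𝒲.X i ⟶ X.left := fun i => (φ _ (fA i ≫ T.hom) (r i)).left
  have hcompat : ∀ i k, Limits.pullback.fst (𝒲.f i) (𝒲.f k) ≫ g i = Limits.pullback.snd _ _ ≫ g k := by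
    intro i k
    let W : Over S := Over.mk (Limits.pullback.fst (𝒲.f i) (𝒲.f k) ≫ (AMonS S N' ⊗ Over.mk (fA i ≫ T.hom)).hom)
    let a : W ⟶ AMonS S N' ⊗ Over.mk (fA i ≫ T.hom) := Over.homMk (Limits.pullback.fst (𝒲.f i) (𝒲.f k)) rfl
    have hcond : Limits.pullback.fst (𝒲.f i) (𝒲.f k) ≫ (AMonS S N' ◁ r i).left =
        Limits.pullback.snd (𝒲.f i) (𝒲.f k) ≫ (AMonS S N' ◁ r k).left := Limits.pullback.condition
    let b : W ⟶ AMonS S N' ⊗ Over.mk (fA k ≫ T.hom) := Over.homMk (Limits.pullback.snd (𝒲.f i) (𝒲.f k)) (by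
      show Limits.pullback.snd (𝒲.f i) (𝒲.f k) ≫ (AMonS S N' ⊗ Over.mk (fA k ≫ T.hom)).hom =
        Limits.pullback.fst (𝒲.f i) (𝒲.f k) ≫ (AMonS S N' ⊗ Over.mk (fA i ≫ T.hom)).hom
      rw [← Over.w (AMonS S N' ◁ r i), ← Over.w (AMonS S N' ◁ r k)]
      exact (Category.assoc _ _ _).symm.trans ((congrArg (· ≫ (AMonS S N' ⊗ T).hom) hcond.symm).trans (Category.assoc _ _ _)))
    have hab : a ≫ (AMonS S N' ◁ r i) = b ≫ (AMonS S N' ◁ r k) := Over.OverMorphism.ext hcond
    refine congrArg Over.Hom.left (AMonCover.hom_ext_affine (a ≫ φ _ _ (r i)) (b ≫ φ _ _ (r k)) fun R _ s q => ?_)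
    have hqa : q ≫ a = lift (q ≫ a ≫ fst _ _) (q ≫ a ≫ snd _ _) := by
      rw [← Category.assoc, ← Category.assoc, lift_comp_fst_snd]
    have hqb : q ≫ b = lift (q ≫ b ≫ fst _ _) (q ≫ b ≫ snd _ _) := by
      rw [← Category.assoc, ← Category.assoc, lift_comp_fst_snd]
    have hc : q ≫ a ≫ fst _ _ = q ≫ b ≫ fst _ _ := by
      simpa using congrArg (q ≫ · ≫ fst _ _) hab
    have hd : (q ≫ a ≫ snd _ _) ≫ r i = (q ≫ b ≫ snd _ _) ≫ r k := by
      simpa using congrArg (q ≫ · ≫ snd _ _) hab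
    rw [← Category.assoc, ← Category.assoc, hqa, hqb, hc]
    have key : ∀ {l : ιA} (d : Over.mk s ⟶ Over.mk (fA l ≫ T.hom)),
        (AMonS S N' ◁ d) ≫ φ _ _ (r l) = φ _ s (d ≫ r l) := by
      intro l d
      refine hom_ext_affine' s hNL hN'L' hN hdiff _ _ ?_ ?_ hL
      · rw [← whisker_exchange_assoc, hφ₁', hφ₁, whiskerLeft_comp_assoc]
      · rw [← whisker_exchange_assoc, hφ₂', hφ₂, whiskerLeft_comp_assoc]
    have hl : ∀ {l : ιA} (c : Over.mk s ⟶ AMonS S N') (d : Over.mk s ⟶ Over.mk (fA l ≫ T.hom)),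
        lift c d ≫ φ _ _ (r l) = lift c (𝟙 _) ≫ φ _ s (d ≫ r l) := by
      intro l c d
      rw [← key d, lift_whiskerLeft_assoc, Category.id_comp]
    rw [hl, hl, hd]
  let G := 𝒲.glueMorphisms g hcompat
  have hG : G ≫ X.hom = A.hom := by
    refine 𝒲.hom_ext _ _ fun i => ?_
    rw [← Category.assoc, 𝒲.ι_glueMorphisms]
    exact (Over.w (φ _ (fA i ≫ T.hom) (r i))).trans (Over.w (AMonS S N' ◁ r i)).symm
  let φT : A ⟶ X := Over.homMk G hG
  have hφT : ∀ i, (AMonS S N' ◁ r i) ≫ φT = φ _ (fA i ≫ T.hom) (r i) := fun i =>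
    Over.OverMorphism.ext (𝒲.ι_glueMorphisms g hcompat i)
  have hloc : ∀ (W : AddSubmonoid M) (p q : AMonS S W ⊗ T ⟶ X),
      (∀ i, (AMonS S W ◁ r i) ≫ p = (AMonS S W ◁ r i) ≫ q) → p = q := by
    intro W p q hpq
    refine AMonCover.hom_ext_affine _ _ fun R _ s z => ?_
    apply Over.OverMorphism.ext
    refine Scheme.Cover.hom_ext (𝒱.pullback₁ (z ≫ snd _ _).left) _ _ fun i => ?_
    let t : Over.mk (Limits.pullback.fst (z ≫ snd _ _).left (𝒱.f i) ≫ s) ⟶ Over.mk s :=
      Over.homMk (Limits.pullback.fst (z ≫ snd _ _).left (𝒱.f i)) rfl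
    let d : Over.mk (Limits.pullback.fst (z ≫ snd _ _).left (𝒱.f i) ≫ s) ⟶ Over.mk (fA i ≫ T.hom) :=
      Over.homMk (Limits.pullback.snd (z ≫ snd _ _).left (𝒱.f i)) (by
        show Limits.pullback.snd _ _ ≫ 𝒱.f i ≫ T.hom = Limits.pullback.fst _ _ ≫ s
        rw [← Limits.pullback.condition_assoc, Over.w (z ≫ snd _ _)]
        rfl)
    have hd : t ≫ z ≫ snd _ _ = d ≫ r i := Over.OverMorphism.ext Limits.pullback.condition
    have e : t ≫ z = lift (t ≫ z ≫ fst _ _) d ≫ (AMonS S W ◁ r i) := by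
      rw [lift_whiskerLeft, ← hd, ← Category.assoc, ← Category.assoc, lift_comp_fst_snd]
    have hz : t ≫ z ≫ p = t ≫ z ≫ q := by
      rw [← Category.assoc, ← Category.assoc, e, Category.assoc, Category.assoc, hpq]
    exact congrArg Over.Hom.left hz
  refine ⟨φT, hloc _ _ _ fun i => ?_, hloc _ _ _ fun i => ?_⟩
  · rw [whisker_exchange_assoc, hφT, hφ₁']
  · rw [whisker_exchange_assoc, hφT, hφ₂']

end Groth.Agent.Misc15.FacePushout
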