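import Groth.Agent.Misc15.FaceLift
import Groth.Agent.S18284
import Groth.Agent.S18290
import Mathlib.CategoryTheory.Limits.Types.Pullbacks
import Mathlib.CategoryTheory.Limits.FunctorCategory.Shapes.Pullbacks

/-! `U^N = X^N ×_{X^Q} U^Q` for an étale equivariant map `U ⟶ X` with `U` relatively affine. -/

set_option autoImplicit false
universe u

noncomputable section

open CategoryTheory CategoryTheory.Limits MonoidalCategory CartesianMonoidalCategory MonObj AlgebraicGeometry Opposite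
open Magnet

namespace Groth.Agent.Misc15.FacePullback

open Groth.Agent.Misc15.MagnetPointsS
open Groth.Agent.Misc15.HeightFilt (Height)

variable {S : Scheme.{u}} {M : Type} [AddCommGroup M]

/-- a covering sieve of pieces factoring through affine schemes -/
theorem exists_affine_sieve (T : Over S) : ∃ R : Sieve T, R ∈ (QuotSh.J Scheme.fppfPrecoverage S) T ∧
    ∀ (W : Over S) (b : W ⟶ T), R b → ∃ (A : Over S) (_ : IsAffine A.left) (c : W ⟶ A) (r : A ⟶ T), b = c ≫ r := by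
  let 𝒱 := T.left.affineCover
  refine ⟨(Sieve.overEquiv T).symm (Sieve.ofArrows 𝒱.X 𝒱.f), ?_, fun W b hb => ?_⟩
  · refine GrothendieckTopology.overEquiv_symm_mem_over _ T _ ?_
    exact Precoverage.toGrothendieck_mono Scheme.zariskiPrecoverage_le_fppfPrecoverage _ 𝒱.mem_grothendieckTopology
  · rw [Sieve.overEquiv_symm_iff] at hb
    obtain ⟨_, c, _, ⟨p⟩, hc⟩ := hb
    refine ⟨Over.mk (𝒱.f p ≫ T.hom), inferInstanceAs (IsAffine (𝒱.X p)), Over.homMk c (by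
      show c ≫ 𝒱.f p ≫ T.hom = W.hom
      rw [← Category.assoc, hc, Over.w b]), Over.homMk (𝒱.f p) rfl, ?_⟩
    ext1; exact hc.symm

/-- elements of an equivariant hom functor may be compared on affine schemes -/
theorem ext_affine {B X : Over S} {ρ : MonAct (AMonS S M) B} {a : MonAct (AMonS S M) X} {T : Over S}
    (φ φ' : (MonAct.eqvHom ρ a).obj (op T))
    (h : ∀ (A : Over S) [IsAffine A.left] (r : A ⟶ T), (B ◁ r) ≫ φ.1 = (B ◁ r) ≫ φ'.1) : φ = φ' := by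
  obtain ⟨R, hR, hR'⟩ := exists_affine_sieve T
  refine (((isSheaf_iff_isSheaf_of_type _ _).1 (Groth.Agent.S18294.result S (AMonS S M) B X ρ a)) R hR).isSeparatedFor.ext
    fun W b hb => Subtype.ext ?_
  obtain ⟨A, hA, c, r, rfl⟩ := hR' W b hb
  show (B ◁ (c ≫ r)) ≫ φ.1 = (B ◁ (c ≫ r)) ≫ φ'.1
  rw [MonoidalCategory.whiskerLeft_comp_assoc, h A r, MonoidalCategory.whiskerLeft_comp_assoc]

/-- restricting magnets commutes with the face morphisms -/
theorem faceMap_map {N P Q : AddSubmonoid M} (hPN : P ≤ N) (hQ : IsFace N Q) (hQ' : IsFace P (Q ⊓ P)) :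
    AMonS.faceMap S hQ ≫ AMonS.map S (AddSubmonoid.inclusion hPN) =
      AMonS.map S (AddSubmonoid.inclusion (inf_le_left : Q ⊓ P ≤ Q)) ≫ AMonS.faceMap S hQ' := by
  refine AMonCover.hom_ext_affine _ _ fun L _ sL r => ?_
  obtain ⟨χ, rfl⟩ := P_surjective sL r
  letI := MagnetPoints.algZ L
  rw [← Category.assoc, ← Category.assoc, TPoints.P_comp_faceMap, P_comp_map, P_comp_map, TPoints.P_comp_faceMap]
  congr 1
  refine MonoidHom.ext fun n => ?_
  obtain ⟨n, rfl⟩ : ∃ m, Multiplicative.ofAdd m = n := ⟨n.toAdd, rfl⟩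
  show MagnetPoints.charEquiv L Q χ (faceAlgHom MagnetPoints.Z.{u} hQ
      (MonoidAlgebra.single (Multiplicative.ofAdd (AddSubmonoid.inclusion hPN n)) 1)) =
    MagnetPoints.charEquiv L _ (χ.comp _) (faceAlgHom MagnetPoints.Z.{u} hQ'
      (MonoidAlgebra.single (Multiplicative.ofAdd n) 1))
  by_cases hn : (n : M) ∈ Q
  · rw [faceAlgHom_single_of_mem _ _ (AddSubmonoid.inclusion hPN n) hn,
      faceAlgHom_single_of_mem _ _ n (show (n : M) ∈ Q ⊓ P from ⟨hn, n.2⟩), MagnetPoints.charEquiv, MagnetPoints.charEquiv,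
      MonoidAlgebra.lift_single, MonoidAlgebra.lift_single]
    rfl
  · rw [faceAlgHom_single_of_not_mem _ _ (AddSubmonoid.inclusion hPN n) hn,
      faceAlgHom_single_of_not_mem _ _ n (fun hh : (n : M) ∈ Q ⊓ P => hn hh.1), map_zero, map_zero]

theorem isFace_inf {N P Q : AddSubmonoid M} (hPN : P ≤ N) (hQ : IsFace N Q) : IsFace P (Q ⊓ P) :=
  ⟨inf_le_right, fun x hx y hy h => by
    have h1 := hQ.mem_of_add_mem x (hPN hx) y (hPN hy) h.1
    exact ⟨⟨h1.1, hx⟩, h1.2, hy⟩⟩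

/-- the directed-union description, for a family with prescribed union -/
theorem exists_of_iSup_eq {Y : Over S} [IsSeparated Y.hom] [LocallyOfFinitePresentation Y.hom]
    (a : MonAct (AMonS S M) Y) {J : Type} [Preorder J] [IsDirected J (· ≤ ·)] [Nonempty J]
    (P : J → AddSubmonoid M) (hP : Monotone P) {N : AddSubmonoid M} (hN : (⨆ i, P i) = N)
    {A : Over S} [IsAffine A.left] (φ : (attr a N).obj (op A)) :
    ∃ (i : J) (h : P i ≤ N) (ψ : (attr a (P i)).obj (op A)),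
      (AMonS.map S (AddSubmonoid.inclusion h) ▷ A) ≫ ψ.1 = φ.1 := by
  subst hN
  obtain ⟨i, ψ, hψ⟩ := Groth.Agent.S18290.result S M Y a P hP A φ
  exact ⟨i, le_iSup P i, ψ, congrArg Subtype.val hψ⟩

variable [AddGroup.FG M] {U X : Over S} {aU : MonAct (AMonS S M) U} {aX : MonAct (AMonS S M) X} {f : U ⟶ X}

theorem ext [IsAffineHom U.hom] [Etale f.left] {N Q : AddSubmonoid M} (hQ : IsFace N Q)
    (h : N.FG ∨ (IsSeparated X.hom ∧ LocallyOfFinitePresentation X.hom))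
    (hf : MonAct.IsEquivariant aU aX f) {T : Over S}
    (ψ ψ' : (attr aU N).obj (op T)) (h₁ : ψ.1 ≫ f = ψ'.1 ≫ f)
    (h₂ : (AMonS.faceMap S hQ ▷ T) ≫ ψ.1 = (AMonS.faceMap S hQ ▷ T) ≫ ψ'.1) : ψ = ψ' := by
  have hsU : IsSeparated U.hom := inferInstance
  rcases h with hfg | ⟨hsX, hlX⟩
  · obtain ⟨H⟩ := HeightFilt.nonempty_height hfg hQ
    exact Subtype.ext (FaceLift.ext_of_face (f := f) H _ _ h₁ h₂)
  refine ext_affine ψ ψ' fun A _ r => ?_
  let J : Type := {P : AddSubmonoid M // P.FG ∧ P ≤ N}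
  have : Nonempty J := ⟨⟨⊥, AddSubmonoid.FG.bot, bot_le⟩⟩
  have : IsDirected J (· ≤ ·) := ⟨fun P P' => ⟨⟨P.1 ⊔ P'.1, P.2.1.sup P'.2.1, sup_le P.2.2 P'.2.2⟩, le_sup_left (a := P.1) (b := P'.1), le_sup_right (a := P.1) (b := P'.1)⟩⟩
  have hNJ : (⨆ P : J, P.1) = N := by
    refine le_antisymm (iSup_le fun P => P.2.2) fun x hx => ?_
    refine AddSubmonoid.mem_iSup_of_mem (⟨AddSubmonoid.closure {x}, ⟨{x}, by simp⟩,
      AddSubmonoid.closure_le.2 (by simpa using hx)⟩ : J) ?_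
    exact AddSubmonoid.subset_closure rfl
  have hlU : LocallyOfFinitePresentation U.hom := by rw [← Over.w f]; infer_instance
  obtain ⟨i, hi, a, ha⟩ := exists_of_iSup_eq aU (fun P : J => P.1) (fun _ _ h => h) hNJ ((attr aU N).map r.op ψ)
  obtain ⟨i', hi', a', ha'⟩ := exists_of_iSup_eq aU (fun P : J => P.1) (fun _ _ h => h) hNJ ((attr aU N).map r.op ψ')
  obtain ⟨k, hik, hik'⟩ := exists_ge_ge i i'
  have hk : k.1 ≤ N := k.2.2
  have e : (AMonS.map S (AddSubmonoid.inclusion hk) ▷ A) ≫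
      ((attrMap aU (show i.1 ≤ k.1 from hik)).app (op A) a).1 = (AMonS S N ◁ r) ≫ ψ.1 := by
    refine Eq.trans ?_ ha
    show (AMonS.map S _ ▷ A) ≫ (AMonS.map S _ ▷ A) ≫ a.1 = (AMonS.map S _ ▷ A) ≫ a.1
    rw [← comp_whiskerRight_assoc, ← AMonS.map_comp]
    rfl
  have e' : (AMonS.map S (AddSubmonoid.inclusion hk) ▷ A) ≫
      ((attrMap aU (show i'.1 ≤ k.1 from hik')).app (op A) a').1 = (AMonS S N ◁ r) ≫ ψ'.1 := by
    refine Eq.trans ?_ ha'
    show (AMonS.map S _ ▷ A) ≫ (AMonS.map S _ ▷ A) ≫ a'.1 = (AMonS.map S _ ▷ A) ≫ a'.1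
    rw [← comp_whiskerRight_assoc, ← AMonS.map_comp]
    rfl
  rw [← e, ← e']
  obtain ⟨H⟩ := HeightFilt.nonempty_height k.2.1 (isFace_inf hk hQ)
  congr 1
  refine FaceLift.ext_of_face (f := f) H _ _ ?_ ?_
  · refine cancel_map _ (AddSubmonoid.inclusion_injective hk) _ _ ?_
    rw [reassoc_of% e, reassoc_of% e', h₁]
  · refine cancel_map _ (AddSubmonoid.inclusion_injective (inf_le_left : Q ⊓ k.1 ≤ Q)) _ _ ?_
    rw [← comp_whiskerRight_assoc, ← comp_whiskerRight_assoc, ← faceMap_map hk hQ (isFace_inf hk hQ),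
      comp_whiskerRight_assoc, comp_whiskerRight_assoc, e, e', ← whisker_exchange_assoc, h₂, whisker_exchange_assoc]

theorem exists_lift [IsAffineHom U.hom] [Etale f.left] {N Q : AddSubmonoid M} (hQ : IsFace N Q)
    (h : N.FG ∨ (IsSeparated X.hom ∧ LocallyOfFinitePresentation X.hom))
    (hf : MonAct.IsEquivariant aU aX f) {T : Over S}
    (φ : (attr aX N).obj (op T)) (u : (attr aU Q).obj (op T))
    (huf : u.1 ≫ f = (AMonS.faceMap S hQ ▷ T) ≫ φ.1) :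
    ∃ ψ : (attr aU N).obj (op T), ψ.1 ≫ f = φ.1 ∧ (AMonS.faceMap S hQ ▷ T) ≫ ψ.1 = u.1 := by
  classical
  have hsU : IsSeparated U.hom := inferInstance
  rcases h with hfg | ⟨hsX, hlX⟩
  · obtain ⟨H⟩ := HeightFilt.nonempty_height hfg hQ
    exact FaceLift.exists_lift H hf φ u huf
  obtain ⟨R, hR, hR'⟩ := exists_affine_sieve T
  have hmem : ∀ (W : Over S) (b : W ⟶ T), R b → ∃ ψ : (attr aU N).obj (op W),
      ψ.1 ≫ f = (AMonS S N ◁ b) ≫ φ.1 ∧
      (AMonS.faceMap S hQ ▷ W) ≫ ψ.1 = (AMonS S Q ◁ b) ≫ u.1 := by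
    intro W b hb
    obtain ⟨A, hA, c, r, rfl⟩ := hR' W b hb
    suffices ∃ ψ : (attr aU N).obj (op A), ψ.1 ≫ f = (AMonS S N ◁ r) ≫ φ.1 ∧
        (AMonS.faceMap S hQ ▷ A) ≫ ψ.1 = (AMonS S Q ◁ r) ≫ u.1 by
      obtain ⟨ψ, h1, h2⟩ := this
      refine ⟨(attr aU N).map c.op ψ, ?_, ?_⟩
      · show ((AMonS S N ◁ c) ≫ ψ.1) ≫ f = _
        rw [Category.assoc, h1, MonoidalCategory.whiskerLeft_comp_assoc]
      · show (AMonS.faceMap S hQ ▷ W) ≫ (AMonS S N ◁ c) ≫ ψ.1 = _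
        rw [← whisker_exchange_assoc, h2, MonoidalCategory.whiskerLeft_comp_assoc]
    let J : Type := {P : AddSubmonoid M // P.FG ∧ P ≤ N}
    have : Nonempty J := ⟨⟨⊥, AddSubmonoid.FG.bot, bot_le⟩⟩
    have : IsDirected J (· ≤ ·) := ⟨fun P P' => ⟨⟨P.1 ⊔ P'.1, P.2.1.sup P'.2.1, sup_le P.2.2 P'.2.2⟩, le_sup_left (a := P.1) (b := P'.1), le_sup_right (a := P.1) (b := P'.1)⟩⟩
    have hNJ : (⨆ P : J, P.1) = N := by
      refine le_antisymm (iSup_le fun P => P.2.2) fun x hx => ?_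
      refine AddSubmonoid.mem_iSup_of_mem (⟨AddSubmonoid.closure {x}, ⟨{x}, by simp⟩,
        AddSubmonoid.closure_le.2 (by simpa using hx)⟩ : J) ?_
      exact AddSubmonoid.subset_closure rfl
    have hQJ : (⨆ P : J, Q ⊓ P.1) = Q := by
      refine le_antisymm (iSup_le fun P => inf_le_left) fun x hx => ?_
      refine AddSubmonoid.mem_iSup_of_mem (⟨AddSubmonoid.closure {x}, ⟨{x}, by simp⟩,
        AddSubmonoid.closure_le.2 (by simpa using hQ.le hx)⟩ : J) ⟨hx, ?_⟩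
      exact AddSubmonoid.subset_closure rfl
    have hlU : LocallyOfFinitePresentation U.hom := by rw [← Over.w f]; infer_instance
    obtain ⟨i, hi, a, ha⟩ := exists_of_iSup_eq aX (fun P : J => P.1) (fun _ _ h => h) hNJ ((attr aX N).map r.op φ)
    obtain ⟨j, hj, b, hb⟩ := exists_of_iSup_eq aU (fun P : J => Q ⊓ P.1) (fun _ _ h => inf_le_inf_left Q h) hQJ
      ((attr aU Q).map r.op u)
    obtain ⟨k, hik, hjk⟩ := exists_ge_ge i j
    have hk : k.1 ≤ N := k.2.2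
    let φk := (attrMap aX (show i.1 ≤ k.1 from hik)).app (op A) a
    let uk := (attrMap aU (show Q ⊓ j.1 ≤ Q ⊓ k.1 from inf_le_inf_left Q hjk)).app (op A) b
    have hφk : (AMonS.map S (AddSubmonoid.inclusion hk) ▷ A) ≫ φk.1 = (AMonS S N ◁ r) ≫ φ.1 := by
      refine Eq.trans ?_ ha
      show (AMonS.map S _ ▷ A) ≫ (AMonS.map S _ ▷ A) ≫ a.1 = (AMonS.map S _ ▷ A) ≫ a.1
      rw [← comp_whiskerRight_assoc, ← AMonS.map_comp]
      rfl
    have huk : (AMonS.map S (AddSubmonoid.inclusion (inf_le_left : Q ⊓ k.1 ≤ Q)) ▷ A) ≫ uk.1 = (AMonS S Q ◁ r) ≫ u.1 := by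
      refine Eq.trans ?_ hb
      show (AMonS.map S _ ▷ A) ≫ (AMonS.map S _ ▷ A) ≫ b.1 = (AMonS.map S _ ▷ A) ≫ b.1
      rw [← comp_whiskerRight_assoc, ← AMonS.map_comp]
      rfl
    obtain ⟨H⟩ := HeightFilt.nonempty_height k.2.1 (isFace_inf hk hQ)
    obtain ⟨ψ, h1, h2⟩ := FaceLift.exists_lift H hf φk uk (by
      refine cancel_map _ (AddSubmonoid.inclusion_injective (inf_le_left : Q ⊓ k.1 ≤ Q)) _ _ ?_
      rw [reassoc_of% huk, huf, ← comp_whiskerRight_assoc, ← faceMap_map hk hQ (isFace_inf hk hQ),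
        comp_whiskerRight_assoc, hφk, whisker_exchange_assoc])
    refine ⟨(attrMap aU hk).app (op A) ψ, ?_, ?_⟩
    · show ((AMonS.map S _ ▷ A) ≫ ψ.1) ≫ f = _
      rw [Category.assoc, h1, hφk]
    · show (AMonS.faceMap S hQ ▷ A) ≫ (AMonS.map S _ ▷ A) ≫ ψ.1 = _
      rw [← comp_whiskerRight_assoc, faceMap_map hk hQ (isFace_inf hk hQ), comp_whiskerRight_assoc, h2, huk]
  choose ψ hψf hψq using hmem
  let fam : Presieve.FamilyOfElements (attr aU N) R.arrows := fun W b hb => ψ W b hb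
  have hfam : fam.Compatible := by
    intro W₁ W₂ W g₁ g₂ b₁ b₂ h₁ h₂ hcc
    refine ext (f := f) hQ (Or.inr ⟨hsX, hlX⟩) hf _ _ ?_ ?_
    · show ((AMonS S N ◁ g₁) ≫ (ψ W₁ b₁ h₁).1) ≫ f = ((AMonS S N ◁ g₂) ≫ (ψ W₂ b₂ h₂).1) ≫ f
      rw [Category.assoc, Category.assoc, hψf, hψf, ← MonoidalCategory.whiskerLeft_comp_assoc, hcc,
        MonoidalCategory.whiskerLeft_comp_assoc]
    · show (AMonS.faceMap S hQ ▷ W) ≫ (AMonS S N ◁ g₁) ≫ (ψ W₁ b₁ h₁).1 =
        (AMonS.faceMap S hQ ▷ W) ≫ (AMonS S N ◁ g₂) ≫ (ψ W₂ b₂ h₂).1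
      rw [← whisker_exchange_assoc, ← whisker_exchange_assoc, hψq, hψq, ← MonoidalCategory.whiskerLeft_comp_assoc,
        hcc, MonoidalCategory.whiskerLeft_comp_assoc]
  obtain ⟨Ψ, hΨ, -⟩ := ((isSheaf_iff_isSheaf_of_type _ _).1
    (Groth.Agent.S18294.result S (AMonS S M) (AMonS S N) U (subAct S M N) aU)) R hR fam hfam
  have hΨ' : ∀ W (b : W ⟶ T) (hb : R b), (AMonS S N ◁ b) ≫ Ψ.1 = (ψ W b hb).1 := fun W b hb =>
    congrArg Subtype.val (hΨ b hb)
  refine ⟨Ψ, congrArg Subtype.val (((isSheaf_iff_isSheaf_of_type _ _).1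
    (Groth.Agent.S18294.result S (AMonS S M) (AMonS S N) X (subAct S M N) aX) R hR).isSeparatedFor.ext
    (t₁ := (MonAct.eqvHom.postcomp (subAct S M N) f hf).app (op T) Ψ) (t₂ := φ) fun W b hb => Subtype.ext ?_),
    congrArg Subtype.val (((isSheaf_iff_isSheaf_of_type _ _).1
    (Groth.Agent.S18294.result S (AMonS S M) (AMonS S Q) U (subAct S M Q) aU) R hR).isSeparatedFor.ext
    (t₁ := (attrFace aU hQ).app (op T) Ψ) (t₂ := u) fun W b hb => Subtype.ext ?_)⟩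
  · show (AMonS S N ◁ b) ≫ Ψ.1 ≫ f = (AMonS S N ◁ b) ≫ φ.1
    rw [← Category.assoc, hΨ' W b hb, hψf]
  · show (AMonS S Q ◁ b) ≫ (AMonS.faceMap S hQ ▷ T) ≫ Ψ.1 = (AMonS S Q ◁ b) ≫ u.1
    rw [whisker_exchange_assoc, hΨ' W b hb, hψq]

theorem isPullback [IsAffineHom U.hom] [Etale f.left] {N Q : AddSubmonoid M} (hQ : IsFace N Q)
    (h : N.FG ∨ (IsSeparated X.hom ∧ LocallyOfFinitePresentation X.hom))
    (hf : MonAct.IsEquivariant aU aX f) :
    IsPullback (MonAct.eqvHom.postcomp (subAct S M N) f hf) (attrFace aU hQ) (attrFace aX hQ)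
      (MonAct.eqvHom.postcomp (subAct S M Q) f hf) := by
  refine IsPullback.of_forall_isPullback_app fun T => ?_
  rw [CategoryTheory.Limits.Types.isPullback_iff]
  refine ⟨ConcreteCategory.hom_ext _ _ fun φ => Subtype.ext (Category.assoc _ _ _).symm, ?_, ?_⟩
  · rintro ψ ψ' ⟨h₁, h₂⟩
    exact ext hQ h hf ψ ψ' (congrArg Subtype.val h₁) (congrArg Subtype.val h₂)
  · intro φ u e
    obtain ⟨ψ, h1, h2⟩ := exists_lift hQ h hf φ u (congrArg Subtype.val e).symm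
    exact ⟨ψ, Subtype.ext h1, Subtype.ext h2⟩

end Groth.Agent.Misc15.FacePullback
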