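import Groth.Agent.FlatMorGeom.FormallyEtaleHom
import Groth.Agent.Misc15.DominantWhisker
import Mathlib.AlgebraicGeometry.Morphisms.Etale

/-! Lifting and comparing morphisms along a filtration with square-zero steps. -/

set_option autoImplicit false
universe u

noncomputable section

open CategoryTheory CategoryTheory.Limits AlgebraicGeometry

namespace Groth.Agent.Misc15.FiltExt

theorem isFormallyEtaleHom {X Y : Scheme.{u}} (f : X ⟶ Y) [Etale f] : MoreMor.IsFormallyEtaleHom f :=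
  FlatMorGeom.isFormallyEtaleHom_of_appLE fun U V hU hV e => by
    letI := (f.appLE V U e).hom.toAlgebra
    have : Algebra.Etale Γ(Y, V) Γ(X, U) := f.etale_appLE hV hU e
    infer_instance

/-- `Spec` of a ring map -/
abbrev sp {A B : Type u} [CommRing A] [CommRing B] (φ : A →+* B) :
    Spec (CommRingCat.of B) ⟶ Spec (CommRingCat.of A) := Spec.map (CommRingCat.ofHom φ)

theorem sp_comp {A B C : Type u} [CommRing A] [CommRing B] [CommRing C] (φ : A →+* B) (ψ : B →+* C) :
    sp (ψ.comp φ) = sp ψ ≫ sp φ := by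
  rw [sp, sp, sp, ← Spec.map_comp, CommRingCat.ofHom_comp]

theorem existsUnique_step {X Y : Scheme.{u}} (f : X ⟶ Y) [Etale f] {A A' : Type u} [CommRing A] [CommRing A']
    (π : A →+* A') (hπ : Function.Surjective π) (h2 : RingHom.ker π ^ 2 = ⊥)
    (a : Spec (CommRingCat.of A') ⟶ X) (b : Spec (CommRingCat.of A) ⟶ Y) (w : sp π ≫ b = a ≫ f) :
    ∃! l : Spec (CommRingCat.of A) ⟶ X, sp π ≫ l = a ∧ l ≫ f = b := by
  have : IsClosedImmersion (sp π) := IsClosedImmersion.spec_of_surjective _ hπ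
  refine FlatMorGeom.existsUnique_lift (isFormallyEtaleHom f) (sp π) ⟨⟨inferInstance, ⟨fun x => ?_⟩⟩, ?_⟩ a b w
  · have hx : RingHom.ker π ≤ x.asIdeal := fun r hr => x.2.mem_of_pow_mem 2 (by
      have : r ^ 2 ∈ RingHom.ker π ^ 2 := Ideal.pow_mem_pow hr 2
      rw [h2, Ideal.mem_bot] at this
      rw [this]
      exact x.asIdeal.zero_mem)
    have : x ∈ Set.range (PrimeSpectrum.comap π) := by
      rw [range_comap_of_surjective _ _ hπ]
      exact hx
    exact this
  · exact FlatMorGeom.ker_SpecMap_sq π h2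

variable {A : Type u} [CommRing A] (J : ℕ → Ideal A)

/-- the transition maps -/
abbrev π (hanti : ∀ {m n}, m ≤ n → J n ≤ J m) {m n : ℕ} (h : m ≤ n) : A ⧸ J n →+* A ⧸ J m :=
  Ideal.Quotient.factor (hanti h)

variable (hanti : ∀ {m n}, m ≤ n → J n ≤ J m) (hsq : ∀ n, 1 ≤ n → J n * J n ≤ J (n + 1))

theorem π_comp {l m n : ℕ} (h : l ≤ m) (h' : m ≤ n) :
    (π J hanti h).comp (π J hanti h') = π J hanti (h.trans h') := by
  refine Ideal.Quotient.ringHom_ext (RingHom.ext fun a => ?_)
  simp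

include hsq in
theorem ker_π_sq {n : ℕ} (hn : 1 ≤ n) : RingHom.ker (π J hanti (Nat.le_succ n)) ^ 2 = ⊥ := by
  rw [pow_two, eq_bot_iff, Ideal.mul_le]
  intro a ha b hb
  obtain ⟨a, rfl⟩ := Ideal.Quotient.mk_surjective a
  obtain ⟨b, rfl⟩ := Ideal.Quotient.mk_surjective b
  rw [RingHom.mem_ker, Ideal.Quotient.factor_mk, Ideal.Quotient.eq_zero_iff_mem] at ha hb
  rw [Ideal.mem_bot, ← map_mul, Ideal.Quotient.eq_zero_iff_mem]
  exact hsq n hn (Ideal.mul_mem_mul ha hb)

theorem π_surjective {m n : ℕ} (h : m ≤ n) : Function.Surjective (π J hanti h) := fun x => by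
  obtain ⟨x, rfl⟩ := Ideal.Quotient.mk_surjective x
  exact ⟨Ideal.Quotient.mk _ x, Ideal.Quotient.factor_mk _ _⟩

variable {X Y : Scheme.{u}} (f : X ⟶ Y) [Etale f]

include hsq in
theorem ext_level : ∀ {n : ℕ} (hn : 1 ≤ n) (a b : Spec (CommRingCat.of (A ⧸ J n)) ⟶ X), a ≫ f = b ≫ f →
    sp (π J hanti hn) ≫ a = sp (π J hanti hn) ≫ b → a = b := by
  intro n hn
  induction n, hn using Nat.le_induction with
  | base =>
    intro a b _ h
    have e : π J hanti (le_refl 1) = RingHom.id _ := Ideal.Quotient.ringHom_ext (RingHom.ext fun a => by simp)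
    rwa [e, sp, CommRingCat.ofHom_id, Spec.map_id, Category.id_comp, Category.id_comp] at h
  | succ n hn ih =>
    intro a b hf h
    have e : sp (π J hanti (Nat.le_succ n)) ≫ a = sp (π J hanti (Nat.le_succ n)) ≫ b := by
      refine ih _ _ (by rw [Category.assoc, Category.assoc, hf]) ?_
      rw [← Category.assoc, ← Category.assoc, ← sp_comp, π_comp]
      exact h
    exact (existsUnique_step f _ (π_surjective J hanti (Nat.le_succ n)) (ker_π_sq J hanti hsq hn) _ _
      (Category.assoc _ _ _).symm).unique ⟨rfl, rfl⟩ ⟨e.symm, hf.symm⟩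

include hsq in
theorem exists_level (b : Spec (CommRingCat.of A) ⟶ Y) (a₁ : Spec (CommRingCat.of (A ⧸ J 1)) ⟶ X)
    (h₁ : a₁ ≫ f = sp (Ideal.Quotient.mk (J 1)) ≫ b) :
    ∀ {n : ℕ} (hn : 1 ≤ n), ∃ a : Spec (CommRingCat.of (A ⧸ J n)) ⟶ X,
      a ≫ f = sp (Ideal.Quotient.mk (J n)) ≫ b ∧ sp (π J hanti hn) ≫ a = a₁ := by
  intro n hn
  induction n, hn using Nat.le_induction with
  | base =>
    refine ⟨a₁, h₁, ?_⟩
    rw [show π J hanti (le_refl 1) = RingHom.id _ from Ideal.Quotient.ringHom_ext (RingHom.ext fun a => by simp),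
      sp, CommRingCat.ofHom_id, Spec.map_id, Category.id_comp]
  | succ n hn ih =>
    obtain ⟨a, ha, ha₁⟩ := ih
    obtain ⟨l, ⟨hl₁, hl₂⟩, -⟩ := existsUnique_step f _ (π_surjective J hanti (Nat.le_succ n))
      (ker_π_sq J hanti hsq hn) a (sp (Ideal.Quotient.mk (J (n + 1))) ≫ b) (by
        rw [ha, ← Category.assoc, ← sp_comp, Ideal.Quotient.factor_comp_mk])
    refine ⟨l, hl₂, ?_⟩
    rw [← π_comp J hanti hn (Nat.le_succ n), sp_comp, Category.assoc, hl₁, ha₁]

/-- morphisms into a separated `S`-scheme agreeing on every step are equal -/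
theorem eq_of_forall_quot {S : Scheme.{u}} {U : Over S} [IsSeparated U.hom] {s : Spec (CommRingCat.of A) ⟶ S}
    (hinf : ∀ a : A, (∀ n, a ∈ J n) → a = 0) (a b : Over.mk s ⟶ U)
    (h : ∀ n, sp (Ideal.Quotient.mk (J n)) ≫ a.left = sp (Ideal.Quotient.mk (J n)) ≫ b.left) : a = b := by
  let e : Limits.equalizer a b ⟶ Over.mk s := Limits.equalizer.ι a b
  have hle : ∀ n, e.left.ker ≤ (sp (Ideal.Quotient.mk (J n))).ker := by
    intro n
    let r : Over.mk (sp (Ideal.Quotient.mk (J n)) ≫ s) ⟶ Over.mk s := Over.homMk (sp (Ideal.Quotient.mk (J n))) rfl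
    have hr : r ≫ a = r ≫ b := Over.OverMorphism.ext (h n)
    have hfac : (Limits.equalizer.lift r hr).left ≫ e.left = sp (Ideal.Quotient.mk (J n)) := by
      rw [← Over.comp_left, Limits.equalizer.lift_ι]
      rfl
    have h1 := Scheme.Hom.le_ker_comp (Limits.equalizer.lift r hr).left e.left
    rw [hfac] at h1
    exact h1
  have : IsAffine (Over.mk s).left := inferInstanceAs (IsAffine (Spec _))
  have hker : e.left.ker = ⊥ := by
    refine Scheme.IdealSheafData.ext_of_isAffine ?_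
    rw [Scheme.IdealSheafData.ideal_bot, Pi.bot_apply, eq_bot_iff]
    intro x hx
    have hx' : (Scheme.ΓSpecIso (CommRingCat.of A)).hom x = 0 := by
      refine hinf _ fun n => ?_
      have h1 := hle n ⟨⊤, isAffineOpen_top _⟩ hx
      rw [Scheme.Hom.ker_apply] at h1
      have h2 := congrArg (fun k => k.hom x) (Scheme.ΓSpecIso_naturality (CommRingCat.ofHom (Ideal.Quotient.mk (J n))))
      simp only [CommRingCat.hom_comp, RingHom.comp_apply, CommRingCat.hom_ofHom] at h2
      refine Ideal.Quotient.eq_zero_iff_mem.1 (h2.symm.trans ?_)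
      exact (congrArg _ (RingHom.mem_ker.1 h1)).trans (map_zero _)
    exact (Scheme.ΓSpecIso (CommRingCat.of A)).commRingCatIsoToRingEquiv.injective (hx'.trans (map_zero _).symm)
  have := IsClosedImmersion.isIso_iff_ker_eq_bot.2 hker
  apply Over.OverMorphism.ext
  rw [← cancel_epi e.left]
  exact congrArg Over.Hom.left (Limits.equalizer.condition a b)

end Groth.Agent.Misc15.FiltExt
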