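import Groth.Agent.Misc15.FprTransfer
import Groth.Agent.Misc15.AffineSheafDescent
import Groth.Agent.S18295
import Groth.Agent.S18299

/-! Representability of attractors along affine fixed point reflecting atlases. -/

set_option autoImplicit false
universe u

noncomputable section

open CategoryTheory CategoryTheory.Limits MonoidalCategory CartesianMonoidalCategory MonObj AlgebraicGeometry Opposite
open Magnet

namespace Groth.Agent.Misc15.FprRep

variable {S : Scheme.{u}} {M : Type} [AddCommGroup M] [AddGroup.FG M] {U X : Over S}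
  (aU : MonAct (AMonS S M) U) (aX : MonAct (AMonS S M) X) (g : U ⟶ X) (hg : MonAct.IsEquivariant aU aX g)

theorem homEquiv_attrToX {Y : Over S} (a : MonAct (AMonS S M) Y) {N : AddSubmonoid M} {Z : Over S}
    (e : (attr a N).RepresentableBy Z) (i : Z ⟶ Y)
    (hi : ∀ (T : Over S) (z : T ⟶ Z), (attrToX a N).app (op T) (e.homEquiv z) = z ≫ i) (T : Over S)
    (φ : (attr a N).obj (op T)) : e.homEquiv.symm φ ≫ i = (attrToX a N).app (op T) φ := by
  rw [← hi, Equiv.apply_symm_apply]

include hg in
theorem main [IsAffineHom U.hom] [Etale g.left] [Surjective g.left] (Z : AddSubgroup M)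
    (hgZ : MonAct.IsEquivariant (aU.restrict (AMonS.map S (QuotientAddGroup.mk' Z)))
      (aX.restrict (AMonS.map S (QuotientAddGroup.mk' Z))) g)
    (hfpr : IsPullback (MonAct.fixedPsh.map g hgZ)
      (MonAct.fixedPshι (aU.restrict (AMonS.map S (QuotientAddGroup.mk' Z))))
      (MonAct.fixedPshι (aX.restrict (AMonS.map S (QuotientAddGroup.mk' Z)))) (yoneda.map g))
    (N Q : AddSubmonoid M) (hQ : IsFace N Q) (hQZ : Z.toAddSubmonoid = Q)
    (h : N.FG ∨ (IsSeparated X.hom ∧ LocallyOfFinitePresentation X.hom)) :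
    ∃ (ZN Zs : Over S) (eN : (attr aX N).RepresentableBy ZN) (es : (attr aX Q).RepresentableBy Zs) (j : ZN ⟶ Zs),
      IsAffineHom j.left ∧ ∀ (T : Over S) (z : T ⟶ ZN),
        es.homEquiv (z ≫ j) = (attrFace aX hQ).app (op T) (eN.homEquiv z) := by
  classical
  subst hQZ
  have hsU : IsSeparated U.hom := inferInstance
  -- the atlas side
  obtain ⟨V, iu, eu, hiu, hu⟩ := Groth.Agent.S18295.result S M Z.toAddSubmonoid U aU
  obtain ⟨W, iw, ew, hiw, hw⟩ := Groth.Agent.S18295.result S M N U aU
  have hiu' : Mono iu := DominantWhisker.mono_of_closedImmersion iu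
  -- the fixed points of the atlas
  obtain ⟨isoU, hisoU⟩ := Groth.Agent.S18289.result S M Z U (FprTransfer.toAction aU)
  obtain ⟨isoX, hisoX⟩ := Groth.Agent.S18289.result S M Z X (FprTransfer.toAction aX)
  obtain ⟨Zs, i, e, hi, hiW⟩ := Groth.Agent.S18299.result S (M ⧸ Z) X U
    (FprTransfer.toAction (aX.restrict (AMonS.map S (QuotientAddGroup.mk' Z))))
    (FprTransfer.toAction (aU.restrict (AMonS.map S (QuotientAddGroup.mk' Z)))) g hgZ hfpr
    ⟨V, iu, eu.ofIso isoU, hiu, fun T w => (ConcreteCategory.congr_hom (congr_app hisoU (op T)) (eu.homEquiv w)).trans (hu T w)⟩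
  let es : (attr aX Z.toAddSubmonoid).RepresentableBy Zs := e.ofIso isoX.symm
  have hes : ∀ (T : Over S) (z : T ⟶ Zs), (attrToX aX Z.toAddSubmonoid).app (op T) (es.homEquiv z) = z ≫ i := by
    intro T z
    refine (ConcreteCategory.congr_hom (congr_app hisoX (op T)) (es.homEquiv z)).symm.trans ?_
    show (MonAct.fixedPshι _).app (op T) (isoX.hom.app (op T) (isoX.inv.app (op T) (e.homEquiv z))) = z ≫ i
    rw [Iso.inv_hom_id_app_apply]
    exact hiW T z
  have hiZ : Mono i := DominantWhisker.mono_of_closedImmersion i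
  have hinjX : ∀ (T : Over S) (φ φ' : (attr aX Z.toAddSubmonoid).obj (op T)),
      (attrToX aX Z.toAddSubmonoid).app (op T) φ = (attrToX aX Z.toAddSubmonoid).app (op T) φ' → φ = φ' := by
    intro T φ φ' hh
    apply es.homEquiv.symm.injective
    rw [← cancel_mono i, homEquiv_attrToX aX es i hes, homEquiv_attrToX aX es i hes, hh]
  let q : V ⟶ Zs := es.homEquiv.symm ((MonAct.eqvHom.postcomp (subAct S M Z.toAddSubmonoid) g hg).app (op V) (eu.homEquiv (𝟙 V)))
  have hq : q ≫ i = iu ≫ g := by
    simp only [q]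
    rw [homEquiv_attrToX aX es i hes, FprTransfer.eval_postcomp, hu, Category.id_comp]
  have sqV : IsPullback iu.left q.left g.left i.left := by
    refine IsPullback.map (Over.forget S) (f := iu) (g := q) (h := g) (i := i) ?_
    have hlift : ∀ c : PullbackCone g i, ∃ l : c.pt ⟶ V, l ≫ iu = c.fst := by
      intro c
      let T := c.pt
      let fx : (MonAct.fixedPsh (aX.restrict (AMonS.map S (QuotientAddGroup.mk' Z)))).obj (op T) := e.homEquiv c.snd
      obtain ⟨fy, -, hfy⟩ := (CategoryTheory.Limits.Types.isPullback_iff _ _ _ _).1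
        (hfpr.app (op T)) |>.2.2 fx c.fst ((hiW T c.snd).trans c.condition.symm)
      refine ⟨eu.homEquiv.symm (isoU.inv.app (op T) fy), ?_⟩
      rw [homEquiv_attrToX aU eu iu hu]
      refine (ConcreteCategory.congr_hom (congr_app hisoU (op T)) _).symm.trans ?_
      show (MonAct.fixedPshι _).app (op T) (isoU.hom.app (op T) (isoU.inv.app (op T) fy)) = c.fst
      rw [Iso.inv_hom_id_app_apply]
      exact hfy
    choose l hl using hlift
    refine ⟨⟨hq.symm⟩, ⟨PullbackCone.IsLimit.mk _ l hl (fun c => (cancel_mono i).1 ?_) fun c m hm _ => (cancel_mono iu).1 ?_⟩⟩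
    · rw [Category.assoc, hq, reassoc_of% hl c, c.condition]
    · rw [hm, hl]
  have : Etale q.left := MorphismProperty.of_isPullback (P := @Etale) sqV inferInstance
  have : Surjective q.left := MorphismProperty.of_isPullback (P := @Surjective) sqV inferInstance
  let w : W ⟶ V := eu.homEquiv.symm ((attrFace aU hQ).app (op W) (ew.homEquiv (𝟙 W)))
  have : IsAffineHom W.hom := by rw [← Over.w iw]; infer_instance
  have : IsAffineHom V.hom := by rw [← Over.w iu]; infer_instance
  have : IsAffineHom w.left := by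
    have : IsAffineHom (w.left ≫ V.hom) := by rw [Over.w w]; infer_instance
    exact MorphismProperty.of_postcomp (W := @IsAffineHom) (W' := @IsSeparated) w.left V.hom inferInstance this
  -- the maps of presheaves
  let etaX : attr aX N ⟶ yoneda.obj Zs :=
    { app := fun T => TypeCat.ofHom fun φ => es.homEquiv.symm ((attrFace aX hQ).app T φ)
      naturality := fun T T' t => ConcreteCategory.hom_ext _ _ fun φ => by
        show es.homEquiv.symm ((attrFace aX hQ).app T' ((attr aX N).map t φ)) =
          t.unop ≫ es.homEquiv.symm ((attrFace aX hQ).app T φ)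
        rw [← es.homEquiv.apply_eq_iff_eq, Equiv.apply_symm_apply, es.homEquiv_comp, Equiv.apply_symm_apply]
        exact ConcreteCategory.congr_hom ((attrFace aX hQ).naturality t) φ }
  let ρ : yoneda.obj W ⟶ attr aX N :=
    yonedaEquiv.symm ((MonAct.eqvHom.postcomp (subAct S M N) g hg).app (op W) (ew.homEquiv (𝟙 W)))
  have hew : ∀ {T : Over S} (z : T ⟶ W), (attr aU N).map z.op (ew.homEquiv (𝟙 W)) = ew.homEquiv z := fun z =>
    ((ew.homEquiv_comp z (𝟙 W)).symm.trans (by rw [Category.comp_id]))
  have hρ : ∀ {T : Over S} (z : T ⟶ W), ρ.app (op T) z = (MonAct.eqvHom.postcomp (subAct S M N) g hg).app (op T) (ew.homEquiv z) := by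
    intro T z
    rw [← hew z]
    exact (ConcreteCategory.congr_hom ((MonAct.eqvHom.postcomp (subAct S M N) g hg).naturality z.op) _).symm
  have heu : ∀ {T : Over S} (z : T ⟶ V), (attr aU Z.toAddSubmonoid).map z.op (eu.homEquiv (𝟙 V)) = eu.homEquiv z := fun z =>
    ((eu.homEquiv_comp z (𝟙 V)).symm.trans (by rw [Category.comp_id]))
  have hwz : ∀ {T : Over S} (z : T ⟶ W), eu.homEquiv (z ≫ w) = (attrFace aU hQ).app (op T) (ew.homEquiv z) := by
    intro T z
    rw [eu.homEquiv_comp, ← hew z]
    simp only [w, Equiv.apply_symm_apply]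
    exact (ConcreteCategory.congr_hom ((attrFace aU hQ).naturality z.op) _).symm
  have hqz : ∀ {T : Over S} (v : T ⟶ V), es.homEquiv (v ≫ q) =
      (MonAct.eqvHom.postcomp (subAct S M Z.toAddSubmonoid) g hg).app (op T) (eu.homEquiv v) := by
    intro T v
    rw [es.homEquiv_comp, ← heu v]
    simp only [q, Equiv.apply_symm_apply]
    exact (ConcreteCategory.congr_hom ((MonAct.eqvHom.postcomp (subAct S M Z.toAddSubmonoid) g hg).naturality v.op) _).symm
  have sq : IsPullback ρ (yoneda.map w) etaX (yoneda.map q) := by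
    refine IsPullback.of_forall_isPullback_app fun T => ?_
    rw [CategoryTheory.Limits.Types.isPullback_iff]
    refine ⟨ConcreteCategory.hom_ext _ _ fun z => ?_, ?_, ?_⟩
    · show es.homEquiv.symm ((attrFace aX hQ).app T (ρ.app T z)) = (z ≫ w) ≫ q
      rw [← es.homEquiv.apply_eq_iff_eq, Equiv.apply_symm_apply, hqz, hwz]
      erw [hρ]
      exact Subtype.ext (Category.assoc _ _ _).symm
    · rintro z z' ⟨h₁, h₂⟩
      apply ew.homEquiv.injective
      refine FacePullback.ext (f := g) hQ h hg _ _ ?_ ?_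
      · have := congrArg Subtype.val h₁
        erw [hρ, hρ] at this
        exact this
      · have h₂' : eu.homEquiv (z ≫ w) = eu.homEquiv (z' ≫ w) := congrArg _ h₂
        rw [hwz, hwz] at h₂'
        exact congrArg Subtype.val h₂'
    · intro φ v hh
      have hh' : (attrFace aX hQ).app T φ =
          (MonAct.eqvHom.postcomp (subAct S M Z.toAddSubmonoid) g hg).app T (eu.homEquiv v) :=
        ((es.homEquiv.apply_symm_apply _).symm.trans (congrArg _ hh)).trans (hqz v)
      obtain ⟨ψ, h₁, h₂⟩ := FacePullback.exists_lift (f := g) hQ h hg φ (eu.homEquiv v) (congrArg Subtype.val hh').symm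
      refine ⟨ew.homEquiv.symm ψ, ?_, ?_⟩
      · erw [hρ]
        rw [Equiv.apply_symm_apply]
        exact Subtype.ext h₁
      · apply eu.homEquiv.injective
        show eu.homEquiv (ew.homEquiv.symm ψ ≫ w) = _
        rw [hwz, Equiv.apply_symm_apply]
        exact Subtype.ext h₂
  obtain ⟨A, j, eA, hj, hjA⟩ := AffineSheafDescent.exists_representableBy
    (Groth.Agent.S18294.result S (AMonS S M) (AMonS S N) X (subAct S M N) aX) etaX q w ρ sq
  refine ⟨A, Zs, eA, es, j, hj, fun T z => ?_⟩
  rw [← hjA T z]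
  exact es.homEquiv.apply_symm_apply _

end Groth.Agent.Misc15.FprRep
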