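import Groth.Agent.Misc15.FacePullback
import Groth.Agent.Misc15.AttrPure
import Groth.Agent.S18289
import Groth.Agent.S18285

/-! Images of attractors along fixed point reflecting affine atlases. -/

set_option autoImplicit false
universe u

noncomputable section

open CategoryTheory CategoryTheory.Limits MonoidalCategory CartesianMonoidalCategory MonObj AlgebraicGeometry Opposite
open Magnet

namespace Groth.Agent.Misc15.FprTransfer

variable {S : Scheme.{u}} {M : Type} [AddCommGroup M]

/-- a monoid action of a group is a group action -/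
def toAction {X : Over S} (a : MonAct (AMonS S M) X) : AlgGrp.Action (Red.DS S M) X :=
  ⟨a.act, a.one_act, a.mul_act⟩

theorem ofAction_toAction {X : Over S} (a : MonAct (AMonS S M) X) : MonAct.ofAction (toAction a) = a :=
  MonAct.ext' rfl

/-- membership in the image of an attractor descends along étale surjections -/
theorem inImage_of_etale_cover {X : Over S} [IsSeparated X.hom] (a : MonAct (AMonS S M) X) (N : AddSubmonoid M)
    {T T' : Over S} (b : T' ⟶ T) [Etale b.left] [Surjective b.left] (x : T ⟶ X)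
    (h : AttrRep.InImage N a T' (b ≫ x)) : AttrRep.InImage N a T x := by
  classical
  let R : Sieve T := (Sieve.overEquiv T).symm (Sieve.generate (Presieve.singleton b.left))
  have hR : R ∈ (QuotSh.J Scheme.fppfPrecoverage S) T := by
    refine GrothendieckTopology.overEquiv_symm_mem_over _ T _ ?_
    refine Precoverage.generate_mem_toGrothendieck ?_
    have hP : (@Flat ⊓ @LocallyOfFinitePresentation : MorphismProperty Scheme.{u}) b.left :=
      ⟨inferInstance, inferInstance⟩
    exact (Scheme.singleton_mem_precoverage_iff _ b.left).2 ⟨b.left.surjective, hP⟩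
  have hmem : ∀ (W : Over S) (c : W ⟶ T), R c → AttrRep.InImage N a W (c ≫ x) := by
    intro W c hc
    rw [Sieve.overEquiv_symm_iff] at hc
    obtain ⟨_, d, _, ⟨⟩, hd⟩ := hc
    let d' : W ⟶ T' := Over.homMk d (by rw [← Over.w b, reassoc_of% hd, Over.w c])
    have : c = d' ≫ b := by ext1; exact hd.symm
    rw [this, Category.assoc]
    exact h.comp N a d'
  choose φ hφ using hmem
  have hinj := fun W => Groth.Agent.S18285.result S M X a N W
  let fam : Presieve.FamilyOfElements (attr a N) R.arrows := fun W c hc => φ W c hc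
  have hfam : fam.Compatible := by
    intro W₁ W₂ W g₁ g₂ f₁ f₂ h₁ h₂ hc
    apply hinj W
    show (attrToX a N).app (op W) _ = (attrToX a N).app (op W) _
    rw [AttrRep.evalAt_map, AttrRep.evalAt_map]
    show g₁ ≫ (attrToX a N).app (op W₁) (φ W₁ f₁ h₁) = g₂ ≫ (attrToX a N).app (op W₂) (φ W₂ f₂ h₂)
    rw [hφ, hφ, ← Category.assoc, hc, Category.assoc]
  obtain ⟨Φ, hΦ, -⟩ := ((isSheaf_iff_isSheaf_of_type _ _).1
    (Groth.Agent.S18294.result S (AMonS S M) (AMonS S N) X (subAct S M N) a)) R hR fam hfam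
  refine ⟨Φ, ?_⟩
  have hb : R b := by
    rw [Sieve.overEquiv_symm_iff]
    exact ⟨_, 𝟙 _, _, ⟨⟩, Category.id_comp _⟩
  have h1 : b ≫ (attrToX a N).app (op T) Φ = b ≫ x := by
    rw [← AttrRep.evalAt_map, hΦ b hb]
    exact hφ _ b hb
  have : Epi b.left := Flat.epi_of_flat_of_surjective b.left
  exact Over.OverMorphism.ext ((cancel_epi b.left).1 (congrArg Over.Hom.left h1))

theorem eval_postcomp {U X : Over S} {aU : MonAct (AMonS S M) U} {aX : MonAct (AMonS S M) X} {g : U ⟶ X}
    (hg : MonAct.IsEquivariant aU aX g) (N : AddSubmonoid M) {T : Over S} (φ : (attr aU N).obj (op T)) :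
    (attrToX aX N).app (op T) ((MonAct.eqvHom.postcomp (subAct S M N) g hg).app (op T) φ) =
      (attrToX aU N).app (op T) φ ≫ g := by
  show CartesianMonoidalCategory.lift (toUnit T ≫ η[AMonS S N]) (𝟙 T) ≫ φ.1 ≫ g =
    (CartesianMonoidalCategory.lift (toUnit T ≫ η[AMonS S N]) (𝟙 T) ≫ φ.1) ≫ g
  rw [Category.assoc]

/-- points of a group magnet are fixed points, and conversely -/
theorem exists_attr_group [AddGroup.FG M] {X : Over S} (a : MonAct (AMonS S M) X) (Z : AddSubgroup M) {T : Over S}
    (x : T ⟶ X) :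
    AttrRep.InImage Z.toAddSubmonoid a T x ↔
      ∀ (T' : Over S) (t : T' ⟶ T) (g : T' ⟶ AMonS S (M ⧸ Z)),
        lift g (t ≫ x) ≫ (a.restrict (AMonS.map S (QuotientAddGroup.mk' Z))).act = t ≫ x := by
  obtain ⟨e, he⟩ := Groth.Agent.S18289.result S M Z X (toAction a)
  constructor
  · rintro ⟨φ, rfl⟩
    have h1 := ConcreteCategory.congr_hom (congr_app he (op T)) φ
    intro T' t g
    have h2 := (e.hom.app (op T) φ).2 T' t g
    rw [← show (e.hom.app (op T) φ).1 = (attrToX a Z.toAddSubmonoid).app (op T) φ from h1]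
    exact h2
  · intro hx
    refine ⟨e.inv.app (op T) ⟨x, hx⟩, ?_⟩
    have h1 := ConcreteCategory.congr_hom (congr_app he (op T)) (e.inv.app (op T) ⟨x, hx⟩)
    refine h1.symm.trans ?_
    show ((e.inv ≫ e.hom).app (op T) ⟨x, hx⟩).1 = x
    rw [Iso.inv_hom_id]
    rfl

variable [AddGroup.FG M] {U X : Over S} (a : MonAct (AMonS S M) X) (aU : MonAct (AMonS S M) U) (g : U ⟶ X)
  (hg : MonAct.IsEquivariant aU a g)

include hg in
/-- containments between images of attractors pass from an atlas to the space -/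
theorem inImage_transfer [IsSeparated X.hom] [IsAffineHom U.hom] [Etale g.left] [Surjective g.left]
    (N L : AddSubmonoid M) (Z : AddSubgroup M) (hZ : ∀ m : M, m ∈ Z ↔ (m ∈ N ∧ -m ∈ N))
    (hgZ : MonAct.IsEquivariant (aU.restrict (AMonS.map S (QuotientAddGroup.mk' Z)))
      (a.restrict (AMonS.map S (QuotientAddGroup.mk' Z))) g)
    (hfpr : IsPullback (MonAct.fixedPsh.map g hgZ)
      (MonAct.fixedPshι (aU.restrict (AMonS.map S (QuotientAddGroup.mk' Z))))
      (MonAct.fixedPshι (a.restrict (AMonS.map S (QuotientAddGroup.mk' Z)))) (yoneda.map g))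
    (hc : N.FG ∨ LocallyOfFinitePresentation X.hom)
    (hU : ∀ (T : Over S) (y : T ⟶ U), AttrRep.InImage N aU T y → AttrRep.InImage L aU T y)
    {T : Over S} (x : T ⟶ X) (hx : AttrRep.InImage N a T x) : AttrRep.InImage L a T x := by
  classical
  obtain ⟨φ, rfl⟩ := hx
  have hQ : IsFace N Z.toAddSubmonoid := by
    refine ⟨fun m hm => ((hZ m).1 hm).1, fun p hp q hq hpq => ?_⟩
    obtain ⟨-, hneg⟩ := (hZ _).1 hpq
    refine ⟨(hZ p).2 ⟨hp, ?_⟩, (hZ q).2 ⟨hq, ?_⟩⟩
    · have := N.add_mem hq hneg
      rwa [show q + -(p + q) = -p by abel] at this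
    · have := N.add_mem hp hneg
      rwa [show p + -(p + q) = -q by abel] at this
  let q := (attrFace a hQ).app (op T) φ
  let x₀ : T ⟶ X := (attrToX a Z.toAddSubmonoid).app (op T) q
  have hx₀ := (exists_attr_group a Z x₀).1 ⟨q, rfl⟩
  let T' : Over S := Over.mk (Limits.pullback.fst x₀.left g.left ≫ T.hom)
  let b : T' ⟶ T := Over.homMk (Limits.pullback.fst x₀.left g.left) rfl
  let y : T' ⟶ U := Over.homMk (Limits.pullback.snd x₀.left g.left) (by
    show Limits.pullback.snd _ _ ≫ U.hom = Limits.pullback.fst _ _ ≫ T.hom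
    rw [← Over.w g, ← Limits.pullback.condition_assoc, Over.w x₀])
  have hbet : Etale b.left := MorphismProperty.pullback_fst (P := @Etale) _ _ inferInstance
  have hbs : Surjective b.left := MorphismProperty.pullback_fst (P := @Surjective) _ _ inferInstance
  have hby : b ≫ x₀ = y ≫ g := Over.OverMorphism.ext Limits.pullback.condition
  have hy : AttrRep.InImage Z.toAddSubmonoid aU T' y := by
    refine (exists_attr_group aU Z y).2 ?_
    let fx : (MonAct.fixedPsh (a.restrict (AMonS.map S (QuotientAddGroup.mk' Z)))).obj (op T') :=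
      ⟨b ≫ x₀, fun W t k => by rw [← Category.assoc]; exact hx₀ W (t ≫ b) k⟩
    obtain ⟨fy, -, hfy⟩ := (CategoryTheory.Limits.Types.isPullback_iff _ _ _ _).1
      (hfpr.app (op T')) |>.2.2 fx y hby
    intro W t k
    have h := fy.2 W t k
    rwa [show fy.1 = y from hfy] at h
  obtain ⟨u, hu⟩ := hy
  have hface : u.1 ≫ g = (AMonS.faceMap S hQ ▷ T') ≫ ((attr a N).map b.op φ).1 := by
    refine congrArg Subtype.val (Groth.Agent.S18285.result S M X a Z.toAddSubmonoid T'
      (a₁ := (MonAct.eqvHom.postcomp (subAct S M Z.toAddSubmonoid) g hg).app (op T') u)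
      (a₂ := (attrFace a hQ).app (op T') ((attr a N).map b.op φ)) ?_)
    show (attrToX a Z.toAddSubmonoid).app (op T') ((MonAct.eqvHom.postcomp (subAct S M Z.toAddSubmonoid) g hg).app (op T') u) = _
    rw [eval_postcomp, hu, ← hby]
    refine ((AttrRep.evalAt_map _ a b q).symm.trans ?_)
    exact congrArg _ (ConcreteCategory.congr_hom ((attrFace a hQ).naturality b.op) φ).symm
  obtain ⟨ψ, hψ, -⟩ := FacePullback.exists_lift (f := g) hQ (hc.imp id fun h => ⟨inferInstance, h⟩) hg
    ((attr a N).map b.op φ) u hface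
  obtain ⟨ψ', hψ'⟩ := hU T' ((attrToX aU N).app (op T') ψ) ⟨ψ, rfl⟩
  refine inImage_of_etale_cover a L b _ ⟨(MonAct.eqvHom.postcomp (subAct S M L) g hg).app (op T') ψ', ?_⟩
  rw [eval_postcomp, hψ', ← eval_postcomp hg N ψ,
    show (MonAct.eqvHom.postcomp (subAct S M N) g hg).app (op T') ψ = (attr a N).map b.op φ from Subtype.ext hψ]
  exact AttrRep.evalAt_map _ a b φ

end Groth.Agent.Misc15.FprTransfer
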