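import Groth.Agent.TwistLib.TildeQCoh
import Groth.Agent.Misc15.KoszulScheme
import Mathlib.Algebra.DirectSum.Module

/-! The direct sum of the Čech complexes of the `M(n)~` is the Čech complex of `M` on the affine cone. -/

set_option autoImplicit false
set_option linter.unusedSectionVars false
set_option backward.isDefEq.respectTransparency false
set_option backward.isDefEq.respectTransparency.types false
universe u

open CategoryTheory CategoryTheory.Limits AlgebraicGeometry TopologicalSpace Opposite DirectSum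
open Groth.Agent.TwistLib Groth.Agent.SiteCoh
open Groth.Agent.Coherent (resM resM_resM specBasicOpen mem_iInf_opens)

namespace Groth.Agent.Misc15.Koszul

/-- homology commutes with a decomposition of complexes -/
theorem nonempty_homology_directSum {ι : Type} [DecidableEq ι] (C : ι → CochainComplex AddCommGrpCat.{u} ℕ)
    (D : CochainComplex AddCommGrpCat.{u} ℕ) (Φ : ∀ i, C i ⟶ D)
    (hinj : ∀ q, Function.Injective (DirectSum.toAddMonoid fun i => ((Φ i).f q).hom))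
    (hsurj : ∀ q, Function.Surjective (DirectSum.toAddMonoid fun i => ((Φ i).f q).hom)) (p : ℕ) :
    Nonempty (DirectSum ι (fun i => ((C i).homology p : Type u)) ≃+ D.homology p) := by
  classical
  let F := DirectSum.toAddMonoid fun i => (HomologicalComplex.homologyMap (Φ i) p).hom
  -- the totalisation in each degree
  let T := fun q => DirectSum.toAddMonoid (β := fun i => ((C i).X q : Type u)) fun i => ((Φ i).f q).hom
  let dd := fun (q : ℕ) => DFinsupp.mapRange.addMonoidHom (β₁ := fun i => ((C i).X q : Type u))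
    (β₂ := fun i => ((C i).X (q + 1) : Type u)) fun i => ((C i).d q (q + 1)).hom
  have hdd : ∀ q x, T (q + 1) (dd q x) = (D.d q (q + 1)).hom (T q x) := by
    intro q x
    induction x using DirectSum.induction_on with
    | zero => simp
    | of i a =>
      have h1 : dd q (DirectSum.of _ i a) = DirectSum.of (fun i => ((C i).X (q + 1) : Type u)) i (((C i).d q (q + 1)).hom a) :=
        DFinsupp.mapRange_single (hf := fun i => map_zero _)
      rw [h1]
      simp only [T, DirectSum.toAddMonoid_of]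
      exact (congrArg (fun g => g.hom a) ((Φ i).comm q (q + 1))).symm
    | add a b ha hb => rw [map_add, map_add, map_add, ha, hb, map_add]
  -- homology classes of totalised cycles
  let π := fun (i : ι) => ((C i).homologyπ p).hom
  let cyc := fun (i : ι) => ((C i).iCycles p).hom
  let Z := DirectSum ι (fun i => ((C i).cycles p : Type u))
  let incl : Z →+ DirectSum ι (fun i => ((C i).X p : Type u)) := DFinsupp.mapRange.addMonoidHom cyc
  let proj : Z →+ DirectSum ι (fun i => ((C i).homology p : Type u)) := DFinsupp.mapRange.addMonoidHom π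
  let G : Z →+ (D.cycles p : Type u) := DirectSum.toAddMonoid fun i => (HomologicalComplex.cyclesMap (Φ i) p).hom
  have hG : ∀ z, (D.iCycles p).hom (G z) = T p (incl z) := by
    intro z
    induction z using DirectSum.induction_on with
    | zero => simp
    | of i a =>
      have h1 : incl (DirectSum.of _ i a) = DirectSum.of (fun i => ((C i).X p : Type u)) i (cyc i a) :=
        DFinsupp.mapRange_single (hf := fun i => map_zero _)
      rw [h1]
      simp only [G, T]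
      erw [DirectSum.toAddMonoid_of, DirectSum.toAddMonoid_of]
      exact congrArg (fun g => g.hom a) (HomologicalComplex.cyclesMap_i (Φ i) p)
    | add a b ha hb => rw [map_add, map_add, map_add, map_add, ha, hb]
  have hF : ∀ z, F (proj z) = (D.homologyπ p).hom (G z) := by
    intro z
    induction z using DirectSum.induction_on with
    | zero => simp
    | of i a =>
      have h1 : proj (DirectSum.of _ i a) = DirectSum.of (fun i => ((C i).homology p : Type u)) i (π i a) :=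
        DFinsupp.mapRange_single (hf := fun i => map_zero _)
      rw [h1]
      simp only [F, G]
      erw [DirectSum.toAddMonoid_of, DirectSum.toAddMonoid_of]
      exact congrArg (fun g => g.hom a) (HomologicalComplex.homologyπ_naturality (Φ i) p)
    | add a b ha hb => rw [map_add, map_add, map_add, map_add, ha, hb]
  have hproj : Function.Surjective proj := by
    intro x
    induction x using DirectSum.induction_on with
    | zero => exact ⟨0, map_zero _⟩
    | of i a =>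
      obtain ⟨b, rfl⟩ := (AddCommGrpCat.epi_iff_surjective ((C i).homologyπ p)).1 inferInstance a
      exact ⟨DirectSum.of _ i b, DFinsupp.mapRange_single (hf := fun i => map_zero _)⟩
    | add a b ha hb =>
      obtain ⟨x, rfl⟩ := ha; obtain ⟨y, rfl⟩ := hb; exact ⟨x + y, map_add _ _ _⟩
  have hGsurj : Function.Surjective G := by
    intro c
    obtain ⟨x, hx⟩ := hsurj p ((D.iCycles p).hom c)
    have hdx : dd p x = 0 := hinj (p + 1) (by
      show T (p + 1) (dd p x) = T (p + 1) 0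
      rw [hdd, map_zero]
      erw [hx]
      exact congrArg (fun g => g.hom c) (D.iCycles_d p (p + 1)))
    have hcy : ∀ i, ∃ z, cyc i z = x i := fun i => by
      have hex := ShortComplex.exact_of_f_is_kernel
        (ShortComplex.mk _ _ ((C i).iCycles_d p (p + 1))) ((C i).cyclesIsKernel p (p + 1) (CochainComplex.next _ _))
      exact (ShortComplex.ab_exact_iff _).1 hex (x i) (congrArg (fun v => v i) hdx)
    choose zf hzf using hcy
    let z : Z := ∑ i ∈ x.support, DirectSum.of _ i (zf i)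
    have hz : incl z = x := by
      conv_rhs => rw [← DirectSum.sum_support_of x]
      rw [map_sum]
      exact Finset.sum_congr rfl fun i _ =>
        (DFinsupp.mapRange_single (hf := fun i => map_zero (cyc i))).trans (by rw [hzf i]; rfl)
    refine ⟨z, (AddCommGrpCat.mono_iff_injective (D.iCycles p)).1 inferInstance ?_⟩
    rw [hG, hz]
    exact hx
  refine ⟨AddEquiv.ofBijective F ⟨?_, ?_⟩⟩
  · rw [injective_iff_map_eq_zero]
    intro a ha
    obtain ⟨z, rfl⟩ := hproj a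
    rw [hF] at ha
    obtain ⟨y, hy⟩ : ∃ y, (D.toCycles ((ComplexShape.up ℕ).prev p) p).hom y = G z :=
      (ShortComplex.ab_exact_iff _).1 (ShortComplex.exact_of_g_is_cokernel
        (ShortComplex.mk _ _ (HomologicalComplex.toCycles_comp_homologyπ D ((ComplexShape.up ℕ).prev p) p))
        (D.homologyIsCokernel _ p rfl)) (G z) ha
    obtain ⟨w, rfl⟩ := hsurj _ y
    let dp := DFinsupp.mapRange.addMonoidHom fun i => ((C i).toCycles ((ComplexShape.up ℕ).prev p) p).hom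
    have hdp : ∀ w, G (dp w) = (D.toCycles ((ComplexShape.up ℕ).prev p) p).hom
        (DirectSum.toAddMonoid (fun i => ((Φ i).f _).hom) w) := by
      intro w
      induction w using DirectSum.induction_on with
      | zero => simp
      | of i a =>
        have h1 : dp (DirectSum.of _ i a) = DirectSum.of (fun i => ((C i).cycles p : Type u)) i
            (((C i).toCycles ((ComplexShape.up ℕ).prev p) p).hom a) :=
          DFinsupp.mapRange_single (hf := fun i => map_zero _)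
        rw [h1]
        simp only [G]
        erw [DirectSum.toAddMonoid_of, DirectSum.toAddMonoid_of]
        refine (AddCommGrpCat.mono_iff_injective (D.iCycles p)).1 inferInstance ?_
        have e1 : (C i).toCycles ((ComplexShape.up ℕ).prev p) p ≫ HomologicalComplex.cyclesMap (Φ i) p =
            (Φ i).f ((ComplexShape.up ℕ).prev p) ≫ D.toCycles ((ComplexShape.up ℕ).prev p) p := by
          simp [← cancel_mono (D.iCycles p)]
        exact congrArg (fun g => (D.iCycles p).hom (g.hom a)) e1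
      | add a b ha hb => rw [map_add, map_add, ha, hb, map_add, map_add]
    have hGinj : Function.Injective G := fun a b hab => by
      have h1 : T p (incl a) = T p (incl b) := by rw [← hG, ← hG, hab]
      exact DFinsupp.ext fun i => (AddCommGrpCat.mono_iff_injective ((C i).iCycles p)).1 inferInstance
        (congrArg (fun v => v i) (hinj p h1))
    rw [← hGinj ((hdp w).trans hy)]
    refine DFinsupp.ext fun i => ?_
    show π i (((C i).toCycles _ p).hom (w i)) = 0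
    exact congrArg (fun g => g.hom (w i)) (HomologicalComplex.toCycles_comp_homologyπ (C i) _ p)
  · intro h
    obtain ⟨c, rfl⟩ := (AddCommGrpCat.epi_iff_surjective (D.homologyπ p)).1 inferInstance h
    obtain ⟨z, rfl⟩ := hGsurj c
    exact ⟨proj z, hF z⟩

section Graded

variable {R₀ A : Type u} [CommRing R₀] [CommRing A] [Algebra R₀ A] {𝒜 : ℕ → Submodule R₀ A} [GradedAlgebra 𝒜]
  {M : Type u} [AddCommGroup M] [Module R₀ M] [Module A M] (ℳ : ℕ → Submodule R₀ M)
  [DirectSum.Decomposition ℳ] [SetLike.GradedSMul 𝒜 ℳ] {R : CommRingCat.{u}} (φ : R →+* A)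

/-- the module on the affine space -/
noncomputable abbrev coneModule : ModuleCat.{u} R := res φ (ModuleCat.of A M)

theorem smul_rho (τ : R) (l : ℕ) (V : (Spec R).Opens) (m : M) :
    τ ^ l • rho (coneModule φ (M := M)) V m = rho (coneModule φ (M := M)) V (φ τ ^ l • m : M) := by
  rw [← map_smul]
  refine congrArg _ ?_
  show φ (τ ^ l) • m = φ τ ^ l • m
  rw [map_pow]

variable (n : ℤ)

/-- `y` is the section `m / τ^k` attached to `s` -/
def Rep (τ : R) (δ : ℕ) (U : Opens (ProjectiveSpectrum.top 𝒜)) (V : (Spec R).Opens) (s : GrTilde.sect 𝒜 ℳ n (op U))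
    (y : Γ(tilde (coneModule φ (M := M)), V)) : Prop :=
  ∃ (k i : ℕ) (m : M), m ∈ ℳ i ∧ (i : ℤ) = k * δ + n ∧
    (∀ (x : U) (hx : φ τ ^ k ∉ x.1.asHomogeneousIdeal.toIdeal), (s.1 x).1 = LocalizedModule.mk m ⟨φ τ ^ k, hx⟩) ∧
    τ ^ k • y = rho (coneModule φ (M := M)) V m

variable {τ : R} {δ : ℕ} (hτ : φ τ ∈ 𝒜 δ) (hδ : 0 < δ) {U : Opens (ProjectiveSpectrum.top 𝒜)} {V : (Spec R).Opens}

include hτ in
theorem Rep.raise {s : GrTilde.sect 𝒜 ℳ n (op U)} {y : Γ(tilde (coneModule φ (M := M)), V)} {k i : ℕ} {m : M}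
    (hm : m ∈ ℳ i) (hi : (i : ℤ) = k * δ + n) (hU : U ≤ ProjectiveSpectrum.basicOpen 𝒜 (φ τ))
    (hs : ∀ (x : U) (hx : φ τ ^ k ∉ x.1.asHomogeneousIdeal.toIdeal), (s.1 x).1 = LocalizedModule.mk m ⟨φ τ ^ k, hx⟩)
    (hy : τ ^ k • y = rho (coneModule φ (M := M)) V m) (l : ℕ) :
    (φ τ ^ l • m ∈ ℳ (l * δ + i) ∧ ((l * δ + i : ℕ) : ℤ) = ((k + l : ℕ) : ℤ) * δ + n) ∧
    (∀ (x : U) (hx : φ τ ^ (k + l) ∉ x.1.asHomogeneousIdeal.toIdeal),
      (s.1 x).1 = LocalizedModule.mk (φ τ ^ l • m) ⟨φ τ ^ (k + l), hx⟩) ∧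
    τ ^ (k + l) • y = rho (coneModule φ (M := M)) V (φ τ ^ l • m : M) := by
  refine ⟨⟨SetLike.GradedSMul.smul_mem (pow_mem_deg hτ l) hm, by push_cast; rw [hi]; ring⟩, fun x hx => ?_, ?_⟩
  · have hxk := pow_notMem (hU x.2) k
    rw [hs x hxk]
    refine LocalizedModule.mk_eq.mpr ⟨1, ?_⟩
    show (1 : A) • φ τ ^ (k + l) • m = (1 : A) • φ τ ^ k • φ τ ^ l • m
    rw [pow_add, mul_smul]
  · rw [pow_add, mul_comm, mul_smul, hy, smul_rho]

include hτ in
theorem Rep.common {s s' : GrTilde.sect 𝒜 ℳ n (op U)} {y y' : Γ(tilde (coneModule φ (M := M)), V)}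
    (hU : U ≤ ProjectiveSpectrum.basicOpen 𝒜 (φ τ)) (h : Rep ℳ φ n τ δ U V s y) (h' : Rep ℳ φ n τ δ U V s' y') :
    ∃ (k i : ℕ) (m m' : M), m ∈ ℳ i ∧ m' ∈ ℳ i ∧ (i : ℤ) = k * δ + n ∧
      (∀ (x : U) (hx : φ τ ^ k ∉ x.1.asHomogeneousIdeal.toIdeal), (s.1 x).1 = LocalizedModule.mk m ⟨φ τ ^ k, hx⟩ ∧
        (s'.1 x).1 = LocalizedModule.mk m' ⟨φ τ ^ k, hx⟩) ∧
      τ ^ k • y = rho (coneModule φ (M := M)) V m ∧ τ ^ k • y' = rho (coneModule φ (M := M)) V m' := by
  obtain ⟨k, i, m, hm, hi, hs, hy⟩ := h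
  obtain ⟨k', i', m', hm', hi', hs', hy'⟩ := h'
  obtain ⟨⟨ha, ha'⟩, hb, hc⟩ := Rep.raise ℳ φ n hτ hm hi hU hs hy k'
  obtain ⟨⟨ga, ga'⟩, gb, gc⟩ := Rep.raise ℳ φ n hτ hm' hi' hU hs' hy' k
  have e : k' * δ + i = k * δ + i' := by
    have : ((k' * δ + i : ℕ) : ℤ) = ((k * δ + i' : ℕ) : ℤ) := by rw [ha', ga', add_comm k k']
    exact_mod_cast this
  refine ⟨k + k', k' * δ + i, _, _, ha, e ▸ ga, ha', fun x hx => ⟨hb x hx, ?_⟩, hc, ?_⟩
  · rw [gb x (by rw [add_comm]; exact hx)]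
    congr 2
    exact congrArg _ (add_comm k' k)
  · rw [add_comm]; exact gc

theorem eq_of_pow_smul_eq {k : ℕ} (hV : V ≤ specBasicOpen τ) {y y' : Γ(tilde (coneModule φ (M := M)), V)}
    (h : τ ^ k • y = τ ^ k • y') : y = y' :=
  (Scheme.Modules.isSMulRegular_of_le_basicOpen hV).pow k h

theorem exists_pow_smul_eq (k : ℕ) (hV : V ≤ specBasicOpen τ) (z : Γ(tilde (coneModule φ (M := M)), V)) :
    ∃ y : Γ(tilde (coneModule φ (M := M)), V), τ ^ k • y = z := by
  have h := ((tilde (coneModule φ (M := M))).isUnit_algebraMap_end_of_le_basicOpen τ hV).pow k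
  rw [← map_pow, Module.End.isUnit_iff] at h
  exact h.2 z

variable (hU : U = ProjectiveSpectrum.basicOpen 𝒜 (φ τ)) (hV : V = specBasicOpen τ)

include hτ hδ hU hV in
theorem exists_rep (s : GrTilde.sect 𝒜 ℳ n (op U)) : ∃ y, Rep ℳ φ n τ δ U V s y := by
  subst hU
  obtain ⟨k, i, m, hi, hs⟩ := exists_frac (ℳ := ℳ) hδ hτ s
  obtain ⟨y, hy⟩ := exists_pow_smul_eq φ k hV.le (rho (coneModule φ (M := M)) V m.1)
  exact ⟨y, k, i, m, m.2, hi, fun x hx => hs x, hy⟩

include hτ hδ hU hV in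
theorem rep_unique {s : GrTilde.sect 𝒜 ℳ n (op U)} {y y' : Γ(tilde (coneModule φ (M := M)), V)}
    (h : Rep ℳ φ n τ δ U V s y) (h' : Rep ℳ φ n τ δ U V s y') : y = y' := by
  obtain ⟨k, i, m, m', hm, hm', -, hs, hy, hy'⟩ := Rep.common ℳ φ n hτ hU.le h h'
  subst hU
  obtain ⟨N, hN⟩ := exists_pow_smul_eq_zero (sub_mem hm hm') hδ hτ fun x hx => by
    obtain ⟨h1, h2⟩ := hs ⟨x, hx⟩ (pow_notMem hx k)
    obtain ⟨⟨c, hc⟩, hc'⟩ := LocalizedModule.mk_eq.mp (h1.symm.trans h2)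
    refine ⟨c * φ τ ^ k, fun h => ?_, ?_⟩
    · rcases x.isPrime.mem_or_mem h with h | h
      exacts [hc h, pow_notMem hx k h]
    · rw [mul_smul, smul_sub, smul_sub]
      exact sub_eq_zero.2 hc'
  refine eq_of_pow_smul_eq φ (k := N + k) hV.le ?_
  rw [pow_add, mul_smul, mul_smul, hy, hy', smul_rho, smul_rho]
  exact congrArg _ (sub_eq_zero.1 (by rw [← smul_sub, hN]))

include hτ in
theorem rep_add (hU : U ≤ ProjectiveSpectrum.basicOpen 𝒜 (φ τ)) {s s' : GrTilde.sect 𝒜 ℳ n (op U)}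
    {y y' : Γ(tilde (coneModule φ (M := M)), V)} (h : Rep ℳ φ n τ δ U V s y) (h' : Rep ℳ φ n τ δ U V s' y') :
    Rep ℳ φ n τ δ U V (s + s') (y + y') := by
  obtain ⟨k, i, m, m', hm, hm', hi, hs, hy, hy'⟩ := Rep.common ℳ φ n hτ hU h h'
  refine ⟨k, i, m + m', add_mem hm hm', hi, fun x hx => ?_, by rw [smul_add, hy, hy']; exact (map_add _ _ _).symm⟩
  show (s.1 x).1 + (s'.1 x).1 = _
  rw [(hs x hx).1, (hs x hx).2, LocalizedModule.mk_add_mk]
  refine LocalizedModule.mk_eq.mpr ⟨1, ?_⟩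
  show (1 : A) • φ τ ^ k • (φ τ ^ k • m + φ τ ^ k • m') = (1 : A) • (φ τ ^ k * φ τ ^ k) • (m + m')
  rw [← smul_add, smul_smul (φ τ ^ k) (φ τ ^ k)]

/-- `m / s ↦ m / s` -/
noncomputable def psi : GrTilde.sect 𝒜 ℳ n (op U) →+ Γ(tilde (coneModule φ (M := M)), V) :=
  AddMonoidHom.mk' (fun s => (exists_rep ℳ φ n hτ hδ hU hV s).choose) fun s s' =>
    rep_unique ℳ φ n hτ hδ hU hV (exists_rep ℳ φ n hτ hδ hU hV (s + s')).choose_spec
      (rep_add ℳ φ n hτ hU.le (exists_rep ℳ φ n hτ hδ hU hV s).choose_spec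
        (exists_rep ℳ φ n hτ hδ hU hV s').choose_spec)

theorem psi_spec (s : GrTilde.sect 𝒜 ℳ n (op U)) : Rep ℳ φ n τ δ U V s (psi ℳ φ n hτ hδ hU hV s) :=
  (exists_rep ℳ φ n hτ hδ hU hV s).choose_spec

/-- all degrees together -/
noncomputable def psiTot : DirectSum ℤ (fun n => GrTilde.sect 𝒜 ℳ n (op U)) →+ Γ(tilde (coneModule φ (M := M)), V) :=
  DirectSum.toAddMonoid fun n => psi ℳ φ n hτ hδ hU hV

theorem psiTot_surjective : Function.Surjective (psiTot ℳ φ hτ hδ hU hV) := by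
  classical
  intro y
  subst hV
  obtain ⟨k, x, hx⟩ := exists_rho_eq (coneModule φ (M := M)) τ y
  suffices H : ∀ (x : M) (y : Γ(tilde (coneModule φ (M := M)), specBasicOpen τ)),
      rho (coneModule φ (M := M)) (specBasicOpen τ) x = τ ^ k • y → ∃ v, psiTot ℳ φ hτ hδ hU rfl v = y from H x y hx
  intro x
  induction x using DirectSum.Decomposition.inductionOn (ℳ := ℳ) with
  | zero =>
    intro y hy
    refine ⟨0, (map_zero _).trans (eq_of_pow_smul_eq φ (k := k) le_rfl ?_)⟩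
    exact (smul_zero _).trans ((map_zero (rho (coneModule φ (M := M)) (specBasicOpen τ))).symm.trans hy)
  | @homogeneous i m =>
    intro y hy
    subst hU
    let n : ℤ := i - k * δ
    let s : GrTilde.sect 𝒜 ℳ n (op (ProjectiveSpectrum.basicOpen 𝒜 (φ τ))) :=
      fracSect _ m ⟨φ τ ^ k, pow_mem_deg hτ k⟩ (fun z => pow_notMem z.2 k) (by simp only [n]; push_cast; ring)
    refine ⟨DirectSum.of _ n s, ?_⟩
    rw [psiTot, DirectSum.toAddMonoid_of]
    exact rep_unique ℳ φ n hτ hδ rfl rfl (psi_spec ℳ φ n hτ hδ rfl rfl s)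
      ⟨k, i, m, m.2, by simp only [n]; ring, fun z hz => rfl, hy.symm⟩
  | add a b ha hb =>
    intro y hy
    obtain ⟨y₁, hy₁⟩ := exists_pow_smul_eq φ k le_rfl (rho (coneModule φ (M := M)) (specBasicOpen τ) a)
    obtain ⟨v₁, hv₁⟩ := ha y₁ hy₁.symm
    obtain ⟨v₂, hv₂⟩ := hb (y - y₁) (by
      rw [smul_sub, hy₁, ← hy, eq_sub_iff_add_eq]
      exact (map_add _ _ _).symm.trans (congrArg _ (add_comm b a)))
    exact ⟨v₁ + v₂, by rw [map_add, hv₁, hv₂, add_sub_cancel]⟩

theorem psiTot_injective : Function.Injective (psiTot ℳ φ hτ hδ hU hV) := by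
  classical
  suffices H : ∀ v, psiTot ℳ φ hτ hδ hU hV v = 0 → ∀ n, v n = 0 by
    intro v w hvw
    let neg : DirectSum ℤ (fun n => GrTilde.sect 𝒜 ℳ n (op U)) →+ DirectSum ℤ (fun n => GrTilde.sect 𝒜 ℳ n (op U)) :=
      DFinsupp.mapRange.addMonoidHom fun n => AddMonoidHom.mk' (fun z : GrTilde.sect 𝒜 ℳ n (op U) => -z) fun a b => neg_add a b
    have hneg : ∀ z, psiTot ℳ φ hτ hδ hU hV (neg z) = - psiTot ℳ φ hτ hδ hU hV z := by
      intro z
      induction z using DirectSum.induction_on with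
      | zero => simp
      | of n x =>
        have h1 : neg (DirectSum.of _ n x) = DirectSum.of (fun n => GrTilde.sect 𝒜 ℳ n (op U)) n (-x) :=
          DFinsupp.mapRange_single (f := fun n (z : GrTilde.sect 𝒜 ℳ n (op U)) => -z) (hf := fun i => Subtype.ext neg_zero)
        rw [h1, psiTot, DirectSum.toAddMonoid_of, DirectSum.toAddMonoid_of]
        exact eq_neg_of_add_eq_zero_left ((map_add _ _ _).symm.trans ((congrArg _ (neg_add_cancel x)).trans (map_zero _)))
      | add a b ha hb => rw [map_add, map_add, map_add, ha, hb, neg_add]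
    have h0 := H (v + neg w) (by rw [map_add, hneg, hvw, add_neg_cancel])
    refine DFinsupp.ext fun n => ?_
    have h1 : v n + -(w n) = 0 := h0 n
    exact eq_of_sub_eq_zero (by rw [sub_eq_add_neg]; exact h1)
  intro v hv
  have hrep := fun n => psi_spec ℳ φ n hτ hδ hU hV (v n)
  choose k i m hm hi hs hy using hrep
  let K := v.support.sup k
  have hle : ∀ n ∈ v.support, k n ≤ K := fun n hn => Finset.le_sup (f := k) hn
  have hraise := fun n => Rep.raise ℳ φ n hτ (hm n) (hi n) hU.le (hs n) (hy n) (K - k n)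
  have hsum : rho (coneModule φ (M := M)) V (∑ n ∈ v.support, φ τ ^ (K - k n) • m n : M) = 0 := by
    refine (map_sum _ _ _).trans ?_
    have h0 : τ ^ K • psiTot ℳ φ hτ hδ hU hV v = 0 := by rw [hv, smul_zero]
    rw [← DirectSum.sum_support_of v, map_sum, Finset.smul_sum] at h0
    refine (Finset.sum_congr rfl fun n hn => ?_).trans h0
    rw [psiTot, DirectSum.toAddMonoid_of]
    have := (hraise n).2.2
    rw [Nat.add_sub_cancel' (hle n hn)] at this
    exact this.symm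
  have hz : ∀ (V' : (Spec R).Opens), V' = specBasicOpen τ → ∀ x : coneModule φ (M := M),
      rho (coneModule φ (M := M)) V' x = 0 → ∃ N : ℕ, τ ^ N • x = 0 := by
    rintro _ rfl x hx
    exact exists_pow_of_rho_eq_zero _ τ x hx
  obtain ⟨N, hN⟩ := hz V hV _ hsum
  have hN' : φ τ ^ N • (∑ n ∈ v.support, φ τ ^ (K - k n) • m n) = 0 := by
    rw [← map_pow]; exact hN
  rw [Finset.smul_sum] at hN'
  intro n
  by_contra hne
  have hn : n ∈ v.support := DFinsupp.mem_support_iff.2 hne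
  let D : M →+ ℳ (N * δ + ((K - k n) * δ + i n)) :=
    AddMonoidHom.mk' (fun z => decompose ℳ z _) fun a b => by rw [decompose_add, DirectSum.add_apply]
  have hzero : φ τ ^ N • φ τ ^ (K - k n) • m n = 0 := by
    have h1 := congrArg (fun z => ((D z : ℳ _) : M)) hN'
    simp only [map_sum, map_zero, ZeroMemClass.coe_zero, AddSubmonoidClass.coe_finsetSum] at h1
    rw [Finset.sum_eq_single n] at h1
    · exact (decompose_of_mem_same ℳ (SetLike.GradedSMul.smul_mem (pow_mem_deg hτ N)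
        (hraise n).1.1)).symm.trans h1
    · intro b hb hbn
      refine decompose_of_mem_ne ℳ (SetLike.GradedSMul.smul_mem (pow_mem_deg hτ N) (hraise b).1.1) ?_
      intro e
      have e1 := (hraise n).1.2
      have e2 := (hraise b).1.2
      rw [Nat.add_sub_cancel' (hle n hn)] at e1
      rw [Nat.add_sub_cancel' (hle b hb)] at e2
      apply hbn
      have : ((K - k b) * δ + i b : ℕ) = (K - k n) * δ + i n := by
        have : N * δ + ((K - k b) * δ + i b) = N * δ + ((K - k n) * δ + i n) := e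
        omega
      rw [this] at e2
      linarith
    · exact fun h => absurd hn h
  refine hne (sect_ext fun x => ?_)
  rw [(hraise n).2.1 x (pow_notMem (hU.le x.2) _)]
  refine (LocalizedModule.mk_eq.mpr ⟨⟨φ τ ^ N, pow_notMem (hU.le x.2) N⟩, ?_⟩).trans
    (LocalizedModule.zero_mk (1 : x.1.asHomogeneousIdeal.toIdeal.primeCompl))
  show φ τ ^ N • (1 : A) • φ τ ^ (K - k n) • m n = φ τ ^ N • φ τ ^ (k n + (K - k n)) • (0 : M)
  rw [one_smul, smul_zero, smul_zero, hzero]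

include hτ in
theorem rep_res {τ' : R} {δ' e : ℕ} {u : R} (hu : φ u ∈ 𝒜 e) (hτu : τ = u * τ') (hδu : δ = e + δ')
    {U' : Opens (ProjectiveSpectrum.top 𝒜)} {V' : (Spec R).Opens} (hUU : U ≤ U') (hVV : V ≤ V') (hU : U ≤ ProjectiveSpectrum.basicOpen 𝒜 (φ τ))
    {s : GrTilde.sect 𝒜 ℳ n (op U')} {y : Γ(tilde (coneModule φ (M := M)), V')} (h : Rep ℳ φ n τ' δ' U' V' s y) :
    Rep ℳ φ n τ δ U V (GrTilde.res 𝒜 ℳ n (homOfLE hUU).op s) (resM (tilde (coneModule φ (M := M))) hVV y) := by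
  obtain ⟨k, i, m, hm, hi, hs, hy⟩ := h
  refine ⟨k, k * e + i, φ u ^ k • m, SetLike.GradedSMul.smul_mem (pow_mem_deg hu k) hm, ?_, fun x hx => ?_, ?_⟩
  · rw [hδu]; push_cast; rw [hi]; ring
  · have hx' : φ τ' ^ k ∉ x.1.asHomogeneousIdeal.toIdeal := fun hk => hx (by
      rw [hτu, map_mul, mul_pow]; exact Ideal.mul_mem_left _ _ hk)
    refine (hs ⟨x.1, hUU x.2⟩ hx').trans (LocalizedModule.mk_eq.mpr ⟨1, ?_⟩)
    show (1 : A) • φ τ ^ k • m = (1 : A) • φ τ' ^ k • φ u ^ k • m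
    rw [hτu, map_mul, mul_pow, smul_smul (φ τ' ^ k), mul_comm (φ τ' ^ k)]
  · rw [hτu, mul_pow, mul_smul, ← resM_smul_spec _ hVV (τ' ^ k), hy, rho_res, smul_rho]

end Graded

section Complexes

variable {R₀ A : Type u} [CommRing R₀] [CommRing A] [Algebra R₀ A] {𝒜 : ℕ → Submodule R₀ A} [GradedAlgebra 𝒜]
  {M : Type u} [AddCommGroup M] [Module R₀ M] [Module A M] (ℳ : ℕ → Submodule R₀ M)
  [DirectSum.Decomposition ℳ] [SetLike.GradedSMul 𝒜 ℳ] {R : CommRingCat.{u}} (φ : R →+* A)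
  {ι : Type u} (t : ι → R) (d : ι → ℕ) (hd : ∀ i, 0 < d i) (hmem : ∀ i, φ (t i) ∈ 𝒜 (d i))

/-- the family on `Proj` -/
noncomputable abbrev projFam (i : ι) : Opens (ProjectiveSpectrum.top 𝒜) := ProjectiveSpectrum.basicOpen 𝒜 (φ (t i))

/-- the family on the affine space -/
noncomputable abbrev specFam (i : ι) : (Spec R).Opens := specBasicOpen (t i)

variable {q : ℕ} (a : Fin (q + 1) → ι)

include hmem in
theorem prod_mem_deg : φ (∏ k, t (a k)) ∈ 𝒜 (∑ k, d (a k)) := by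
  rw [map_prod]
  exact SetLike.prod_mem_graded 𝒜 (fun k => d (a k)) (fun k => φ (t (a k))) fun k _ => hmem (a k)

include hd in
theorem sum_deg_pos : 0 < ∑ k, d (a k) :=
  lt_of_lt_of_le (hd (a 0)) (Finset.single_le_sum (f := fun k => d (a k)) (fun _ _ => Nat.zero_le _) (Finset.mem_univ 0))

theorem inter_projFam : Cech.inter (projFam (𝒜 := 𝒜) φ t) a = ProjectiveSpectrum.basicOpen 𝒜 (φ (∏ k, t (a k))) := by
  rw [inter_eq_iInf]
  ext x
  simp only [SetLike.mem_coe, mem_iInf_opens, map_prod]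
  show (∀ k, φ (t (a k)) ∉ x.asHomogeneousIdeal.toIdeal) ↔ (∏ k, φ (t (a k))) ∉ x.asHomogeneousIdeal.toIdeal
  rw [x.isPrime.prod_mem_iff]
  simp

theorem inter_specFam : Cech.inter (specFam t) a = specBasicOpen (∏ k, t (a k)) := by
  rw [inter_eq_iInf]
  ext x
  simp only [SetLike.mem_coe, mem_iInf_opens]
  show (∀ k, t (a k) ∉ x.asIdeal) ↔ (∏ k, t (a k)) ∉ x.asIdeal
  rw [x.2.prod_mem_iff]
  simp

/-- component of the comparison -/
noncomputable def psiA (n : ℤ) :
    GrTilde.sect 𝒜 ℳ n (op (Cech.inter (projFam (𝒜 := 𝒜) φ t) a)) →+ Γ(tilde (coneModule φ (M := M)), Cech.inter (specFam t) a) :=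
  psi ℳ φ n (prod_mem_deg φ t d hmem a) (sum_deg_pos d hd a) (inter_projFam (𝒜 := 𝒜) φ t a) (inter_specFam t a)

theorem psiA_face (n : ℤ) (b : Fin (q + 2) → ι) (j : Fin (q + 2))
    (s : GrTilde.sect 𝒜 ℳ n (op (Cech.inter (projFam (𝒜 := 𝒜) φ t) (b ∘ j.succAbove)))) :
    psiA ℳ φ t d hd hmem b n (GrTilde.res 𝒜 ℳ n (Cech.face (projFam (𝒜 := 𝒜) φ t) b j).op s) =
      resM (tilde (coneModule φ (M := M))) (leOfHom (Cech.face (specFam t) b j))
        (psiA ℳ φ t d hd hmem (b ∘ j.succAbove) n s) := by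
  refine rep_unique ℳ φ n (prod_mem_deg φ t d hmem b) (sum_deg_pos d hd b) (inter_projFam (𝒜 := 𝒜) φ t b) (inter_specFam t b)
    (psi_spec ..) ?_
  exact rep_res ℳ φ n (prod_mem_deg φ t d hmem b) (hmem (b j)) (Fin.prod_univ_succAbove _ j)
    (Fin.sum_univ_succAbove _ j) (leOfHom (Cech.face (projFam (𝒜 := 𝒜) φ t) b j)) _ (inter_projFam (𝒜 := 𝒜) φ t b).le
    (psi_spec ℳ φ n (prod_mem_deg φ t d hmem (b ∘ j.succAbove)) (sum_deg_pos d hd _) (inter_projFam (𝒜 := 𝒜) φ t _) (inter_specFam t _) s)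

/-- the Čech complex of `M(n)~` -/
noncomputable abbrev projCx (n : ℤ) : CochainComplex AddCommGrpCat.{u} ℕ :=
  Cech.cx (GrTilde.tilde 𝒜 ℳ n).presheaf (projFam (𝒜 := 𝒜) φ t)

/-- the Čech complex on the affine space -/
noncomputable abbrev specCx : CochainComplex AddCommGrpCat.{u} ℕ :=
  Cech.cx (tilde (coneModule φ (M := M))).presheaf (specFam t)

/-- the comparison in a degree -/
noncomputable def phiDeg (n : ℤ) (q : ℕ) : (projCx (𝒜 := 𝒜) ℳ φ t n).X q →+ (specCx φ t (M := M)).X q :=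
  AddMonoidHom.mk' (fun x => Cech.mk (tilde (coneModule φ (M := M))).presheaf (specFam t) fun a =>
      psiA ℳ φ t d hd hmem a n (Cech.ev (GrTilde.tilde 𝒜 ℳ n).presheaf (projFam (𝒜 := 𝒜) φ t) a x)) fun x y =>
    Cech.ext _ _ fun a => by
      rw [map_add, Cech.ev_mk, Cech.ev_mk, Cech.ev_mk, map_add]
      exact map_add _ _ _

theorem ev_phiDeg (n : ℤ) (x : (projCx (𝒜 := 𝒜) ℳ φ t n).X q) :
    Cech.ev (tilde (coneModule φ (M := M))).presheaf (specFam t) a (phiDeg ℳ φ t d hd hmem n q x) =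
      psiA ℳ φ t d hd hmem a n (Cech.ev (GrTilde.tilde 𝒜 ℳ n).presheaf (projFam (𝒜 := 𝒜) φ t) a x) :=
  Cech.ev_mk _ _ _ _

/-- the comparison morphism -/
noncomputable def phiCx (n : ℤ) : projCx (𝒜 := 𝒜) ℳ φ t n ⟶ specCx φ t (M := M) where
  f q := AddCommGrpCat.ofHom (phiDeg ℳ φ t d hd hmem n q)
  comm' := by
    rintro i j rfl
    ext x
    refine Cech.ext _ _ fun b => ?_
    show Cech.ev _ _ b (((specCx φ t (M := M)).d i (i + 1)).hom (phiDeg ℳ φ t d hd hmem n i x)) =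
      Cech.ev _ _ b (phiDeg ℳ φ t d hd hmem n (i + 1) (((projCx (𝒜 := 𝒜) ℳ φ t n).d i (i + 1)).hom x))
    refine ((Cech.ev_d _ _ _ b).trans ?_).trans
      ((ev_phiDeg ℳ φ t d hd hmem b n _).trans (congrArg _ (Cech.ev_d _ _ _ b))).symm
    refine Eq.trans ?_ (map_sum (psiA ℳ φ t d hd hmem b n) _ _).symm
    refine Finset.sum_congr rfl fun j _ => ?_
    refine Eq.trans ?_ (map_zsmul (psiA ℳ φ t d hd hmem b n) _ _).symm
    refine congrArg (fun z => (-1 : ℤ) ^ (j : ℕ) • z) ?_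
    rw [ev_phiDeg]
    exact (psiA_face ℳ φ t d hd hmem n b j _).symm

/-- all degrees -/
noncomputable def evTot : DirectSum ℤ (fun n => ((projCx (𝒜 := 𝒜) ℳ φ t n).X q : Type u)) →+
    DirectSum ℤ (fun n => GrTilde.sect 𝒜 ℳ n (op (Cech.inter (projFam (𝒜 := 𝒜) φ t) a))) :=
  DFinsupp.mapRange.addMonoidHom fun n =>
    (show (projCx (𝒜 := 𝒜) ℳ φ t n).X q →+ GrTilde.sect 𝒜 ℳ n (op (Cech.inter (projFam (𝒜 := 𝒜) φ t) a)) from
      Cech.ev (GrTilde.tilde 𝒜 ℳ n).presheaf (projFam (𝒜 := 𝒜) φ t) a)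

theorem psiTot_evTot (v : DirectSum ℤ (fun n => ((projCx (𝒜 := 𝒜) ℳ φ t n).X q : Type u))) :
    psiTot ℳ φ (prod_mem_deg φ t d hmem a) (sum_deg_pos d hd a) (inter_projFam (𝒜 := 𝒜) φ t a) (inter_specFam t a) (evTot (𝒜 := 𝒜) ℳ φ t a v) =
      Cech.ev (tilde (coneModule φ (M := M))).presheaf (specFam t) a
        (DirectSum.toAddMonoid (fun n => ((phiCx ℳ φ t d hd hmem n).f q).hom) v) := by
  classical
  induction v using DirectSum.induction_on with
  | zero => simp only [map_zero]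
  | of n x =>
    have h1 : evTot (𝒜 := 𝒜) ℳ φ t a (DirectSum.of _ n x) = DirectSum.of (fun n => GrTilde.sect 𝒜 ℳ n (op (Cech.inter (projFam (𝒜 := 𝒜) φ t) a))) n
        (Cech.ev (GrTilde.tilde 𝒜 ℳ n).presheaf (projFam (𝒜 := 𝒜) φ t) a x) := DFinsupp.mapRange_single (hf := fun i => map_zero _)
    rw [h1, psiTot, DirectSum.toAddMonoid_of]
    erw [DirectSum.toAddMonoid_of]
    exact (ev_phiDeg ℳ φ t d hd hmem a n x).symm
  | add x y hx hy =>
    rw [map_add, map_add, map_add, hx, hy]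
    exact (map_add _ _ _).symm

variable [Finite ι]

include hd hmem in
theorem nonempty_graded_cech (p : ℕ) :
    Nonempty (DirectSum ℤ (fun n => ((projCx (𝒜 := 𝒜) ℳ φ t n).homology p : Type u)) ≃+ (specCx φ t (M := M)).homology p) := by
  classical
  have := Fintype.ofFinite ι
  refine nonempty_homology_directSum _ _ (phiCx ℳ φ t d hd hmem) (fun q => ?_) (fun q y => ?_) p
  · intro v w hvw
    refine DFinsupp.ext fun n => Cech.ext _ _ fun a => ?_
    have h1 : evTot (𝒜 := 𝒜) ℳ φ t a v = evTot (𝒜 := 𝒜) ℳ φ t a w :=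
      psiTot_injective ℳ φ (prod_mem_deg φ t d hmem a) (sum_deg_pos d hd a) (inter_projFam (𝒜 := 𝒜) φ t a) (inter_specFam t a)
        (by rw [psiTot_evTot (𝒜 := 𝒜) ℳ φ t d hd hmem, psiTot_evTot (𝒜 := 𝒜) ℳ φ t d hd hmem, hvw])
    exact congrArg (fun z => z n) h1
  · have hv := fun a : Fin (q + 1) → ι => psiTot_surjective ℳ φ (prod_mem_deg φ t d hmem a) (sum_deg_pos d hd a)
      (inter_projFam (𝒜 := 𝒜) φ t a) (inter_specFam t a) (Cech.ev _ _ a y)
    choose v hv using hv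
    let ins : ∀ (a : Fin (q + 1) → ι) (n : ℤ), GrTilde.sect 𝒜 ℳ n (op (Cech.inter (projFam (𝒜 := 𝒜) φ t) a)) →+ (projCx (𝒜 := 𝒜) ℳ φ t n).X q :=
      fun a n => AddMonoidHom.mk' (fun e => Cech.mk (GrTilde.tilde 𝒜 ℳ n).presheaf (projFam (𝒜 := 𝒜) φ t) fun b =>
        if h : a = b then h ▸ e else 0) fun e e' => Cech.ext _ _ fun b => by
          rw [map_add, Cech.ev_mk, Cech.ev_mk, Cech.ev_mk]
          by_cases h : a = b
          · subst h; simp
          · simp [h]
    have hins : ∀ a b (z : DirectSum ℤ fun n => GrTilde.sect 𝒜 ℳ n (op (Cech.inter (projFam (𝒜 := 𝒜) φ t) a))),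
        evTot (𝒜 := 𝒜) ℳ φ t b (DFinsupp.mapRange.addMonoidHom (ins a) z) = if h : a = b then h ▸ z else 0 := by
      intro a b z
      refine DFinsupp.ext fun n => ?_
      show Cech.ev _ _ b (ins a n (z n)) = _
      refine (Cech.ev_mk _ _ _ b).trans ?_
      by_cases h : a = b
      · subst h; simp
      · simp [h]
    refine ⟨∑ a, DFinsupp.mapRange.addMonoidHom (ins a) (v a), Cech.ext _ _ fun b => ?_⟩
    rw [← psiTot_evTot (𝒜 := 𝒜) ℳ φ t d hd hmem, map_sum, Finset.sum_eq_single b]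
    · rw [hins, dif_pos rfl]
      exact hv b
    · intro a _ hab
      rw [hins, dif_neg hab]
    · intro h; exact absurd (Finset.mem_univ b) h

end Complexes

theorem nonempty_spec_cech {R : CommRingCat.{u}} [IsNoetherianRing R] (ts : List R) (hreg : RegPow ts) {ι : Type u}
    (t : ι → R) (ht : ∀ a, a ∈ ts ↔ ∃ i, t i = a) (N : ModuleCat.{u} R) (q : ℕ) :
    Nonempty (((Cech.cx (tilde N).presheaf (fun i => specBasicOpen (t i))).homology (q + 1) : Type u) ≃+
      CohIII.koszulHLim ts N (q + 1 + 1)) := by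
  have hsup : (⨆ i, specBasicOpen (t i)) = unionD ts := by
    ext x
    simp only [SetLike.mem_coe, Opens.mem_iSup, mem_unionD, ht]
    exact ⟨fun ⟨i, hi⟩ => ⟨_, ⟨i, rfl⟩, hi⟩, fun ⟨_, ⟨i, e⟩, hx⟩ => ⟨i, by rw [← e] at hx; exact hx⟩⟩
  obtain ⟨e₂⟩ := Groth.Agent.S0464.result (X := (Spec R).toTopCat) (Coh.toAb (tilde N)) (fun i => specBasicOpen (t i))
    (fun p a m => Groth.Agent.Coherent.subsingleton_H'_qcoh_pos (tilde N)
      (isAffineOpen_iInf_fin p _ fun k => IsAffineOpen.Spec_basicOpen (t (a k))) m.succ_pos) (q + 1)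
  obtain ⟨e₃⟩ := nonempty_HU q ts hreg N
  exact ⟨e₂.trans ((Coherent.H'Congr (Coh.toAb (tilde N)) (q + 1) hsup).trans e₃)⟩

theorem nonempty_proj_HHon {R₀ A : Type u} [CommRing R₀] [CommRing A] [Algebra R₀ A] {𝒜 : ℕ → Submodule R₀ A}
    [GradedAlgebra 𝒜] {M : Type u} [AddCommGroup M] [Module R₀ M] [Module A M] (ℳ : ℕ → Submodule R₀ M)
    [DirectSum.Decomposition ℳ] [SetLike.GradedSMul 𝒜 ℳ] {R : CommRingCat.{u}} (φ : R →+* A) {ι : Type u} (t : ι → R)
    (d : ι → ℕ) (hd : ∀ i, 0 < d i) (hmem : ∀ i, φ (t i) ∈ 𝒜 (d i)) (U : (Proj 𝒜).Opens)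
    (hU : (⨆ i, Proj.basicOpen 𝒜 (φ (t i))) = U) (n : ℤ) (q : ℕ) :
    Nonempty (Coh.HHon (Proj 𝒜) (GrTilde.tilde 𝒜 ℳ n) U q ≃+
      ((projCx (𝒜 := 𝒜) ℳ φ t n).homology q : Type u)) := by
  have := isQCoh_tilde (𝒜 := 𝒜) ℳ n
  obtain ⟨e⟩ := Groth.Agent.S0464.result (X := (Proj 𝒜).toTopCat) (Coh.toAb (GrTilde.tilde 𝒜 ℳ n))
    (fun i => Proj.basicOpen 𝒜 (φ (t i))) (fun p a m => by
      refine Groth.Agent.Coherent.subsingleton_H'_qcoh_pos (GrTilde.tilde 𝒜 ℳ n) ?_ m.succ_pos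
      exact (congrArg IsAffineOpen ((inter_eq_iInf _ a).symm.trans (inter_projFam (𝒜 := 𝒜) φ t a))).mpr
        (Proj.isAffineOpen_basicOpen 𝒜 _ (prod_mem_deg φ t d hmem a) (sum_deg_pos d hd a))) q
  exact ⟨(Coherent.HHonEquiv (GrTilde.tilde 𝒜 ℳ n) _ q).trans
      ((Coherent.H'Congr (Coh.toAb (GrTilde.tilde 𝒜 ℳ n)) q hU).symm.trans e.symm)⟩

theorem nonempty_graded_koszul {R₀ A : Type u} [CommRing R₀] [CommRing A] [Algebra R₀ A] {𝒜 : ℕ → Submodule R₀ A}
    [GradedAlgebra 𝒜] {M : Type u} [AddCommGroup M] [Module R₀ M] [Module A M] (ℳ : ℕ → Submodule R₀ M)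
    [DirectSum.Decomposition ℳ] [SetLike.GradedSMul 𝒜 ℳ] {R : CommRingCat.{u}} [IsNoetherianRing R] (φ : R →+* A)
    (ts : List R) (hreg : RegPow ts) (fs : List A) (hmap : ts.map φ = fs) {ι : Type u} [Finite ι] (t : ι → R)
    (ht : ∀ a, a ∈ ts ↔ ∃ i, t i = a) (d : ι → ℕ) (hd : ∀ i, 0 < d i) (hmem : ∀ i, φ (t i) ∈ 𝒜 (d i))
    (U : (Proj 𝒜).Opens) (hU : (⨆ i, Proj.basicOpen 𝒜 (φ (t i))) = U) (q : ℕ) :
    Nonempty (DirectSum ℤ (fun n : ℤ => Coh.HHon (Proj 𝒜) (GrTilde.tilde 𝒜 ℳ n) U (q + 1)) ≃+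
      CohIII.koszulHLim fs (ModuleCat.of A M) (q + 1 + 1)) := by
  subst hmap
  have e₀ := fun n : ℤ => Classical.choice (nonempty_proj_HHon ℳ φ t d hd hmem U hU n (q + 1))
  obtain ⟨e₁⟩ := nonempty_graded_cech (𝒜 := 𝒜) ℳ φ t d hd hmem (q + 1)
  obtain ⟨e₂⟩ := nonempty_spec_cech ts hreg t ht (coneModule φ (M := M)) q
  obtain ⟨e₃⟩ := nonempty_bridge φ (ModuleCat.of A M) ts (q + 1 + 1)
  exact ⟨(DFinsupp.mapRange.addEquiv e₀).trans (e₁.trans (e₂.trans e₃.symm))⟩

end Groth.Agent.Misc15.Koszul
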