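import Mathlib.RingTheory.Polynomial.Basic
import Mathlib.RingTheory.Flat.EquationalCriterion
import Mathlib.RingTheory.RingHom.Flat

/-! Rings with a coaction `ρ : A → A[X]` of the multiplicative monoid of the affine line. -/

set_option autoImplicit false
universe u

open Polynomial

namespace Groth.Agent.Misc15.GradedLine

variable {A B : Type u} [CommRing A] [CommRing B]

/-- the annihilator of an element killed by a flat ring map becomes the unit ideal -/
theorem map_ann_eq_top (g : B →+* A) (hg : g.Flat) (b : B) (hb : g b = 0) :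
    ∃ (n : ℕ) (r : Fin n → B) (c : Fin n → A), (∀ i, b * r i = 0) ∧ ∑ i, g (r i) * c i = 1 := by
  letI := g.toAlgebra
  have : Module.Flat B A := hg
  obtain ⟨n, r, c, h1, h2⟩ := Module.Flat.isTrivialRelation_of_sum_smul_eq_zero (R := B) (M := A)
    (f := fun _ : Fin 1 => b) (x := fun _ => (1 : A)) (by simpa [Algebra.smul_def, RingHom.algebraMap_toAlgebra] using hb)
  refine ⟨n, r 0, c, fun i => ?_, ?_⟩
  · simpa using h2 i
  · simpa [Algebra.smul_def, RingHom.algebraMap_toAlgebra] using (h1 0).symm

theorem mem_map_ann_eq_top (g : B →+* A) (hg : g.Flat) (b : B) (hb : g b = 0) {P : Ideal A} [P.IsPrime] :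
    ∃ r : B, b * r = 0 ∧ r ∉ P.comap g := by
  obtain ⟨n, r, c, h1, h2⟩ := map_ann_eq_top g hg b hb
  by_contra hh
  push Not at hh
  apply ‹P.IsPrime›.ne_top
  rw [Ideal.eq_top_iff_one, ← h2]
  exact sum_mem fun i _ => P.mul_mem_right _ (hh (r i) (h1 i))

variable (ρA : A →+* A[X]) (ρB : B →+* B[X]) (φ : B →+* A) (ψ : A →+* B)

/-- a map of graded rings which is an isomorphism on the fixed points, reflects them and is flat near them, is bijective -/
theorem bijective (hA1 : ∀ a, (ρA a).eval 1 = a) (hB1 : ∀ b, (ρB b).eval 1 = b)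
    (hA2 : ∀ a n, ρA ((ρA a).coeff n) = monomial n ((ρA a).coeff n))
    (hB2 : ∀ b n, ρB ((ρB b).coeff n) = monomial n ((ρB b).coeff n))
    (hρ : ∀ b, ρA (φ b) = (ρB b).map φ)
    (h0 : ∀ a, φ (ψ a) = (ρA a).coeff 0) (h1 : ∀ b, ψ (φ b) = (ρB b).coeff 0)
    (hJ : ∀ a, (ρA a).coeff 0 = 0 → a ∈ Ideal.span (φ '' {b | (ρB b).coeff 0 = 0}))
    (hfl : ∀ p : Ideal B, p.IsPrime → (∀ b, (ρB b).coeff 0 = 0 → b ∈ p) →
      ∀ b : B, φ b = 0 → ∃ r : B, b * r = 0 ∧ r ∉ p) :
    Function.Bijective φ := by
  constructor
  · rw [injective_iff_map_eq_zero]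
    intro b hb
    have hcoeff : ∀ n, φ ((ρB b).coeff n) = 0 := by
      intro n
      rw [← coeff_map, ← hρ, hb, map_zero, coeff_zero]
    suffices hn : ∀ n, (ρB b).coeff n = 0 by
      have : ρB b = 0 := ext fun n => by rw [hn n, coeff_zero]
      rw [← hB1 b, this, eval_zero]
    intro n
    let c := (ρB b).coeff n
    let K : Ideal B := RingHom.ker (constantCoeff.comp ρB)
    have htop : (Submodule.span B {c}).annihilator ⊔ K = ⊤ := by
      by_contra hne
      obtain ⟨p, hp, hle⟩ := Ideal.exists_le_maximal _ hne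
      obtain ⟨r, hr, hrp⟩ := hfl p hp.isPrime (fun b' hb' => hle (Ideal.mem_sup_right (by
        simpa [K, RingHom.mem_ker] using hb'))) c (hcoeff n)
      exact hrp (hle (Ideal.mem_sup_left ((Submodule.mem_annihilator_span_singleton _ _).2 (by
        rw [smul_eq_mul, mul_comm]; exact hr))))
    obtain ⟨j, hj, k, hk, hjk⟩ := Submodule.mem_sup.1 ((Ideal.eq_top_iff_one _).1 htop)
    have hk0 : (ρB k).coeff 0 = 0 := by simpa [K, RingHom.mem_ker] using hk
    have hj0 : (ρB j).coeff 0 = 1 := by
      have h := congrArg (fun x => (ρB x).coeff 0) hjk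
      simpa [hk0] using h
    have hjc : j * c = 0 := by
      simpa using (Submodule.mem_annihilator_span_singleton _ _).1 hj
    have h := congrArg (fun x => (ρB x).coeff n) hjc
    simp only [map_mul, c, hB2, map_zero, coeff_zero] at h
    have h' : ((ρB j) * monomial n ((ρB b).coeff n)).coeff (0 + n) = (ρB j).coeff 0 * (ρB b).coeff n :=
      coeff_mul_monomial _ _ _ _
    rw [zero_add, hj0, _root_.one_mul] at h'
    exact h'.symm.trans h
  · intro a
    suffices hn : ∀ n, ∀ a, (ρA a).coeff n ∈ φ.range by
      have : (ρA a).eval 1 ∈ φ.range := by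
        rw [eval_eq_sum_range]
        exact sum_mem fun i _ => by simpa using hn i a
      rwa [hA1] at this
    intro n
    induction n using Nat.strong_induction_on with
    | _ n ih =>
      intro a
      obtain rfl | hn := Nat.eq_zero_or_pos n
      · exact ⟨ψ a, h0 a⟩
      let c := (ρA a).coeff n
      have hc0 : (ρA c).coeff 0 = 0 := by
        simp only [c, hA2, coeff_monomial]
        rw [if_neg hn.ne']
      have key : ∀ x ∈ Ideal.span (φ '' {b | (ρB b).coeff 0 = 0}), ∀ d, (ρA (d * x)).coeff n ∈ φ.range := by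
        intro x hx
        induction hx using Submodule.span_induction with
        | mem x hx =>
          obtain ⟨b, hb, rfl⟩ := hx
          intro d
          rw [map_mul, hρ, coeff_mul]
          refine sum_mem fun ⟨p, q⟩ hpq => ?_
          rw [coeff_map]
          rcases Nat.eq_zero_or_pos q with rfl | hq
          · rw [show (ρB b).coeff 0 = 0 from hb, map_zero, mul_zero]
            exact zero_mem _
          · have : p < n := by
              rw [Finset.HasAntidiagonal.mem_antidiagonal] at hpq
              simp only at hpq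
              omega
            exact mul_mem (ih p this d) ⟨_, rfl⟩
        | zero => intro d; simp
        | add x y _ _ hx hy => intro d; rw [mul_add, map_add, coeff_add]; exact add_mem (hx d) (hy d)
        | smul r x _ hx => intro d; rw [smul_eq_mul, ← mul_assoc]; exact hx (d * r)
      have h := key c (hJ c hc0) 1
      simpa [c, hA2] using h

end Groth.Agent.Misc15.GradedLine
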