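import Groth.Agent.Misc15.FacePushout
import Groth.Agent.Misc15.FaceHeight
import Mathlib.RingTheory.Ideal.Quotient.Operations

/-! The filtration of a monoid algebra `K[N]` by a height cutting out a face. -/

set_option autoImplicit false
universe u

noncomputable section

open Magnet
open Groth.Agent.Misc15.MagnetPointsS (MA)
open Groth.Agent.Misc15.FacePushout (faceHom inclHom face_coeff incl_coeff incl_coeff_notMem)

namespace Groth.Agent.Misc15.HeightFilt

variable {M : Type} [AddCommGroup M] {N : AddSubmonoid M}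

/-- a height on `N` with zero locus the face `Q` -/
structure Height (N Q : AddSubmonoid M) where
  g : M →+ ℤ
  nonneg : ∀ x ∈ N, 0 ≤ g x
  face : IsFace N Q
  zero_iff : ∀ x ∈ N, g x = 0 ↔ x ∈ Q

theorem nonempty_height [AddGroup.FG M] {Q : AddSubmonoid M} (hN : N.FG) (hQ : IsFace N Q) :
    Nonempty (Height N Q) := by
  obtain ⟨g, hg⟩ := FaceHeight.exists_functional hN hQ
  exact ⟨⟨g, fun x hx => (hg x hx).1, hQ, fun x hx => (hg x hx).2⟩⟩

variable {Q : AddSubmonoid M} (h : Height N Q) (K : Type u) [CommRing K]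

/-- the height of an exponent -/
abbrev Height.deg (x : Multiplicative N) : ℤ := h.g (x.toAdd : M)

theorem Height.deg_mul (x y : Multiplicative N) : h.deg (x * y) = h.deg x + h.deg y :=
  map_add h.g _ _

theorem Height.deg_nonneg (x : Multiplicative N) : 0 ≤ h.deg x := h.nonneg _ x.toAdd.2

/-- the elements all whose degrees have height at least `n` -/
def J (n : ℕ) : Ideal (MA K N) where
  carrier := {a | ∀ x : Multiplicative N, h.deg x < n → a.coeff x = 0}
  add_mem' {a b} ha hb := fun x hx => by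
    rw [MonoidAlgebra.coeff_add, Finsupp.add_apply, ha x hx, hb x hx, _root_.add_zero]
  zero_mem' := fun x _ => rfl
  smul_mem' c a ha := by
    classical
    intro x hx
    show (c * a).coeff x = 0
    rw [MonoidAlgebra.coeff_mul, Finsupp.sum]
    refine Finset.sum_eq_zero fun y _ => ?_
    rw [Finsupp.sum]
    refine Finset.sum_eq_zero fun z _ => ?_
    split_ifs with e
    · subst e
      have h1 := h.deg_nonneg y
      rw [h.deg_mul] at hx
      rw [ha z (by omega), mul_zero]
    · rfl

theorem mem_J {n : ℕ} {a : MA K N} : a ∈ J h K n ↔ ∀ x, h.deg x < n → a.coeff x = 0 := Iff.rfl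

theorem J_zero : J h K 0 = ⊤ := eq_top_iff.2 fun a _ x hx => absurd hx (not_lt.2 (h.deg_nonneg x))

theorem J_anti {m n : ℕ} (hmn : m ≤ n) : J h K n ≤ J h K m := fun a ha x hx => ha x (by omega)

theorem J_mul_le (m n : ℕ) : J h K m * J h K n ≤ J h K (m + n) := by
  classical
  rw [Ideal.mul_le]
  intro a ha b hb x hx
  rw [MonoidAlgebra.coeff_mul, Finsupp.sum]
  refine Finset.sum_eq_zero fun y _ => ?_
  rw [Finsupp.sum]
  refine Finset.sum_eq_zero fun z _ => ?_
  split_ifs with e
  · subst e
    rw [h.deg_mul] at hx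
    by_cases hy : h.deg y < m
    · rw [ha y hy, zero_mul]
    · rw [hb z (by omega), mul_zero]
  · rfl

theorem eq_zero_of_forall (a : MA K N) (ha : ∀ n, a ∈ J h K n) : a = 0 :=
  MonoidAlgebra.ext (Finsupp.ext fun x => ha ((h.deg x).toNat + 1) x (by omega))

theorem exists_deg_bound (a : MA K N) : ∃ n : ℕ, ∀ x ∈ a.coeff.support, h.deg x < n :=
  ⟨a.coeff.support.sup (fun x => (h.deg x).toNat) + 1, fun x hx => by
    have := Finset.le_sup (f := fun x => (h.deg x).toNat) hx
    omega⟩

theorem coeff_eq_of_mk_eq {n : ℕ} {a b : MA K N}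
    (e : Ideal.Quotient.mk (J h K n) a = Ideal.Quotient.mk (J h K n) b) (x : Multiplicative N) (hx : h.deg x < n) :
    a.coeff x = b.coeff x := by
  have := Ideal.Quotient.eq.1 e x hx
  rwa [MonoidAlgebra.coeff_sub, Finsupp.sub_apply, sub_eq_zero] at this

/-- the first step is the kernel of the face projection -/
theorem J_one : J h K 1 = RingHom.ker (faceHom K h.face) := by
  refine le_antisymm (fun a ha => ?_) (fun a ha x hx => ?_)
  · refine MonoidAlgebra.ext (Finsupp.ext fun x => ?_)
    obtain ⟨x, rfl⟩ : ∃ m, Multiplicative.ofAdd m = x := ⟨x.toAdd, rfl⟩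
    rw [face_coeff h.face]
    refine ha _ ?_
    show h.g (x : M) < 1
    rw [(h.zero_iff _ (h.face.le x.2)).2 x.2]
    omega
  · have h1 := h.deg_nonneg x
    have hQ : (x.toAdd : M) ∈ Q := (h.zero_iff _ x.toAdd.2).1 (show h.deg x = 0 by omega)
    have := congrArg (fun w : MA K Q => w.coeff (Multiplicative.ofAdd ⟨(x.toAdd : M), hQ⟩)) (RingHom.mem_ker.1 ha)
    simp only [face_coeff] at this
    exact this

theorem sub_incl_face_mem (a : MA K N) : a - inclHom K h.face.le (faceHom K h.face a) ∈ J h K 1 := by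
  intro x hx
  have h1 := h.deg_nonneg x
  have hQ : (x.toAdd : M) ∈ Q := (h.zero_iff _ x.toAdd.2).1 (show h.deg x = 0 by omega)
  obtain ⟨y, rfl⟩ : ∃ y : Q, Multiplicative.ofAdd (AddSubmonoid.inclusion h.face.le y) = x := ⟨⟨_, hQ⟩, rfl⟩
  rw [MonoidAlgebra.coeff_sub, Finsupp.sub_apply, incl_coeff, face_coeff, sub_self]

/-- elements of height zero preserve a bound on the degrees -/
theorem eq_zero_of_mem_of_bound (c : MA K Q) (a : MA K N) {n : ℕ} (hn : ∀ x ∈ a.coeff.support, h.deg x < n)
    (hmem : inclHom K h.face.le c * a ∈ J h K n) : inclHom K h.face.le c * a = 0 := by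
  classical
  refine MonoidAlgebra.ext (Finsupp.ext fun x => ?_)
  by_cases hx : h.deg x < n
  · exact hmem x hx
  rw [MonoidAlgebra.coeff_mul, Finsupp.sum]
  refine Finset.sum_eq_zero fun y hy => ?_
  rw [Finsupp.sum]
  refine Finset.sum_eq_zero fun z hz => ?_
  split_ifs with e
  · subst e
    exfalso
    have hy0 : h.deg y = 0 := by
      by_contra hne
      refine Finsupp.mem_support_iff.1 hy (incl_coeff_notMem h.face.le c y.toAdd ?_)
      exact fun hyQ => hne ((h.zero_iff _ y.toAdd.2).2 hyQ)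
    rw [h.deg_mul, hy0, _root_.zero_add] at hx
    exact hx (hn z hz)
  · rfl

/-- an element killed near the face on every step is killed near the face -/
theorem exists_pow_mul_eq_zero (b a : MA K N)
    (ha : ∀ n, ∃ l : ℕ, (b * inclHom K h.face.le (faceHom K h.face b)) ^ l * a ∈ J h K n) :
    ∃ k : ℕ, inclHom K h.face.le (faceHom K h.face b) ^ k * a = 0 := by
  set b₀ := inclHom K h.face.le (faceHom K h.face b) with hb₀
  have hd : ∀ l : ℕ, (b * b₀) ^ l - (b₀ * b₀) ^ l ∈ J h K 1 := by
    intro l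
    obtain ⟨c, hc⟩ := sub_dvd_pow_sub_pow (b * b₀) (b₀ * b₀) l
    rw [hc, ← sub_mul]
    exact Ideal.mul_mem_right _ _ (Ideal.mul_mem_right _ _ (sub_incl_face_mem h K b))
  have step : ∀ n : ℕ, ∃ k : ℕ, b₀ ^ k * a ∈ J h K n := by
    intro n
    induction n with
    | zero => exact ⟨0, by rw [J_zero]; trivial⟩
    | succ n ih =>
      obtain ⟨k, hk⟩ := ih
      obtain ⟨l, hl⟩ := ha (n + 1)
      refine ⟨2 * l + k, ?_⟩
      have h1 := J_mul_le h K 1 n (Ideal.mul_mem_mul (hd l) hk)
      rw [_root_.add_comm 1 n] at h1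
      have h2 : (b * b₀) ^ l * (b₀ ^ k * a) ∈ J h K (n + 1) := by
        rw [← _root_.mul_assoc, mul_comm ((b * b₀) ^ l), _root_.mul_assoc]
        exact Ideal.mul_mem_left _ _ hl
      have := sub_mem h2 h1
      rw [← sub_mul, sub_sub_cancel] at this
      convert this using 1
      rw [pow_add, mul_pow, ← pow_add, two_mul, pow_add]
      ring
  obtain ⟨n, hn⟩ := exists_deg_bound h K a
  obtain ⟨k, hk⟩ := step n
  refine ⟨k, ?_⟩
  rw [← map_pow] at hk ⊢
  exact eq_zero_of_mem_of_bound h K _ a hn hk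

/-- change of coefficients respects the filtration -/
theorem map_J_le {L : Type u} [CommRing L] (φ : K →+* L) (n : ℕ) :
    J h K n ≤ (J h L n).comap (MonoidAlgebra.mapRingHom (Multiplicative N) φ) := by
  intro a ha x hx
  simp [ha x hx]

end Groth.Agent.Misc15.HeightFilt
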