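import Groth.Agent.Misc15.KoszulElem
import Mathlib.RingTheory.Ideal.AssociatedPrime.Finiteness
import Mathlib.RingTheory.Nakayama

/-! Depth sensitivity of Koszul complexes. -/

set_option autoImplicit false
set_option backward.isDefEq.respectTransparency false
set_option backward.isDefEq.respectTransparency.types false
universe u

open CategoryTheory CategoryTheory.Limits CochainComplex
open scoped Pointwise

namespace Groth.Agent.Misc15.Koszul

open CohIII (koszulCx koszulH)
open RingTheory.Sequence

variable {A : Type u} [CommRing A] (xs : List A)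

/-- elementwise exactness of the Koszul complex in a degree -/
def ExAt (M : ModuleCat.{u} A) (j : ℤ) : Prop :=
  ∀ z : (koszulCx M xs).X j, ((koszulCx M xs).d j (j + 1)).hom z = 0 → ∃ y, ((koszulCx M xs).d (j - 1) j).hom y = z

theorem isZero_koszulH_iff (M : ModuleCat.{u} A) (p : ℕ) :
    IsZero (koszulH xs M p) ↔ ExAt xs M ((p : ℤ) - xs.length) := by
  rw [← HomologicalComplex.exactAt_iff_isZero_homology,
    HomologicalComplex.exactAt_iff' _ ((p : ℤ) - xs.length - 1) _ ((p : ℤ) - xs.length + 1)
      (CochainComplex.prev _ _) (CochainComplex.next _ _), ShortComplex.moduleCat_exact_iff]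
  rfl

/-- the quotient by multiplication by an element -/
noncomputable abbrev quotBy (a : A) (M : ModuleCat.{u} A) : M ⟶ ModuleCat.of A (QuotSMulTop a M) :=
  ModuleCat.ofHom (Submodule.mkQ _)

theorem exact_quotBy (a : A) (M : ModuleCat.{u} A) :
    Function.Exact (ModuleCat.ofHom (a • LinearMap.id : M →ₗ[A] M)).hom (quotBy a M).hom := by
  rw [LinearMap.exact_iff]
  ext m
  show Submodule.mkQ (a • (⊤ : Submodule A M)) m = 0 ↔ _
  rw [Submodule.mkQ_apply, Submodule.Quotient.mk_eq_zero, LinearMap.mem_range]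
  exact ⟨fun ⟨m', _, e⟩ => ⟨m', e⟩, fun ⟨m', e⟩ => ⟨m', trivial, e⟩⟩

theorem kMap_d {M N : ModuleCat.{u} A} (g : M ⟶ N) (i j : ℤ) (x : (koszulCx M xs).X i) :
    ((kMap g xs).f j).hom (((koszulCx M xs).d i j).hom x) = ((koszulCx N xs).d i j).hom (((kMap g xs).f i).hom x) :=
  (congrArg (fun φ => φ.hom x) ((kMap g xs).comm i j)).symm

theorem kMap_quotBy_eq_zero (a : A) (M : ModuleCat.{u} A) (i : ℤ) (x : (koszulCx M xs).X i)
    (hx : ((kMap (quotBy a M) xs).f i).hom x = 0) : ∃ e, a • e = x := by
  obtain ⟨e, he⟩ := (kMap_exact _ _ (exact_quotBy a M) xs i x).1 hx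
  exact ⟨e, (kMap_smul_id a M xs i e).symm.trans he⟩

theorem smul_injective_X {a : A} {M : ModuleCat.{u} A} (ha : IsSMulRegular M a) (i : ℤ) :
    Function.Injective fun x : (koszulCx M xs).X i => a • x := fun x y hxy =>
  kMap_injective (ModuleCat.ofHom (a • LinearMap.id : M →ₗ[A] M)) (fun _ _ e => ha e) xs i
    ((kMap_smul_id a M xs i x).trans (hxy.trans (kMap_smul_id a M xs i y).symm))

/-- descent of exactness along a regular element of the ideal -/
theorem exAt_of_quot {M : ModuleCat.{u} A} {a : A} (ha : IsSMulRegular M a)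
    (hmem : a ∈ Ideal.span {x | x ∈ xs}) (j : ℤ)
    (h : ExAt xs (ModuleCat.of A (QuotSMulTop a M)) (j - 1)) : ExAt xs M j := by
  intro z hz
  obtain ⟨η, hη⟩ := nullHtpy_of_mem_span M xs hmem
  have hj : j - 1 + 1 = j := by omega
  have h1 : ((koszulCx M xs).d (j - 1) j).hom (η j (j - 1) hj z) = a • z := by
    have := hη (j - 1) j (j + 1) hj rfl z
    rwa [hz, map_zero, add_zero] at this
  have hc : ((koszulCx _ xs).d (j - 1) (j - 1 + 1)).hom (((kMap (quotBy a M) xs).f (j - 1)).hom (η j (j - 1) hj z)) = 0 := by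
    rw [hj, ← kMap_d, h1, map_smul]
    obtain ⟨w, hw⟩ := kMap_surjective (quotBy a M) (Submodule.mkQ_surjective _) xs j
      (a • ((kMap (quotBy a M) xs).f j).hom z)
    have : ((kMap (quotBy a M) xs).f j).hom (((kMap (ModuleCat.ofHom (a • LinearMap.id : M →ₗ[A] M)) xs).f j).hom z) = 0 :=
      (kMap_exact _ _ (exact_quotBy a M) xs j).apply_apply_eq_zero z
    rw [kMap_smul_id, map_smul] at this
    exact this
  obtain ⟨w', hw'⟩ := h _ hc
  obtain ⟨w, rfl⟩ := kMap_surjective (quotBy a M) (Submodule.mkQ_surjective _) xs (j - 1 - 1) w'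
  obtain ⟨e, he⟩ := kMap_quotBy_eq_zero xs a M (j - 1)
    (η j (j - 1) hj z - ((koszulCx M xs).d (j - 1 - 1) (j - 1)).hom w) (by rw [map_sub, kMap_d, hw', sub_self])
  refine ⟨e, smul_injective_X xs ha j ?_⟩
  show a • _ = a • z
  rw [← map_smul, he, map_sub, h1, ← ModuleCat.comp_apply, HomologicalComplex.d_comp_d]
  simp

theorem exAt_of_regular : ∀ (rs : List A) (M : ModuleCat.{u} A), IsWeaklyRegular M rs →
    (∀ r ∈ rs, r ∈ Ideal.span {x | x ∈ xs}) → ∀ j : ℤ, j < (rs.length : ℤ) - xs.length → ExAt xs M j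
  | [], M, _, _, j, hj => by
      have := subsingleton_X M xs j (by simp at hj; omega)
      exact fun z _ => ⟨0, Subsingleton.elim _ _⟩
  | a :: rs, M, hreg, hmem, j, hj => by
      obtain ⟨ha, hreg'⟩ := (isWeaklyRegular_cons_iff M a rs).1 hreg
      exact exAt_of_quot xs ha (hmem a List.mem_cons_self) j
        (exAt_of_regular rs _ hreg' (fun r hr => hmem r (List.mem_cons_of_mem _ hr)) _ (by simp at hj ⊢; omega))

theorem not_exAt_top [IsLocalRing A] (hxs : ∀ x ∈ xs, x ∈ IsLocalRing.maximalIdeal A) (M : ModuleCat.{u} A)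
    [Module.Finite A M] [Nontrivial M] : ¬ ExAt xs M 0 := by
  intro h
  have hne : Ideal.ofList xs • (⊤ : Submodule A M) ≠ ⊤ := fun e => by
    have := Submodule.eq_bot_of_le_smul_of_le_jacobson_bot (Ideal.ofList xs) (⊤ : Submodule A M)
      Module.Finite.fg_top e.ge ((Ideal.span_le.2 hxs).trans (IsLocalRing.maximalIdeal_le_jacobson _))
    exact top_ne_bot this
  apply hne
  rw [eq_top_iff]
  intro m _
  rw [← range_top_d M xs (0 - 1) (by ring)]
  have := subsingleton_X M xs (0 + 1) (by omega)
  obtain ⟨y, hy⟩ := h ((top M xs).symm m) (Subsingleton.elim _ _)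
  exact ⟨y, by rw [LinearMap.comp_apply, hy]; exact (top M xs).apply_symm_apply m⟩

theorem not_exAt_of_maximal [IsLocalRing A] [IsNoetherianRing A]
    (hxs : ∀ x ∈ xs, x ∈ IsLocalRing.maximalIdeal A) : ∀ (rs : List A) (M : ModuleCat.{u} A) [Module.Finite A M] [Nontrivial M],
    IsWeaklyRegular M rs → (∀ r ∈ rs, r ∈ Ideal.span {x | x ∈ xs}) →
    (∀ rs' : List A, IsWeaklyRegular M rs' → (∀ r ∈ rs', r ∈ Ideal.span {x | x ∈ xs}) → rs'.length ≤ rs.length) →
    ¬ ExAt xs M ((rs.length : ℤ) - xs.length)
  | [], M, _, _, _, _, hmax => by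
      intro h
      have hsub : (Ideal.span {x | x ∈ xs} : Set A) ⊆ ⋃ p ∈ ((associatedPrimes.finite A M).toFinset : Set (Ideal A)), (id p : Ideal A) := by
        intro a ha
        rw [Set.Finite.coe_toFinset]
        show a ∈ ⋃ p ∈ associatedPrimes A M, (p : Set A)
        rw [biUnion_associatedPrimes_eq_zero_divisors]
        by_contra hn
        have hreg : IsSMulRegular M a := IsSMulRegular.of_right_eq_zero_of_smul fun m hm => by
          by_contra hm0
          exact hn ⟨m, hm0, hm⟩
        have := hmax [a] ((isWeaklyRegular_cons_iff M a []).2 ⟨hreg, IsWeaklyRegular.nil A _⟩)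
          (by simpa using ha)
        simp at this
      obtain ⟨p, hp, hle⟩ := (Ideal.subset_union_prime ⊥ ⊥
        (fun p hp _ _ => ((associatedPrimes.finite A M).mem_toFinset.1 hp).isPrime)).1 hsub
      obtain ⟨hpr, m, hm⟩ := isAssociatedPrime_iff.1 ((associatedPrimes.finite A M).mem_toFinset.1 hp)
      have hm0 : m ≠ 0 := by
        rintro rfl
        refine hpr.ne_top ?_
        rw [hm]
        exact eq_top_iff.2 fun a _ => Submodule.mem_colon_singleton.2 (by simp)
      have hkill : ∀ f ∈ xs, f • m = 0 := fun f hf => by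
        have : f ∈ p := hle (Ideal.subset_span hf)
        rw [hm, Submodule.mem_colon_singleton, Submodule.mem_bot] at this
        exact this
      have hi : ((([] : List A).length : ℕ) : ℤ) - xs.length = -(xs.length : ℤ) := by simp
      rw [hi] at h
      obtain ⟨y, hy⟩ := h ((bot M xs _ rfl).symm m)
        ((d_bot_eq_zero_iff M xs _ _ rfl rfl _).2 fun f hf => by rw [LinearEquiv.apply_symm_apply]; exact hkill f hf)
      have := subsingleton_X M xs (-(xs.length : ℤ) - 1) (by omega)
      rw [Subsingleton.elim y 0, map_zero] at hy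
      exact hm0 ((bot M xs _ rfl).symm.injective (hy.symm.trans (map_zero _).symm))
  | a :: rs, M, _, _, hreg, hmem, hmax => by
      obtain ⟨ha, hreg'⟩ := (isWeaklyRegular_cons_iff M a rs).1 hreg
      have haI := hmem a List.mem_cons_self
      have ham : a ∈ IsLocalRing.maximalIdeal A := Ideal.span_le.2 hxs haI
      have : Nontrivial (ModuleCat.of A (QuotSMulTop a M)) := by
        refine Submodule.Quotient.nontrivial_iff.2 ?_
        exact fun e => by
          have := Submodule.eq_bot_of_le_smul_of_le_jacobson_bot (Ideal.span {a}) (⊤ : Submodule A M)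
            Module.Finite.fg_top (by rw [Submodule.ideal_span_singleton_smul, e])
            ((Ideal.span_le.2 (by simpa using ham)).trans (IsLocalRing.maximalIdeal_le_jacobson _))
          exact top_ne_bot this
      have : Module.Finite A (ModuleCat.of A (QuotSMulTop a M)) :=
        Module.Finite.quotient A _
      have ih := not_exAt_of_maximal hxs rs (ModuleCat.of A (QuotSMulTop a M)) hreg'
        (fun r hr => hmem r (List.mem_cons_of_mem _ hr)) (fun rs' h' hm' => by
          have := hmax (a :: rs') ((isWeaklyRegular_cons_iff M a rs').2 ⟨ha, h'⟩)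
            (by intro r hr; rcases List.mem_cons.1 hr with rfl | hr; exacts [haI, hm' r hr])
          simpa using this)
      intro h
      apply ih
      intro z hz
      have hlow := exAt_of_regular xs (a :: rs) M hreg hmem
      obtain ⟨z₀, rfl⟩ := kMap_surjective (quotBy a M) (Submodule.mkQ_surjective _) xs _ z
      generalize hj : (rs.length : ℤ) - xs.length = j at z₀ hz ⊢
      have hj' : (((a :: rs).length : ℕ) : ℤ) - xs.length = j + 1 := by simp [← hj]; ring
      rw [hj'] at h
      obtain ⟨e, he⟩ := kMap_quotBy_eq_zero xs a M (j + 1) (((koszulCx M xs).d j (j + 1)).hom z₀) (by rw [kMap_d, hz])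
      have hde : ((koszulCx M xs).d (j + 1) (j + 1 + 1)).hom e = 0 := smul_injective_X xs ha _ (by
        show a • _ = a • _
        rw [← map_smul, he, ← ModuleCat.comp_apply, HomologicalComplex.d_comp_d]
        simp)
      obtain ⟨w, hw⟩ : ∃ w, ((koszulCx M xs).d j (j + 1)).hom w = e := by
        have key : ∀ k, k = j + 1 - 1 → (∃ w, ((koszulCx M xs).d (j + 1 - 1) (j + 1)).hom w = e) →
            ∃ w, ((koszulCx M xs).d k (j + 1)).hom w = e := by rintro k rfl h; exact h
        exact key j (by omega) (h e hde)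
      obtain ⟨v, hv⟩ := hlow j (by simp [← hj]) (z₀ - a • w) (by rw [map_sub, map_smul, hw, he, sub_self])
      refine ⟨((kMap (quotBy a M) xs).f (j - 1)).hom v, ?_⟩
      rw [← kMap_d, hv, map_sub, sub_eq_self, ← kMap_smul_id a M xs j w]
      exact (kMap_exact _ _ (exact_quotBy a M) xs j).apply_apply_eq_zero w

end Groth.Agent.Misc15.Koszul
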