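import Groth.Agent.Misc15.AttrFactor
import Groth.Agent.Misc15.MagnetAffine
import Groth.Agent.Misc15.AMonCover

/-! Equivariance on `Spec K[N]` as a single identity on `Spec K[M][N]`. -/

set_option autoImplicit false
universe u

noncomputable section

open CategoryTheory CategoryTheory.Limits MonoidalCategory CartesianMonoidalCategory MonObj AlgebraicGeometry Opposite
open Magnet

namespace Groth.Agent.Misc15.Twist

open Groth.Agent.Misc15.MagnetPointsS Groth.Agent.Misc15.AMonCover

variable {S : Scheme.{u}} {M : Type} [AddCommGroup M] (N : AddSubmonoid M) (K : Type u) [CommRing K]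

/-- coefficient inclusion `K[N] → K[M][N]` -/
abbrev prH : MA K N →+* MA (MA K M) N := MonoidAlgebra.mapRingHom (Multiplicative N) (algebraMap K (MA K M))

/-- the universal character of `M` in `K[M][N]` -/
def γchar : Multiplicative M →* MA (MA K M) N :=
  (algebraMap (MA K M) (MA (MA K M) N) : MA K M →* MA (MA K M) N).comp (MonoidAlgebra.of K (Multiplicative M))

/-- the twist `x^n ↦ e^n x^n` -/
def τH : MA K N →+* MA (MA K M) N :=
  MonoidAlgebra.liftNCRingHom ((algebraMap (MA K M) (MA (MA K M) N)).comp (algebraMap K (MA K M)))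
    ((γchar N K).comp (AddMonoidHom.toMultiplicative N.subtype) * MonoidAlgebra.of (MA K M) (Multiplicative N))
    fun _ _ => Commute.all _ _

theorem τH_single (x : Multiplicative N) (r : K) :
    τH N K (MonoidAlgebra.single x r) =
      MonoidAlgebra.single x (MonoidAlgebra.single (Multiplicative.ofAdd (x.toAdd : M)) r) := by
  rw [τH, MonoidAlgebra.liftNCRingHom_single]
  simp [γchar, MonoidAlgebra.coe_algebraMap, MonoidAlgebra.of_apply, MonoidAlgebra.single_mul_single]

theorem τH_coeff (a : MA K N) (x : Multiplicative N) :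
    (τH N K a).coeff x = MonoidAlgebra.single (Multiplicative.ofAdd (x.toAdd : M)) (a.coeff x) := by
  classical
  induction a using MonoidAlgebra.induction_linear with
  | zero => simp
  | add p q hp hq =>
    rw [map_add, MonoidAlgebra.coeff_add, Finsupp.add_apply, hp, hq, MonoidAlgebra.coeff_add, Finsupp.add_apply,
      MonoidAlgebra.single_add]
  | single y r =>
    rw [τH_single, MonoidAlgebra.coeff_single, MonoidAlgebra.coeff_single, Finsupp.single_apply, Finsupp.single_apply]
    split_ifs with e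
    · rw [e]
    · simp

theorem τH_algebraMap : (τH N K).comp (algebraMap K (MA K N)) =
    (algebraMap (MA K M) (MA (MA K M) N)).comp (algebraMap K (MA K M)) := by
  ext r
  rw [RingHom.comp_apply, show algebraMap K (MA K N) r = MonoidAlgebra.single 1 r from rfl, τH_single]
  simp [MonoidAlgebra.coe_algebraMap]

theorem prH_algebraMap : (prH N K).comp (algebraMap K (MA K N)) =
    (algebraMap (MA K M) (MA (MA K M) N)).comp (algebraMap K (MA K M)) := by
  ext r
  simp [MonoidAlgebra.coe_algebraMap]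

variable {K} (sK : Spec (CommRingCat.of K) ⟶ S)

/-- the base of `Spec K[M][N]` -/
abbrev base : Spec (CommRingCat.of (MA (MA K M) N)) ⟶ S := univBase N (MA K M) (univBase M K sK)

/-- a map of bases given by a ring map over `K` -/
def homOf (φ : MA K N →+* MA (MA K M) N)
    (hφ : φ.comp (algebraMap K (MA K N)) =
      (algebraMap (MA K M) (MA (MA K M) N)).comp (algebraMap K (MA K M))) :
    Over.mk (base N sK) ⟶ Over.mk (univBase N K sK) :=
  Over.homMk (Spec.map (CommRingCat.ofHom φ)) (by
    show _ ≫ Spec.map _ ≫ sK = Spec.map _ ≫ Spec.map _ ≫ sK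
    rw [← Category.assoc, ← Category.assoc, ← Spec.map_comp, ← Spec.map_comp, ← CommRingCat.ofHom_comp,
      ← CommRingCat.ofHom_comp, hφ])

abbrev tτ : Over.mk (base N sK) ⟶ Over.mk (univBase N K sK) := homOf N sK (τH N K) (τH_algebraMap N K)
abbrev tpr : Over.mk (base N sK) ⟶ Over.mk (univBase N K sK) := homOf N sK (prH N K) (prH_algebraMap N K)

/-- the universal point of `A(M)` -/
abbrev gam : Over.mk (base N sK) ⟶ AMonS S M := P (base N sK) (γchar N K)

theorem homOf_univProj (φ : MA K N →+* MA (MA K M) N) (hφ) :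
    homOf N sK φ hφ ≫ univProj N K sK = univProj N (MA K M) (univBase M K sK) ≫ univProj M K sK := by
  ext1
  show Spec.map _ ≫ Spec.map _ = Spec.map _ ≫ Spec.map _
  rw [← Spec.map_comp, ← Spec.map_comp, ← CommRingCat.ofHom_comp, ← CommRingCat.ofHom_comp, hφ]

theorem twist_univPoint :
    tτ N sK ≫ univPoint N K sK (𝟙 _) = lift (gam N sK) (tpr N sK ≫ univPoint N K sK (𝟙 _)) ≫
      ((subAct S M N).prod (MonAct.trivial (AMonS S M) (Over.mk sK))).act := by
  rw [univPoint, comp_lift, comp_lift, MonAct.lift_prod_act, MonAct.lift_trivial_act,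
    comp_P _ _ (τH N K) (tτ N sK) rfl, comp_P _ _ (prH N K) (tpr N sK) rfl]
  unfold subAct
  rw [MonAct.lift_restrict_act, MonAct.lift_regular_act, P_comp_map, P_mul, ← Category.assoc, ← Category.assoc,
    homOf_univProj, homOf_univProj]
  congr 2
  refine MonoidHom.ext fun n => ?_
  show τH N K (MonoidAlgebra.single n 1) = γchar N K _ * prH N K (MonoidAlgebra.single n 1)
  rw [τH, MonoidAlgebra.liftNCRingHom_single, map_one, _root_.one_mul]
  simp [MonoidAlgebra.of_apply, MonoidAlgebra.one_def]

variable {U : Over S} (aU : MonAct (AMonS S M) U)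

theorem twist_of_equivariant (ψ : AMonS S N ⊗ Over.mk sK ⟶ U)
    (hψ : MonAct.IsEquivariant ((subAct S M N).prod (MonAct.trivial (AMonS S M) _)) aU ψ) :
    tτ N sK ≫ univPoint N K sK (𝟙 _) ≫ ψ =
      lift (gam N sK) (tpr N sK ≫ univPoint N K sK (𝟙 _) ≫ ψ) ≫ aU.act := by
  rw [← Category.assoc, twist_univPoint, Category.assoc]
  have h := (MonAct.isEquivariant_iff _ _ _).1 hψ _ (gam N sK) (tpr N sK ≫ univPoint N K sK (𝟙 _))
  rw [h, Category.assoc]

theorem isEquivariant_of_twist (ψ : AMonS S N ⊗ Over.mk sK ⟶ U)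
    (hψ : tτ N sK ≫ univPoint N K sK (𝟙 _) ≫ ψ =
      lift (gam N sK) (tpr N sK ≫ univPoint N K sK (𝟙 _) ≫ ψ) ≫ aU.act) :
    MonAct.IsEquivariant ((subAct S M N).prod (MonAct.trivial (AMonS S M) _)) aU ψ := by
  rw [MonAct.isEquivariant_iff]
  intro T' g x
  refine AMonCover.hom_ext_affine _ _ fun L _ sL r => ?_
  obtain ⟨χM, hχM⟩ := P_surjective sL (r ≫ g)
  obtain ⟨χN, hχN⟩ := P_surjective sL (r ≫ x ≫ fst _ _)
  let t : Over.mk sL ⟶ Over.mk sK := r ≫ x ≫ snd _ _
  let φt : K →+* L := (Spec.preimage t.left).hom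
  have ht : Spec.map (CommRingCat.ofHom φt) = t.left := by simp [φt]
  let Θ₁ : MA K M →+* L := MonoidAlgebra.liftNCRingHom φt χM fun _ _ => Commute.all _ _
  let Θ : MA (MA K M) N →+* L := MonoidAlgebra.liftNCRingHom Θ₁ χN fun _ _ => Commute.all _ _
  have hΘ : (Θ.comp (algebraMap (MA K M) (MA (MA K M) N))).comp (algebraMap K (MA K M)) = φt := by
    ext c
    simp [Θ, Θ₁, MonoidAlgebra.coe_algebraMap, MonoidAlgebra.liftNCRingHom_single]
  let ρ : Over.mk sL ⟶ Over.mk (base N sK) := Over.homMk (Spec.map (CommRingCat.ofHom Θ)) (by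
    show _ ≫ Spec.map _ ≫ Spec.map _ ≫ sK = sL
    rw [← Category.assoc, ← Category.assoc, ← Spec.map_comp, ← Spec.map_comp, ← CommRingCat.ofHom_comp,
      ← CommRingCat.ofHom_comp, hΘ, ht]
    exact Over.w t)
  have hg : ρ ≫ gam N sK = r ≫ g := by
    rw [gam, comp_P _ _ Θ ρ rfl, ← hχM]
    congr 1
    refine MonoidHom.ext fun m => ?_
    simp [γchar, Θ, Θ₁, MonoidAlgebra.coe_algebraMap, MonoidAlgebra.of_apply, MonoidAlgebra.liftNCRingHom_single]
  have hx : ρ ≫ tpr N sK ≫ univPoint N K sK (𝟙 _) = r ≫ x := by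
    refine CartesianMonoidalCategory.hom_ext _ _ ?_ ?_
    · rw [univPoint, Category.assoc, Category.assoc, lift_fst, Category.assoc, ← hχN,
        comp_P _ _ (prH N K) (tpr N sK) rfl, comp_P _ _ Θ ρ rfl]
      congr 1
      refine MonoidHom.ext fun n => ?_
      simp [Θ, Θ₁, MonoidAlgebra.of_apply, MonoidAlgebra.liftNCRingHom_single, MonoidAlgebra.one_def]
    · rw [univPoint, Category.assoc, Category.assoc, lift_snd, Category.comp_id, homOf_univProj, Category.assoc]
      ext1
      show Spec.map _ ≫ Spec.map _ ≫ Spec.map _ = t.left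
      rw [← Category.assoc, ← Spec.map_comp, ← Spec.map_comp, ← CommRingCat.ofHom_comp, ← CommRingCat.ofHom_comp, hΘ, ht]
  have h := congrArg (ρ ≫ ·) hψ
  simp only [← Category.assoc (tτ N sK), twist_univPoint] at h
  simp only [comp_lift_assoc, Category.assoc, hg, reassoc_of% hx, hx] at h
  simpa only [comp_lift_assoc, Category.assoc] using h

end Groth.Agent.Misc15.Twist
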