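import Groth.Agent.Misc15.AgreeFace
import Groth.Agent.Misc15.FiltExt
import Groth.Agent.Misc15.Twist

/-! Formal lifts along an étale morphism, and their algebraisation. -/

set_option autoImplicit false
universe u

noncomputable section

open CategoryTheory CategoryTheory.Limits MonoidalCategory CartesianMonoidalCategory MonObj AlgebraicGeometry Opposite
open Magnet

namespace Groth.Agent.Misc15.LiftLevels

open Groth.Agent.Misc15.MagnetPointsS
open Groth.Agent.Misc15.HeightFilt (Height J)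
open Groth.Agent.Misc15.FiltExt (sp sp_comp)
open Groth.Agent.Misc15.Twist (γchar τH prH base tτ tpr gam)

variable {S : Scheme.{u}} {M : Type} [AddCommGroup M] {N Q : AddSubmonoid M} (h : Height N Q)
  {K : Type u} [CommRing K]

/-- a family modulo all steps with bounded support comes from a unique element -/
theorem existsUnique_limit {D : Finset (Multiplicative M)} (R : ℕ → MA K N)
    (hcompat : ∀ d n, d ≤ n → R n - R d ∈ J h K (d + 1))
    (hsupp : ∀ (n : ℕ) (x : Multiplicative N), h.deg x < n + 1 → Multiplicative.ofAdd (x.toAdd : M) ∉ D → (R n).coeff x = 0) :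
    ∃! a : MA K N, ∀ n, a - R n ∈ J h K (n + 1) := by
  classical
  let emb : Multiplicative N ↪ Multiplicative M :=
    ⟨fun x => Multiplicative.ofAdd (x.toAdd : M), fun x y e =>
      Multiplicative.toAdd.injective (Subtype.ext (Multiplicative.ofAdd.injective e))⟩
  let s : Finset (Multiplicative N) := D.preimage emb emb.injective.injOn
  let c : Multiplicative N → K := fun x => if emb x ∈ D then (R (h.deg x).toNat).coeff x else 0
  let a : MA K N := MonoidAlgebra.ofCoeff (Finsupp.onFinset s c (fun x hx => by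
    rw [Finset.mem_preimage]
    by_contra hD
    exact hx (if_neg hD)))
  refine ⟨a, fun n x hx => ?_, fun b hb => ?_⟩
  · have h0 := h.deg_nonneg x
    rw [MonoidAlgebra.coeff_sub, Finsupp.sub_apply, sub_eq_zero]
    show c x = _
    by_cases hD : emb x ∈ D
    · simp only [c, if_pos hD]
      have := hcompat (h.deg x).toNat n (by omega) x (by omega)
      rw [MonoidAlgebra.coeff_sub, Finsupp.sub_apply, sub_eq_zero] at this
      exact this.symm
    · simp only [c, if_neg hD]
      exact (hsupp n x (by omega) hD).symm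
  · refine MonoidAlgebra.ext (Finsupp.ext fun x => ?_)
    have h0 := h.deg_nonneg x
    have hbx := hb (h.deg x).toNat x (by omega)
    rw [MonoidAlgebra.coeff_sub, Finsupp.sub_apply, sub_eq_zero] at hbx
    rw [hbx]
    show _ = c x
    by_cases hD : emb x ∈ D
    · simp only [c, if_pos hD]
    · simp only [c, if_neg hD]
      exact hsupp _ x (by omega) hD

variable (N K) in
theorem τH_le (n : ℕ) : J h K n ≤ (J h (MA K M) n).comap (τH N K) := fun a ha x hx => by
  rw [Twist.τH_coeff, ha x hx, MonoidAlgebra.single_zero]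

/-- the coefficient criterion -/
theorem coeff_eq_zero_of_twist (n : ℕ) (c : MA K N) (R : Multiplicative M → MA K N) (D : Finset (Multiplicative M))
    (hid : Ideal.Quotient.mk (J h (MA K M) n) (τH N K c) =
      Ideal.Quotient.mk (J h (MA K M) n) (∑ m ∈ D, prH N K (R m) * γchar N K m))
    (x : Multiplicative N) (hx : h.deg x < n) (hD : Multiplicative.ofAdd (x.toAdd : M) ∉ D) : c.coeff x = 0 := by
  classical
  have h1 := HeightFilt.coeff_eq_of_mk_eq h (MA K M) hid x hx
  rw [Twist.τH_coeff, MonoidAlgebra.coeff_sum, Finsupp.finsetSum_apply] at h1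
  have h2 := congrArg (fun w : MA K M => w.coeff (Multiplicative.ofAdd (x.toAdd : M))) h1
  simp only [MonoidAlgebra.coeff_single, Finsupp.single_eq_same, MonoidAlgebra.coeff_sum,
    Finsupp.finsetSum_apply] at h2
  rw [h2]
  refine Finset.sum_eq_zero fun m hm => ?_
  have : (prH N K (R m) * γchar N K m).coeff x =
      algebraMap K (MA K M) ((R m).coeff x) * MonoidAlgebra.of K (Multiplicative M) m := by
    simp [γchar, MonoidAlgebra.coe_algebraMap, MonoidAlgebra.coeff_mul_single_one, MonoidAlgebra.single_mul_single]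
  rw [this]
  simp only [MonoidAlgebra.coe_algebraMap, Function.comp_apply, MonoidAlgebra.of_apply,
    MonoidAlgebra.single_mul_single, MonoidAlgebra.coeff_single, _root_.one_mul, Algebra.algebraMap_self_apply,
    RingHom.id_apply]
  exact Finsupp.single_eq_of_ne (fun e => hD (e ▸ hm))

variable {U X : Over S} (aU : MonAct (AMonS S M) U) (aX : MonAct (AMonS S M) X) {f : U ⟶ X}

/-- maps from an affine scheme over an affine open of the base into a relatively affine scheme are ring maps -/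
theorem exists_ringHom [IsAffineHom U.hom] {V : S.Opens} (hV : IsAffineOpen V) {A : Type u} [CommRing A]
    {s : Spec (CommRingCat.of A) ⟶ S} (hs : Set.range s ⊆ (V : Set S)) (p : Over.mk s ⟶ U) :
    ∃ θ : Γ(U.left, U.hom ⁻¹ᵁ V) →+* A, sp θ ≫ (hV.preimage U.hom).fromSpec = p.left := by
  refine AttrRep.lift_affine (hV.preimage U.hom) p.left ?_
  rintro _ ⟨z, rfl⟩
  show U.hom (p.left z) ∈ V
  rw [← Scheme.Hom.comp_apply, Over.w p]
  exact hs ⟨z, rfl⟩

theorem ringHom_ext [IsAffineHom U.hom] {V : S.Opens} (hV : IsAffineOpen V) {A : Type u} [CommRing A]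
    (θ θ' : Γ(U.left, U.hom ⁻¹ᵁ V) →+* A)
    (e : sp θ ≫ (hV.preimage U.hom).fromSpec = sp θ' ≫ (hV.preimage U.hom).fromSpec) : θ = θ' :=
  congrArg CommRingCat.Hom.hom (Spec.map_injective ((cancel_mono (hV.preimage U.hom).fromSpec).1 e))

/-- the existence of lifts over an affine test scheme -/
theorem exists_lift_affine [AddGroup.FG M] [IsAffineHom U.hom] [Etale f.left]
    (hf : MonAct.IsEquivariant aU aX f) (sK : Spec (CommRingCat.of K) ⟶ S) {V : S.Opens} (hV : IsAffineOpen V)
    (hs : Set.range sK ⊆ (V : Set S))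
    (φ : AMonS S N ⊗ Over.mk sK ⟶ X)
    (hφ : MonAct.IsEquivariant ((subAct S M N).prod (MonAct.trivial (AMonS S M) _)) aX φ)
    (u : AMonS S Q ⊗ Over.mk sK ⟶ U)
    (hu : MonAct.IsEquivariant ((subAct S M Q).prod (MonAct.trivial (AMonS S M) _)) aU u)
    (huf : u ≫ f = (AMonS.faceMap S h.face ▷ _) ≫ φ) :
    ∃ ψ : AMonS S N ⊗ Over.mk sK ⟶ U,
      MonAct.IsEquivariant ((subAct S M N).prod (MonAct.trivial (AMonS S M) _)) aU ψ ∧ ψ ≫ f = φ ∧
        (AMonS.faceMap S h.face ▷ _) ≫ ψ = u := by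
  classical
  have := isIso_univPoint (N := N) K sK
  have := isIso_univPoint (N := Q) K sK
  have hsep : IsSeparated U.hom := inferInstance
  let a : Over.mk (univBase N K sK) ⟶ X := univPoint N K sK (𝟙 _) ≫ φ
  let uq : Over.mk (univBase Q K sK) ⟶ U := univPoint Q K sK (𝟙 _) ≫ u
  let anti : ∀ {m n : ℕ}, m ≤ n → J h K n ≤ J h K m := fun hmn => HeightFilt.J_anti h K hmn
  let anti' : ∀ {m n : ℕ}, m ≤ n → J h (MA K M) n ≤ J h (MA K M) m := fun hmn => HeightFilt.J_anti h _ hmn
  have sq : ∀ n, 1 ≤ n → J h K n * J h K n ≤ J h K (n + 1) := fun n hn =>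
    (HeightFilt.J_mul_le h K n n).trans (HeightFilt.J_anti h K (by omega))
  have sq' : ∀ n, 1 ≤ n → J h (MA K M) n * J h (MA K M) n ≤ J h (MA K M) (n + 1) := fun n hn =>
    (HeightFilt.J_mul_le h _ n n).trans (HeightFilt.J_anti h _ (by omega))
  let L : ℕ → Over S := fun n => Over.mk (sp (Ideal.Quotient.mk (J h K n)) ≫ univBase N K sK)
  let L' : ℕ → Over S := fun n => Over.mk (sp (Ideal.Quotient.mk (J h (MA K M) n)) ≫ base N sK)
  let i : ∀ n, L n ⟶ Over.mk (univBase N K sK) := fun n => Over.homMk (sp (Ideal.Quotient.mk _)) rfl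
  let i' : ∀ n, L' n ⟶ Over.mk (base N sK) := fun n => Over.homMk (sp (Ideal.Quotient.mk _)) rfl
  -- the first step
  let σ₁ : MA K Q →+* MA K N ⧸ J h K 1 :=
    (Ideal.Quotient.mk (J h K 1)).comp (FacePushout.inclHom K h.face.le)
  have hσ₁ : σ₁.comp (FacePushout.faceHom K h.face) = Ideal.Quotient.mk (J h K 1) :=
    RingHom.ext fun w => (Ideal.Quotient.eq.2 (HeightFilt.sub_incl_face_mem h K w)).symm
  let r₁ : L 1 ⟶ Over.mk (univBase Q K sK) := Over.homMk (sp σ₁) (by
    show sp σ₁ ≫ Spec.map _ ≫ sK = sp _ ≫ Spec.map _ ≫ sK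
    rw [← Category.assoc, ← Category.assoc, ← sp_comp, ← sp_comp, RingHom.comp_assoc,
      FacePushout.inclHom_algebraMap])
  have hr₁ : r₁ ≫ FacePushout.specHom sK (FacePushout.faceHom K h.face) (FacePushout.faceHom_algebraMap K h.face) =
      i 1 := Over.OverMorphism.ext ((sp_comp _ _).symm.trans (congrArg sp hσ₁))
  let l₁ : L 1 ⟶ U := r₁ ≫ uq
  have hl₁ : l₁ ≫ f = i 1 ≫ a := by
    simp only [l₁, uq, a, Category.assoc, huf, ← reassoc_of% hr₁]
    rw [reassoc_of% (FacePushout.spec_face_univPoint sK h.face (𝟙 _))]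
  -- all steps
  have hex : ∀ n : ℕ, ∃ l : L (n + 1) ⟶ U, l ≫ f = i (n + 1) ≫ a ∧
      sp (FiltExt.π (J h K) anti (show 1 ≤ n + 1 by omega)) ≫ l.left = l₁.left := by
    intro n
    obtain ⟨l, hl, hl'⟩ := FiltExt.exists_level (J h K) anti sq f.left a.left l₁.left
      (congrArg Over.Hom.left hl₁) (show 1 ≤ n + 1 by omega)
    refine ⟨Over.homMk l ?_, Over.OverMorphism.ext hl, hl'⟩
    rw [← Over.w f, reassoc_of% hl, Over.w a]
    rfl
  choose l hl hl' using hex
  have hs' : ∀ n, Set.range (L n).hom ⊆ (V : Set S) := by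
    rintro n _ ⟨z, rfl⟩
    exact hs ⟨_, rfl⟩
  choose θ hθ using fun n => exists_ringHom hV (hs' (n + 1)) (l n)
  have hcompat : ∀ d n (hdn : d ≤ n), (FiltExt.π (J h K) anti (Nat.add_le_add_right hdn 1)).comp (θ n) = θ d := by
    intro d n hdn
    refine ringHom_ext hV _ _ ?_
    rw [sp_comp, Category.assoc, hθ, hθ]
    refine FiltExt.ext_level (J h K) anti sq f.left (show 1 ≤ d + 1 by omega) _ _ ?_ ?_
    · rw [Category.assoc, ← Over.comp_left, ← Over.comp_left, hl, hl, Over.comp_left, Over.comp_left, ← Category.assoc]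
      show (sp _ ≫ sp (Ideal.Quotient.mk _)) ≫ _ = sp _ ≫ _
      rw [← sp_comp, Ideal.Quotient.factor_comp_mk]
      rfl
    · rw [← Category.assoc, ← sp_comp, FiltExt.π_comp, hl', hl']
  -- twisted steps
  let qτ : ∀ n, MA K N ⧸ J h K n →+* MA (MA K M) N ⧸ J h (MA K M) n := fun n =>
    Ideal.quotientMap _ (τH N K) (τH_le N h K n)
  let qpr : ∀ n, MA K N ⧸ J h K n →+* MA (MA K M) N ⧸ J h (MA K M) n := fun n =>
    Ideal.quotientMap _ (prH N K) (HeightFilt.map_J_le h K (algebraMap K (MA K M)) n)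
  have hqτ : ∀ n, (qτ n).comp (Ideal.Quotient.mk _) = (Ideal.Quotient.mk _).comp (τH N K) := fun n =>
    Ideal.quotientMap_comp_mk _
  have hqpr : ∀ n, (qpr n).comp (Ideal.Quotient.mk _) = (Ideal.Quotient.mk _).comp (prH N K) := fun n =>
    Ideal.quotientMap_comp_mk _
  let Tτ : ∀ n, L' n ⟶ L n := fun n => Over.homMk (sp (qτ n)) (by
    show sp _ ≫ sp _ ≫ univBase N K sK = sp _ ≫ base N sK
    rw [← Category.assoc, ← sp_comp, hqτ, sp_comp, Category.assoc]
    exact congrArg (sp _ ≫ ·) (Over.w (tτ N sK)))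
  let Tpr : ∀ n, L' n ⟶ L n := fun n => Over.homMk (sp (qpr n)) (by
    show sp _ ≫ sp _ ≫ univBase N K sK = sp _ ≫ base N sK
    rw [← Category.assoc, ← sp_comp, hqpr, sp_comp, Category.assoc]
    exact congrArg (sp _ ≫ ·) (Over.w (tpr N sK)))
  have hTτ : ∀ n, Tτ n ≫ i n = i' n ≫ tτ N sK := fun n =>
    Over.OverMorphism.ext ((sp_comp _ _).symm.trans ((congrArg sp (hqτ n)).trans (sp_comp _ _)))
  have hTpr : ∀ n, Tpr n ≫ i n = i' n ≫ tpr N sK := fun n =>
    Over.OverMorphism.ext ((sp_comp _ _).symm.trans ((congrArg sp (hqpr n)).trans (sp_comp _ _)))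
  have htw : ∀ n, Tτ (n + 1) ≫ l n = lift (i' (n + 1) ≫ gam N sK) (Tpr (n + 1) ≫ l n) ≫ aU.act := by
    intro n
    apply Over.OverMorphism.ext
    refine FiltExt.ext_level (J h (MA K M)) anti' sq' f.left (show 1 ≤ n + 1 by omega) _ _ ?_ ?_
    · rw [← Over.comp_left, ← Over.comp_left]
      refine congrArg Over.Hom.left ?_
      have hf' := (MonAct.isEquivariant_iff _ _ _).1 hf
      rw [Category.assoc, Category.assoc, hf', Category.assoc, hl, reassoc_of% hTτ, reassoc_of% hTpr]
      simp only [a]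
      rw [Twist.twist_of_equivariant N sK aX φ hφ, comp_lift_assoc]
    · let π' : L' 1 ⟶ L' (n + 1) := Over.homMk (sp (FiltExt.π (J h (MA K M)) anti' (show 1 ≤ n + 1 by omega))) (by
        show sp _ ≫ sp _ ≫ base N sK = sp _ ≫ base N sK
        rw [← Category.assoc, ← sp_comp, Ideal.Quotient.factor_comp_mk])
      let πK : L 1 ⟶ L (n + 1) := Over.homMk (sp (FiltExt.π (J h K) anti (show 1 ≤ n + 1 by omega))) (by
        show sp _ ≫ sp _ ≫ univBase N K sK = sp _ ≫ univBase N K sK
        rw [← Category.assoc, ← sp_comp, Ideal.Quotient.factor_comp_mk])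
      have hπK : πK ≫ l n = l₁ := Over.OverMorphism.ext (hl' n)
      have hπi : π' ≫ i' (n + 1) = i' 1 :=
        Over.OverMorphism.ext ((sp_comp _ _).symm.trans (congrArg sp (Ideal.Quotient.factor_comp_mk _)))
      have e : ∀ (qK : ∀ m, MA K N ⧸ J h K m →+* MA (MA K M) N ⧸ J h (MA K M) m) (φH : MA K N →+* MA (MA K M) N)
          (_ : ∀ m, (qK m).comp (Ideal.Quotient.mk _) = (Ideal.Quotient.mk _).comp φH),
          sp (FiltExt.π (J h (MA K M)) anti' (show 1 ≤ n + 1 by omega)) ≫ sp (qK (n + 1)) =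
            sp (qK 1) ≫ sp (FiltExt.π (J h K) anti (show 1 ≤ n + 1 by omega)) := by
        intro qK φH hqK
        rw [← sp_comp, ← sp_comp]
        congr 1
        refine Ideal.Quotient.ringHom_ext ?_
        rw [RingHom.comp_assoc, RingHom.comp_assoc, hqK, ← RingHom.comp_assoc, Ideal.Quotient.factor_comp_mk,
          Ideal.Quotient.factor_comp_mk, hqK]
      have hπτ : π' ≫ Tτ (n + 1) = Tτ 1 ≫ πK := Over.OverMorphism.ext (e qτ _ hqτ)
      have hπpr : π' ≫ Tpr (n + 1) = Tpr 1 ≫ πK := Over.OverMorphism.ext (e qpr _ hqpr)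
      show (π' ≫ Tτ (n + 1) ≫ l n).left = (π' ≫ lift (i' (n + 1) ≫ gam N sK) (Tpr (n + 1) ≫ l n) ≫ aU.act).left
      refine congrArg Over.Hom.left ?_
      rw [reassoc_of% hπτ, comp_lift_assoc, reassoc_of% hπi, reassoc_of% hπpr, hπK]
      -- everything comes from `Spec K[M][Q]`
      let σ' : MA (MA K M) Q →+* MA (MA K M) N ⧸ J h (MA K M) 1 :=
        (Ideal.Quotient.mk _).comp (FacePushout.inclHom (MA K M) h.face.le)
      let r' : L' 1 ⟶ Over.mk (base Q sK) := Over.homMk (sp σ') (by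
        show sp σ' ≫ univBase Q (MA K M) _ = sp _ ≫ univBase N (MA K M) _
        rw [← Category.assoc (sp σ'), ← sp_comp, RingHom.comp_assoc, FacePushout.inclHom_algebraMap, sp_comp,
          Category.assoc])
      have e2 : ∀ (qN : MA K N →+* MA (MA K M) N) (qQ : MA K Q →+* MA (MA K M) Q)
          (_ : qN.comp (FacePushout.inclHom K h.face.le) = (FacePushout.inclHom (MA K M) h.face.le).comp qQ)
          (qK : MA K N ⧸ J h K 1 →+* MA (MA K M) N ⧸ J h (MA K M) 1)
          (_ : qK.comp (Ideal.Quotient.mk _) = (Ideal.Quotient.mk _).comp qN), qK.comp σ₁ = σ'.comp qQ := by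
        intro qN qQ he qK hqK
        rw [← RingHom.comp_assoc, hqK, RingHom.comp_assoc, he, ← RingHom.comp_assoc]
      have hincl : ∀ (y : Multiplicative Q), ((AddMonoidHom.toMultiplicative (AddSubmonoid.inclusion h.face.le) y).toAdd : M)
          = (y.toAdd : M) := fun y => rfl
      have hτr : Tτ 1 ≫ r₁ = r' ≫ tτ Q sK := by
        refine Over.OverMorphism.ext ((sp_comp _ _).symm.trans ((congrArg sp (e2 (τH N K) (τH Q K) ?_ _ (hqτ 1))).trans (sp_comp _ _)))
        refine MonoidAlgebra.ringHom_ext (fun r => ?_) (fun y => ?_)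
        · simp [FacePushout.inclHom, Twist.τH_single]
        · simp [FacePushout.inclHom, Twist.τH_single, hincl]
      have hprr : Tpr 1 ≫ r₁ = r' ≫ tpr Q sK := by
        refine Over.OverMorphism.ext ((sp_comp _ _).symm.trans ((congrArg sp (e2 (prH N K) (prH Q K) ?_ _ (hqpr 1))).trans (sp_comp _ _)))
        refine MonoidAlgebra.ringHom_ext (fun r => ?_) (fun y => ?_)
        · simp [FacePushout.inclHom]
        · simp [FacePushout.inclHom]
      have hγr : i' 1 ≫ gam N sK = r' ≫ gam Q sK := by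
        rw [gam, gam, comp_P _ _ (Ideal.Quotient.mk _) (i' 1) rfl, comp_P _ _ σ' r' rfl]
        congr 1
        refine MonoidHom.ext fun m => ?_
        simp [σ', γchar, FacePushout.inclHom, MonoidAlgebra.coe_algebraMap]
      simp only [l₁, uq]
      rw [reassoc_of% hτr, reassoc_of% hprr, hγr, Twist.twist_of_equivariant Q sK aU u hu, comp_lift_assoc]
  -- the coaction
  let sB := (hV.preimage U.hom).fromSpec ≫ U.hom
  let jB : Over.mk sB ⟶ U := Over.homMk (hV.preimage U.hom).fromSpec rfl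
  have hsB : Set.range (univBase M Γ(U.left, U.hom ⁻¹ᵁ V) sB) ⊆ (V : Set S) := by
    rintro _ ⟨z, rfl⟩
    have hz : (hV.preimage U.hom).fromSpec (Spec.map (CommRingCat.ofHom (algebraMap _ (MA Γ(U.left, U.hom ⁻¹ᵁ V) M))) z) ∈
        Set.range (hV.preimage U.hom).fromSpec := ⟨_, rfl⟩
    rw [(hV.preimage U.hom).range_fromSpec] at hz
    exact hz
  obtain ⟨co, hco⟩ := exists_ringHom hV hsB (AttrRep.orbit aU _ sB jB)
  have hid : ∀ n b, qτ (n + 1) (θ n b) = (co b).coeff.sum fun m b' =>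
      qpr (n + 1) (θ n b') * Ideal.Quotient.mk _ (γchar N K m) := by
    intro n b
    let Φ : MA Γ(U.left, U.hom ⁻¹ᵁ V) M →+* MA (MA K M) N ⧸ J h (MA K M) (n + 1) :=
      MonoidAlgebra.liftNCRingHom ((qpr (n + 1)).comp (θ n))
        ((Ideal.Quotient.mk (J h (MA K M) (n + 1))).toMonoidHom.comp (γchar N K)) fun _ _ => Commute.all _ _
    have hΦ : Φ.comp (algebraMap _ (MA Γ(U.left, U.hom ⁻¹ᵁ V) M)) = (qpr (n + 1)).comp (θ n) := by
      ext r
      simp [Φ, MonoidAlgebra.coe_algebraMap, MonoidAlgebra.liftNCRingHom_single]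
    let tj : L' (n + 1) ⟶ Over.mk sB := Over.homMk (sp ((qpr (n + 1)).comp (θ n))) (by
      show sp _ ≫ (hV.preimage U.hom).fromSpec ≫ U.hom = _
      rw [sp_comp, Category.assoc, reassoc_of% (hθ n), Over.w (l n)]
      exact Over.w (Tpr (n + 1)))
    let ρ : L' (n + 1) ⟶ Over.mk (univBase M Γ(U.left, U.hom ⁻¹ᵁ V) sB) := Over.homMk (sp Φ) (by
      show sp Φ ≫ Spec.map _ ≫ sB = _
      rw [← Category.assoc, ← sp_comp, hΦ]
      exact Over.w tj)
    have htj : tj ≫ jB = Tpr (n + 1) ≫ l n := by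
      apply Over.OverMorphism.ext
      show sp _ ≫ (hV.preimage U.hom).fromSpec = sp _ ≫ (l n).left
      rw [sp_comp, Category.assoc, hθ]
    have hρ : ρ ≫ AttrRep.orbit aU _ sB jB = lift (i' (n + 1) ≫ gam N sK) (Tpr (n + 1) ≫ l n) ≫ aU.act := by
      have hρt : ρ ≫ univProj M _ sB = tj := Over.OverMorphism.ext ((sp_comp _ _).symm.trans (congrArg sp hΦ))
      rw [AttrRep.orbit, comp_lift_assoc, reassoc_of% hρt, htj, comp_P _ _ Φ ρ rfl,
        gam, comp_P _ _ (Ideal.Quotient.mk _) (i' (n + 1)) rfl]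
      congr 3
      refine MonoidHom.ext fun m => ?_
      simp [Φ, MonoidAlgebra.of_apply, MonoidAlgebra.liftNCRingHom_single]
    have key : (qτ (n + 1)).comp (θ n) = Φ.comp co := by
      refine ringHom_ext hV _ _ ?_
      rw [sp_comp, sp_comp, Category.assoc, Category.assoc, hθ, hco]
      exact congrArg Over.Hom.left ((htw n).trans hρ.symm)
    rw [← RingHom.comp_apply, key, RingHom.comp_apply]
    conv_lhs => rw [← MonoidAlgebra.sum_coeff_single (co b)]
    rw [map_finsuppSum]
    simp [Φ, MonoidAlgebra.liftNCRingHom_single]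
  -- the limit
  have hlim : ∀ b, ∃! w : MA K N, ∀ n, Ideal.Quotient.mk (J h K (n + 1)) w = θ n b := by
    intro b
    choose R hR using fun n b' => Ideal.Quotient.mk_surjective (θ n b')
    obtain ⟨w, hw, hw'⟩ := existsUnique_limit h (D := (co b).coeff.support) (fun n => R n b)
      (fun d n hdn => by
        refine Ideal.Quotient.eq.1 ?_
        rw [hR d b, ← hcompat d n hdn, RingHom.comp_apply, ← hR n b, Ideal.Quotient.factor_mk])
      (fun n x hx hD => by
        refine coeff_eq_zero_of_twist h (n + 1) (R n b) (fun m => R n ((co b).coeff m)) _ ?_ x (by exact_mod_cast hx) hD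
        have e := hid n b
        rw [Finsupp.sum] at e
        rw [← hR n b, ← RingHom.comp_apply, hqτ, RingHom.comp_apply] at e
        rw [e, map_sum]
        refine Finset.sum_congr rfl fun m _ => ?_
        rw [map_mul, ← hR n ((co b).coeff m), ← RingHom.comp_apply, hqpr, RingHom.comp_apply])
    exact ⟨w, fun n => (Ideal.Quotient.eq.2 (hw n)).trans (hR n b),
      fun v hv => hw' v fun n => Ideal.Quotient.eq.1 ((hv n).trans (hR n b).symm)⟩
  let Θ : Γ(U.left, U.hom ⁻¹ᵁ V) →+* MA K N :=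
    { toFun := fun b => (hlim b).choose
      map_one' := ((hlim 1).choose_spec.2 1 fun n => by rw [map_one, map_one]).symm
      map_zero' := ((hlim 0).choose_spec.2 0 fun n => by rw [map_zero, map_zero]).symm
      map_add' := fun b b' => ((hlim _).choose_spec.2 _ fun n => by
        rw [map_add, map_add, (hlim b).choose_spec.1 n, (hlim b').choose_spec.1 n]).symm
      map_mul' := fun b b' => ((hlim _).choose_spec.2 _ fun n => by
        rw [map_mul, map_mul, (hlim b).choose_spec.1 n, (hlim b').choose_spec.1 n]).symm }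
  have hΘ : ∀ n, (Ideal.Quotient.mk (J h K (n + 1))).comp Θ = θ n := fun n =>
    RingHom.ext fun b => (hlim b).choose_spec.1 n
  let ψl := sp Θ ≫ (hV.preimage U.hom).fromSpec
  have hψl : ψl ≫ U.hom = univBase N K sK := by
    obtain ⟨χ₁, hχ₁⟩ := KerEval.Sq.exists_factor hV (ψl ≫ U.hom) (by
      rintro _ ⟨z, rfl⟩
      have hz : (hV.preimage U.hom).fromSpec (sp Θ z) ∈ Set.range (hV.preimage U.hom).fromSpec := ⟨_, rfl⟩
      rw [(hV.preimage U.hom).range_fromSpec] at hz
      exact hz)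
    obtain ⟨χ₂, hχ₂⟩ := KerEval.Sq.exists_factor hV (univBase N K sK) (by rintro _ ⟨z, rfl⟩; exact hs ⟨_, rfl⟩)
    have hn : ∀ n, (Ideal.Quotient.mk (J h K (n + 1))).comp χ₁ = (Ideal.Quotient.mk (J h K (n + 1))).comp χ₂ := by
      intro n
      suffices h' : sp ((Ideal.Quotient.mk (J h K (n + 1))).comp χ₁) ≫ hV.fromSpec =
          sp ((Ideal.Quotient.mk (J h K (n + 1))).comp χ₂) ≫ hV.fromSpec from
        congrArg CommRingCat.Hom.hom (Spec.map_injective ((cancel_mono hV.fromSpec).1 h'))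
      rw [sp_comp, sp_comp, Category.assoc, Category.assoc, hχ₁, hχ₂]
      simp only [ψl, ← Category.assoc, ← sp_comp, hΘ]
      rw [hθ n, Over.w (l n), sp_comp, Category.assoc]
      rfl
    rw [← hχ₁, ← hχ₂]
    suffices χ₁ = χ₂ by rw [this]
    refine RingHom.ext fun c => ?_
    refine sub_eq_zero.1 (HeightFilt.eq_zero_of_forall h K _ fun n => ?_)
    exact HeightFilt.J_anti h K (Nat.le_succ n) (Ideal.Quotient.eq.1 (RingHom.congr_fun (hn n) c))
  let ψ₀ : Over.mk (univBase N K sK) ⟶ U := Over.homMk ψl hψl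
  have hiψ : ∀ n, i (n + 1) ≫ ψ₀ = l n := fun n => Over.OverMorphism.ext (by
    show sp _ ≫ sp Θ ≫ _ = _
    rw [← Category.assoc, ← sp_comp, hΘ, hθ])
  refine ⟨inv (univPoint N K sK (𝟙 _)) ≫ ψ₀, ?_, ?_, ?_⟩
  · refine Twist.isEquivariant_of_twist N sK aU _ ?_
    rw [IsIso.hom_inv_id_assoc]
    refine FiltExt.eq_of_forall_quot (J h (MA K M)) (HeightFilt.eq_zero_of_forall h _) _ _ fun n => ?_
    have hsucc : sp (Ideal.Quotient.mk (J h (MA K M) (n + 1))) ≫ (tτ N sK ≫ ψ₀).left =
        sp (Ideal.Quotient.mk (J h (MA K M) (n + 1))) ≫ (lift (gam N sK) (tpr N sK ≫ ψ₀) ≫ aU.act).left := by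
      show (i' (n + 1) ≫ tτ N sK ≫ ψ₀).left = (i' (n + 1) ≫ lift (gam N sK) (tpr N sK ≫ ψ₀) ≫ aU.act).left
      rw [← reassoc_of% hTτ, hiψ, htw, comp_lift_assoc, ← reassoc_of% hTpr, hiψ]
    rw [← Ideal.Quotient.factor_comp_mk (anti' (Nat.le_succ n)), sp_comp, Category.assoc, Category.assoc, hsucc]
  · refine AgreeFace.eq_of_levels h sK aX _ φ ?_ hφ fun n => ?_
    · refine MonAct.IsEquivariant.comp (Twist.isEquivariant_of_twist N sK aU _ ?_) hf
      rw [IsIso.hom_inv_id_assoc]
      refine FiltExt.eq_of_forall_quot (J h (MA K M)) (HeightFilt.eq_zero_of_forall h _) _ _ fun n => ?_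
      have hsucc : sp (Ideal.Quotient.mk (J h (MA K M) (n + 1))) ≫ (tτ N sK ≫ ψ₀).left =
          sp (Ideal.Quotient.mk (J h (MA K M) (n + 1))) ≫ (lift (gam N sK) (tpr N sK ≫ ψ₀) ≫ aU.act).left := by
        show (i' (n + 1) ≫ tτ N sK ≫ ψ₀).left = (i' (n + 1) ≫ lift (gam N sK) (tpr N sK ≫ ψ₀) ≫ aU.act).left
        rw [← reassoc_of% hTτ, hiψ, htw, comp_lift_assoc, ← reassoc_of% hTpr, hiψ]
      rw [← Ideal.Quotient.factor_comp_mk (anti' (Nat.le_succ n)), sp_comp, Category.assoc, Category.assoc, hsucc]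
    · rw [Category.assoc, IsIso.hom_inv_id_assoc]
      show KerEval.sp _ ≫ _ = KerEval.sp _ ≫ a.left
      have h1 : (i (n + 1) ≫ ψ₀ ≫ f).left = (i (n + 1) ≫ a).left := by rw [reassoc_of% hiψ, hl]
      rw [← Ideal.Quotient.factor_comp_mk (anti (Nat.le_succ n)), KerEval.sp_comp, Category.assoc, Category.assoc]
      exact congrArg (KerEval.sp _ ≫ ·) h1
  · rw [← cancel_epi (univPoint Q K sK (𝟙 _)), ← reassoc_of% (FacePushout.spec_face_univPoint sK h.face (𝟙 _)),
      IsIso.hom_inv_id_assoc]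
    let fb : MA K N ⧸ J h K 1 →+* MA K Q := Ideal.Quotient.lift _ (FacePushout.faceHom K h.face)
      (fun w hw => by rwa [HeightFilt.J_one, RingHom.mem_ker] at hw)
    have hfb : fb.comp σ₁ = RingHom.id _ := by
      refine RingHom.ext fun w => MonoidAlgebra.ext (Finsupp.ext fun x => ?_)
      obtain ⟨x, rfl⟩ : ∃ m, Multiplicative.ofAdd m = x := ⟨x.toAdd, rfl⟩
      show (FacePushout.faceHom K h.face (FacePushout.inclHom K h.face.le w)).coeff _ = _
      rw [FacePushout.face_coeff, FacePushout.incl_coeff]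
      rfl
    let F : Over.mk (univBase Q K sK) ⟶ L 1 := Over.homMk (sp fb) (by
      show sp fb ≫ sp _ ≫ univBase N K sK = _
      rw [← Category.assoc, ← sp_comp, Ideal.Quotient.lift_comp_mk]
      exact Over.w (FacePushout.specHom sK _ (FacePushout.faceHom_algebraMap K h.face)))
    have e1 : FacePushout.specHom sK (FacePushout.faceHom K h.face) (FacePushout.faceHom_algebraMap K h.face) =
        F ≫ i 1 := Over.OverMorphism.ext ((congrArg sp (Ideal.Quotient.lift_comp_mk _ _ _).symm).trans (sp_comp _ _))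
    have e2 : F ≫ r₁ = 𝟙 _ := Over.OverMorphism.ext (((sp_comp _ _).symm.trans (congrArg sp hfb)).trans (by
      simp [sp, CommRingCat.ofHom_id, Spec.map_id]))
    have e3 : l 0 = l₁ := by
      apply Over.OverMorphism.ext
      rw [← hl' 0, show FiltExt.π (J h K) anti (show 1 ≤ 0 + 1 by omega) = RingHom.id _ from
        Ideal.Quotient.ringHom_ext (RingHom.ext fun w => by simp), sp, CommRingCat.ofHom_id, Spec.map_id, Category.id_comp]
    rw [e1, Category.assoc, hiψ 0, e3]
    exact (Category.assoc _ _ _).symm.trans ((congrArg (· ≫ uq) e2).trans (Category.id_comp _))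

end Groth.Agent.Misc15.LiftLevels
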