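import Groth.Agent.Misc15.PointOneTwist
import Groth.Agent.SerreDual.TwistEquiv

/-!
# Maps between cokernels of linear presentations on a blowing up of points of projective space
-/

set_option autoImplicit false
set_option linter.style.haveILetI false
set_option backward.isDefEq.respectTransparency.types false
set_option maxHeartbeats 1000000

universe u

open CategoryTheory CategoryTheory.Abelian CategoryTheory.Limits AlgebraicGeometry TopologicalSpace Opposite
open Groth.Agent.Coherent Groth.Agent.PicLib Groth.Agent.AmpleLib Groth.Agent.EulerLib Groth.Agent.CurveRR24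

namespace Groth.Agent.Misc15.LinPres

section General

variable {X : Scheme.{u}} {L N : X.Modules} (hL : PicF.IsInvertible L) (hN : PicF.IsInvertible N)
  (e : CohB1.tensorMod L N ≅ Coh.structureModule X) {b : ℕ}

include hL hN e in
/-- No maps from copies of an invertible module. -/
theorem eq_zero_of_sigma {M : X.Modules} (h : Subsingleton (Coh.HH X (CohB1.tensorMod M N) 0))
    (g : (∐ fun _ : Fin b => L) ⟶ M) : g = 0 := by
  have := SerreDual.subsingleton_ext_of_invertible hL hN e M 0 h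
  refine Sigma.hom_ext _ _ fun j => ?_
  rw [comp_zero]
  exact (Ext.mk₀_bijective L M).1 (Subsingleton.elim _ _)

include hL hN e in
/-- Maps from copies of an invertible module lift along an epimorphism. -/
theorem exists_lift_of_sigma {S : ShortComplex X.Modules} (hS : S.ShortExact)
    (h : Subsingleton (Coh.HH X (CohB1.tensorMod S.X₁ N) 1))
    (g : (∐ fun _ : Fin b => L) ⟶ S.X₃) : ∃ g' : (∐ fun _ : Fin b => L) ⟶ S.X₂, g' ≫ S.g = g := by
  have := SerreDual.subsingleton_ext_of_invertible hL hN e S.X₁ 1 h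
  have hcomp : ∀ j : Fin b, ∃ g' : L ⟶ S.X₂, g' ≫ S.g = Sigma.ι (fun _ : Fin b => L) j ≫ g := fun j => by
    obtain ⟨x, hx⟩ := Ext.covariant_sequence_exact₃ L hS (Ext.mk₀ (Sigma.ι (fun _ : Fin b => L) j ≫ g))
      (zero_add 1) (Subsingleton.elim _ _)
    obtain ⟨y, rfl⟩ := (Ext.mk₀_bijective L S.X₂).2 x
    rw [Ext.mk₀_comp_mk₀] at hx
    exact ⟨y, (Ext.mk₀_bijective L S.X₃).1 hx⟩
  choose g' hg' using hcomp
  exact ⟨Sigma.desc g', Sigma.hom_ext _ _ fun j => by rw [Sigma.ι_desc_assoc, hg']⟩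

end General

variable (n : ℕ) (k : Type u) [Field k] [IsAlgClosed k] (hn : 2 ≤ n) {s : ℕ}
  (P : Fin s → ↥(CohB1.ProjSpace n k))
  (hPc : ∀ t, IsClosed ({P t} : Set ↥(CohB1.ProjSpace n k))) (hZ : IsClosed (Set.range P))
  {X : Scheme.{u}} (π : X ⟶ CohB1.ProjSpace n k)
  (hπ : BlowUp.IsBlowUp π (Scheme.IdealSheafData.vanishingIdeal ⟨Set.range P, hZ⟩))

include hn hPc hπ in
/-- The pull-back of a twist has the cohomology of the twist, as far as vanishing goes. -/
theorem subsingleton_HH_pullback_twist (c : ℤ) (q : ℕ) (h₀ : ¬ (q = 0 ∧ 0 ≤ c))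
    (h₁ : ¬ (q = n ∧ c ≤ -((n : ℤ) + 1))) :
    Subsingleton (Coh.HH X ((Scheme.Modules.pullback π).obj (Twist.twistProjSpace n k c)) q) := by
  haveI : IsProper (CohB1.ProjSpace n k ↘ Spec (CommRingCat.of k)) :=
    Coherent.isProper_projSpace_toSpec (n := n) (R := k)
  letI : X.Over (Spec (CommRingCat.of k)) := ⟨π ≫ (CohB1.ProjSpace n k ↘ Spec (CommRingCat.of k))⟩
  let I : (CohB1.ProjSpace n k).IdealSheafData := Scheme.IdealSheafData.vanishingIdeal ⟨Set.range P, hZ⟩
  have hI := PointsBlow.koszulBasis_union P hPc hZ fun t => PointPn.koszulBasis_point n k hn (P t) (hPc t)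
  haveI : IsProper π := BlowUpLib.isProper_of_isBlowUp hπ (BlowUpCoh.isFiniteType_of_koszulBasis hI)
  have hL := PointPn.isInvertible_twistPn n k c
  have hLF : FlatMod.IsFinLocFree (Twist.twistProjSpace n k c) := fun y =>
    let ⟨U, hy, e⟩ := PicLib.isFinLocFreeOfRank_one hL y; ⟨U, 1, hy, e⟩
  haveI := MorProj.isQCoh_idealMod ((I.comap π) ^ 0)
  haveI := isQCoh_of_isInvertible (PicLoc.isInvertible_pullback π hL)
  haveI : Coh.IsQCoh (CohB1.tensorMod ((Scheme.Modules.pullback π).obj (Twist.twistProjSpace n k c))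
      (ClSub.idealMod ((I.comap π) ^ 0))) := isQCoh_tensorMod _ _
  obtain ⟨T⟩ := BlowUpCoh.exists_twistPow (I.comap π) 0
  obtain ⟨e⟩ := BlowUpCoh.nonempty_pushforward_idealPow hπ hI 0
  obtain ⟨u⟩ := Lef23.nonempty_idealMod_pow (I.comap π) hπ.1 0
  obtain ⟨v⟩ := Lef23.nonempty_idealMod_pow (1 : (CohB1.ProjSpace n k).IdealSheafData) Inters29.isEffCartier_one 0
  obtain ⟨ψ⟩ := SurfBl13.nonempty_HH_push_equiv π k rfl
    (CohB1.tensorMod ((Scheme.Modules.pullback π).obj (Twist.twistProjSpace n k c)) (ClSub.idealMod ((I.comap π) ^ 0)))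
    (fun i hi => BlowUpCoh.isZero_rpushAb_tensor_pullback π hLF _ i (BlowUpCoh.isZero_rpushAb hπ hI T (by omega) i hi)) q
  refine CurveRR24.subsingleton_HH_congr (AmpleLib.tensorIso (Iso.refl _) u ≪≫ tensorComm _ _ ≪≫ unitTensorIso _) q
    (ψ.toEquiv.subsingleton_congr.2 (CurveRR24.subsingleton_HH_congr
      (((projIso (f := π) hLF).app _).symm ≪≫
        (tensE (Twist.twistProjSpace n k c)).mapIso
          (e ≪≫ eqToIso (congrArg ClSub.idealMod ((pow_zero I).trans (pow_zero _).symm)) ≪≫ v)).symm q ?_))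
  exact CurveRR24.subsingleton_HH_congr ((unitTensorIso _).symm ≪≫ tensorComm _ _) q
    (Coherent.subsingleton_HH_twist (n := n) (R := k) (d := c) q h₀ h₁)

include hn hPc hπ in
/-- For `P ≅ O(-2e)^a`, twisting by `O(e)` kills `H^0` and `H^1`; the data to lift maps out of `O(-e)^b`. -/
theorem exists_data {a : ℕ} {P₁ : X.Modules}
    (hP₁ : Nonempty (P₁ ≅ ∐ fun _ : Fin a => (Scheme.Modules.pullback π).obj (Twist.twistProjSpace n k (-2)))) :
    let L := (Scheme.Modules.pullback π).obj (Twist.twistProjSpace n k (-1))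
    let N := (Scheme.Modules.pullback π).obj (Twist.twistProjSpace n k 1)
    PicF.IsInvertible L ∧ PicF.IsInvertible N ∧ Nonempty (CohB1.tensorMod L N ≅ Coh.structureModule X) ∧
      ∀ q, q ≤ 1 → Subsingleton (Coh.HH X (CohB1.tensorMod P₁ N) q) := by
  intro L N
  have hm := PointPn.isInvertible_twistPn n k (-1)
  have hp := PointPn.isInvertible_twistPn n k 1
  have h2 := PointPn.isInvertible_twistPn n k (-2)
  obtain ⟨eP⟩ := hP₁
  have hcov := UPLib.exists_degOne (HypLib.hgen (R := k) n)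
  obtain ⟨t₀⟩ := TwistLib.G.nonempty_tensor_twist_iso (𝒜 := CohB1.polyGrading n k) hcov (show (-1 : ℤ) + 1 = 0 by norm_num)
  obtain ⟨z⟩ := TwistLib.G.nonempty_twist_zero_iso (𝒜 := CohB1.polyGrading n k)
  obtain ⟨t₁⟩ := TwistLib.G.nonempty_tensor_twist_iso (𝒜 := CohB1.polyGrading n k) hcov (show (-2 : ℤ) + 1 = -1 by norm_num)
  refine ⟨PicLoc.isInvertible_pullback π hm, PicLoc.isInvertible_pullback π hp, ?_, fun q hq => ?_⟩
  · refine (PicM.of_eq_one_iff (isInvertible_tensorMod (PicLoc.isInvertible_pullback π hm)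
      (PicLoc.isInvertible_pullback π hp))).1 ?_
    rw [← PicM.of_mul (PicLoc.isInvertible_pullback π hm) (PicLoc.isInvertible_pullback π hp),
      ← PicM.pull_of π hm, ← PicM.pull_of π hp, ← map_mul,
      PicM.of_mul hm hp, (PicM.of_eq_one_iff (isInvertible_tensorMod hm hp)).2 ⟨t₀ ≪≫ z⟩, map_one]
  · obtain ⟨w⟩ : Nonempty (CohB1.tensorMod ((Scheme.Modules.pullback π).obj (Twist.twistProjSpace n k (-2))) N ≅ L) := by
      refine (PicM.of_eq_iff (isInvertible_tensorMod (PicLoc.isInvertible_pullback π h2)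
        (PicLoc.isInvertible_pullback π hp)) (PicLoc.isInvertible_pullback π hm)).1 ?_
      rw [← PicM.of_mul (PicLoc.isInvertible_pullback π h2) (PicLoc.isInvertible_pullback π hp),
        ← PicM.pull_of π h2, ← PicM.pull_of π hp, ← PicM.pull_of π hm, ← map_mul, PicM.of_mul h2 hp]
      exact congrArg _ ((PicM.of_eq_iff (isInvertible_tensorMod h2 hp) hm).2 ⟨t₁⟩)
    exact CurveRR24.subsingleton_HH_congr (AmpleLib.tensorIso eP.symm (Iso.refl _)) q
      (PointOne.subsingleton_HH_sigma_tensor _ _ a q (CurveRR24.subsingleton_HH_congr w.symm q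
        (subsingleton_HH_pullback_twist n k hn P hPc hZ π hπ (-1) q (by omega) (by omega))))

end Groth.Agent.Misc15.LinPres
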