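import Groth.Prelude.Def_LogNCD
import Groth.Agent.BlowUpCoh.Regular
import Groth.Agent.KTor28.Divisor

/-! Principal affine charts of a normal crossings divisor and residues of sections. -/

set_option autoImplicit false
set_option backward.isDefEq.respectTransparency false
set_option backward.isDefEq.respectTransparency.types false
set_option linter.style.haveILetI false
universe u

open CategoryTheory CategoryTheory.Limits AlgebraicGeometry Opposite TopologicalSpace
open Groth.Agent Groth.Agent.DCat Groth.Agent.Coherent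

namespace Groth.Agent.Misc15.LogNCDBasic

variable {X S : Scheme.{u}} {r : ℕ} {D : Fin r → X.IdealSheafData} {f : X ⟶ S}

/-- Small affine opens on which every component is principal. -/
theorem exists_principal_nhd (hD : LogNCD.IsNCD D f) (x : X) (V : X.Opens) (hx : x ∈ V) :
    ∃ (U : X.affineOpens), x ∈ U.1 ∧ U.1 ≤ V ∧ ∃ g : Fin r → Γ(X, U.1), ∀ i, (D i).ideal U = Ideal.span {g i} := by
  classical
  by_cases hne : Nonempty (LogNCD.Through D x)
  · obtain ⟨W, hxW, n, v, e, -, -, h1, h2⟩ := hD x hne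
    obtain ⟨U, hU, hxU, hUV⟩ := exists_isAffineOpen_mem_and_subset (X := X) (U := V ⊓ W) (x := x) ⟨hx, hxW⟩
    refine ⟨⟨U, hU⟩, hxU, fun y hy => (hUV hy).1,
      fun i => if h : x ∈ (D i).support then LogNCD.sectOn W (fun y hy => (hUV hy).2) (v (ULift.up (e ⟨i, h⟩))) else 1,
      fun i => ?_⟩
    by_cases h : x ∈ (D i).support
    · simp only [dif_pos h]; exact h1 ⟨i, h⟩ ⟨U, hU⟩ fun y hy => (hUV hy).2
    · simp only [dif_neg h, Ideal.span_singleton_one]; exact h2 i h ⟨U, hU⟩ fun y hy => (hUV hy).2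
  · let C : X.Opens := ⟨(⋃ i, ((D i).support : Set X))ᶜ,
      (isClosed_iUnion_of_finite fun i => (D i).support.isClosed').isOpen_compl⟩
    have hxC : x ∈ C := by
      intro h
      obtain ⟨i, hi⟩ := Set.mem_iUnion.1 h
      exact hne ⟨⟨i, hi⟩⟩
    obtain ⟨U, hU, hxU, hUV⟩ := exists_isAffineOpen_mem_and_subset (X := X) (U := V ⊓ C) (x := x) ⟨hx, hxC⟩
    refine ⟨⟨U, hU⟩, hxU, fun y hy => (hUV hy).1, fun _ => 1, fun i => ?_⟩
    rw [Ideal.span_singleton_one]
    exact BlowUpCoh.ideal_eq_top_of_disjoint (I := D i) ⟨U, hU⟩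
      (fun y hy hs => (hUV hy).2 (Set.mem_iUnion.2 ⟨i, hs⟩))

/-- A multiple of the one section of the quotient. -/
theorem smul_oneOn (I : X.IdealSheafData) (U : X.Opens) (a : Γ(X, U)) :
    a • LogNCD.oneOn I U = I.subschemeι.app U a := by
  show (I.subschemeι.app U a) * (I.subschemeι.app U (1 : Γ(X, U))) = _
  rw [map_one, mul_one]

variable {Ω' : X.Modules} {d : OmegaSh.Der f Ω'}

/-- The residue of `∑ a_i dl_i`. -/
theorem res_sum (Λ : LogNCD.LogMod d D) (U : X.Opens) (dl : Fin r → Γ(Λ.L, U))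
    (h1 : ∀ i, (Λ.res i).app U (dl i) = LogNCD.oneOn (D i) U)
    (h2 : ∀ i j, i ≠ j → (Λ.res j).app U (dl i) = 0) (a : Fin r → Γ(X, U)) (ω : Γ(Ω', U)) (j : Fin r) :
    (Λ.res j).app U (Λ.ι.app U ω + ∑ i, a i • dl i) = (D j).subschemeι.app U (a j) := by
  rw [map_add, map_sum, Finset.sum_eq_single j (fun i _ hi => by
    rw [Scheme.Modules.Hom.app_smul, h2 i j hi, smul_zero]) (fun h => absurd (Finset.mem_univ j) h),
    Scheme.Modules.Hom.app_smul, h1, smul_oneOn]
  have h : (Λ.res j).app U (Λ.ι.app U ω) = 0 := by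
    show (Λ.ι ≫ Λ.res j).app U ω = 0
    rw [Λ.res_ι j]; rfl
  rw [h, zero_add]

/-- Every section of the log module on a chart is `ι ω + ∑ a_i dl_i`. -/
theorem exists_decomp (Λ : LogNCD.LogMod d D) {U : X.Opens} {dl : Fin r → Γ(Λ.L, U)}
    (hs : Submodule.span Γ(X, U) (Set.range ((Λ.ι.val.app (op U)).hom) ∪ Set.range dl) = ⊤) (s : Γ(Λ.L, U)) :
    ∃ (ω : Γ(Ω', U)) (a : Fin r → Γ(X, U)), s = Λ.ι.app U ω + ∑ i, a i • dl i := by
  have h : s ∈ Submodule.span Γ(X, U) (Set.range ((Λ.ι.val.app (op U)).hom) ∪ Set.range dl) :=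
    hs.ge Submodule.mem_top
  rw [Submodule.span_union] at h
  obtain ⟨p, hp, q, hq, hpq⟩ := Submodule.mem_sup.1 h
  obtain ⟨a, ha⟩ := (Submodule.mem_span_range_iff_exists_fun _).1 hq
  have hp' : ∃ ω : Γ(Ω', U), p = Λ.ι.app U ω := by
    clear h hpq
    induction hp using Submodule.span_induction with
    | mem y hy => obtain ⟨ω, rfl⟩ := hy; exact ⟨ω, rfl⟩
    | zero => exact ⟨0, (map_zero _).symm⟩
    | add y z _ _ hy hz =>
      obtain ⟨ω, rfl⟩ := hy
      obtain ⟨ω', rfl⟩ := hz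
      exact ⟨ω + ω', (map_add _ _ _).symm⟩
    | smul c y _ hy =>
      obtain ⟨ω, rfl⟩ := hy
      exact ⟨c • ω, (Scheme.Modules.Hom.app_smul _ _ _).symm⟩
  obtain ⟨ω, hω⟩ := hp'
  exact ⟨ω, a, by rw [← hpq, ← ha, hω]⟩

/-- Inclusion of a factor in a finite product. -/
noncomputable def incl {r : ℕ} (Q : Fin r → X.Modules) (j : Fin r) : Q j ⟶ ∏ᶜ Q :=
  Pi.lift fun k => if h : j = k then eqToHom (congrArg Q h) else 0

theorem sum_π_incl {r : ℕ} (Q : Fin r → X.Modules) : ∑ j, Pi.π Q j ≫ incl Q j = 𝟙 (∏ᶜ Q) := by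
  refine Pi.hom_ext _ _ fun k => ?_
  rw [Preadditive.sum_comp, Category.id_comp, Finset.sum_eq_single k]
  · rw [Category.assoc, incl, Pi.lift_π, dif_pos rfl, eqToHom_refl, Category.comp_id]
  · intro j _ hj
    rw [Category.assoc, incl, Pi.lift_π, dif_neg hj, comp_zero]
  · intro h; exact absurd (Finset.mem_univ k) h

/-- Elements of a stalk of a finite product are detected by the projections. -/
theorem stalk_pi_ext {r : ℕ} (Q : Fin r → X.Modules) (x : X) {v w : KTor28.st x (∏ᶜ Q)}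
    (h : ∀ j, (DerSch.stalkFunctor X x).map (Pi.π Q j) v = (DerSch.stalkFunctor X x).map (Pi.π Q j) w) : v = w := by
  have key : ∀ u : KTor28.st x (∏ᶜ Q), u = ∑ j, (DerSch.stalkFunctor X x).map (incl Q j)
      ((DerSch.stalkFunctor X x).map (Pi.π Q j) u) := fun u => by
    conv_lhs => rw [show u = (DerSch.stalkFunctor X x).map (𝟙 (∏ᶜ Q)) u from by rw [CategoryTheory.Functor.map_id]; rfl]
    rw [← sum_π_incl Q, Functor.map_sum]
    show (∑ a, (DerSch.stalkFunctor X x).map (Pi.π Q a ≫ incl Q a)).hom u = _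
    rw [ModuleCat.hom_sum]
    rw [LinearMap.sum_apply]
    refine Finset.sum_congr rfl fun j _ => ?_
    rw [Functor.map_comp]; rfl
  rw [key v, key w]
  simp only [h]

end Groth.Agent.Misc15.LogNCDBasic
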