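import Groth.Agent.Misc15.LogNCDBasic

/-! The inclusion of the log module of a subdivisor. -/

set_option autoImplicit false
set_option backward.isDefEq.respectTransparency false
set_option backward.isDefEq.respectTransparency.types false
set_option linter.style.haveILetI false
set_option maxHeartbeats 1000000
universe u

open CategoryTheory CategoryTheory.Limits AlgebraicGeometry Opposite TopologicalSpace
open Groth.Agent Groth.Agent.DCat Groth.Agent.Coherent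

namespace Groth.Agent.Misc15.LogNCDSub

open LogNCDBasic

variable {X S : Scheme.{u}} {r : ℕ} {D : Fin (r + 1) → X.IdealSheafData} {f : X ⟶ S} {i : Fin (r + 1)}
  {Ω' : X.Modules} {d : OmegaSh.Der f Ω'}

/-- Maps on stalks of a monomorphism are injective. -/
theorem stalk_injective {M N : X.Modules} (φ : M ⟶ N) [Mono φ] (x : X) :
    Function.Injective ((DerSch.stalkFunctor X x).map φ) :=
  (ModuleCat.mono_iff_injective _).1 inferInstance

/-- On a chart the product of the equations is regular on the stalks of `L`. -/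
theorem regular_germ {m : ℕ} {E : Fin m → X.IdealSheafData} (Λ : LogNCD.LogMod d E) (U : X.affineOpens)
    (g : Fin m → Γ(X, U.1)) (hg : ∀ l, (E l).ideal U = Ideal.span {g l}) {z : X} (hz : z ∈ U.1) (v : KTor28.st z Λ.L)
    (hv : X.presheaf.germ U.1 z hz (∏ l, g l) • v = 0) : v = 0 := by
  obtain ⟨W, hzW, s, rfl⟩ := KTor28.exists_gm Λ.L v
  let P : X.Opens := U.1 ⊓ W
  have hzP : z ∈ P := ⟨hz, hzW⟩
  have h0 : KTor28.gm Λ.L hzP (X.presheaf.map (homOfLE (inf_le_left : P ≤ U.1)).op (∏ l, g l) • resM Λ.L inf_le_right s) =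
      KTor28.gm Λ.L hzP 0 := by
    rw [KTor28.gm_smul, KTor28.gm_res, TopCat.Presheaf.germ_res_apply, KTor28.gm_zero]
    exact hv
  obtain ⟨P', hP', hzP', he⟩ := KTor28.gm_eq _ hzP h0
  obtain ⟨Z, hZ, hzZ, hZP⟩ := exists_isAffineOpen_mem_and_subset (X := X) (U := P') (x := z) hzP'
  have hZU : Z ≤ U.1 := fun y hy => (hP' (hZP hy)).1
  have hZW : Z ≤ W := fun y hy => (hP' (hZP hy)).2
  have hZP' : Z ≤ P' := fun y hy => hZP hy
  obtain ⟨htor, -⟩ := Λ.rule ⟨Z, hZ⟩ (fun l => X.presheaf.map (homOfLE hZU).op (g l)) fun l => by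
    rw [← (E l).map_ideal (U := ⟨Z, hZ⟩) (V := U) hZU, hg l, Ideal.map_span, Set.image_singleton]
    rfl
  have h1 : resM Λ.L hZW s = 0 := by
    refine htor _ ?_
    rw [← map_prod]
    have h2 := congrArg (resM Λ.L hZP') he
    simp only [map_zero, resM_smul, resM_resM] at h2
    rw [← CommRingCat.comp_apply, ← CommRingCat.comp_apply, ← Functor.map_comp, ← Functor.map_comp] at h2
    erw [resM_resM] at h2
    exact h2
  rw [← KTor28.gm_res Λ.L hZW hzZ s, h1, KTor28.gm_zero]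

variable (Λ : LogNCD.LogMod d D) (Λ' : LogNCD.LogMod d (D ∘ i.succAbove))

/-- Corresponding elements of the stalks of the two log modules. -/
def Rel (x : X) (v : KTor28.st x Λ'.L) (w : KTor28.st x Λ.L) : Prop :=
  ∃ c : X.presheaf.stalk x, (∀ u : KTor28.st x Λ.L, c • u = 0 → u = 0) ∧
    ∃ ω : KTor28.st x Ω', c • v = (DerSch.stalkFunctor X x).map Λ'.ι ω ∧
      c • w = (DerSch.stalkFunctor X x).map Λ.ι ω

variable {Λ Λ'}

theorem Rel.unique {x : X} {v : KTor28.st x Λ'.L} {w w' : KTor28.st x Λ.L} (h : Rel Λ Λ' x v w)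
    (h' : Rel Λ Λ' x v w') : w = w' := by
  obtain ⟨c, hc, ω, hv, hw⟩ := h
  obtain ⟨c', hc', ω', hv', hw'⟩ := h'
  haveI := Λ'.mono
  have h1 : c' • ω = c • ω' := stalk_injective Λ'.ι x (by rw [map_smul, map_smul, ← hv, ← hv', smul_comm])
  have h2 := congrArg ((DerSch.stalkFunctor X x).map Λ.ι) h1
  rw [map_smul, map_smul, ← hw, ← hw', smul_comm c' c] at h2
  refine sub_eq_zero.1 (hc' _ (hc _ ?_))
  rw [smul_sub, smul_sub, h2, sub_self]

theorem Rel.add {x : X} {v v' : KTor28.st x Λ'.L} {w w' : KTor28.st x Λ.L} (h : Rel Λ Λ' x v w)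
    (h' : Rel Λ Λ' x v' w') : Rel Λ Λ' x (v + v') (w + w') := by
  obtain ⟨c, hc, ω, hv, hw⟩ := h
  obtain ⟨c', hc', ω', hv', hw'⟩ := h'
  refine ⟨c * c', fun u hu => hc' _ (hc _ (by rw [← mul_smul]; exact hu)), c' • ω + c • ω', ?_, ?_⟩
  · rw [smul_add, map_add, map_smul, map_smul, ← hv, ← hv', mul_comm c c', mul_smul, mul_comm c' c, mul_smul]
  · rw [smul_add, map_add, map_smul, map_smul, ← hw, ← hw', mul_comm c c', mul_smul, mul_comm c' c, mul_smul]

theorem Rel.smul {x : X} {v : KTor28.st x Λ'.L} {w : KTor28.st x Λ.L} (h : Rel Λ Λ' x v w)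
    (a : X.presheaf.stalk x) : Rel Λ Λ' x (a • v) (a • w) := by
  obtain ⟨c, hc, ω, hv, hw⟩ := h
  exact ⟨c, hc, a • ω, by rw [map_smul, ← hv, smul_comm], by rw [map_smul, ← hw, smul_comm]⟩

theorem prod_smul_dl {U : X.Opens} {M : X.Modules} {m : ℕ} (g : Fin m → Γ(X, U)) (j : Fin m) (v : Γ(M, U)) :
    (∏ l, g l) • v = (∏ l ∈ Finset.univ.erase j, g l) • (g j • v) := by
  rw [← mul_smul, Finset.prod_erase_mul _ _ (Finset.mem_univ j)]

variable (Λ Λ')

/-- Sections of the smaller log module correspond to sections of the larger one on a chart. -/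
theorem exists_section (U : X.affineOpens) (g : Fin (r + 1) → Γ(X, U.1))
    (hg : ∀ l, (D l).ideal U = Ideal.span {g l}) (s : Γ(Λ'.L, U.1)) :
    ∃ t : Γ(Λ.L, U.1), ∀ (z : X) (hz : z ∈ U.1), Rel Λ Λ' z (KTor28.gm Λ'.L hz s) (KTor28.gm Λ.L hz t) := by
  obtain ⟨-, dl, hdl, -, -, -⟩ := Λ.rule U g hg
  obtain ⟨-, dl', hdl', hs', -, -⟩ := Λ'.rule U (g ∘ i.succAbove) fun l => hg _
  obtain ⟨ω, a, rfl⟩ := exists_decomp Λ' hs' s
  let a' : Fin r → Γ(X, U.1) := a
  let t : Γ(Λ.L, U.1) := ∑ j, a' j • dl (i.succAbove j)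
  refine ⟨Λ.ι.app U.1 ω + t, fun z hz => ?_⟩
  let G := ∏ l, g l
  let ω₁ : Γ(Ω', U.1) := G • ω + ∑ j, (a' j * ∏ l ∈ Finset.univ.erase (i.succAbove j), g l) •
    d.app U.1 (g (i.succAbove j))
  refine ⟨X.presheaf.germ U.1 z hz G, regular_germ Λ U g hg hz, KTor28.gm Ω' hz ω₁, ?_, ?_⟩
  · rw [KTor28.gm_map, ← KTor28.gm_smul]
    congr 1
    rw [smul_add, Finset.smul_sum, map_add, map_sum, Scheme.Modules.Hom.app_smul]
    congr 1
    refine Finset.sum_congr rfl fun j _ => ?_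
    rw [Scheme.Modules.Hom.app_smul, smul_comm G, mul_smul]
    show a' j • ((∏ l, g l) • _) = _
    rw [prod_smul_dl g (i.succAbove j)]
    exact congrArg (fun e => a' j • ((∏ l ∈ Finset.univ.erase (i.succAbove j), g l) • e)) (hdl' j)
  · rw [KTor28.gm_map, ← KTor28.gm_smul]
    congr 1
    rw [smul_add, map_add, map_sum, Scheme.Modules.Hom.app_smul]
    congr 1
    show G • (∑ j, a' j • dl (i.succAbove j) : Γ(Λ.L, U.1)) = _
    rw [Finset.smul_sum]
    refine Finset.sum_congr rfl fun j _ => ?_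
    rw [Scheme.Modules.Hom.app_smul, smul_comm G, mul_smul]
    show a' j • ((∏ l, g l) • _) = _
    rw [prod_smul_dl g (i.succAbove j)]
    exact congrArg (fun e => a' j • ((∏ l ∈ Finset.univ.erase (i.succAbove j), g l) • e)) (hdl (i.succAbove j))

/-- The inclusion exists. -/
theorem exists_sub (hD : LogNCD.IsNCD D f) : ∃ κ : Λ'.L ⟶ Λ.L, Λ'.ι ≫ κ = Λ.ι := by
  have hex : ∀ (x : X) (v : KTor28.st x Λ'.L), ∃ w, Rel Λ Λ' x v w := fun x v => by
    obtain ⟨V, hxV, s, rfl⟩ := KTor28.exists_gm Λ'.L v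
    obtain ⟨U, hxU, hUV, g, hg⟩ := exists_principal_nhd hD x V hxV
    obtain ⟨t, ht⟩ := exists_section Λ Λ' U g hg (resM Λ'.L hUV s)
    exact ⟨_, by simpa only [KTor28.gm_res] using ht x hxU⟩
  choose k hk using hex
  have hsec : ∀ (V : X.Opens) (s : Γ(Λ'.L, V)),
      ∃ t : Γ(Λ.L, V), ∀ y : V, KTor28.gm Λ.L y.2 t = k y.1 (KTor28.gm Λ'.L y.2 s) := fun V s =>
    KTor28.exists_sec Λ.L V _ fun y => by
      obtain ⟨U, hyU, hUV, g, hg⟩ := exists_principal_nhd hD y.1 V y.2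
      obtain ⟨t, ht⟩ := exists_section Λ Λ' U g hg (resM Λ'.L hUV s)
      refine ⟨U.1, hUV, hyU, t, fun z hz => ?_⟩
      refine Rel.unique (ht z hz) ?_
      rw [KTor28.gm_res]
      exact hk _ _
  choose F hF using hsec
  have hF' : ∀ {V : X.Opens} (s : Γ(Λ'.L, V)) (t : Γ(Λ.L, V)),
      (∀ y : V, Rel Λ Λ' y.1 (KTor28.gm Λ'.L y.2 s) (KTor28.gm Λ.L y.2 t)) → F V s = t := fun s t h =>
    KTor28.gm_ext _ fun x hx => by
      rw [hF _ s ⟨x, hx⟩]
      exact Rel.unique (hk _ _) (h ⟨x, hx⟩)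
  let φ : ∀ V : X.Opens, Γ(Λ'.L, V) →+ Γ(Λ.L, V) := fun V => AddMonoidHom.mk' (F V) fun s s' => hF' _ _ fun y => by
    rw [KTor28.gm_add, KTor28.gm_add, hF _ s y, hF _ s' y]
    exact (hk _ _).add (hk _ _)
  let η : Λ'.L.presheaf ⟶ Λ.L.presheaf :=
    { app := fun V => AddCommGrpCat.ofHom (φ V.unop)
      naturality := fun V W e => by
        ext s
        show F W.unop (resM Λ'.L e.unop.le s) = resM Λ.L e.unop.le (F V.unop s)
        refine hF' _ _ fun y => ?_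
        rw [KTor28.gm_res, KTor28.gm_res, hF _ s ⟨y.1, e.unop.le y.2⟩]
        exact hk _ _ }
  refine ⟨⟨PresheafOfModules.homMk η fun V a s => hF' (V := V.unop) _ _ fun y => ?_⟩, ?_⟩
  · show Rel Λ Λ' _ (KTor28.gm Λ'.L y.2 ((show Γ(X, V.unop) from a) • s))
      (KTor28.gm Λ.L y.2 ((show Γ(X, V.unop) from a) • F V.unop s))
    rw [KTor28.gm_smul, KTor28.gm_smul, hF _ s y]
    exact (hk _ _).smul _
  · refine Scheme.Modules.hom_ext _ _ fun V => ConcreteCategory.hom_ext _ _ fun ω => ?_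
    show F V (Λ'.ι.app V ω) = Λ.ι.app V ω
    refine hF' _ _ fun y => ⟨1, fun u hu => by rwa [one_smul] at hu, KTor28.gm Ω' y.2 ω, ?_, ?_⟩
    · rw [one_smul, KTor28.gm_map]
    · rw [one_smul, KTor28.gm_map]

/-- A scalar regular on the larger log module is regular on the smaller one. -/
theorem regular_sub (U : X.affineOpens) (g : Fin (r + 1) → Γ(X, U.1))
    (hg : ∀ l, (D l).ideal U = Ideal.span {g l}) {z : X} (hz : z ∈ U.1) {c : X.presheaf.stalk z}
    (hc : ∀ u : KTor28.st z Λ.L, c • u = 0 → u = 0) (v : KTor28.st z Λ'.L) (hv : c • v = 0) : v = 0 := by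
  obtain ⟨W, hzW, s, rfl⟩ := KTor28.exists_gm Λ'.L v
  obtain ⟨Z, hZ, hzZ, hZP⟩ := exists_isAffineOpen_mem_and_subset (X := X) (U := U.1 ⊓ W) (x := z) ⟨hz, hzW⟩
  have hZU : Z ≤ U.1 := fun y hy => (hZP hy).1
  have hZW : Z ≤ W := fun y hy => (hZP hy).2
  let g' : Fin r → Γ(X, Z) := fun l => X.presheaf.map (homOfLE hZU).op (g (i.succAbove l))
  have hg' : ∀ l, ((D ∘ i.succAbove) l).ideal ⟨Z, hZ⟩ = Ideal.span {g' l} := fun l => by
    show (D (i.succAbove l)).ideal ⟨Z, hZ⟩ = _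
    rw [← (D (i.succAbove l)).map_ideal (U := ⟨Z, hZ⟩) (V := U) hZU, hg, Ideal.map_span, Set.image_singleton]
    rfl
  obtain ⟨-, dl', hdl', hs', -, -⟩ := Λ'.rule ⟨Z, hZ⟩ g' hg'
  obtain ⟨ω, a, ha⟩ := exists_decomp Λ' hs' (resM Λ'.L hZW s)
  have hG : (∏ l, g' l) • resM Λ'.L hZW s =
      Λ'.ι.app Z ((∏ l, g' l) • ω + ∑ j, (a j * ∏ l ∈ Finset.univ.erase j, g' l) • d.app Z (g' j)) := by
    rw [ha, smul_add, Finset.smul_sum, map_add, map_sum, Scheme.Modules.Hom.app_smul]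
    congr 1
    refine Finset.sum_congr rfl fun j _ => ?_
    rw [Scheme.Modules.Hom.app_smul, smul_comm (∏ l, g' l), mul_smul]
    show a j • ((∏ l, g' l) • _) = _
    rw [prod_smul_dl g' j]
    exact congrArg (fun e => a j • ((∏ l ∈ Finset.univ.erase j, g' l) • e)) (hdl' j)
  haveI := Λ.mono
  haveI := Λ'.mono
  rw [← KTor28.gm_res Λ'.L hZW hzZ s] at hv ⊢
  refine regular_germ Λ' ⟨Z, hZ⟩ g' hg' hzZ _ ?_
  rw [← KTor28.gm_smul, hG, ← KTor28.gm_map]
  set ω₁ := KTor28.gm Ω' hzZ ((∏ l, g' l) • ω + ∑ j, (a j * ∏ l ∈ Finset.univ.erase j, g' l) • d.app Z (g' j))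
  have h1 : c • ω₁ = 0 := stalk_injective Λ'.ι z (by
    rw [map_zero, map_smul, KTor28.gm_map, ← hG, KTor28.gm_smul, smul_comm, hv, smul_zero])
  have h2 : ω₁ = 0 := stalk_injective Λ.ι z (by
    rw [map_zero]
    exact hc _ (by rw [← map_smul, h1, map_zero]))
  rw [h2, map_zero]

end Groth.Agent.Misc15.LogNCDSub
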