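import Groth.Agent.WeilLib.FrobField
import Mathlib

/-! The degree of the Frobenius of fields finitely generated over a field of finite p-rank. -/

universe u

namespace Groth.Agent.Misc15

open WeilLib MvPolynomial

theorem rdeg_frobenius_mvPolynomial' (F : Type u) [Field F] (p : ℕ) [Fact p.Prime] [CharP F p]
    (hF : 0 < rdeg (frobenius F p)) (n : ℕ) :
    rdeg (frobenius (MvPolynomial (Fin n) F) p) = p ^ n * rdeg (frobenius F p) := by
  classical
  have hp : 0 < p := (Fact.out : p.Prime).pos
  obtain ⟨r, b, hb, hr⟩ : ∃ (r : ℕ) (b : Fin r → F),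
      Function.Bijective (fun c : Fin r → F => ∑ i, c i ^ p * b i) ∧ r = rdeg (frobenius F p) := by
    suffices ∀ (G : Type u) [Field G] (φ : F →+* G), 0 < rdeg φ →
        ∃ (r : ℕ) (b : Fin r → G),
          Function.Bijective (fun c : Fin r → F => ∑ i, φ (c i) * b i) ∧ r = rdeg φ from
      this F (frobenius F p) hF
    intro G _ φ hφ
    algebraize [φ]
    rw [show φ = algebraMap F G from rfl, rdeg_algebraMap] at hφ ⊢
    have := Module.finite_of_finrank_pos hφ
    refine ⟨_, Module.finBasis F G, ?_, rfl⟩
    convert (Module.finBasis F G).equivFun.symm.bijective using 1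
    funext c
    simp [Module.Basis.equivFun_symm_apply, Algebra.smul_def]
  rw [← hr]
  let E : (Fin n → Fin p) → (Fin n →₀ ℕ) := fun e => Finsupp.equivFunOnFinite.symm fun i => (e i : ℕ)
  rw [rdeg_eq_card _ (fun ei : (Fin n → Fin p) × Fin r => monomial (E ei.1) (b ei.2))]
  · simp
  let D : (Fin n →₀ ℕ) → (Fin n → Fin p) := fun m i => ⟨m i % p, Nat.mod_lt _ hp⟩
  let A : (Fin n →₀ ℕ) → (Fin n →₀ ℕ) := fun m => Finsupp.equivFunOnFinite.symm fun i => m i / p
  have hdec : ∀ m, p • A m + E (D m) = m := fun m => by
    ext i; simp [A, E, D, Nat.div_add_mod]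
  have huniq : ∀ a e, D (p • a + E e) = e ∧ A (p • a + E e) = a := fun a e => by
    refine ⟨funext fun i => Fin.ext ?_, Finsupp.ext fun i => ?_⟩
    · simp [D, E, Nat.mod_eq_of_lt]
    · simp [A, E, Nat.add_div_of_dvd_right, hp.ne', Nat.div_eq_of_lt]
  have hfr : ∀ f : MvPolynomial (Fin n) F,
      frobenius (MvPolynomial (Fin n) F) p f = (expand p f).map (frobenius F p) :=
    fun f => (map_frobenius_expand p).symm
  have hcoeff : ∀ (c : (Fin n → Fin p) × Fin r → MvPolynomial (Fin n) F) (m : Fin n →₀ ℕ),
      coeff m (∑ ei, frobenius (MvPolynomial (Fin n) F) p (c ei) * monomial (E ei.1) (b ei.2)) =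
        ∑ i, coeff (A m) (c (D m, i)) ^ p * b i := by
    intro c m
    rw [coeff_sum, Fintype.sum_prod_type, Finset.sum_eq_single (D m)]
    · refine Finset.sum_congr rfl fun i _ => ?_
      have hm := hdec m
      generalize A m = a, D m = e at hm ⊢
      subst hm
      rw [coeff_mul_monomial, hfr, coeff_map, coeff_expand_smul p hp.ne', frobenius_def]
    · intro e _ he
      refine Finset.sum_eq_zero fun i _ => ?_
      rw [coeff_mul_monomial']
      split_ifs with hle
      · suffices coeff (m - E e) (expand p (c (e, i))) = 0 by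
          rw [hfr, coeff_map, this, map_zero, zero_mul]
        by_contra hne
        refine he ?_
        have hdvd : ∀ j, p ∣ (m - E e) j := fun j => by
          by_contra hd
          exact hne (coeff_expand_of_not_dvd _ hd)
        refine funext fun j => Fin.ext ?_
        obtain ⟨a, ha⟩ := hdvd j
        have hle' := hle j
        simp only [Finsupp.tsub_apply, E, Finsupp.coe_equivFunOnFinite_symm] at ha hle'
        show (e j : ℕ) = m j % p
        rw [show m j = p * a + (e j : ℕ) by omega, Nat.mul_add_mod, Nat.mod_eq_of_lt (e j).2]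
      · rfl
    · simp
  constructor
  · intro c c' h
    refine funext fun ⟨e, i⟩ => MvPolynomial.ext _ _ fun a => ?_
    have h2 := congrArg (coeff (p • a + E e)) h
    simp only [hcoeff, (huniq a e).1, (huniq a e).2] at h2
    exact congrFun (hb.1 h2) i
  · intro f
    choose d hd using fun m => hb.2 (coeff m f)
    refine ⟨fun ei => ∑ m ∈ f.support with D m = ei.1, monomial (A m) (d m ei.2),
      MvPolynomial.ext _ _ fun m => ?_⟩
    rw [hcoeff, ← hd m]
    refine Finset.sum_congr rfl fun i _ => ?_
    congr 2
    rw [coeff_sum, Finset.sum_eq_single m]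
    · rw [coeff_monomial, if_pos rfl]
    · intro m' hm' hne
      rw [coeff_monomial, if_neg]
      intro hA
      refine hne ?_
      rw [← hdec m', ← hdec m, hA, (Finset.mem_filter.1 hm').2]
    · intro hm
      have h0 : coeff m f = 0 := by simpa using hm
      have : d m = 0 := hb.1 ((hd m).trans (by simp [h0, hp.ne']))
      rw [coeff_monomial, if_pos rfl, this]; rfl

theorem rdeg_frobenius_powerSeries (k : Type u) [Field k] (p : ℕ) [Fact p.Prime] [CharP k p]
    [PerfectRing k p] [CharP (PowerSeries k) p] : rdeg (frobenius (PowerSeries k) p) = p := by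
  have hp : 0 < p := (Fact.out : p.Prime).pos
  rw [rdeg_eq_card _ (fun j : Fin p => (PowerSeries.X : PowerSeries k) ^ (j : ℕ))]
  · simp
  have hfr : ∀ (f : PowerSeries k) (m : ℕ), PowerSeries.coeff m (frobenius (PowerSeries k) p f) =
      frobenius k p (PowerSeries.coeff m (PowerSeries.expand p hp.ne' f)) := by
    intro f m
    rw [frobenius_def, ← PowerSeries.coeff_map]
    congr 1
    exact (MvPowerSeries.map_frobenius_expand p hp.ne').symm
  have hcoeff : ∀ (c : Fin p → PowerSeries k) (m : ℕ),
      PowerSeries.coeff m (∑ j : Fin p, frobenius (PowerSeries k) p (c j) * PowerSeries.X ^ (j : ℕ)) =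
        PowerSeries.coeff (m / p) (c ⟨m % p, Nat.mod_lt _ hp⟩) ^ p := by
    intro c m
    rw [map_sum, Finset.sum_eq_single (⟨m % p, Nat.mod_lt _ hp⟩ : Fin p)]
    · rw [PowerSeries.coeff_mul_X_pow', if_pos (Nat.mod_le _ _), hfr, frobenius_def,
        show m - m % p = p * (m / p) by have := Nat.div_add_mod m p; omega,
        PowerSeries.coeff_expand_mul]
    · intro j _ hj
      rw [PowerSeries.coeff_mul_X_pow']
      split_ifs with h
      · rw [hfr, PowerSeries.coeff_expand_of_not_dvd, map_zero]
        rintro ⟨a, ha⟩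
        refine hj (Fin.ext ?_)
        show (j : ℕ) = m % p
        rw [show m = p * a + (j : ℕ) by omega, Nat.mul_add_mod, Nat.mod_eq_of_lt j.2]
      · rfl
    · simp
  constructor
  · intro c c' h
    refine funext fun j => PowerSeries.ext fun a => ?_
    have h2 := congrArg (PowerSeries.coeff (p * a + (j : ℕ))) h
    simp only [hcoeff, Nat.mul_add_mod, Nat.mod_eq_of_lt j.2, Fin.eta,
      Nat.mul_add_div hp, Nat.div_eq_of_lt j.2, add_zero] at h2
    exact frobenius_inj k p h2
  · intro f
    refine ⟨fun j => PowerSeries.mk fun a =>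
      (frobeniusEquiv k p).symm (PowerSeries.coeff (p * a + (j : ℕ)) f), PowerSeries.ext fun m => ?_⟩
    rw [hcoeff, PowerSeries.coeff_mk, frobeniusEquiv_symm_pow_p]
    simp only
    rw [Nat.div_add_mod]

/-- Frobenius commutes with injective maps, so degrees multiply. -/
theorem rdeg_frobenius_comm {R S : Type u} [CommRing R] [IsDomain R] [CommRing S] [IsDomain S] (p : ℕ)
    [Fact p.Prime] [CharP R p] [CharP S p] (g : R →+* S) (hg : Function.Injective g) :
    rdeg g * rdeg (frobenius S p) = rdeg (frobenius R p) * rdeg g := by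
  have e : (frobenius S p).comp g = g.comp (frobenius R p) :=
    RingHom.ext fun x => (RingHom.map_frobenius g p x).symm
  have e' := congrArg rdeg e
  rwa [rdeg_comp _ _ (frobenius_inj S p), rdeg_comp _ _ hg] at e'

theorem rdeg_frobenius_fractionRing {R L : Type u} [CommRing R] [IsDomain R] [Field L] (p : ℕ)
    [Fact p.Prime] [CharP R p] [CharP L p] [Algebra R L] [IsFractionRing R L] :
    rdeg (frobenius L p) = rdeg (frobenius R p) := by
  have := rdeg_frobenius_comm p (algebraMap R L) (IsFractionRing.injective R L)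
  rwa [rdeg_fractionRing, one_mul, mul_one] at this

theorem rdeg_frobenius_eq {F K : Type u} [Field F] [Field K] [Algebra F K] (p : ℕ) [Fact p.Prime]
    [CharP F p] [CharP K p] (hF : 0 < rdeg (frobenius F p))
    (hfg : (⊤ : IntermediateField F K).FG) (d : ℕ) (hd : Algebra.trdeg F K = d) :
    rdeg (frobenius K p) = p ^ d * rdeg (frobenius F p) := by
  obtain ⟨s, hs⟩ := exists_isTranscendenceBasis F K
  have hcard : Cardinal.mk s = d := by rw [← hd]; exact hs.cardinalMk_eq_trdeg
  have : Finite s := Cardinal.lt_aleph0_iff_finite.1 (hcard ▸ Cardinal.natCast_lt_aleph0)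
  have : Fintype s := Fintype.ofFinite s
  let e : Fin d ≃ s := ((Fintype.equivFinOfCardEq (by simpa using hcard)).symm)
  let x : Fin d → K := fun i => (e i : K)
  have hx : IsTranscendenceBasis F x := hs.comp_equiv e
  set g := (aeval x : MvPolynomial (Fin d) F →ₐ[F] K)
  have hg : Function.Injective g.toRingHom := hx.1
  let L0 := IntermediateField.adjoin F (Set.range x)
  have : Algebra.IsAlgebraic L0 K := hx.isAlgebraic_field
  obtain ⟨t, ht⟩ := hfg
  have : Module.Finite L0 K := by
    have : IntermediateField.adjoin L0 (t : Set K) = ⊤ := by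
      rw [← top_le_iff]
      intro y _
      have hy : y ∈ IntermediateField.adjoin F (t : Set K) := ht ▸ trivial
      have h2 := IntermediateField.adjoin.mono F _ _ (Set.subset_union_right (s := Set.range x)) hy
      rw [← IntermediateField.adjoin_adjoin_left] at h2
      exact h2
    have := IntermediateField.finiteDimensional_adjoin (K := L0) (S := (t : Set K))
      (fun y _ => (Algebra.IsAlgebraic.isAlgebraic y).isIntegral)
    exact Module.Finite.equiv ((IntermediateField.equivOfEq ‹IntermediateField.adjoin L0 (t : Set K) = ⊤›).trans IntermediateField.topEquiv).toLinearEquiv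
  let φ : FractionRing (MvPolynomial (Fin d) F) →+* K := IsFractionRing.lift hg
  have hr : φ.Finite := by
    let ψ : FractionRing (MvPolynomial (Fin d) F) ≃ₐ[F] L0 := hx.1.aevalEquivField
    have h2 : (algebraMap L0 K).comp ψ.toRingEquiv.toRingHom = φ := by
      refine IsLocalization.ringHom_ext (nonZeroDivisors (MvPolynomial (Fin d) F)) (RingHom.ext fun q => ?_)
      simp only [RingHom.comp_apply, φ, IsFractionRing.lift_algebraMap, ψ]
      exact hx.1.aevalEquivField_algebraMap_apply_coe q
    rw [← h2]
    exact RingHom.Finite.comp (RingHom.finite_algebraMap.2 ‹_›)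
      (RingHom.Finite.of_surjective _ ψ.toRingEquiv.surjective)
  haveI : CharP (FractionRing (MvPolynomial (Fin d) F)) p :=
    IsFractionRing.charP_of_isFractionRing (MvPolynomial (Fin d) F) p
  have h1 := rdeg_frobenius_comm p φ φ.injective
  rw [mul_comm] at h1
  rw [rdeg_frobenius_fractionRing (R := MvPolynomial (Fin d) F) (L := FractionRing (MvPolynomial (Fin d) F)) p, rdeg_frobenius_mvPolynomial' F p hF] at h1
  exact Nat.eq_of_mul_eq_mul_right (rdeg_pos_of_finite φ φ.injective hr) h1

end Groth.Agent.Misc15
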