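import Groth.Agent.Misc15.PerfectLength
import Groth.Prelude.Def_Cyc

/-! Cycles along the base change to a purely inseparable field extension. -/

set_option autoImplicit false
universe u

open CategoryTheory CategoryTheory.Limits AlgebraicGeometry TensorProduct

namespace Groth.Agent.Misc15.PerfectCycles

variable {k : Type u} [Field k] (p : ℕ) [Fact p.Prime] [CharP k p] {k' : Type u} [Field k']
  (φ : k →+* k') (hφ : letI := φ.toAlgebra; IsPurelyInseparable k k')
  {X : Scheme.{u}} (f : X ⟶ Spec (CommRingCat.of k))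

local notation "pr" => pullback.fst f (Spec.map (CommRingCat.ofHom φ))

/-- sections of the base change over the preimage of an affine open -/
theorem exists_equiv {U : X.Opens} (hU : IsAffineOpen U) :
    letI := φ.toAlgebra
    ∃ (_ : Algebra k Γ(X, U)) (e : k' ⊗[k] Γ(X, U) ≃+* Γ(pullback f (Spec.map (CommRingCat.ofHom φ)), pr ⁻¹ᵁ U)),
      (algebraMap k Γ(X, U) = (f.appLE ⊤ U le_top).hom.comp (Scheme.ΓSpecIso (CommRingCat.of k)).inv.hom) ∧
        ∀ a, e (1 ⊗ₜ a) = (pr).app U a := by
  letI := φ.toAlgebra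
  letI alg : Algebra k Γ(X, U) :=
    ((f.appLE ⊤ U le_top).hom.comp (Scheme.ΓSpecIso (CommRingCat.of k)).inv.hom).toAlgebra
  have H := IsPullback.of_hasPullback f (Spec.map (CommRingCat.ofHom φ))
  have := (isIso_pushoutSection_iff H (US := ⊤) (UT := ⊤) (UX := U) (by simp) le_top
    (UY := pr ⁻¹ᵁ U) (by simp)).1
    (isIso_pushoutSection_of_isAffineOpen H (by simp) le_top (by simp) (isAffineOpen_top _) (isAffineOpen_top _) hU)
  have h2 : IsPushout (CommRingCat.ofHom (algebraMap k Γ(X, U))) (CommRingCat.ofHom φ)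
      ((pr).app U)
      ((Scheme.ΓSpecIso (CommRingCat.of k')).inv ≫
        (pullback.snd f (Spec.map (CommRingCat.ofHom φ))).appLE ⊤ (pr ⁻¹ᵁ U) (by simp)) := by
    refine this.of_iso (Scheme.ΓSpecIso (CommRingCat.of k)) (Iso.refl _) (Scheme.ΓSpecIso (CommRingCat.of k'))
      (Iso.refl _) ?_ ?_ ?_ ?_
    · ext r
      simp [RingHom.algebraMap_toAlgebra]
    · simp [Scheme.Hom.appLE, Scheme.ΓSpecIso_naturality]
    · simp [Scheme.Hom.app_eq_appLE]
    · simp
  let e := ((CommRingCat.isPushout_tensorProduct k k' Γ(X, U)).flip.isoIsPushout _ _ h2).commRingCatIsoToRingEquiv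
  refine ⟨alg, e, rfl, fun a => ?_⟩
  exact ConcreteCategory.congr_hom ((CommRingCat.isPushout_tensorProduct k k' Γ(X, U)).flip.inl_isoIsPushout_hom _ _ h2) a

include hφ in
/-- injectivity and the `p`-power length over an affine open -/
theorem chart [LocallyOfFiniteType f] (x' : ↥(pullback f (Spec.map (CommRingCat.ofHom φ)))) :
    (∀ y', pr y' = pr x' → y' = x') ∧
    (∃ e : ℕ, Module.length ((pullback f (Spec.map (CommRingCat.ofHom φ))).presheaf.stalk x')
      (((pullback f (Spec.map (CommRingCat.ofHom φ))).presheaf.stalk x') ⧸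
        Ideal.map ((pr).stalkMap x').hom (IsLocalRing.maximalIdeal (X.presheaf.stalk (pr x')))) = (p ^ e : ℕ)) ∧
    (letI := ((pr).residueFieldMap x').hom.toAlgebra
     Algebra.IsAlgebraic (X.residueField (pr x')) ((pullback f (Spec.map (CommRingCat.ofHom φ))).residueField x')) := by
  letI := φ.toAlgebra
  have := hφ
  obtain ⟨U, hU, hxU, -⟩ := exists_isAffineOpen_mem_and_subset (U := ⊤) (show pr x' ∈ (⊤ : X.Opens) from trivial)
  have : IsAffineHom pr := MorphismProperty.pullback_fst _ _ inferInstance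
  have hV : IsAffineOpen (pr ⁻¹ᵁ U) := hU.preimage pr
  obtain ⟨alg, e, halg, he⟩ := exists_equiv φ f hU
  have hft : Algebra.FiniteType k Γ(X, U) := by
    rw [← RingHom.finiteType_algebraMap, halg]
    exact (LocallyOfFiniteType.finiteType_appLE f (isAffineOpen_top _) hU le_top).comp
      (RingHom.FiniteType.of_surjective _ (Scheme.ΓSpecIso (CommRingCat.of k)).commRingCatIsoToRingEquiv.symm.surjective)
  have hprime : ∀ (y' : ↥(pullback f (Spec.map (CommRingCat.ofHom φ)))) (hy : pr y' ∈ U),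
      (hV.primeIdealOf ⟨y', hy⟩).asIdeal.comap ((pr).app U).hom = (hU.primeIdealOf ⟨pr y', hy⟩).asIdeal := by
    intro y' hy
    have := IsAffineOpen.comap_primeIdealOf_appLE (f := pr) U hU (pr ⁻¹ᵁ U) hV le_rfl hy
    rw [← Scheme.Hom.app_eq_appLE] at this
    exact congrArg PrimeSpectrum.asIdeal this
  refine ⟨fun y' hy => ?_, ?_, ?_⟩
  · have hy' : pr y' ∈ U := hy ▸ hxU
    have h1 : (hV.primeIdealOf ⟨y', hy'⟩).asIdeal = (hV.primeIdealOf ⟨x', hxU⟩).asIdeal := by
      refine PerfectLength.mem_iff p Γ(X, U) e ((pr).app U).hom he _ _ ?_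
      rw [hprime, hprime]
      congr 2
      exact Subtype.ext hy
    have h2 := congrArg (hV.fromSpec) (PrimeSpectrum.ext h1)
    rwa [hV.fromSpec_primeIdealOf, hV.fromSpec_primeIdealOf] at h2
  · letI algV := (pullback f (Spec.map (CommRingCat.ofHom φ))).presheaf.algebra_section_stalk
      (U := pr ⁻¹ᵁ U) ⟨x', hxU⟩
    have := hV.isLocalization_stalk ⟨x', hxU⟩
    obtain ⟨n, hn⟩ := PerfectLength.length_fibre p Γ(X, U) e ((pr).app U).hom he
      (hV.primeIdealOf ⟨x', hxU⟩).asIdeal ((pullback f (Spec.map (CommRingCat.ofHom φ))).presheaf.stalk x')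
    refine ⟨n, ?_⟩
    rw [← hn, hprime]
    letI algU := X.presheaf.algebra_section_stalk (U := U) ⟨pr x', hxU⟩
    have := hU.isLocalization_stalk ⟨pr x', hxU⟩
    rw [← IsLocalization.AtPrime.map_eq_maximalIdeal (hU.primeIdealOf ⟨pr x', hxU⟩).asIdeal
      (X.presheaf.stalk (pr x')), Ideal.map_map]
    congr 3 <;>
    · show ((pr).stalkMap x').hom.comp (X.presheaf.germ U (pr x') hxU).hom = _
      rw [← CommRingCat.hom_comp, Scheme.Hom.germ_stalkMap]
      rfl
  · letI := ((pr).residueFieldMap x').hom.toAlgebra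
    refine ⟨fun y => ?_⟩
    letI algV := (pullback f (Spec.map (CommRingCat.ofHom φ))).presheaf.algebra_section_stalk
      (U := pr ⁻¹ᵁ U) ⟨x', hxU⟩
    have := hV.isLocalization_stalk ⟨x', hxU⟩
    obtain ⟨z, rfl⟩ := (pullback f (Spec.map (CommRingCat.ofHom φ))).residue_surjective x' y
    obtain ⟨c, s, rfl⟩ := IsLocalization.exists_mk'_eq (hV.primeIdealOf ⟨x', hxU⟩).asIdeal.primeCompl z
    have key : ∀ d : Γ(pullback f (Spec.map (CommRingCat.ofHom φ)), pr ⁻¹ᵁ U),
        IsAlgebraic (X.residueField (pr x'))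
          ((pullback f (Spec.map (CommRingCat.ofHom φ))).evaluation (pr ⁻¹ᵁ U) x' hxU d) := by
      intro d
      have : Nontrivial (k' ⊗[k] Γ(X, U)) := by
        have : Nontrivial Γ(pullback f (Spec.map (CommRingCat.ofHom φ)), pr ⁻¹ᵁ U) :=
          RingHom.domain_nontrivial ((pullback f (Spec.map (CommRingCat.ofHom φ))).evaluation (pr ⁻¹ᵁ U) x' hxU).hom
        exact e.toEquiv.nontrivial
      obtain ⟨n, a, ha⟩ := PerfectLength.exists_pow_mem (k := k) p Γ(X, U) (e.symm d)
      refine IsAlgebraic.of_pow (pow_pos (Fact.out : p.Prime).pos n) ?_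
      have hd : d ^ p ^ n = (pr).app U a := by rw [← he, ← ha, map_pow, RingEquiv.apply_symm_apply]
      rw [← map_pow, hd, ← Scheme.evaluation_naturality_apply]
      exact isAlgebraic_algebraMap _
    have hev : ∀ d, (pullback f (Spec.map (CommRingCat.ofHom φ))).residue x'
        (algebraMap _ ((pullback f (Spec.map (CommRingCat.ofHom φ))).presheaf.stalk x') d) =
        (pullback f (Spec.map (CommRingCat.ofHom φ))).evaluation (pr ⁻¹ᵁ U) x' hxU d := fun d => rfl
    have hs : (pullback f (Spec.map (CommRingCat.ofHom φ))).evaluation (pr ⁻¹ᵁ U) x' hxU s.1 ≠ 0 := by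
      rw [← hev]
      exact ((IsLocalization.map_units _ s).map ((pullback f (Spec.map (CommRingCat.ofHom φ))).residue x').hom).ne_zero
    have hmk : (pullback f (Spec.map (CommRingCat.ofHom φ))).residue x' (IsLocalization.mk' _ c s) =
        (pullback f (Spec.map (CommRingCat.ofHom φ))).evaluation (pr ⁻¹ᵁ U) x' hxU c /
        (pullback f (Spec.map (CommRingCat.ofHom φ))).evaluation (pr ⁻¹ᵁ U) x' hxU s.1 := by
      rw [eq_div_iff hs, ← hev, ← hev, ← map_mul, IsLocalization.mk'_spec]
    rw [hmk, div_eq_mul_inv]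
    exact (key c).mul (key s.1).inv

include p hφ in
theorem isHomeomorph_pr [LocallyOfFiniteType f] : IsHomeomorph pr := by
  letI := φ.toAlgebra
  have := hφ
  have h1 : IsIntegralHom (Spec.map (CommRingCat.ofHom φ)) :=
    (IsIntegralHom.SpecMap_iff).2 (Algebra.IsIntegral.isIntegral (R := k) (A := k'))
  have h2 : Surjective (Spec.map (CommRingCat.ofHom φ)) := ⟨fun q => ⟨(⟨⊥, Ideal.isPrime_bot⟩ : PrimeSpectrum k'), Subsingleton.elim (α := PrimeSpectrum k) _ _⟩⟩
  refine (isHomeomorph_iff_continuous_isClosedMap_bijective).2 ⟨(pr).continuous, (pr).isClosedMap, ?_, (pr).surjective⟩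
  intro y y' h
  exact (chart p φ hφ f y').1 y h

/-- two composites `k → κ` -/
theorem trdeg_eq {k₀ K L : Type u} [Field k₀] [Field K] [Field L] (a : k₀ →+* K) (b : K →+* L) :
    (letI := a.toAlgebra; Algebra.trdeg k₀ K) + (letI := b.toAlgebra; Algebra.trdeg K L) =
      (letI := (b.comp a).toAlgebra; Algebra.trdeg k₀ L) := by
  letI := a.toAlgebra
  letI := b.toAlgebra
  letI := (b.comp a).toAlgebra
  have : IsScalarTower k₀ K L := IsScalarTower.of_algebraMap_eq fun _ => rfl
  exact trdeg_add_eq k₀ K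

theorem trdeg_zero_of_algebraic {K L : Type u} [Field K] [Field L] (b : K →+* L)
    (h : letI := b.toAlgebra; Algebra.IsAlgebraic K L) : (letI := b.toAlgebra; Algebra.trdeg K L) = 0 := by
  letI := b.toAlgebra
  have := h
  exact trdeg_eq_zero

/-- the constants in the residue field of a point of `Spec k` -/
noncomputable def cst {K : Type u} [Field K] (q : Spec (CommRingCat.of K)) :
    K →+* (Spec (CommRingCat.of K)).residueField q :=
  ((Scheme.ΓSpecIso (CommRingCat.of K)).inv ≫ (Spec (CommRingCat.of K)).evaluation ⊤ q trivial).hom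

theorem trdeg_cst {K : Type u} [Field K] (q : Spec (CommRingCat.of K)) :
    (letI := (cst q).toAlgebra; Algebra.trdeg K ((Spec (CommRingCat.of K)).residueField q)) = 0 := by
  refine trdeg_zero_of_algebraic (cst q) ?_
  letI := (cst q).toAlgebra
  refine ⟨fun y => ?_⟩
  have : q.asIdeal.IsMaximal := by
    rw [show q.asIdeal = ⊥ from (Ideal.eq_bot_or_top _).resolve_right q.isPrime.ne_top]
    exact Ideal.bot_isMaximal
  obtain ⟨c, hc⟩ := q.asIdeal.algebraMap_residueField_surjective ((Scheme.Spec.residueFieldIso (CommRingCat.of K) q).hom y)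
  have : y = cst q c := by
    have h := congrArg (Scheme.Spec.residueFieldIso (CommRingCat.of K) q).inv hc
    rw [← CommRingCat.comp_apply, Iso.hom_inv_id, CommRingCat.id_apply] at h
    exact h.symm.trans (ConcreteCategory.congr_hom (Scheme.Spec.algebraMap_residueFieldIso_inv (CommRingCat.of K) q) c)
  rw [this]
  exact isAlgebraic_algebraMap c

include p hφ in
theorem delta_eq [LocallyOfFiniteType f] (δ : X → ℤ) (hδ : Cyc.DeltaCompat f δ (fun _ => 0))
    (δ' : ↥(pullback f (Spec.map (CommRingCat.ofHom φ))) → ℤ)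
    (hδ' : Cyc.DeltaCompat (pullback.snd f (Spec.map (CommRingCat.ofHom φ))) δ' (fun _ => 0))
    (x' : ↥(pullback f (Spec.map (CommRingCat.ofHom φ)))) : δ' x' = δ (pr x') := by
  obtain ⟨n, hn, hn'⟩ := hδ (pr x')
  obtain ⟨m, hm, hm'⟩ := hδ' x'
  suffices h : n = m by rw [hn', hm', h]
  let sn := pullback.snd f (Spec.map (CommRingCat.ofHom φ))
  let a₁ := cst (f (pr x'))
  let b₁ := (f.residueFieldMap (pr x')).hom
  let c₁ := ((pr).residueFieldMap x').hom
  let a₂ := cst (sn x')
  let b₂ := (sn.residueFieldMap x').hom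
  have hw : c₁.comp (b₁.comp a₁) = (b₂.comp a₂).comp φ := by
    refine RingHom.ext fun r => ?_
    have e1 : b₁ (a₁ r) = X.evaluation ⊤ (pr x') trivial (f.appTop ((Scheme.ΓSpecIso (CommRingCat.of k)).inv r)) :=
      Scheme.evaluation_naturality_apply f (V := ⊤) (pr x') trivial _
    have e2 : ∀ t, c₁ (X.evaluation ⊤ (pr x') trivial t) =
        (pullback f (Spec.map (CommRingCat.ofHom φ))).evaluation ⊤ x' trivial ((pr).appTop t) :=
      Scheme.evaluation_naturality_apply pr (V := ⊤) x' trivial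
    have e3 : ∀ t, b₂ (a₂ t) = (pullback f (Spec.map (CommRingCat.ofHom φ))).evaluation ⊤ x' trivial
        (sn.appTop ((Scheme.ΓSpecIso (CommRingCat.of k')).inv t)) := fun t =>
      Scheme.evaluation_naturality_apply sn (V := ⊤) x' trivial _
    show c₁ (b₁ (a₁ r)) = b₂ (a₂ (φ r))
    rw [e1, e2, e3]
    congr 1
    have e4 : (Scheme.ΓSpecIso (CommRingCat.of k')).inv (φ r) =
        (Spec.map (CommRingCat.ofHom φ)).appTop ((Scheme.ΓSpecIso (CommRingCat.of k)).inv r) :=
      ConcreteCategory.congr_hom (Scheme.ΓSpecIso_inv_naturality (CommRingCat.ofHom φ)) r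
    rw [e4]
    show (f.appTop ≫ (pr).appTop) _ = ((Spec.map (CommRingCat.ofHom φ)).appTop ≫ sn.appTop) _
    rw [← Scheme.Hom.comp_appTop, ← Scheme.Hom.comp_appTop, pullback.condition]
  have h1 : (letI := (c₁.comp (b₁.comp a₁)).toAlgebra;
      Algebra.trdeg k ((pullback f (Spec.map (CommRingCat.ofHom φ))).residueField x')) = n := by
    rw [← trdeg_eq (b₁.comp a₁) c₁, ← trdeg_eq a₁ b₁, trdeg_zero_of_algebraic c₁ (chart p φ hφ f x').2.2,
      trdeg_cst, zero_add, add_zero]
    exact hn
  have h2 : (letI := (c₁.comp (b₁.comp a₁)).toAlgebra;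
      Algebra.trdeg k ((pullback f (Spec.map (CommRingCat.ofHom φ))).residueField x')) = m := by
    rw [hw, ← trdeg_eq φ (b₂.comp a₂), ← trdeg_eq a₂ b₂, trdeg_cst, zero_add,
      trdeg_zero_of_algebraic φ (by letI := φ.toAlgebra; have := hφ; infer_instance), zero_add]
    exact hm
  exact Nat.cast_injective (R := Cardinal) (h1.symm.trans h2)

include p hφ in
theorem main [LocallyOfFiniteType f] [QuasiCompact f] (δ : X → ℤ) (hδ : Cyc.DeltaCompat f δ (fun _ => 0))
    (δ' : ↥(pullback f (Spec.map (CommRingCat.ofHom φ))) → ℤ)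
    (hδ' : Cyc.DeltaCompat (pullback.snd f (Spec.map (CommRingCat.ofHom φ))) δ' (fun _ => 0)) (r : ℤ)
    (β : AlgebraicCycle (pullback f (Spec.map (CommRingCat.ofHom φ))) ℤ) (hβ : β ∈ Cyc.Zk _ δ' r) :
    ∃ (n : ℕ) (α : AlgebraicCycle X ℤ), α ∈ Cyc.Zk X δ r ∧ (p : ℤ) ^ n • ⇑β = Cyc.pullFun pr δ' δ 0 ⇑α := by
  classical
  let h := (isHomeomorph_pr p φ hφ f).homeomorph
  have hh : ∀ x', h x' = pr x' := fun _ => rfl
  choose e he using fun x' => (chart p φ hφ f x').2.1
  have : CompactSpace X := (quasiCompact_iff_compactSpace f).1 inferInstance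
  have : CompactSpace ↥(pullback f (Spec.map (CommRingCat.ofHom φ))) := h.symm.compactSpace
  have hfin : β.support.Finite := by
    simpa using! LocallyFiniteSupport.finite_inter_support_of_isCompact (Function.locallyFinsupp.locallyFiniteSupport β) isCompact_univ
  let n := hfin.toFinset.sup e
  let g : X → ℤ := fun x => (p : ℤ) ^ (n - e (h.symm x)) * β (h.symm x)
  have hgs : g.support ⊆ h '' β.support := fun x hx =>
    ⟨h.symm x, fun h0 => hx (by simp [g, h0]), h.apply_symm_apply x⟩
  let α : AlgebraicCycle X ℤ :=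
    { toFun := g
      supportWithinDomain' := Set.subset_univ _
      supportLocallyFiniteWithinDomain' := fun z _ => ⟨Set.univ, Filter.univ_mem,
        ((hfin.image h).subset hgs).inter_of_right _⟩ }
  refine ⟨n, α, fun x hx => ?_, funext fun x' => ?_⟩
  · show g x = 0
    have : β (h.symm x) = 0 := hβ _ (by
      rw [delta_eq p φ hφ f δ hδ δ' hδ', ← hh, Homeomorph.apply_symm_apply]
      exact hx)
    simp [g, this]
  · have hd : δ' x' = δ (pr x') + 0 := by rw [add_zero]; exact delta_eq p φ hφ f δ hδ δ' hδ' x'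
    rw [Cyc.pullFun, if_pos hd, Pi.smul_apply, smul_eq_mul]
    show _ = g (pr x') * _
    rw [he x', ENat.toNat_natCast, ← hh]
    simp only [g, Homeomorph.symm_apply_apply]
    by_cases h0 : β x' = 0
    · simp [h0]
    · have hle : e x' ≤ n := Finset.le_sup (f := e) (hfin.mem_toFinset.2 h0)
      push_cast
      rw [mul_right_comm, ← pow_add, Nat.sub_add_cancel hle]

end Groth.Agent.Misc15.PerfectCycles
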