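import Groth.Agent.Misc15.PerfectLength
import Groth.Agent.AbVarLib.PerfectReduced

set_option autoImplicit false
universe u
open TensorProduct

namespace Groth.Agent.Misc15.PerfectLength

theorem dvd_of_tower (k K L : Type u) [Field k] [Field K] [Field L] [Algebra k K] [Algebra k L]
    (p : ℕ) (hL : Algebra.EssFiniteType k L) (q : Ideal (K ⊗[k] L)) [q.IsPrime] (hq : q ∈ minimalPrimes (K ⊗[k] L))
    (k' Kb : Type u) [Field k'] [Field Kb] [Algebra k k'] [Algebra k Kb] [Algebra k' Kb] [IsScalarTower k k' Kb]
    [Algebra K Kb] [IsScalarTower k K Kb] [PerfectField k']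
    (hloc : IsLocalRing (k' ⊗[k] L)) (hnil : ∀ b : k' ⊗[k] L, IsUnit b ∨ IsNilpotent b)
    (e : ℕ) (hlen : Module.length (k' ⊗[k] L) (k' ⊗[k] L) = (p ^ e : ℕ)) :
    ∃ d : ℕ, d ∣ p ^ e ∧ Module.length (Localization.AtPrime q) (Localization.AtPrime q) = d := by
  -- the two maps into `T = Kb ⊗ L`
  let α : K ⊗[k] L →+* Kb ⊗[k] L :=
    (Algebra.TensorProduct.map (IsScalarTower.toAlgHom k K Kb) (AlgHom.id k L)).toRingHom
  have hα : α.Flat := flat_map (k := k) (k' := Kb) L K
  let β : k' ⊗[k] L →+* Kb ⊗[k] L :=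
    (Algebra.TensorProduct.map (IsScalarTower.toAlgHom k k' Kb) (AlgHom.id k L)).toRingHom
  have hβ : β.Flat := flat_map (k := k) (k' := Kb) L k'
  have : Algebra.EssFiniteType Kb (Kb ⊗[k] L) := inferInstance
  have hT : IsNoetherianRing (Kb ⊗[k] L) := Algebra.EssFiniteType.isNoetherianRing Kb (Kb ⊗[k] L)
  -- a minimal prime over `q`
  obtain ⟨Q, hQ, hQq⟩ : ∃ Q ∈ minimalPrimes (Kb ⊗[k] L), Q.comap α = q := by
    have hinj : Function.Injective α := by
      exact Module.Flat.rTensor_preserves_injective_linearMap (M := L)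
        (IsScalarTower.toAlgHom k K Kb).toLinearMap (algebraMap K Kb).injective
    obtain ⟨Q, hQ, h⟩ := Ideal.exists_comap_eq_of_mem_minimalPrimes_of_injective hinj q hq
    obtain ⟨Q', hQ', hle⟩ := Ideal.exists_minimalPrimes_le (show (⊥ : Ideal (Kb ⊗[k] L)) ≤ Q from bot_le)
    have := hQ'.1.1
    refine ⟨Q', hQ', le_antisymm (h ▸ Ideal.comap_mono hle) ?_⟩
    exact hq.2 ⟨Ideal.IsPrime.comap α, bot_le⟩ (h ▸ Ideal.comap_mono hle)
  have hQp : Q.IsPrime := hQ.1.1
  have : IsArtinianRing (Localization.AtPrime Q) := by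
    have : Ring.KrullDimLE 0 (Localization.AtPrime Q) := .of_isLocalization _ hQ _
    have : IsNoetherianRing (Localization.AtPrime Q) := IsLocalization.isNoetherianRing Q.primeCompl _ hT
    exact IsNoetherianRing.isArtinianRing_of_krullDimLE_zero
  -- lengths along `β`
  let β' : k' ⊗[k] L →+* Localization.AtPrime Q := (algebraMap _ _).comp β
  have hβ' : β'.Flat := hβ.comp (RingHom.flat_algebraMap_iff.2 (IsLocalization.flat _ Q.primeCompl))
  have hT1 : Module.length (Localization.AtPrime Q) (Localization.AtPrime Q) = (p ^ e : ℕ) := by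
    letI := β'.toAlgebra
    have : Module.Flat (k' ⊗[k] L) (Localization.AtPrime Q) := hβ'
    have : IsLocalHom (algebraMap (k' ⊗[k] L) (Localization.AtPrime Q)) := by
      refine ⟨fun a ha => (hnil a).resolve_right fun h => ?_⟩
      exact (h.map (algebraMap (k' ⊗[k] L) (Localization.AtPrime Q))).not_isUnit ha
    have hm : (IsLocalRing.maximalIdeal (k' ⊗[k] L)).map (algebraMap (k' ⊗[k] L) (Localization.AtPrime Q)) =
        IsLocalRing.maximalIdeal (Localization.AtPrime Q) := by
      refine le_antisymm (IsLocalRing.map_maximalIdeal_le _) ?_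
      show _ ≤ Ideal.map β' _
      let m := IsLocalRing.maximalIdeal (k' ⊗[k] L)
      have hrad : (m.map β).IsRadical := by
        let π : k' ⊗[k] L →ₐ[k'] (k' ⊗[k] L) ⧸ m := Ideal.Quotient.mkₐ k' m
        letI : Field ((k' ⊗[k] L) ⧸ m) := Ideal.Quotient.field m
        have : IsReduced (Kb ⊗[k'] ((k' ⊗[k] L) ⧸ m)) :=
          Groth.Agent.AbVarLib.isReduced_field_tensor_perfect k' Kb _
        let c : Kb ⊗[k'] (k' ⊗[k] L) ≃ₐ[Kb] Kb ⊗[k] L := Algebra.TensorProduct.cancelBaseChange k k' Kb Kb L
        let ψ : Kb ⊗[k'] (k' ⊗[k] L) →ₐ[k'] Kb ⊗[k'] ((k' ⊗[k] L) ⧸ m) :=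
          Algebra.TensorProduct.map (AlgHom.id k' Kb) π
        have hker : RingHom.ker ψ = m.map (Algebra.TensorProduct.includeRight (R := k') (A := Kb)) := by
          show RingHom.ker ψ = _
          rw [Algebra.TensorProduct.lTensor_ker π Ideal.Quotient.mk_surjective,
            show RingHom.ker π = m from Ideal.mk_ker]
        have hcomp : c.toRingHom.comp (Algebra.TensorProduct.includeRight (R := k') (A := Kb)
            (B := k' ⊗[k] L)).toRingHom = β := by
          refine RingHom.ext fun z => ?_
          show c (1 ⊗ₜ z) = β z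
          induction z using TensorProduct.induction_on with
          | zero => simp
          | tmul l a =>
            simp [c, β, Algebra.TensorProduct.cancelBaseChange_tmul, Algebra.smul_def]
          | add x y hx hy => rw [tmul_add, map_add, map_add, hx, hy]
        have h : m.map β = (RingHom.ker ψ).comap c.symm.toRingHom := by
          rw [hker, ← hcomp, ← Ideal.map_map]
          exact Ideal.map_comap_of_equiv c.toRingEquiv
        rw [h]
        exact (RingHom.ker_isRadical_iff_reduced_of_surjective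
          (f := ψ) (Algebra.TensorProduct.map_surjective _ π Function.surjective_id Ideal.Quotient.mk_surjective)).2 this |>.comap _
      have hrad' : (m.map β').IsRadical := by
        rw [show β' = (algebraMap (Kb ⊗[k] L) (Localization.AtPrime Q)).comp β from rfl, ← Ideal.map_map,
          ← Ideal.radical_eq_iff, ← IsLocalization.map_radical Q.primeCompl, hrad.radical]
      intro x hx
      refine hrad' ?_
      obtain ⟨n, hn⟩ := (IsArtinianRing.isNilpotent_jacobson_bot (R := Localization.AtPrime Q))
      refine ⟨n, ?_⟩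
      have hx' : x ∈ Ideal.jacobson (⊥ : Ideal (Localization.AtPrime Q)) := by
        rwa [IsLocalRing.jacobson_eq_maximalIdeal ⊥ bot_ne_top]
      have := Ideal.pow_mem_pow hx' n
      rw [hn] at this
      rw [show x ^ n = 0 from this]
      exact zero_mem _
    have h1 := IsLocalRing.length_baseChange (k' ⊗[k] L) (Localization.AtPrime Q) (k' ⊗[k] L)
    rw [(Algebra.TensorProduct.rid (k' ⊗[k] L) (Localization.AtPrime Q) (Localization.AtPrime Q)).toLinearEquiv.length_eq,
      hm, Module.length_eq_one_iff.2 (isSimpleModule_iff_isCoatom.2 (IsLocalRing.maximalIdeal.isMaximal _).out),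
      mul_one, hlen] at h1
    exact h1
  -- lengths along `α`
  let α' : Localization.AtPrime q →+* Localization.AtPrime Q := Localization.localRingHom q Q α hQq.symm
  letI := α'.toAlgebra
  have : Module.Flat (Localization.AtPrime q) (Localization.AtPrime Q) := by
    have h : ((algebraMap _ (Localization.AtPrime Q)).comp α).Flat :=
      hα.comp (RingHom.flat_algebraMap_iff.2 (IsLocalization.flat _ Q.primeCompl))
    letI := ((algebraMap _ (Localization.AtPrime Q)).comp α).toAlgebra
    have : IsScalarTower (K ⊗[k] L) (Localization.AtPrime q) (Localization.AtPrime Q) :=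
      IsScalarTower.of_algebraMap_eq fun z => (Localization.localRingHom_to_map q Q α hQq.symm z).symm
    have : Module.Flat (K ⊗[k] L) (Localization.AtPrime Q) := h
    exact (Module.flat_iff_of_isLocalization (Localization.AtPrime q) q.primeCompl (Localization.AtPrime Q)).2 this
  have : IsLocalHom (algebraMap (Localization.AtPrime q) (Localization.AtPrime Q)) :=
    inferInstanceAs (IsLocalHom α')
  have h2 := IsLocalRing.length_baseChange (Localization.AtPrime q) (Localization.AtPrime Q) (Localization.AtPrime q)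
  rw [(Algebra.TensorProduct.rid (Localization.AtPrime q) (Localization.AtPrime Q)
    (Localization.AtPrime Q)).toLinearEquiv.length_eq, hT1] at h2
  set a := Module.length (Localization.AtPrime q) (Localization.AtPrime q) with ha
  set b := Module.length (Localization.AtPrime Q) (Localization.AtPrime Q ⧸ (IsLocalRing.maximalIdeal (Localization.AtPrime q)).map
    (algebraMap (Localization.AtPrime q) (Localization.AtPrime Q))) with hb
  have hbne : b ≠ 0 := by
    rw [hb, Ne, Module.length_eq_zero_iff, not_subsingleton_iff_nontrivial, Ideal.Quotient.nontrivial_iff]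
    exact fun h => IsLocalRing.maximalIdeal.isMaximal (Localization.AtPrime Q) |>.ne_top
      (top_le_iff.1 (h ▸ IsLocalRing.map_maximalIdeal_le _))
  have hane : a ≠ 0 := pos_iff_ne_zero.1 Module.length_pos
  have hfin : a * b ≠ ⊤ := h2 ▸ ENat.natCast_ne_top _
  obtain ⟨d, hd⟩ := ENat.ne_top_iff_exists.1 (fun h => hfin (by rw [h, ENat.top_mul hbne]) : a ≠ ⊤)
  obtain ⟨d', hd'⟩ := ENat.ne_top_iff_exists.1 (fun h => hfin (by rw [h, ENat.mul_top hane]) : b ≠ ⊤)
  refine ⟨d, ⟨d', ?_⟩, hd.symm⟩
  rw [← hd, ← hd', ← Nat.cast_mul, Nat.cast_inj] at h2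
  exact h2

theorem length_minimalPrime (k K L : Type u) [Field k] [Field K] [Field L] [Algebra k K] [Algebra k L]
    (hL : Algebra.EssFiniteType k L) (p : ℕ) [ExpChar k p]
    (q : Ideal (K ⊗[k] L)) [q.IsPrime] (hq : q ∈ minimalPrimes (K ⊗[k] L))
    (k' Kb : Type u) [Field k'] [Field Kb] [Algebra k k'] [Algebra k Kb] [Algebra k' Kb] [IsScalarTower k k' Kb]
    [Algebra K Kb] [IsScalarTower k K Kb] [PerfectField k'] [IsPurelyInseparable k k'] :
    ∃ n : ℕ, Module.length (Localization.AtPrime q) (Localization.AtPrime q) = (p ^ n : ℕ) := by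
  rcases ‹ExpChar k p› with _ | ⟨hp⟩
  · -- characteristic zero: `k' = k`
    have hbij : Function.Bijective (algebraMap k k') :=
      ⟨(algebraMap k k').injective, IsPurelyInseparable.surjective_algebraMap_of_isSeparable k k'⟩
    let ee : k' ⊗[k] L ≃ₐ[k] L :=
      (Algebra.TensorProduct.congr (AlgEquiv.ofBijective (Algebra.ofId k k') hbij).symm (AlgEquiv.refl (R := k) (A₁ := L))).trans
        (Algebra.TensorProduct.lid k L)
    have hfld : IsField (k' ⊗[k] L) := ee.toRingEquiv.toMulEquiv.isField (Field.toIsField L)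
    letI := hfld.toField
    obtain ⟨d, hd, hd'⟩ := dvd_of_tower k K L 1 hL q hq k' Kb inferInstance
      (fun b => (eq_or_ne b 0).symm.imp Ne.isUnit fun h => by subst h; exact IsNilpotent.zero) 0
      (by rw [pow_zero, Nat.cast_one, Module.length_eq_one_iff]; infer_instance)
    rw [one_pow, Nat.dvd_one] at hd
    exact ⟨0, by rw [hd', hd]; simp⟩
  · have : Fact p.Prime := ⟨hp⟩
    have : IsLocalRing (k' ⊗[k] L) := isLocalRing (k := k) p L
    have : IsNoetherianRing (k' ⊗[k] L) := Algebra.EssFiniteType.isNoetherianRing k' (k' ⊗[k] L)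
    obtain ⟨e, he⟩ := length_eq_pow (k := k) p (k' := k') L
    obtain ⟨d, hd, hd'⟩ := dvd_of_tower k K L p hL q hq k' Kb inferInstance (isUnit_or_isNilpotent (k := k) p L) e he
    obtain ⟨n, -, rfl⟩ := (Nat.dvd_prime_pow hp).1 hd
    exact ⟨n, hd'⟩

end Groth.Agent.Misc15.PerfectLength
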