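import Groth.Agent.Misc15.PointsPn
import Groth.Agent.Lef23.NegPn
import Groth.Agent.CurveLib.ProjLine
import Groth.Agent.FlatMor12.IdealModGen
import Groth.Agent.KLLib.Basic

/-!
# Twists on the blowing up of at most one point of projective space
-/

set_option autoImplicit false
set_option linter.style.haveILetI false
set_option backward.isDefEq.respectTransparency.types false
set_option maxHeartbeats 1000000

universe u

open CategoryTheory CategoryTheory.Limits AlgebraicGeometry TopologicalSpace Opposite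
open Groth.Agent.Coherent Groth.Agent.PicLib Groth.Agent.AmpleLib Groth.Agent.EulerLib Groth.Agent.CurveRR24

namespace Groth.Agent.Misc15.PointOne

section Tensor

set_option backward.isDefEq.respectTransparency false

/-- Tensoring on the right. -/
noncomputable def tensR {Y : Scheme.{u}} (N : Y.Modules) : Y.Modules ⥤ Y.Modules where
  obj A := CohB1.tensorMod A N
  map f := tensorMap f (𝟙 N)
  map_id A := AmpleLib.hom_ext fun U a b => by
    rw [tensorMap_tmul]
    rfl
  map_comp f g := AmpleLib.hom_ext fun U a b => by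
    show (tensorMap (f ≫ g) (𝟙 N)).app U (tmul a b) =
      (tensorMap g (𝟙 N)).app U ((tensorMap f (𝟙 N)).app U (tmul a b))
    rw [tensorMap_tmul, tensorMap_tmul, tensorMap_tmul]
    rfl

instance {Y : Scheme.{u}} (N : Y.Modules) : (tensR N).Additive where
  map_add {A B f g} := AmpleLib.hom_ext fun U a b => by
    rw [Scheme.Modules.Hom.add_app]
    show (tensorMap (f + g) (𝟙 N)).app U (tmul a b) =
      (tensorMap f (𝟙 N)).app U (tmul a b) + (tensorMap g (𝟙 N)).app U (tmul a b)
    rw [tensorMap_tmul, tensorMap_tmul, tensorMap_tmul, Scheme.Modules.Hom.add_app]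
    exact tmul_add_left _ _ _

/-- Cohomology of a twist of a finite sum of copies. -/
theorem subsingleton_HH_sigma_tensor {Y : Scheme.{u}} (A N : Y.Modules) (b q : ℕ)
    (h : Subsingleton (Coh.HH Y (CohB1.tensorMod A N) q)) :
    Subsingleton (Coh.HH Y (CohB1.tensorMod (∐ fun _ : Fin b => A) N) q) := by
  haveI : HasFiniteBiproducts Y.Modules := HasFiniteBiproducts.of_hasFiniteCoproducts
  refine CurveRR24.subsingleton_HH_congr
    ((tensR N).mapIso (biproduct.isoCoproduct fun _ : Fin b => A)) q ?_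
  refine Lef23.subsingleton_HH_of_total (fun _ : Fin b => CohB1.tensorMod A N)
    (fun i => (tensR N).map (biproduct.π (fun _ : Fin b => A) i))
    (fun i => (tensR N).map (biproduct.ι (fun _ : Fin b => A) i)) ?_ q fun _ => h
  show ∑ i, (tensR N).map (biproduct.π (fun _ : Fin b => A) i) ≫ (tensR N).map (biproduct.ι (fun _ : Fin b => A) i) =
    𝟙 ((tensR N).obj (⨁ fun _ : Fin b => A))
  simp only [← Functor.map_comp]
  rw [← Functor.map_sum, biproduct.total, CategoryTheory.Functor.map_id]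

end Tensor

/-- The class of `O(a t + c)`. -/
theorem of_twist_mul_add (n : ℕ) (k : Type u) [Field k] [IsAlgClosed k] (a c : ℤ) : ∀ t : ℕ,
    PicM.of (PointPn.isInvertible_twistPn n k (a * t + c)) =
      PicM.of (PointPn.isInvertible_twistPn n k c) * PicM.of (PointPn.isInvertible_twistPn n k a) ^ t
  | 0 => by
    have h0 : a * ((0 : ℕ) : ℤ) + c = c := by simp
    rw [pow_zero, mul_one]
    congr 1
    · rw [h0]
  | t + 1 => by
    rw [pow_succ, ← mul_assoc, ← of_twist_mul_add n k a c t, PicM.of_mul, PicM.of_eq_iff]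
    obtain ⟨e⟩ := TwistLib.G.nonempty_tensor_twist_iso (𝒜 := CohB1.polyGrading n k)
      (UPLib.exists_degOne (HypLib.hgen (R := k) n))
      (show (a * (t : ℤ) + c) + a = a * ((t + 1 : ℕ) : ℤ) + c by push_cast; ring)
    exact ⟨e.symm⟩

variable (n : ℕ) (k : Type u) [Field k] [IsAlgClosed k] (hn : 2 ≤ n) {s : ℕ} (hs : s ≤ 1)
  (P : Fin s → ↥(CohB1.ProjSpace n k))
  (hPc : ∀ t, IsClosed ({P t} : Set ↥(CohB1.ProjSpace n k))) (hZ : IsClosed (Set.range P))
  {X : Scheme.{u}} (π : X ⟶ CohB1.ProjSpace n k)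
  (hπ : BlowUp.IsBlowUp π (Scheme.IdealSheafData.vanishingIdeal ⟨Set.range P, hZ⟩))

include hn hs hPc in
/-- The powers of the ideal are powers of the ideal of one closed point. -/
theorem exists_point_pow : ∃ (x : ↥(CohB1.ProjSpace n k)) (hx : IsClosed ({x} : Set ↥(CohB1.ProjSpace n k))),
    ∀ d : ℕ, ∃ e : ℕ, e ≤ d ∧ (Scheme.IdealSheafData.vanishingIdeal ⟨Set.range P, hZ⟩) ^ d =
      (Scheme.IdealSheafData.vanishingIdeal ⟨{x}, hx⟩) ^ e := by
  rcases Nat.eq_zero_or_pos s with rfl | hpos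
  · haveI : IsProper (CohB1.ProjSpace n k ↘ Spec (CommRingCat.of k)) :=
      Coherent.isProper_projSpace_toSpec (n := n) (R := k)
    haveI : CompactSpace ↥(CohB1.ProjSpace n k) :=
      QuasiCompact.compactSpace_of_compactSpace (CohB1.ProjSpace n k ↘ Spec (CommRingCat.of k))
    haveI := CurveLib.isIntegral_projSpace k n
    haveI : Nonempty ↥(CohB1.ProjSpace n k) := inferInstance
    obtain ⟨x, -, hx⟩ := IsClosed.exists_closed_singleton (isClosed_univ (X := ↥(CohB1.ProjSpace n k)))
      Set.univ_nonempty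
    have h0 : Scheme.IdealSheafData.vanishingIdeal ⟨Set.range P, hZ⟩ = 1 := by
      rw [Scheme.IdealSheafData.one_eq_top, ← Scheme.IdealSheafData.support_eq_bot_iff]
      apply SetLike.coe_injective
      exact (Scheme.IdealSheafData.coe_support_vanishingIdeal _).trans (by simp)
    exact ⟨x, hx, fun d => ⟨0, Nat.zero_le _, by rw [h0, one_pow, pow_zero]⟩⟩
  · obtain rfl : s = 1 := by omega
    refine ⟨P 0, hPc 0, fun d => ⟨d, le_rfl, ?_⟩⟩
    congr 2
    ext y
    exact ⟨fun ⟨t, e⟩ => (Eq.symm e).trans (congrArg P (Subsingleton.elim t 0)), fun e => ⟨0, (Eq.symm e)⟩⟩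

include hn hs hPc hπ in
/-- Vanishing for the twist by a power of the exceptional ideal. -/
theorem subsingleton_HH_twist_pow (c : ℤ) (d q : ℕ) (hq : 1 ≤ q)
    (h1 : q = 1 → d = 0 ∨ (d : ℤ) ≤ c) (h2 : ¬ (q = n ∧ c ≤ -((n : ℤ) + 1))) :
    Subsingleton (Coh.HH X (CohB1.tensorMod ((Scheme.Modules.pullback π).obj (Twist.twistProjSpace n k c))
      (ClSub.idealMod (((Scheme.IdealSheafData.vanishingIdeal ⟨Set.range P, hZ⟩).comap π) ^ d))) q) := by
  haveI : IsProper (CohB1.ProjSpace n k ↘ Spec (CommRingCat.of k)) :=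
    Coherent.isProper_projSpace_toSpec (n := n) (R := k)
  letI : X.Over (Spec (CommRingCat.of k)) := ⟨π ≫ (CohB1.ProjSpace n k ↘ Spec (CommRingCat.of k))⟩
  let I : (CohB1.ProjSpace n k).IdealSheafData := Scheme.IdealSheafData.vanishingIdeal ⟨Set.range P, hZ⟩
  have hI := PointsBlow.koszulBasis_union P hPc hZ fun t => PointPn.koszulBasis_point n k hn (P t) (hPc t)
  haveI : IsProper π := BlowUpLib.isProper_of_isBlowUp hπ (BlowUpCoh.isFiniteType_of_koszulBasis hI)
  have hL := PointPn.isInvertible_twistPn n k c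
  have hLF : FlatMod.IsFinLocFree (Twist.twistProjSpace n k c) := fun y =>
    let ⟨U, hy, e⟩ := PicLib.isFinLocFreeOfRank_one hL y; ⟨U, 1, hy, e⟩
  haveI := MorProj.isQCoh_idealMod ((I.comap π) ^ d)
  haveI := isQCoh_of_isInvertible (PicLoc.isInvertible_pullback π hL)
  haveI : Coh.IsQCoh (CohB1.tensorMod ((Scheme.Modules.pullback π).obj (Twist.twistProjSpace n k c))
      (ClSub.idealMod ((I.comap π) ^ d))) := isQCoh_tensorMod _ _
  obtain ⟨T⟩ := BlowUpCoh.exists_twistPow (I.comap π) d
  obtain ⟨e⟩ := BlowUpCoh.nonempty_pushforward_idealPow hπ hI d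
  obtain ⟨x, hx, hd⟩ := exists_point_pow n k hn hs P hPc hZ
  obtain ⟨d', hd', hpow⟩ := hd d
  obtain ⟨ψ⟩ := SurfBl13.nonempty_HH_push_equiv π k rfl
    (CohB1.tensorMod ((Scheme.Modules.pullback π).obj (Twist.twistProjSpace n k c)) (ClSub.idealMod ((I.comap π) ^ d)))
    (fun i hi => BlowUpCoh.isZero_rpushAb_tensor_pullback π hLF _ i (BlowUpCoh.isZero_rpushAb hπ hI T (by omega) i hi)) q
  refine ψ.toEquiv.subsingleton_congr.2 (CurveRR24.subsingleton_HH_congr
    (((projIso (f := π) hLF).app _).symm ≪≫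
      (tensE (Twist.twistProjSpace n k c)).mapIso (e ≪≫ eqToIso (congrArg ClSub.idealMod hpow))).symm q ?_)
  rcases Nat.lt_or_ge 1 q with hq' | hq'
  · exact PointPn.subsingleton_HH_twist_pointPow n k x hx c d' q hq' h2
  · obtain rfl : q = 1 := by omega
    rcases h1 rfl with h | h
    · obtain rfl : d' = 0 := by omega
      exact PointPn.subsingleton_H1_twist_pow_zero n k x hx hn c
    · obtain ⟨c, rfl⟩ := Int.eq_ofNat_of_zero_le (show 0 ≤ c by omega)
      exact PointPn.subsingleton_H1_twist_pointPow n k x hx hn c d' (by omega)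

include hn hs hPc hπ in
/-- Vanishing for `O(c) ⊗ H^t`, `H` the anticanonical twist. -/
theorem subsingleton_HH_anticanonical {Hm : X.Modules}
    (hHm : Nonempty (Hm ≅ CohB1.tensorMod ((Scheme.Modules.pullback π).obj (Twist.twistProjSpace n k ((n : ℤ) + 1)))
      (CohB1.tensorPow (ClSub.idealMod (BlowUp.exceptional π (Scheme.IdealSheafData.vanishingIdeal ⟨Set.range P, hZ⟩))) (n - 1))))
    (c : ℤ) (t q : ℕ) (hq : 1 ≤ q)
    (h1 : q = 1 → (n - 1) * t = 0 ∨ (((n - 1) * t : ℕ) : ℤ) ≤ ((n : ℤ) + 1) * t + c)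
    (h2 : ¬ (q = n ∧ ((n : ℤ) + 1) * t + c ≤ -((n : ℤ) + 1))) :
    Subsingleton (Coh.HH X (CohB1.tensorMod ((Scheme.Modules.pullback π).obj (Twist.twistProjSpace n k c))
      (CohB1.tensorPow Hm t)) q) := by
  obtain ⟨eH⟩ := hHm
  let I : X.IdealSheafData := (Scheme.IdealSheafData.vanishingIdeal ⟨Set.range P, hZ⟩).comap π
  have hI : BlowUp.IsEffCartierIdeal I := hπ.1
  have hA := PicLoc.isInvertible_pullback π (PointPn.isInvertible_twistPn n k ((n : ℤ) + 1))
  have hK : PicF.IsInvertible (ClSub.idealMod I) := FlatMor12.IdealModGen.isInvertible_idealMod I hI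
  have hH₀ := isInvertible_tensorMod hA (isInvertible_tensorPow hK (n - 1))
  have hH : PicF.IsInvertible Hm := KLLib.isInvertible_of_iso eH.symm hH₀
  obtain ⟨φ⟩ : Nonempty (CohB1.tensorMod ((Scheme.Modules.pullback π).obj (Twist.twistProjSpace n k c))
      (CohB1.tensorPow Hm t) ≅
      CohB1.tensorMod ((Scheme.Modules.pullback π).obj (Twist.twistProjSpace n k (((n : ℤ) + 1) * t + c)))
        (ClSub.idealMod (I ^ ((n - 1) * t)))) := by
    obtain ⟨ψ⟩ := Lef23.nonempty_idealMod_pow I hI ((n - 1) * t)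
    have hc := PicLoc.isInvertible_pullback π (PointPn.isInvertible_twistPn n k c)
    have hc' := PicLoc.isInvertible_pullback π (PointPn.isInvertible_twistPn n k (((n : ℤ) + 1) * t + c))
    have β := of_twist_mul_add n k ((n : ℤ) + 1) c t
    have hpow := isInvertible_tensorPow (PointPn.isInvertible_twistPn n k ((n : ℤ) + 1)) t
    have key : PicM.pull π (PicM.of (PointPn.isInvertible_twistPn n k (((n : ℤ) + 1) * t + c))) =
        PicM.of hc * PicM.of hA ^ t := by
      rw [← PicM.pull_of π (PointPn.isInvertible_twistPn n k c),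
        ← PicM.pull_of π (PointPn.isInvertible_twistPn n k ((n : ℤ) + 1)), ← map_pow, ← map_mul]
      exact congrArg _ β
    refine (PicM.of_eq_iff (isInvertible_tensorMod hc (isInvertible_tensorPow hH t))
      (isInvertible_tensorMod hc' (KLLib.isInvertible_of_iso ψ.symm (isInvertible_tensorPow hK _)))).1 ?_
    rw [← PicM.of_mul hc (isInvertible_tensorPow hH t),
      ← PicM.of_mul hc' (KLLib.isInvertible_of_iso ψ.symm (isInvertible_tensorPow hK _)), PicM.of_tensorPow hH,
      (PicM.of_eq_iff hH hH₀).2 ⟨eH⟩, ← PicM.of_mul hA (isInvertible_tensorPow hK (n - 1)), PicM.of_tensorPow hK,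
      mul_pow, ← pow_mul,
      ← PicM.pull_of π (PointPn.isInvertible_twistPn n k (((n : ℤ) + 1) * t + c)), key,
      (PicM.of_eq_iff _ (isInvertible_tensorPow hK _)).2 ⟨ψ⟩, PicM.of_tensorPow hK, mul_assoc]
  exact CurveRR24.subsingleton_HH_congr φ.symm q
    (subsingleton_HH_twist_pow n k hn hs P hPc hZ π hπ _ _ q hq h1 h2)

end Groth.Agent.Misc15.PointOne
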