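import Groth.Agent.BlowUpPlane.Chart

/-!
# Charts of projective space at a closed point, and its Koszul basis
-/

set_option autoImplicit false
set_option backward.isDefEq.respectTransparency.types false

universe u

open CategoryTheory CategoryTheory.Limits AlgebraicGeometry TopologicalSpace Opposite
open Groth.Agent.Coherent Groth.Agent.PicLib Groth.Agent.CAlgH.KoszulRegular

namespace Groth.Agent.Misc15.PointPn

variable (n : ℕ) (k : Type u) [Field k]

section algebra

open MvPolynomial

/-- The variables form a Koszul regular sequence. -/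
theorem kreg_vars : KReg (X : Fin n → MvPolynomial (Fin n) k) := by
  refine Groth.Agent.CAlgH.KoszulH1.kreg_of_isWeaklyRegular ?_
  have h := Misc15.Koszul.isWeaklyRegular_vars_pow k n 1
  simpa [Function.comp_def] using h

/-- Translation by a point. -/
noncomputable def shift (α : Fin n → k) : MvPolynomial (Fin n) k ≃ₐ[k] MvPolynomial (Fin n) k :=
  AlgEquiv.ofAlgHom (aeval fun i => X i - C (α i)) (aeval fun i => X i + C (α i))
    (algHom_ext fun i => by simp) (algHom_ext fun i => by simp)

theorem idealOfVars_eq_vanishingIdeal :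
    idealOfVars (Fin n) k = vanishingIdeal k {(0 : Fin n → k)} := by
  ext p
  rw [mem_vanishingIdeal_singleton_iff, ← pow_one (idealOfVars (Fin n) k), mem_pow_idealOfVars_iff']
  constructor
  · intro h
    rw [show (aeval (0 : Fin n → k)) p = constantCoeff p by simp [aeval_zero]]
    exact h 0 (by simp)
  · intro h e he
    obtain rfl : e = 0 := by
      rw [← Finsupp.degree_eq_zero_iff]
      omega
    rw [show (aeval (0 : Fin n → k)) p = constantCoeff p by simp [aeval_zero]] at h
    exact h

/-- Over an algebraically closed field every maximal ideal is a translate of the ideal of the variables. -/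
theorem exists_shift [IsAlgClosed k] {m : Ideal (MvPolynomial (Fin n) k)} (hm : m.IsMaximal) :
    ∃ φ : MvPolynomial (Fin n) k ≃ₐ[k] MvPolynomial (Fin n) k, m = (idealOfVars (Fin n) k).map φ := by
  obtain ⟨α, rfl⟩ := isMaximal_iff_eq_vanishingIdeal_singleton.1 hm
  refine ⟨shift n k α, ?_⟩
  rw [idealOfVars_eq_vanishingIdeal]
  ext p
  rw [show (vanishingIdeal k {(0 : Fin n → k)}).map (shift n k α) =
    (vanishingIdeal k {(0 : Fin n → k)}).comap (shift n k α).symm from Ideal.map_comap_of_equiv
      (shift n k α).toRingEquiv, Ideal.mem_comap, mem_vanishingIdeal_singleton_iff, mem_vanishingIdeal_singleton_iff]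
  have : (aeval (0 : Fin n → k)).comp ((shift n k α).symm : MvPolynomial (Fin n) k →ₐ[k] _) = aeval α :=
    algHom_ext fun i => by simp [shift]
  exact ⟨fun h => (DFunLike.congr_fun this p).trans h, fun h => (DFunLike.congr_fun this p).symm.trans h⟩

end algebra

open Groth.Agent.BlowUpPlane (chart_scalar)

/-- The degree zero part of a standard localisation of the space is a polynomial ring in two variables. -/
theorem exists_away_equiv (i : Fin (n + 1)) :
    ∃ a : HomogeneousLocalization.Away (CohB1.polyGrading n k) (MvPolynomial.X i : MvPolynomial (Fin (n + 1)) k) ≃+*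
        MvPolynomial (Fin n) k,
      ∀ c : k, a (ProjLib.toAway n k (MvPolynomial.X i) c) = MvPolynomial.C c := by
  let a := (ProjLib.awayEquivQuotient (ProjLib.X_mem_polyGrading n k i)).trans (dehomAlg n k i).toRingEquiv
  have ha : ∀ c : k, a (ProjLib.toAway n k (MvPolynomial.X i) c) = MvPolynomial.C c := fun c => by
    show dehomAlg n k i (ProjLib.evalOne (algebraMap _ _ (ProjLib.toAway n k (MvPolynomial.X i) c))) = _
    rw [HomogeneousLocalization.algebraMap_apply, ProjLib.val_toAway]
    have : ProjLib.evalOne (f := (MvPolynomial.X i : MvPolynomial (Fin (n + 1)) k))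
        (algebraMap _ (Localization.Away (MvPolynomial.X i : MvPolynomial (Fin (n + 1)) k)) (MvPolynomial.C c)) =
        Ideal.Quotient.mk _ (MvPolynomial.C c) := IsLocalization.Away.lift_eq _ _ _
    rw [this]
    exact (dehomAlg n k i).commutes c
  let σ : {t : Fin (n + 1) // t ≠ i} ≃ Fin n := Fintype.equivFinOfCardEq (by
    rw [Fintype.card_subtype_compl, Fintype.card_fin, Fintype.card_subtype_eq]; omega)
  let r := MvPolynomial.renameEquiv k σ
  refine ⟨a.trans r.toRingEquiv, fun c => ?_⟩
  show r (a _) = _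
  rw [ha]
  exact r.commutes c

/-- A chart of the space with its polynomial coordinates. -/
theorem exists_chart (x : ↥(CohB1.ProjSpace n k)) :
    ∃ (V : (CohB1.ProjSpace n k).Opens), IsAffineOpen V ∧ x ∈ V ∧
      ∃ e : MvPolynomial (Fin n) k ≃+* Γ(CohB1.ProjSpace n k, V),
        ∀ c, e (MvPolynomial.C c) = (CohB1.ProjSpace n k).presheaf.map (homOfLE (le_top : V ≤ ⊤)).op
          (Coh.toGlobal (CohB1.ProjSpace.toSpec n k) c) := by
  obtain ⟨i, hi⟩ := Opens.mem_iSup.1 ((ProjLib.iSup_basicOpen_X n k).ge (Opens.mem_top x))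
  obtain ⟨a, ha⟩ := exists_away_equiv n k i
  let R := HomogeneousLocalization.Away (CohB1.polyGrading n k) (MvPolynomial.X i : MvPolynomial (Fin (n + 1)) k)
  let j : Spec (CommRingCat.of R) ⟶ CohB1.ProjSpace n k :=
    Proj.awayι (CohB1.polyGrading n k) (MvPolynomial.X i) (ProjLib.X_mem_polyGrading n k i) one_pos
  haveI : IsOpenImmersion j := inferInstanceAs (IsOpenImmersion (Proj.awayι (CohB1.polyGrading n k) _ _ _))
  have hV : IsAffineOpen (j ''ᵁ ⊤) := (isAffineOpen_top _).image_of_isOpenImmersion j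
  have hxV : x ∈ j ''ᵁ ⊤ := by
    rw [Scheme.Hom.image_top_eq_opensRange]
    exact (Proj.opensRange_awayι (CohB1.polyGrading n k) (MvPolynomial.X i)
      (ProjLib.X_mem_polyGrading n k i) one_pos).ge hi
  let g : R ≃+* Γ(CohB1.ProjSpace n k, j ''ᵁ ⊤) :=
    ((Scheme.ΓSpecIso (CommRingCat.of R)).symm ≪≫ (j.appIso ⊤).symm).commRingCatIsoToRingEquiv
  refine ⟨j ''ᵁ ⊤, hV, hxV, a.symm.trans g, fun c => ?_⟩
  refine Eq.trans ?_ (chart_scalar k (CohB1.ProjSpace.toSpec n k) j (ProjLib.toAway n k (MvPolynomial.X i))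
    (ProjLib.awayι_toSpec n k (ProjLib.X_mem_polyGrading n k i) one_pos) c)
  exact congrArg g ((congrArg a.symm (ha c).symm).trans (a.symm_apply_apply _))

/-- A closed point has a chart whose coordinates cut out the point. -/
theorem exists_chart_point [IsAlgClosed k] (x : ↥(CohB1.ProjSpace n k))
    (hx : IsClosed ({x} : Set ↥(CohB1.ProjSpace n k))) :
    ∃ (V : (CohB1.ProjSpace n k).affineOpens), x ∈ V.1 ∧
      ∃ e : MvPolynomial (Fin n) k ≃+* Γ(CohB1.ProjSpace n k, V.1),
        (∀ c, e (MvPolynomial.C c) = (CohB1.ProjSpace n k).presheaf.map (homOfLE (le_top : V.1 ≤ ⊤)).op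
          (Coh.toGlobal (CohB1.ProjSpace.toSpec n k) c)) ∧
        (Scheme.IdealSheafData.vanishingIdeal ⟨{x}, hx⟩).ideal V =
          (MvPolynomial.idealOfVars (Fin n) k).map e := by
  obtain ⟨V, hV, hxV, e, he⟩ := exists_chart n k x
  let q := hV.primeIdealOf ⟨x, hxV⟩
  have hmax : q.asIdeal.IsMaximal := hV.primeIdealOf_isMaximal_of_isClosed ⟨x, hxV⟩ hx
  have hI : (Scheme.IdealSheafData.vanishingIdeal (⟨{x}, hx⟩ : Closeds _)).ideal ⟨V, hV⟩ = q.asIdeal := by
    rw [Scheme.IdealSheafData.vanishingIdeal_ideal]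
    have : hV.fromSpec ⁻¹' ({x} : Set ↥(CohB1.ProjSpace n k)) = {q} := Set.ext fun p => by
      constructor
      · intro hp
        exact hV.fromSpec.isOpenEmbedding.injective (hp.trans (hV.fromSpec_primeIdealOf ⟨x, hxV⟩).symm)
      · rintro rfl
        exact hV.fromSpec_primeIdealOf ⟨x, hxV⟩
    show PrimeSpectrum.vanishingIdeal (hV.fromSpec ⁻¹' ({x} : Set _)) = _
    exact (congrArg PrimeSpectrum.vanishingIdeal this).trans (PrimeSpectrum.vanishingIdeal_singleton q)
  obtain ⟨φ, hφ⟩ := exists_shift n k (m := q.asIdeal.comap e.toRingHom)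
    (Ideal.comap_isMaximal_of_surjective _ e.surjective)
  refine ⟨⟨V, hV⟩, hxV, φ.toRingEquiv.trans e, fun c => ?_, ?_⟩
  · show e (φ (MvPolynomial.C c)) = _
    rw [show φ (MvPolynomial.C c) = MvPolynomial.C c from φ.commutes c, he]
  · rw [hI]
    refine Eq.trans ?_ (Ideal.map_map φ.toRingEquiv.toRingHom e.toRingHom)
    have h2 : (MvPolynomial.idealOfVars (Fin n) k).map φ.toRingEquiv.toRingHom = q.asIdeal.comap e.toRingHom :=
      hφ.symm
    rw [h2]
    exact (Ideal.map_comap_of_surjective e.toRingHom e.surjective _).symm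

/-- The vanishing ideal of a closed point of projective space has a Koszul basis. -/
theorem koszulBasis_point [IsAlgClosed k] (hn : 2 ≤ n) (x : ↥(CohB1.ProjSpace n k))
    (hx : IsClosed ({x} : Set ↥(CohB1.ProjSpace n k))) :
    BlowUpCoh.KoszulBasis (Scheme.IdealSheafData.vanishingIdeal ⟨{x}, hx⟩) 1 := by
  obtain ⟨m, rfl⟩ : ∃ m, n = m + 1 := ⟨n - 1, by omega⟩
  refine BlowUpCoh.koszulBasis_of_local fun y hy => ?_
  obtain ⟨V, hxV, e, -, hI⟩ := exists_chart_point (m + 1) k x hx
  obtain rfl : y = x :=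
    (Scheme.IdealSheafData.coe_support_vanishingIdeal (Z := (⟨{x}, hx⟩ : Closeds _))).le hy
  refine ⟨V, m, fun l => e (MvPolynomial.X l), hxV, by omega, ?_, BlowUpCoh.kreg_ringEquiv e _ (kreg_vars (m + 1) k)⟩
  rw [hI, MvPolynomial.idealOfVars, Ideal.map_span, ← Set.range_comp]
  rfl

end Groth.Agent.Misc15.PointPn
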