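import Groth.Agent.Misc15.PointPn
import Groth.Agent.SurfBl13.Jets
import Groth.Agent.SurfBl13.AmpleBl
import Groth.Agent.EulerLib.SupportVanishing
import Groth.Agent.Coherent.ProjSpaceCoh
import Groth.Agent.Coherent.ProjSpaceFinite
import Groth.Agent.Coherent.FibreVanish

/-!
# Cohomology of twists of powers of the ideal of a point of projective space
-/

set_option autoImplicit false
set_option linter.unusedSectionVars false
set_option linter.style.haveILetI false
set_option backward.isDefEq.respectTransparency.types false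
set_option maxHeartbeats 1000000

universe u

open CategoryTheory CategoryTheory.Limits AlgebraicGeometry TopologicalSpace Opposite
open Groth.Agent.Coherent Groth.Agent.PicLib Groth.Agent.AmpleLib Groth.Agent.EulerLib Groth.Agent.CurveRR24

namespace Groth.Agent.Misc15.PointPn

/-- A surjection on global sections kills the connecting map. -/
theorem subsingleton_H1_of_surjective {X : Scheme.{u}} {S : ShortComplex X.Modules} (hS : S.ShortExact)
    (hg : Function.Surjective (S.g.app (⊤ : X.Opens))) (h₂ : Subsingleton (Coh.HH X S.X₂ 1)) :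
    Subsingleton (Coh.HH X S.X₁ 1) := by
  rw [subsingleton_HH_iff] at *
  have hsurj : Function.Surjective (postA (RingHom.id Γ(X, ⊤)) S.g (⊤ : X.Opens) 0) := fun y => by
    obtain ⟨a, ha⟩ := hg (secH (X := X.toTopCat) (Coh.toAb S.X₃) (⊤ : X.Opens) y)
    obtain ⟨b, hb⟩ := (secH (X := X.toTopCat) (Coh.toAb S.X₂) (⊤ : X.Opens)).surjective a
    refine ⟨b, (secH (X := X.toTopCat) (Coh.toAb S.X₃) (⊤ : X.Opens)).injective ?_⟩
    refine (secH_postH (X := X.toTopCat) (F := Coh.toAb S.X₂) (G := Coh.toAb S.X₃)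
      ((toAbFunctor X).map S.g) (⊤ : X.Opens) b).trans ?_
    rw [hb]
    exact ha
  refine subsingleton_of_forall_eq 0 fun x => ?_
  obtain ⟨y, rfl⟩ := (exact_deltaA_postA (RingHom.id Γ(X, ⊤)) hS ⊤ 0 x).1 (Subsingleton.elim _ _)
  obtain ⟨z, rfl⟩ := hsurj y
  exact (exact_postA_deltaA (RingHom.id Γ(X, ⊤)) hS ⊤ 0).apply_apply_eq_zero z

variable (n : ℕ) (k : Type u) [Field k] [IsAlgClosed k] (x : ↥(CohB1.ProjSpace n k))
  (hx : IsClosed ({x} : Set ↥(CohB1.ProjSpace n k)))

theorem isInvertible_twistPn (c : ℤ) : PicF.IsInvertible (Twist.twistProjSpace n k c) :=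
  TwistLib.G.isInvertible_twist (UPLib.exists_degOne (HypLib.hgen (R := k) n)) c

theorem support_pow_subset (d : ℕ) :
    (((Scheme.IdealSheafData.vanishingIdeal ⟨{x}, hx⟩) ^ d).support : Set ↥(CohB1.ProjSpace n k)) ⊆ {x} := by
  cases d with
  | zero => intro y hy; simp at hy
  | succ d =>
    rw [Scheme.IdealSheafData.support_pow_succ]
    exact (Scheme.IdealSheafData.coe_support_vanishingIdeal _).le

/-- In degrees at least two the ideal of a fat point has the cohomology of the twist. -/
theorem subsingleton_HH_twist_pointPow (c : ℤ) (d q : ℕ) (hq : 2 ≤ q) (hn : ¬ (q = n ∧ c ≤ -((n : ℤ) + 1))) :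
    Subsingleton (Coh.HH (CohB1.ProjSpace n k) (CohB1.tensorMod (Twist.twistProjSpace n k c)
      (ClSub.idealMod ((Scheme.IdealSheafData.vanishingIdeal ⟨{x}, hx⟩) ^ d))) q) := by
  let I := (Scheme.IdealSheafData.vanishingIdeal ⟨{x}, hx⟩) ^ d
  have hL := isInvertible_twistPn n k c
  let T := twistSeq (ShortComplex.mk (ClSub.idealModι I) (ClSub.toSubscheme I)
    (kernel.condition (ClSub.toSubscheme I))) (Twist.twistProjSpace n k c)
  have hT : T.ShortExact := twistSeq_shortExact hL (CurveRR24.shortExact_ideal _)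
  have hsupp : CohB1.support T.X₃ ⊆ {x} := by
    rw [show CohB1.support T.X₃ = CohB1.support (ClSub.quotMod I) from EulerLib.support_twist hL _]
    exact (CurveRR24.support_quotMod_subset _).trans (support_pow_subset n k x hx d)
  obtain ⟨q, rfl⟩ : ∃ r, q = r + 1 := ⟨q - 1, by omega⟩
  refine CurveRR24.subsingleton_HH_congr (tensorComm _ _) (q + 1) (subsingleton_HH_X₁ hT q ?_ ?_)
  · exact subsingleton_HH_of_support_finite _ {x} (Set.finite_singleton x)
      (fun z hz => by rw [Set.mem_singleton_iff.1 hz]; exact hx) hsupp q (by omega)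
  · exact CurveRR24.subsingleton_HH_congr (unitTensorIso _).symm (q + 1)
      (Coherent.subsingleton_HH_twist (n := n) (R := k) (d := c) (q + 1) (by simp) hn)

/-- Forms of degree `c` induce every jet of order `c`, so the first cohomology vanishes. -/
theorem subsingleton_H1_twist_pointPow (hn : 2 ≤ n) (c d : ℕ) (hd : d ≤ c + 1) :
    Subsingleton (Coh.HH (CohB1.ProjSpace n k) (CohB1.tensorMod (Twist.twistProjSpace n k (c : ℤ))
      (ClSub.idealMod ((Scheme.IdealSheafData.vanishingIdeal ⟨{x}, hx⟩) ^ d))) 1) := by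
  let P := CohB1.ProjSpace n k
  haveI : IsProper (CohB1.ProjSpace n k ↘ Spec (CommRingCat.of k)) := Coherent.isProper_projSpace_toSpec (n := n) (R := k)
  have hk : CohB1.ProjSpace n k ↘ Spec (CommRingCat.of k) = CohB1.ProjSpace.toSpec n k := rfl
  let I : P.IdealSheafData := Scheme.IdealSheafData.vanishingIdeal ⟨{x}, hx⟩
  let H := (Scheme.Modules.pullback (𝟙 P)).obj (GrTwist.twist (CohB1.polyGrading n k) ((1 : ℕ) : ℤ))
  have hO1 := TwistLib.G.isInvertible_twist (UPLib.exists_degOne (HypLib.hgen (R := k) n)) ((1 : ℕ) : ℤ)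
  have hH : PicF.IsInvertible H := PicLoc.isInvertible_pullback (𝟙 P) hO1
  obtain ⟨t, ht⟩ := SurfBl13.exists_forms_through (𝟙 P) ((Category.id_comp _).trans hk.symm) hx
  obtain ⟨U, hxU, g, y, hg, hty, hy⟩ := ht x
  obtain ⟨q, hq, hqx⟩ := UPLib.exists_degOne (HypLib.hgen (R := k) n) x
  have ht₀ : x ∈ glocus H (PicLib.pullSec (𝟙 P) (UPLib.sec q hq)) :=
    (UPLib.preimage_basicOpen_eq (HypLib.hgen n) (𝟙 P) hq).ge hqx
  have hjet := SurfBl13.exists_jet k hx hxU hg t y hty hy ht₀ c
  obtain ⟨α⟩ : Nonempty (CohB1.tensorPow H c ≅ Twist.twistProjSpace n k (c : ℤ)) := by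
    obtain ⟨β⟩ := TwistLib.G.nonempty_twist_pow_iso (𝒜 := CohB1.polyGrading n k)
      (UPLib.exists_degOne (HypLib.hgen (R := k) n)) c
    have h1 : PicM.of hH = PicM.of hO1 :=
      (PicM.of_eq_iff hH hO1).2 ⟨(Scheme.Modules.pullbackId P).app _⟩
    refine (PicM.of_eq_iff (isInvertible_tensorPow hH c) (isInvertible_twistPn n k _)).1 ?_
    rw [PicM.of_tensorPow hH c, h1]
    exact (PicM.of_tensorPow hO1 c).symm.trans ((PicM.of_eq_iff (isInvertible_tensorPow hO1 c) (isInvertible_twistPn n k _)).2 ⟨β.symm⟩)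
  let T' := twistSeq (ShortComplex.mk (ClSub.idealModι (I ^ d))
    (ClSub.toSubscheme (I ^ d)) (kernel.condition (ClSub.toSubscheme (I ^ d)))) (CohB1.tensorPow H c)
  have hsurj := SurfBl13.surjective_toQuot k hx hH hxU hg hjet (I ^ d) (support_pow_subset n k x hx d) (by
    rw [Scheme.IdealSheafData.ideal_pow, Pi.pow_apply]
    exact Ideal.pow_le_pow_right hd)
  refine CurveRR24.subsingleton_HH_congr (tensorComm _ _ ≪≫ AmpleLib.tensorIso α (Iso.refl _)) 1
    (subsingleton_H1_of_surjective (S := T')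
      (twistSeq_shortExact (isInvertible_tensorPow hH c) (CurveRR24.shortExact_ideal _)) hsurj ?_)
  exact CurveRR24.subsingleton_HH_congr (α.symm ≪≫ (unitTensorIso _).symm) 1
    (Coherent.subsingleton_HH_twist (n := n) (R := k) (d := (c : ℤ)) 1 (by simp) (by omega))

/-- Without a point the first cohomology is that of the twist. -/
theorem subsingleton_H1_twist_pow_zero (hn : 2 ≤ n) (c : ℤ) :
    Subsingleton (Coh.HH (CohB1.ProjSpace n k) (CohB1.tensorMod (Twist.twistProjSpace n k c)
      (ClSub.idealMod ((Scheme.IdealSheafData.vanishingIdeal ⟨{x}, hx⟩) ^ 0))) 1) := by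
  let I := (Scheme.IdealSheafData.vanishingIdeal ⟨{x}, hx⟩) ^ 0
  have hL := isInvertible_twistPn n k c
  let T := twistSeq (ShortComplex.mk (ClSub.idealModι I) (ClSub.toSubscheme I)
    (kernel.condition (ClSub.toSubscheme I))) (Twist.twistProjSpace n k c)
  have hT : T.ShortExact := twistSeq_shortExact hL (CurveRR24.shortExact_ideal _)
  have hI : (I.support : Set ↥(CohB1.ProjSpace n k)) = ∅ := by
    show (((Scheme.IdealSheafData.vanishingIdeal ⟨{x}, hx⟩) ^ 0).support : Set ↥(CohB1.ProjSpace n k)) = ∅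
    simp
  have hsupp : CohB1.support T.X₃ = ∅ := by
    rw [show CohB1.support T.X₃ = CohB1.support (ClSub.quotMod I) from EulerLib.support_twist hL _]
    exact Set.subset_eq_empty ((CurveRR24.support_quotMod_subset _).trans hI.le) rfl
  exact CurveRR24.subsingleton_HH_congr (tensorComm _ _) 1 (subsingleton_HH_X₁ hT 0
    (subsingleton_HH_of_isZero (isZero_of_support_eq_empty hsupp) 0)
    (CurveRR24.subsingleton_HH_congr (unitTensorIso _).symm 1
      (Coherent.subsingleton_HH_twist (n := n) (R := k) (d := c) 1 (by simp) (by omega))))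

end Groth.Agent.Misc15.PointPn
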