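import Groth.Agent.BlowUpCoh.Global
import Groth.Agent.BlowUpCoh.IdealPush
import Groth.Agent.BlowUpCoh.Regular
import Groth.Agent.CAlgH3.EN.Support
import Groth.Agent.Inters29.Class
import Groth.Agent.Lef23.Formal
import Groth.Agent.KRR28.Twist
import Groth.Agent.ModPairLib.EffCartier

/-!
# Blowing up finitely many closed points, with arbitrary multiplicities
-/

set_option autoImplicit false
set_option backward.isDefEq.respectTransparency.types false

universe u

open CategoryTheory CategoryTheory.Limits AlgebraicGeometry TopologicalSpace Opposite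
open Groth.Agent.Coherent Groth.Agent.CAlgH.KoszulRegular Groth.Agent.Coherent.CohBC Groth.Agent.PicLib Groth.Agent.AmpleLib
open Groth.Agent.BlowUpLib (isProper_of_isBlowUp isBlowUp_restrict)

namespace Groth.Agent.Misc15.PointsBlow

local notation "rs" => Groth.Agent.ModPairLib.res

/-- An ideal equal to a power of `J` on the affines inside an open has a twist datum on that open. -/
theorem exists_twistPow_local {Y : Scheme.{u}} (J J' : Y.IdealSheafData) (U : Y.Opens) (m : ℕ)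
    (h : ∀ W : Y.affineOpens, W.1 ≤ U → J'.ideal W = J.ideal W ^ m) :
    Nonempty (BlowUpCoh.TwistData (J.comap U.ι) ((ClSub.idealMod J').restrict U.ι) (m : ℤ)) := by
  classical
  have hex : ∀ (W : Y.affineOpens) (a : Γ(Y, W.1)), J'.ideal W = Ideal.span {a ^ m} →
      ∀ x : Γ(ClSub.idealMod J', W.1), ∃ t : Γ(Y, W.1),
        t * a ^ m = (show Γ(Y, W.1) from (ClSub.idealModι J').app W.1 x) := fun W a ha x =>
    Ideal.mem_span_singleton'.1 (ha.le (BlowUpCoh.idealModι_mem J' W x))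
  let F : ∀ (W : Y.affineOpens), Γ(Y, W.1) → Γ(ClSub.idealMod J', W.1) →+ Γ(Y, W.1) := fun W a =>
    if h : J'.ideal W = Ideal.span {a ^ m} ∧ a ∈ nonZeroDivisors Γ(Y, W.1) then
      AddMonoidHom.mk' (fun x => (hex W a h.1 x).choose) fun x y => by
        refine (mul_cancel_right_mem_nonZeroDivisors (pow_mem h.2 m)).1 ?_
        rw [(hex W a h.1 (x + y)).choose_spec, add_mul, (hex W a h.1 x).choose_spec, (hex W a h.1 y).choose_spec]
        exact map_add _ x y
    else 0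
  have hF : ∀ W a, J'.ideal W = Ideal.span {a ^ m} → a ∈ nonZeroDivisors Γ(Y, W.1) → ∀ x,
      F W a x * a ^ m = (show Γ(Y, W.1) from (ClSub.idealModι J').app W.1 x) := fun W a ha hn x => by
    simp only [F, dif_pos (And.intro ha hn), AddMonoidHom.mk'_apply]
    exact (hex W a ha x).choose_spec
  have gen : ∀ (W : (U : Scheme.{u}).affineOpens) (a : Γ(Y, U.ι ''ᵁ W.1)),
      (J.comap U.ι).ideal W = Ideal.span {a} → J.ideal (BlowUpCoh.imageAff U W) = Ideal.span {a} ∧
        J'.ideal (BlowUpCoh.imageAff U W) = Ideal.span {a ^ m} := fun W a ha => by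
    have e : J.ideal (BlowUpCoh.imageAff U W) = Ideal.span {a} := (BlowUpCoh.ideal_comap_ι U W).symm.trans ha
    exact ⟨e, by rw [h _ (U.ι_image_le W.1), e, Ideal.span_singleton_pow]⟩
  refine ⟨⟨fun W a => F (BlowUpCoh.imageAff U W) a, fun W a ha hn => ?_,
    fun W V hVW a x ha hn => ?_, fun W a r x ha hn => ?_, fun W a u x ha hn => ?_⟩⟩
  · obtain ⟨-, ha'⟩ := gen W a ha
    refine ⟨fun x y e => BlowUpCoh.idealModι_injective J' _ ?_, fun t => ?_⟩
    · refine (hF (BlowUpCoh.imageAff U W) a ha' hn x).symm.trans (Eq.trans ?_ (hF (BlowUpCoh.imageAff U W) a ha' hn y))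
      exact congrArg (· * a ^ m) e
    · obtain ⟨z, hz⟩ := BlowUpCoh.exists_idealMod_section J' (BlowUpCoh.imageAff U W) (a := t * a ^ m) (by
        rw [ha']
        exact Ideal.mul_mem_left _ _ (Ideal.mem_span_singleton_self _))
      exact ⟨z, (mul_cancel_right_mem_nonZeroDivisors (pow_mem hn m)).1 ((hF (BlowUpCoh.imageAff U W) a ha' hn z).trans hz)⟩
  · obtain ⟨-, ha'⟩ := gen W a ha
    have hle : U.ι ''ᵁ V.1 ≤ U.ι ''ᵁ W.1 := U.ι.image_mono hVW
    have hb : J'.ideal (BlowUpCoh.imageAff U V) = Ideal.span {(rs hle a) ^ m} := by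
      rw [← map_pow]
      exact ModPairLib.ideal_restrict J' (U := BlowUpCoh.imageAff U W) (V := BlowUpCoh.imageAff U V) hle ha'
    have hn' := ModPairLib.res_mem_nonZeroDivisors (U := BlowUpCoh.imageAff U W) (V := BlowUpCoh.imageAff U V) hle hn
    show rs hle (F (BlowUpCoh.imageAff U W) a x) = F (BlowUpCoh.imageAff U V) (rs hle a) (resM _ hle x)
    refine (mul_cancel_right_mem_nonZeroDivisors (pow_mem hn' m)).1 ?_
    rw [hF (BlowUpCoh.imageAff U V) _ hb hn', ← map_pow, ← map_mul, hF (BlowUpCoh.imageAff U W) a ha' hn]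
    exact (app_resM (ClSub.idealModι J') hle x).symm
  · obtain ⟨-, ha'⟩ := gen W a ha
    let r' : Γ(Y, U.ι ''ᵁ W.1) := r
    show F (BlowUpCoh.imageAff U W) a (((U.ι.appIso W.1).inv r) • (show Γ(ClSub.idealMod J', U.ι ''ᵁ W.1) from x)) =
      r' * F (BlowUpCoh.imageAff U W) a x
    rw [Scheme.Opens.ι_appIso]
    refine (mul_cancel_right_mem_nonZeroDivisors (pow_mem hn m)).1 ?_
    erw [hF (BlowUpCoh.imageAff U W) a ha' hn, mul_assoc, hF (BlowUpCoh.imageAff U W) a ha' hn, Scheme.Modules.Hom.app_smul]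
    rfl
  · obtain ⟨-, ha'⟩ := gen W a ha
    let u : Γ(Y, U.ι ''ᵁ W.1)ˣ := u
    let a : Γ(Y, U.ι ''ᵁ W.1) := a
    show F (BlowUpCoh.imageAff U W) a x = ((u ^ (m : ℤ) : Γ(Y, U.ι ''ᵁ W.1)ˣ) : Γ(Y, U.ι ''ᵁ W.1)) *
      F (BlowUpCoh.imageAff U W) ((u : Γ(Y, U.ι ''ᵁ W.1)) * a) x
    have hu : J'.ideal (BlowUpCoh.imageAff U W) =
        Ideal.span {((u : Γ(Y, U.ι ''ᵁ W.1)) * a) ^ m} := by
      rw [ha', mul_pow, Ideal.span_singleton_mul_left_unit (u.isUnit.pow m)]
    have hn' : (u : Γ(Y, U.ι ''ᵁ W.1)) * a ∈ nonZeroDivisors Γ(Y, U.ι ''ᵁ W.1) :=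
      mul_mem u.isUnit.mem_nonZeroDivisors hn
    refine (mul_cancel_right_mem_nonZeroDivisors (pow_mem hn m)).1 ?_
    erw [hF (BlowUpCoh.imageAff U W) a ha' hn, zpow_natCast, Units.val_pow_eq_pow_val, mul_right_comm, ← mul_pow, mul_comm,
      hF (BlowUpCoh.imageAff U W) _ hu hn']

variable {Q X : Scheme.{u}} {s : ℕ} (P : Fin s → Q) (hP : Function.Injective P)
  (hPc : ∀ t, IsClosed ({P t} : Set Q)) (hZ : IsClosed (Set.range P))

/-- The ideal of the union of the points. -/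
noncomputable abbrev unionIdeal : Q.IdealSheafData := Scheme.IdealSheafData.vanishingIdeal ⟨Set.range P, hZ⟩

/-- The ideal of one of the points. -/
noncomputable abbrev pointIdeal (t : Fin s) : Q.IdealSheafData :=
  Scheme.IdealSheafData.vanishingIdeal ⟨{P t}, hPc t⟩

/-- On an affine open the ideal of a closed set depends only on the trace. -/
theorem ideal_vanishingIdeal_congr {A B : Closeds Q} (V : Q.affineOpens)
    (h : (A : Set Q) ∩ V.1 = (B : Set Q) ∩ V.1) :
    (Scheme.IdealSheafData.vanishingIdeal A).ideal V = (Scheme.IdealSheafData.vanishingIdeal B).ideal V := by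
  rw [Scheme.IdealSheafData.vanishingIdeal_ideal, Scheme.IdealSheafData.vanishingIdeal_ideal]
  congr 1
  ext y
  have hy : V.2.fromSpec y ∈ V.1 := V.2.range_fromSpec.le ⟨y, rfl⟩
  exact ⟨fun hA => (h.le ⟨hA, hy⟩).1, fun hB => (h.ge ⟨hB, hy⟩).1⟩

/-- A closed set missing an affine open has the unit ideal on it. -/
theorem ideal_vanishingIdeal_eq_top {A : Closeds Q} (V : Q.affineOpens) (h : (A : Set Q) ∩ V.1 = ∅) :
    (Scheme.IdealSheafData.vanishingIdeal A).ideal V = ⊤ := by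
  rw [ideal_vanishingIdeal_congr (A := A) (B := ⊥) V (by simpa using h)]
  rw [Scheme.IdealSheafData.vanishingIdeal_ideal]
  simp

/-- An open around `x` containing no point of the family other than possibly `x`. -/
theorem exists_open_isolating (hPc : ∀ t, IsClosed ({P t} : Set Q)) (x : Q) :
    ∃ W : Q.Opens, x ∈ W ∧ ∀ t, P t ∈ W → P t = x := by
  classical
  have hc : IsClosed (Set.range P \ {x}) := by
    have : Set.range P \ {x} = ⋃ t ∈ {t | P t ≠ x}, {P t} := by
      ext y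
      simp only [Set.mem_diff, Set.mem_range, Set.mem_singleton_iff, Set.mem_iUnion, Set.mem_setOf_eq, exists_prop]
      exact ⟨fun ⟨⟨t, e⟩, hy⟩ => ⟨t, e ▸ hy, e.symm⟩, fun ⟨t, ht, e⟩ => ⟨⟨t, e.symm⟩, e ▸ ht⟩⟩
    rw [this]
    exact Set.Finite.isClosed_biUnion (Set.toFinite _) fun t _ => hPc t
  exact ⟨⟨_, hc.isOpen_compl⟩, fun h => h.2 rfl, fun t ht => by_contra fun h => ht ⟨⟨t, rfl⟩, h⟩⟩

/-- The good affine opens: Koszul for the union and meeting at most one point. -/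
def Good (V : Q.Opens) : Prop :=
  (∃ (hV : IsAffineOpen V) (n : ℕ) (f : Fin (n + 1) → Γ(Q, V)),
    1 ≤ n ∧ (unionIdeal P hZ).ideal ⟨V, hV⟩ = Ideal.span (Set.range f) ∧ KReg f) ∧
  ∀ t t', P t ∈ V → P t' ∈ V → t = t'

variable (hK : ∀ t, BlowUpCoh.KoszulBasis (pointIdeal P hPc t) 1)

include hPc hK in
/-- The union of the points has a Koszul basis. -/
theorem koszulBasis_union : BlowUpCoh.KoszulBasis (unionIdeal P hZ) 1 := by
  refine BlowUpCoh.koszulBasis_of_local fun x hx => ?_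
  obtain ⟨t, rfl⟩ := (Scheme.IdealSheafData.coe_support_vanishingIdeal (Z := (⟨Set.range P, hZ⟩ : Closeds Q))).le hx
  obtain ⟨W, hxW, hW⟩ := exists_open_isolating P hPc (P t)
  obtain ⟨V, ⟨hV, n, f, hn, hf, hk⟩, hxV, hVW⟩ := Opens.isBasis_iff_nbhd.mp (hK t) hxW
  refine ⟨⟨V, hV⟩, n, f, hxV, hn, ?_, hk⟩
  refine (ideal_vanishingIdeal_congr ⟨V, hV⟩ ?_).trans hf
  ext y
  exact ⟨fun ⟨⟨t', e⟩, hy⟩ => ⟨(e.symm.trans (hW t' (hVW (e ▸ hy))) : y = P t), hy⟩,
    fun ⟨e, hy⟩ => ⟨⟨t, (Eq.symm (show y = P t from e))⟩, hy⟩⟩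

include hP hPc hK in
theorem good_isBasis : Opens.IsBasis {V : Q.Opens | Good P hZ V} := by
  refine Opens.isBasis_iff_nbhd.mpr fun {W x} hx => ?_
  obtain ⟨W', hxW', hW'⟩ := exists_open_isolating P hPc x
  obtain ⟨V, hV, hxV, hVW⟩ := Opens.isBasis_iff_nbhd.mp (koszulBasis_union P hPc hZ hK) (show x ∈ W ⊓ W' from ⟨hx, hxW'⟩)
  exact ⟨V, ⟨hV, fun t t' h h' => hP ((hW' t (hVW h).2).trans (hW' t' (hVW h').2).symm)⟩, hxV,
    hVW.trans inf_le_left⟩

variable (π : X ⟶ Q) (hπ : BlowUp.IsBlowUp π (unionIdeal P hZ))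

/-- The ideal `∏_t (I_t 𝒪_X)^{d_t}`. -/
noncomputable def fatIdeal (d : Fin s → ℕ) (l : List (Fin s)) : X.IdealSheafData :=
  (l.map fun t => ((pointIdeal P hPc t).comap π) ^ d t).prod

open Classical in
/-- Near a good open every single exceptional ideal is the total one or the unit ideal. -/
theorem ideal_comap_point {V : Q.Opens} (hV : Good P hZ V) (t : Fin s) (W : X.affineOpens) (hW : W.1 ≤ π ⁻¹ᵁ V) :
    ((pointIdeal P hPc t).comap π).ideal W = ((unionIdeal P hZ).comap π).ideal W ^ (if P t ∈ V then 1 else 0) := by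
  obtain ⟨⟨hVa, -⟩, hone⟩ := hV
  rw [ProjLib.comap_ideal_eq _ π ⟨V, hVa⟩ W hW, ProjLib.comap_ideal_eq _ π ⟨V, hVa⟩ W hW]
  split_ifs with h
  · rw [pow_one]
    refine congrArg (Ideal.map _) (ideal_vanishingIdeal_congr ⟨V, hVa⟩ ?_)
    ext y
    exact ⟨fun ⟨e, hy⟩ => ⟨⟨t, (Eq.symm (show y = P t from e))⟩, hy⟩,
      fun ⟨⟨t', e⟩, hy⟩ => ⟨(e.symm.trans (congrArg P (hone t' t (e ▸ hy) h)) : y = P t), hy⟩⟩
  · rw [pow_zero, Ideal.one_eq_top, ideal_vanishingIdeal_eq_top ⟨V, hVa⟩ ?_]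
    · exact Ideal.map_top _
    · exact Set.eq_empty_iff_forall_notMem.2 fun y ⟨e, hy⟩ => h ((show y = P t from e) ▸ hy)

open Classical in
theorem ideal_fatIdeal {V : Q.Opens} (hV : Good P hZ V) (d : Fin s → ℕ) :
    ∀ l : List (Fin s), ∃ e : ℕ, ∀ W : X.affineOpens, W.1 ≤ π ⁻¹ᵁ V →
      (fatIdeal P hPc π d l).ideal W = ((unionIdeal P hZ).comap π).ideal W ^ e
  | [] => ⟨0, fun W _ => by
      rw [fatIdeal, List.map_nil, List.prod_nil, pow_zero, Ideal.one_eq_top]
      rfl⟩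
  | t :: l => by
    obtain ⟨e, he⟩ := ideal_fatIdeal hV d l
    refine ⟨(if P t ∈ V then 1 else 0) * d t + e, fun W hW => ?_⟩
    rw [fatIdeal, List.map_cons, List.prod_cons, Scheme.IdealSheafData.ideal_mul, Pi.mul_apply,
      Scheme.IdealSheafData.ideal_pow, Pi.pow_apply, ideal_comap_point P hPc hZ π hV t W hW,
      ← pow_mul, pow_add]
    exact congrArg _ (he W hW)

include hP hPc hK hπ in
/-- Every single exceptional ideal is effective Cartier. -/
theorem isEffCartier_point (t : Fin s) : BlowUp.IsEffCartierIdeal ((pointIdeal P hPc t).comap π) := by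
  classical
  intro x
  obtain ⟨V, hV, hxV, -⟩ := Opens.isBasis_iff_nbhd.mp (good_isBasis P hP hPc hZ hK) (show π x ∈ (⊤ : Q.Opens) from trivial)
  obtain ⟨W, hxW, hWV, b, hb, hbW⟩ := ModPairLib.exists_local hπ.1 x (π ⁻¹ᵁ V) hxV
  refine ⟨W, hxW, b ^ (if P t ∈ V then 1 else 0), pow_mem hb _, ?_⟩
  rw [ideal_comap_point P hPc hZ π hV t W hWV, hbW, Ideal.span_singleton_pow]

include hP hPc hK hπ in
/-- The tensor product of powers of the exceptional ideals is the ideal of the product. -/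
theorem tensorList_iso (d : Fin s → ℕ) : ∀ l : List (Fin s),
    BlowUp.IsEffCartierIdeal (fatIdeal P hPc π d l) ∧
    Nonempty (FGA.tensorList (l.map fun t => CohB1.tensorPow (ClSub.idealMod ((pointIdeal P hPc t).comap π)) (d t)) ≅
      ClSub.idealMod (fatIdeal P hPc π d l))
  | [] => by
    have h1 : BlowUp.IsEffCartierIdeal (1 : X.IdealSheafData) := Inters29.isEffCartier_one
    refine ⟨h1, ?_⟩
    obtain ⟨e⟩ := Lef23.nonempty_idealMod_pow (1 : X.IdealSheafData) h1 0
    exact ⟨e.symm ≪≫ eqToIso (congrArg ClSub.idealMod (pow_zero _))⟩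
  | t :: l => by
    obtain ⟨h1, ⟨e1⟩⟩ := tensorList_iso d l
    have ht := isEffCartier_point P hP hPc hZ hK π hπ t
    have ht' : BlowUp.IsEffCartierIdeal (((pointIdeal P hPc t).comap π) ^ d t) := Inters29.isEffCartier_pow ht (d t)
    refine ⟨ModPairLib.isEffCartier_mul ht' h1, ?_⟩
    obtain ⟨e2⟩ := Lef23.nonempty_idealMod_pow _ ht (d t)
    obtain ⟨e3⟩ := KRR28.nonempty_idealMod_mul_eff (((pointIdeal P hPc t).comap π) ^ d t) h1
    exact ⟨AmpleLib.tensorIso e2.symm e1 ≪≫ e3⟩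

include hP hPc hK hπ in
theorem nonempty_multiTwist_iso (d : Fin s → ℕ) :
    Nonempty (FGA.multiTwist (fun t : Fin s => ClSub.idealMod ((pointIdeal P hPc t).comap π)) d ≅
      ClSub.idealMod (fatIdeal P hPc π d (List.finRange s))) :=
  (tensorList_iso P hP hPc hZ hK π hπ d (List.finRange s)).2

include hP hPc hK hπ in
/-- The product ideal has no higher direct images. -/
theorem isZero_rpushAb_fatIdeal (d : Fin s → ℕ) (l : List (Fin s)) (p : ℕ) (hp : 1 ≤ p) :
    IsZero ((Coh.RpushAb π p).obj (Coh.toAb (ClSub.idealMod (fatIdeal P hPc π d l)))) := by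
  obtain ⟨p, rfl⟩ : ∃ i, p = i + 1 := ⟨p - 1, by omega⟩
  have hI := koszulBasis_union P hPc hZ hK
  refine isZero_rpushAb_of_basis π _ (good_isBasis P hP hPc hZ hK) _ _ ?_
  intro V hVg
  obtain ⟨e, he⟩ := ideal_fatIdeal P hPc hZ π hVg d l
  obtain ⟨⟨hV, n, f, hkn, hf, hk⟩, -⟩ := hVg
  haveI : IsAffine (V : Scheme.{u}) := hV
  obtain ⟨f', hf', hk', hsep⟩ := BlowUpCoh.exists_restrict_data hπ hI hV hf hk
  let U : X.Opens := π ⁻¹ᵁ V
  haveI := MorProj.isQCoh_idealMod (fatIdeal P hPc π d l)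
  haveI : Coh.IsQCoh ((ClSub.idealMod (fatIdeal P hPc π d l)).restrict U.ι) := H8Coh.isQCoh_restrictOpen U _
  obtain ⟨T⟩ := exists_twistPow_local ((unionIdeal P hZ).comap π) (fatIdeal P hPc π d l) U e he
  let T' : BlowUpCoh.TwistData (((unionIdeal P hZ).comap V.ι).comap (π ∣_ V))
      ((ClSub.idealMod (fatIdeal P hPc π d l)).restrict U.ι) (e : ℤ) :=
    T.congrIdeal (BlowUpCoh.comap_restrict V).symm
  have := BlowUpCoh.subsingleton_HH (π ∣_ V) f' (isBlowUp_restrict hπ V) hf' T' hk' (by omega) p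
  exact (((HHTopEquiv ((ClSub.idealMod (fatIdeal P hPc π d l)).restrict U.ι) (p + 1)).trans
    (H'ModRestrictEquiv U.ι (ClSub.idealMod (fatIdeal P hPc π d l)) ⊤ (p + 1))).trans
    (H'Congr (Coh.toAb (ClSub.idealMod (fatIdeal P hPc π d l))) (p + 1) (Scheme.Opens.ι_image_top U))).symm.toEquiv.subsingleton

theorem support_fatIdeal (d : Fin s → ℕ) : ∀ l : List (Fin s),
    ((fatIdeal P hPc π d l).support : Set X) ⊆ π ⁻¹' Set.range P
  | [] => by
    intro y hy
    simp [fatIdeal] at hy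
  | t :: l => by
    intro y hy
    rw [fatIdeal, List.map_cons, List.prod_cons, Scheme.IdealSheafData.support_mul] at hy
    rcases hy with hy | hy
    · cases hd : d t with
      | zero => simp [hd] at hy
      | succ m =>
        rw [hd, Scheme.IdealSheafData.support_pow_succ, Scheme.IdealSheafData.support_comap] at hy
        exact ⟨t, ((Scheme.IdealSheafData.coe_support_vanishingIdeal (Z := (⟨{P t}, hPc t⟩ : Closeds Q))).le hy).symm⟩
    · exact support_fatIdeal d l hy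

include hπ hPc hK in
/-- The direct image of the product ideal includes into the structure sheaf, with cokernel on the points. -/
theorem exists_pushforward_fatIdeal (d : Fin s → ℕ) (l : List (Fin s)) :
    ∃ ψ : (Scheme.Modules.pushforward π).obj (ClSub.idealMod (fatIdeal P hPc π d l)) ⟶ Coh.structureModule Q,
      Mono ψ ∧ CohB1.support (cokernel ψ) ⊆ Set.range P := by
  haveI := BlowUpCoh.isIso_unitMap hπ (koszulBasis_union P hPc hZ hK)
  haveI : PreservesLimitsOfSize.{0, 0} (Scheme.Modules.pushforward π) :=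
    (Scheme.Modules.pullbackPushforwardAdjunction π).rightAdjoint_preservesLimits
  let J := fatIdeal P hPc π d l
  haveI := mono_idealModι J
  haveI : Mono ((Scheme.Modules.pushforward π).map (ClSub.idealModι J)) := Functor.map_mono _ _
  refine ⟨(Scheme.Modules.pushforward π).map (ClSub.idealModι J) ≫ inv (StMod.unitMap π), mono_comp _ _, ?_⟩
  intro y hy
  by_contra hyZ
  refine CAlgH3.EN.notMem_support_cokernel _ (fun V hV b => ?_) hy
  let W : Q.Opens := V ⊓ ⟨_, hZ.isOpen_compl⟩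
  refine ⟨W, inf_le_left, ⟨hV, hyZ⟩, ?_⟩
  have hbot : J.subschemeι ⁻¹ᵁ (π ⁻¹ᵁ W) = ⊥ := by
    ext z
    refine iff_of_false (fun hz => ?_) (by simp)
    have h1 : J.subschemeι z ∈ (J.support : Set X) := J.range_subschemeι ▸ Set.mem_range_self z
    exact hz.2 (support_fatIdeal P hPc π d l h1)
  have : Subsingleton Γ(J.subscheme, J.subschemeι ⁻¹ᵁ (π ⁻¹ᵁ W)) := by
    rw [hbot]
    infer_instance
  obtain ⟨x, hx⟩ := (mem_range_idealModι J (π ⁻¹ᵁ W)
    ((StMod.unitMap π).app W (resM _ inf_le_left b))).2 (Subsingleton.elim _ _)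
  refine ⟨x, (ConcreteCategory.bijective_of_isIso ((StMod.unitMap π).app W)).injective ?_⟩
  refine (congr(($(Category.assoc ((Scheme.Modules.pushforward π).map (ClSub.idealModι J))
    (inv (StMod.unitMap π)) (StMod.unitMap π))).app W x)).trans ?_
  rw [IsIso.inv_hom_id, Category.comp_id]
  exact hx

end Groth.Agent.Misc15.PointsBlow
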