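import Groth.Agent.Misc15.PointsBlow
import Groth.Agent.Lef23.LongExact
import Groth.Agent.Misc15.PointPnCoh
import Groth.Agent.SurfBl13.EndPush
import Groth.Agent.BlowUpCoh.EulerPush

/-!
# Cohomology of twists on the blowing up of finitely many points of projective space
-/

set_option autoImplicit false
set_option linter.style.haveILetI false
set_option backward.isDefEq.respectTransparency.types false
set_option maxHeartbeats 1000000

universe u

open CategoryTheory CategoryTheory.Limits AlgebraicGeometry TopologicalSpace Opposite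
open Groth.Agent.Coherent Groth.Agent.PicLib Groth.Agent.AmpleLib Groth.Agent.EulerLib Groth.Agent.CurveRR24

namespace Groth.Agent.Misc15.PointsPn

variable (n : ℕ) (k : Type u) [Field k] [IsAlgClosed k] (hn : 2 ≤ n) {s : ℕ}
  (P : Fin s → ↥(CohB1.ProjSpace n k)) (hP : Function.Injective P)
  (hPc : ∀ t, IsClosed ({P t} : Set ↥(CohB1.ProjSpace n k))) (hZ : IsClosed (Set.range P))
  {X : Scheme.{u}} (π : X ⟶ CohB1.ProjSpace n k)
  (hπ : BlowUp.IsBlowUp π (Scheme.IdealSheafData.vanishingIdeal ⟨Set.range P, hZ⟩))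

set_option quotPrecheck false
local notation "Mt" c:max d:max => CohB1.tensorMod ((Scheme.Modules.pullback π).obj (Twist.twistProjSpace n k c))
  (FGA.multiTwist (fun t : Fin s => ClSub.idealMod ((Scheme.IdealSheafData.vanishingIdeal ⟨{P t}, hPc t⟩).comap π)) d)

include hn hP hπ in
/-- The cohomology upstairs is that of a twist of a submodule of `O` with cokernel at the points. -/
theorem exists_push (c : ℤ) (d : Fin s → ℕ) :
    ∃ (F : (CohB1.ProjSpace n k).Modules) (ψ : F ⟶ Coh.structureModule (CohB1.ProjSpace n k)),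
      Mono ψ ∧ CohB1.support (cokernel ψ) ⊆ Set.range P ∧
      ∀ i, Subsingleton (Coh.HH (CohB1.ProjSpace n k) (CohB1.tensorMod (Twist.twistProjSpace n k c) F) i) →
        Subsingleton (Coh.HH X (Mt c d) i) := by
  haveI : IsProper (CohB1.ProjSpace n k ↘ Spec (CommRingCat.of k)) :=
    Coherent.isProper_projSpace_toSpec (n := n) (R := k)
  letI : X.Over (Spec (CommRingCat.of k)) := ⟨π ≫ (CohB1.ProjSpace n k ↘ Spec (CommRingCat.of k))⟩
  have hK := fun t => PointPn.koszulBasis_point n k hn (P t) (hPc t)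
  have hI := PointsBlow.koszulBasis_union P hPc hZ hK
  haveI : IsProper π := BlowUpLib.isProper_of_isBlowUp hπ (BlowUpCoh.isFiniteType_of_koszulBasis hI)
  have hL := PointPn.isInvertible_twistPn n k c
  have hLF : FlatMod.IsFinLocFree (Twist.twistProjSpace n k c) := fun y =>
    let ⟨U, hy, e⟩ := PicLib.isFinLocFreeOfRank_one hL y; ⟨U, 1, hy, e⟩
  let J := PointsBlow.fatIdeal P hPc π d (List.finRange s)
  haveI := MorProj.isQCoh_idealMod J
  haveI := isQCoh_of_isInvertible (PicLoc.isInvertible_pullback π hL)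
  haveI : Coh.IsQCoh (CohB1.tensorMod ((Scheme.Modules.pullback π).obj (Twist.twistProjSpace n k c))
      (ClSub.idealMod J)) := isQCoh_tensorMod _ _
  obtain ⟨ψ, hψ, hsupp⟩ := PointsBlow.exists_pushforward_fatIdeal P hPc hZ hK π hπ d (List.finRange s)
  obtain ⟨φ⟩ := PointsBlow.nonempty_multiTwist_iso P hP hPc hZ hK π hπ d
  refine ⟨_, ψ, hψ, hsupp, fun i hi => CurveRR24.subsingleton_HH_congr (AmpleLib.tensorIso (Iso.refl _) φ.symm) i ?_⟩
  obtain ⟨e⟩ := SurfBl13.nonempty_HH_push_equiv π k rfl
    (CohB1.tensorMod ((Scheme.Modules.pullback π).obj (Twist.twistProjSpace n k c)) (ClSub.idealMod J))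
    (fun i hi => BlowUpCoh.isZero_rpushAb_tensor_pullback π hLF _ i
      (PointsBlow.isZero_rpushAb_fatIdeal P hP hPc hZ hK π hπ d _ i hi)) i
  exact e.toEquiv.subsingleton_congr.2
    (CurveRR24.subsingleton_HH_congr ((projIso (f := π) hLF).app _) i hi)

include hn hP hπ in
/-- In degrees at least two the cohomology is that of the twist. -/
theorem subsingleton_HH_two_le (c : ℤ) (d : Fin s → ℕ) (q : ℕ) (hq : 2 ≤ q) (hq' : ¬ (q = n ∧ c ≤ -((n : ℤ) + 1))) :
    Subsingleton (Coh.HH X (Mt c d) q) := by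
  haveI : IsProper (CohB1.ProjSpace n k ↘ Spec (CommRingCat.of k)) :=
    Coherent.isProper_projSpace_toSpec (n := n) (R := k)
  obtain ⟨F, ψ, hψ, hsupp, h⟩ := exists_push n k hn P hP hPc hZ π hπ c d
  haveI := hψ
  refine h q ?_
  have hL := PointPn.isInvertible_twistPn n k c
  have hS : (ShortComplex.mk ψ (cokernel.π ψ) (cokernel.condition ψ)).ShortExact :=
    { exact := ShortComplex.exact_of_g_is_cokernel _ (cokernelIsCokernel ψ), mono_f := ‹Mono ψ›, epi_g := inferInstance }
  let T := twistSeq (ShortComplex.mk ψ (cokernel.π ψ) (cokernel.condition ψ)) (Twist.twistProjSpace n k c)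
  have hT : T.ShortExact := twistSeq_shortExact hL hS
  have hs : CohB1.support T.X₃ ⊆ Set.range P := by
    rw [show CohB1.support T.X₃ = CohB1.support (cokernel ψ) from EulerLib.support_twist hL _]
    exact hsupp
  obtain ⟨q, rfl⟩ : ∃ r, q = r + 1 := ⟨q - 1, by omega⟩
  refine CurveRR24.subsingleton_HH_congr (tensorComm _ _) (q + 1) (subsingleton_HH_X₁ hT q ?_ ?_)
  · exact subsingleton_HH_of_support_finite _ (Set.range P) (Set.finite_range P)
      (fun z ⟨t, ht⟩ => ht ▸ hPc t) hs q (by omega)
  · exact CurveRR24.subsingleton_HH_congr (unitTensorIso _).symm (q + 1)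
      (Coherent.subsingleton_HH_twist (n := n) (R := k) (d := c) (q + 1) (by simp) hq')

include hn hP hπ in
/-- A negative twist has no sections. -/
theorem subsingleton_H0_of_neg (c : ℤ) (hc : c < 0) (d : Fin s → ℕ) : Subsingleton (Coh.HH X (Mt c d) 0) := by
  obtain ⟨F, ψ, hψ, -, h⟩ := exists_push n k hn P hP hPc hZ π hπ c d
  haveI := hψ
  refine h 0 (CurveRR24.subsingleton_HH_congr (tensorComm _ _) 0 ?_)
  have hL := PointPn.isInvertible_twistPn n k c
  have hS : (ShortComplex.mk ψ (cokernel.π ψ) (cokernel.condition ψ)).ShortExact :=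
    { exact := ShortComplex.exact_of_g_is_cokernel _ (cokernelIsCokernel ψ), mono_f := ‹Mono ψ›, epi_g := inferInstance }
  let T := twistSeq (ShortComplex.mk ψ (cokernel.π ψ) (cokernel.condition ψ)) (Twist.twistProjSpace n k c)
  have hT : T.ShortExact := twistSeq_shortExact hL hS
  refine Lef23.subsingleton_left_zero hT (CurveRR24.subsingleton_HH_congr (unitTensorIso _).symm 0
    (Coherent.subsingleton_HH_twist (n := n) (R := k) (d := c) 0 (by simp; omega) (by omega)))

end Groth.Agent.Misc15.PointsPn
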