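import Mathlib.RingTheory.Smooth.Basic

/-! Lifting along nilpotent surjections, in terms of ring maps. -/

set_option autoImplicit false
universe u

namespace Groth.Agent.Misc15.RingLift

theorem exists_lift {R D E C : Type u} [CommRing R] [CommRing D] [CommRing E] [CommRing C] [Algebra R D]
    [Algebra.FormallySmooth R D] (b : R →+* E) (g : E →+* C) (hg : Function.Surjective g)
    (hn : IsNilpotent (RingHom.ker g)) (f : D →+* C) (h : f.comp (algebraMap R D) = g.comp b) :
    ∃ l : D →+* E, l.comp (algebraMap R D) = b ∧ g.comp l = f := by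
  letI := b.toAlgebra
  letI := (g.comp b).toAlgebra
  let g' : E →ₐ[R] C := { g with commutes' := fun _ => rfl }
  let f' : D →ₐ[R] C := { f with commutes' := fun r => RingHom.congr_fun h r }
  let l := Algebra.FormallySmooth.liftOfSurjective f' g' hg hn
  refine ⟨l.toRingHom, l.comp_algebraMap, RingHom.ext fun d => ?_⟩
  exact AlgHom.congr_fun (Algebra.FormallySmooth.comp_liftOfSurjective f' g' hg hn) d

end Groth.Agent.Misc15.RingLift
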