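import Groth.Agent.Misc15.LinearPresent
import Groth.Agent.SerreDual.HomLinear
import Mathlib.RingTheory.Polynomial.Basic
import Mathlib.FieldTheory.Minpoly.Field

/-!
# Endomorphisms of sums of invertible modules on a proper scheme, and simplicity of cokernels
-/

set_option autoImplicit false
set_option linter.style.haveILetI false
set_option backward.isDefEq.respectTransparency.types false
set_option maxHeartbeats 1000000

universe u

open CategoryTheory CategoryTheory.Limits AlgebraicGeometry TopologicalSpace Opposite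
open Groth.Agent.Coherent Groth.Agent.PicLib Groth.Agent.AmpleLib Groth.Agent.EulerLib Groth.Agent.CurveRR24

namespace Groth.Agent.Misc15.SimpleCoker

/-- In a finite dimensional algebra over an infinite field, two elements are shifted to units by a
common scalar. -/
theorem exists_shift_units {k : Type u} [Field k] [Infinite k] {A B : Type u} [Ring A] [Algebra k A]
    [Module.Finite k A] [Ring B] [Algebra k B] [Module.Finite k B] (a : A) (b : B) :
    ∃ c : k, IsUnit (a - algebraMap k A c) ∧ IsUnit (b - algebraMap k B c) := by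
  classical
  have ha : minpoly k a ≠ 0 := minpoly.ne_zero (Algebra.IsIntegral.isIntegral a)
  have hb : minpoly k b ≠ 0 := minpoly.ne_zero (Algebra.IsIntegral.isIntegral b)
  obtain ⟨c, hc⟩ := Infinite.exists_notMem_finset ((minpoly k a * minpoly k b).roots.toFinset)
  rw [Multiset.mem_toFinset, Polynomial.mem_roots (mul_ne_zero ha hb), Polynomial.IsRoot, Polynomial.eval_mul,
    mul_eq_zero, not_or] at hc
  have key : ∀ {C : Type u} [Ring C] [Algebra k C] (x : C), (minpoly k x).eval c ≠ 0 →
      IsUnit (x - algebraMap k C c) := fun {C} _ _ x h => by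
    obtain ⟨u, v, huv⟩ := (Polynomial.irreducible_X_sub_C c).coprime_iff_not_dvd.2
      (fun hd => h (Polynomial.dvd_iff_isRoot.1 hd))
    have h1 := congrArg (Polynomial.aeval x) huv
    rw [map_add, map_mul, map_mul, minpoly.aeval, mul_zero, add_zero, map_one, map_sub, Polynomial.aeval_X,
      Polynomial.aeval_C] at h1
    have h2 : (x - algebraMap k C c) * Polynomial.aeval x u = 1 := by
      rw [← h1]
      have := congrArg (Polynomial.aeval x) (mul_comm (Polynomial.X - Polynomial.C c) u)
      rwa [map_mul, map_mul, map_sub, Polynomial.aeval_X, Polynomial.aeval_C] at this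
    exact ⟨⟨_, _, h2, h1⟩, rfl⟩
  exact ⟨c, key a hc.1, key b hc.2⟩

variable (k : Type u) [Field k] {X : Scheme.{u}} [X.Over (Spec (CommRingCat.of k))]
  [IsProper (X ↘ Spec (CommRingCat.of k))]

/-- On a proper scheme the endomorphisms of finitely many copies of an invertible module are finite
dimensional. -/
theorem finite_end_sigma {L N : X.Modules} (hL : PicF.IsInvertible L) (hN : PicF.IsInvertible N)
    (e : CohB1.tensorMod L N ≅ Coh.structureModule X) {b : ℕ} {Q : X.Modules} (eQ : Q ≅ ∐ fun _ : Fin b => L) :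
    Module.Finite k (Q ⟶ Q) := by
  haveI : HasFiniteBiproducts X.Modules := HasFiniteBiproducts.of_hasFiniteCoproducts
  haveI := CurveRR24.finite_HH_of_isCoh (k := k) (PicLib.isCoh_of_isInvertible (isInvertible_tensorMod hL hN)) 0
  let fwd : (L ⟶ L) →ₗ[k] Coh.HH X (CohB1.tensorMod L N) 0 :=
    ((Linear.homCongr k e (Iso.refl _)).trans (SerreDual.homUnitHH k _)).toLinearMap ∘ₗ
      SerreDual.tensorRightHom k L L N
  haveI : Module.Finite k (L ⟶ L) := Module.Finite.of_injective fwd fun x y h =>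
    SerreDual.tensorRightHom_injective k L L hN
      (((Linear.homCongr k e (Iso.refl _)).trans (SerreDual.homUnitHH k _)).injective h)
  let eQ' : Q ≅ ⨁ fun _ : Fin b => L := eQ ≪≫ (biproduct.isoCoproduct _).symm
  let G : (Q ⟶ Q) →ₗ[k] (Fin b → Fin b → (L ⟶ L)) :=
    { toFun := fun g j i => biproduct.ι (fun _ : Fin b => L) j ≫ (eQ'.inv ≫ g ≫ eQ'.hom) ≫ biproduct.π _ i
      map_add' := fun g g' => by funext j i; simp
      map_smul' := fun c g => by funext j i; simp }
  refine Module.Finite.of_injective G fun g g' h => ?_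
  rw [← cancel_epi eQ'.inv, ← cancel_mono eQ'.hom, Category.assoc, Category.assoc]
  exact biproduct.hom_ext' _ _ fun j => biproduct.hom_ext _ _ fun i => by
    simpa [G, Category.assoc] using congrFun (congrFun h j) i

omit [IsProper (X ↘ Spec (CommRingCat.of k))] in
/-- A scalar multiple of the identity acts on the underlying sheaf as multiplication by the constant. -/
theorem toSheaf_smul_id (M : X.Modules) (c : k) :
    (SheafOfModules.toSheaf X.ringCatSheaf).map (c • 𝟙 M) =
      Coh.smulAb M (Coh.toGlobal (X ↘ Spec (CommRingCat.of k)) c) := by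
  rw [KLin.smul_def, Category.comp_id]
  rfl

/-- A cokernel of copies of invertible modules with scalar stabiliser is simple. -/
theorem simple_of_stabilizer [Infinite k] {L N L₂ N₂ : X.Modules} (hL : PicF.IsInvertible L)
    (hN : PicF.IsInvertible N) (e : CohB1.tensorMod L N ≅ Coh.structureModule X)
    (hL₂ : PicF.IsInvertible L₂) (hN₂ : PicF.IsInvertible N₂) (e₂ : CohB1.tensorMod L₂ N₂ ≅ Coh.structureModule X)
    {a b : ℕ} {P Q : X.Modules} (eP : P ≅ ∐ fun _ : Fin a => L₂) (eQ : Q ≅ ∐ fun _ : Fin b => L)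
    (hv : Subsingleton (Coh.HH X (CohB1.tensorMod P N) 1)) (f : P ⟶ Q) [Mono f]
    (hstab : ∀ (β : Q ≅ Q) (γ : P ≅ P), γ.hom ≫ f = f ≫ β.hom →
      ∃ c : k, (SheafOfModules.toSheaf X.ringCatSheaf).map β.hom =
          Coh.smulAb Q (Coh.toGlobal (X ↘ Spec (CommRingCat.of k)) c) ∧
        (SheafOfModules.toSheaf X.ringCatSheaf).map γ.hom =
          Coh.smulAb P (Coh.toGlobal (X ↘ Spec (CommRingCat.of k)) c))
    (φ : cokernel f ⟶ cokernel f) :
    ∃ c : k, (SheafOfModules.toSheaf X.ringCatSheaf).map φ =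
      Coh.smulAb (cokernel f) (Coh.toGlobal (X ↘ Spec (CommRingCat.of k)) c) := by
  have hS : (ShortComplex.mk f (cokernel.π f) (cokernel.condition f)).ShortExact :=
    { exact := ShortComplex.exact_of_g_is_cokernel _ (cokernelIsCokernel f), mono_f := ‹Mono f›, epi_g := inferInstance }
  obtain ⟨β₀, hβ₀⟩ := LinPres.exists_lift_of_sigma hL hN e hS hv (eQ.inv ≫ cokernel.π f ≫ φ)
  obtain ⟨β, hβ⟩ : ∃ β : Q ⟶ Q, β ≫ cokernel.π f = cokernel.π f ≫ φ :=
    ⟨eQ.hom ≫ β₀, by rw [Category.assoc]; erw [hβ₀]; simp⟩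
  obtain ⟨γ, hγ⟩ : ∃ γ : P ⟶ P, γ ≫ f = f ≫ β :=
    ⟨hS.exact.lift (f ≫ β) (by rw [Category.assoc, hβ, cokernel.condition_assoc, zero_comp]), hS.exact.lift_f _ _⟩
  haveI : Module.Finite k (End Q) := finite_end_sigma k hL hN e eQ
  haveI : Module.Finite k (End P) := finite_end_sigma k hL₂ hN₂ e₂ eP
  obtain ⟨c, hu, hu'⟩ := exists_shift_units (k := k) (A := End Q) (B := End P) β γ
  have ha : ∀ (M : X.Modules), algebraMap k (End M) c = c • 𝟙 M := fun M => Algebra.algebraMap_eq_smul_one c
  rw [ha, isUnit_iff_isIso] at hu hu'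
  haveI : IsIso (β - c • 𝟙 Q) := hu
  haveI : IsIso (γ - c • 𝟙 P) := hu'
  obtain ⟨d, hd, -⟩ := hstab (asIso (β - c • 𝟙 Q)) (asIso (γ - c • 𝟙 P)) (by
    simp [Preadditive.sub_comp, Preadditive.comp_sub, hγ])
  have h1 : β - c • 𝟙 Q = d • 𝟙 Q := (SheafOfModules.toSheaf X.ringCatSheaf).map_injective
    (hd.trans (toSheaf_smul_id k Q d).symm)
  refine ⟨c + d, ?_⟩
  rw [← toSheaf_smul_id k (cokernel f) (c + d)]
  congr 1
  have h2 : β = (c + d) • 𝟙 Q := by rw [add_smul, ← h1]; abel
  refine (cancel_epi (cokernel.π f)).1 ?_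
  rw [← hβ, h2]
  simp

end Groth.Agent.Misc15.SimpleCoker
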