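import Groth.Agent.Misc15.FacePushout
import Groth.Agent.Misc15.MagnetAffine
import Groth.Agent.Misc15.AMonCover

/-! Push-out squares `Spec` of fibre products of rings, stable under products with `A(M)_S`. -/

set_option autoImplicit false
universe u

noncomputable section

open CategoryTheory CategoryTheory.Limits MonoidalCategory CartesianMonoidalCategory MonObj AlgebraicGeometry Opposite
open Magnet

namespace Groth.Agent.Misc15.SqStable

open Groth.Agent.Misc15.MagnetPointsS Groth.Agent.Misc15.AMonCover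
open Groth.Agent.KerEval (Sq sp sp_comp)

section alg

variable {A B D : Type u} [CommRing A] [CommRing B] [CommRing D]

/-- `A ×_D B` -/
abbrev FibRing (q : A →+* D) (p : B →+* D) : Subring (A × B) :=
  RingHom.eqLocus (q.comp (RingHom.fst A B)) (p.comp (RingHom.snd A B))

/-- the square of the fibre product ring -/
def fibSq (q : A →+* D) (p : B →+* D) (hp : Function.Surjective p) : Sq (FibRing q p) A B D where
  f := (RingHom.fst A B).comp (FibRing q p).subtype
  g := (RingHom.snd A B).comp (FibRing q p).subtype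
  q := q
  p := p
  surj := hp
  comm := fun c => c.2
  exist := fun a b h => ⟨⟨(a, b), h⟩, rfl, rfl⟩
  ext := fun _ _ h1 h2 => Subtype.ext (Prod.ext h1 h2)

variable {C : Type u} [CommRing C] (s : Sq C A B D) (G : Type) [Monoid G]

theorem mapRange_coeff {R R' : Type u} [CommRing R] [CommRing R'] {φ : R →+* R'} (a : MonoidAlgebra R G) (x : G) :
    (MonoidAlgebra.mapRingHom G φ a).coeff x = φ (a.coeff x) := by
  simp

end alg

section sch

variable {S : Scheme.{u}} {M : Type} [AddCommMonoid M]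

/-- the coefficientwise square -/
def mapSq {C A B D : Type u} [CommRing C] [CommRing A] [CommRing B] [CommRing D] (s : Sq C A B D) :
    Sq (MA C M) (MA A M) (MA B M) (MA D M) where
  f := MonoidAlgebra.mapRingHom _ s.f
  g := MonoidAlgebra.mapRingHom _ s.g
  q := MonoidAlgebra.mapRingHom _ s.q
  p := MonoidAlgebra.mapRingHom _ s.p
  surj := fun b => by
    classical
    induction b using MonoidAlgebra.induction_linear with
    | zero => exact ⟨0, map_zero _⟩
    | add x y hx hy =>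
      obtain ⟨a, rfl⟩ := hx
      obtain ⟨a', rfl⟩ := hy
      exact ⟨a + a', map_add _ _ _⟩
    | single x r =>
      obtain ⟨r', rfl⟩ := s.surj r
      exact ⟨MonoidAlgebra.single x r', by simp⟩
  comm := fun c => by
    refine MonoidAlgebra.ext (Finsupp.ext fun x => ?_)
    rw [mapRange_coeff, mapRange_coeff, mapRange_coeff, mapRange_coeff, s.comm]
  exist := fun a b h => by
    classical
    have hx : ∀ x, s.q (a.coeff x) = s.p (b.coeff x) := fun x => by
      have := congrArg (fun w : MA D M => w.coeff x) h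
      simpa using this
    let c₀ : Multiplicative M → C := fun x => (s.exist _ _ (hx x)).choose
    have hc : ∀ x, s.f (c₀ x) = a.coeff x ∧ s.g (c₀ x) = b.coeff x := fun x => (s.exist _ _ (hx x)).choose_spec
    refine ⟨MonoidAlgebra.ofCoeff (Finsupp.onFinset (a.coeff.support ∪ b.coeff.support) c₀ fun x hx0 => ?_), ?_, ?_⟩
    · rw [Finset.mem_union, Finsupp.mem_support_iff, Finsupp.mem_support_iff]
      by_contra h0
      push_neg at h0
      exact hx0 (s.ext _ _ (by rw [(hc x).1, h0.1, map_zero]) (by rw [(hc x).2, h0.2, map_zero]))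
    · refine MonoidAlgebra.ext (Finsupp.ext fun x => ?_)
      rw [mapRange_coeff]
      exact (hc x).1
    · refine MonoidAlgebra.ext (Finsupp.ext fun x => ?_)
      rw [mapRange_coeff]
      exact (hc x).2
  ext := fun c c' h1 h2 => by
    refine MonoidAlgebra.ext (Finsupp.ext fun x => s.ext _ _ ?_ ?_)
    · rw [← mapRange_coeff, ← mapRange_coeff, h1]
    · rw [← mapRange_coeff, ← mapRange_coeff, h2]

variable (M)

theorem mapHom_algebraMap {C A : Type u} [CommRing C] [CommRing A] (φ : C →+* A) :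
    (MonoidAlgebra.mapRingHom (Multiplicative M) φ).comp (algebraMap C (MA C M)) =
      (algebraMap A (MA A M)).comp φ := by
  ext c
  simp [MonoidAlgebra.coe_algebraMap]

/-- functoriality of `univBase` in the coefficient ring -/
def σ {C A : Type u} [CommRing C] [CommRing A] (φ : C →+* A) {sC : Spec (CommRingCat.of C) ⟶ S}
    {sA : Spec (CommRingCat.of A) ⟶ S} (t : Over.mk sA ⟶ Over.mk sC) (ht : t.left = sp φ) :
    Over.mk (univBase M A sA) ⟶ Over.mk (univBase M C sC) :=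
  Over.homMk (sp (MonoidAlgebra.mapRingHom (Multiplicative M) φ)) (by
    show Spec.map _ ≫ Spec.map _ ≫ sC = Spec.map _ ≫ sA
    have hw : sp φ ≫ sC = sA := by rw [← ht]; exact Over.w t
    rw [← hw, ← Category.assoc, ← Category.assoc, ← Spec.map_comp, ← Spec.map_comp, ← CommRingCat.ofHom_comp,
      ← CommRingCat.ofHom_comp, mapHom_algebraMap])

theorem σ_univPoint {C A : Type u} [CommRing C] [CommRing A] (φ : C →+* A) {sC : Spec (CommRingCat.of C) ⟶ S}
    {sA : Spec (CommRingCat.of A) ⟶ S} (t : Over.mk sA ⟶ Over.mk sC) (ht : t.left = sp φ) :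
    σ M φ t ht ≫ univPoint M C sC (𝟙 _) = univPoint M A sA (𝟙 _) ≫ (AMonS S M ◁ t) := by
  rw [univPoint, univPoint, comp_lift, comp_P _ _ (MonoidAlgebra.mapRingHom (Multiplicative M) φ) (σ M φ t ht) rfl,
    lift_whiskerLeft]
  congr 1
  · congr 1
    refine MonoidHom.ext fun n => ?_
    simp [MonoidAlgebra.of_apply]
  · simp only [Category.comp_id]
    ext1
    show sp _ ≫ sp (algebraMap C (MA C M)) = sp (algebraMap A (MA A M)) ≫ t.left
    rw [ht, ← sp_comp, ← sp_comp, mapHom_algebraMap]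

variable {C A B D : Type u} [CommRing C] [CommRing A] [CommRing B] [CommRing D] (s : Sq C A B D)
  (sC : Spec (CommRingCat.of C) ⟶ S)

abbrev fA : Over.mk (sp s.f ≫ sC) ⟶ Over.mk sC := Over.homMk (sp s.f) rfl
abbrev gB : Over.mk (sp s.g ≫ sC) ⟶ Over.mk sC := Over.homMk (sp s.g) rfl
abbrev qA : Over.mk (sp s.q ≫ sp s.f ≫ sC) ⟶ Over.mk (sp s.f ≫ sC) := Over.homMk (sp s.q) rfl
abbrev pB : Over.mk (sp s.q ≫ sp s.f ≫ sC) ⟶ Over.mk (sp s.g ≫ sC) := Over.homMk (sp s.p) (by
  show sp s.p ≫ sp s.g ≫ sC = sp s.q ≫ sp s.f ≫ sC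
  rw [← Category.assoc, ← Category.assoc, ← sp_comp, ← sp_comp, show s.q.comp s.f = s.p.comp s.g from RingHom.ext s.comm])

variable {M} {X : Over S}

theorem hom_ext₀ (a b : Over.mk sC ⟶ X) (h₁ : fA s sC ≫ a = fA s sC ≫ b) (h₂ : gB s sC ≫ a = gB s sC ≫ b) :
    a = b :=
  Over.OverMorphism.ext (s.hom_ext _ _ (congrArg Over.Hom.left h₁) (congrArg Over.Hom.left h₂))

theorem desc₀ (a : Over.mk (sp s.f ≫ sC) ⟶ X) (b : Over.mk (sp s.g ≫ sC) ⟶ X) (w : qA s sC ≫ a = pB s sC ≫ b) :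
    ∃ c : Over.mk sC ⟶ X, fA s sC ≫ c = a ∧ gB s sC ≫ c = b := by
  obtain ⟨m, hm₁, hm₂⟩ := s.exists_hom a.left b.left (congrArg Over.Hom.left w)
  have hm : m ≫ X.hom = sC := s.hom_ext _ _
    (by rw [← Category.assoc, hm₁, Over.w a]; rfl) (by rw [← Category.assoc, hm₂, Over.w b]; rfl)
  exact ⟨Over.homMk m hm, Over.OverMorphism.ext hm₁, Over.OverMorphism.ext hm₂⟩

theorem isPushout₀ : IsPushout (qA s sC) (pB s sC) (fA s sC) (gB s sC) := by
  refine ⟨⟨Over.OverMorphism.ext ?_⟩, ⟨PushoutCocone.IsColimit.mk _ (fun c => (desc₀ s sC c.inl c.inr c.condition).choose)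
    (fun c => (desc₀ s sC c.inl c.inr c.condition).choose_spec.1)
    (fun c => (desc₀ s sC c.inl c.inr c.condition).choose_spec.2)
    (fun c m h₁ h₂ => hom_ext₀ s sC _ _ (h₁.trans (desc₀ s sC c.inl c.inr c.condition).choose_spec.1.symm)
      (h₂.trans (desc₀ s sC c.inl c.inr c.condition).choose_spec.2.symm))⟩⟩
  show sp s.q ≫ sp s.f = sp s.p ≫ sp s.g
  rw [← sp_comp, ← sp_comp, show s.q.comp s.f = s.p.comp s.g from RingHom.ext s.comm]

theorem hom_ext₁ (a b : AMonS S M ⊗ Over.mk sC ⟶ X) (h₁ : (AMonS S M ◁ fA s sC) ≫ a = (AMonS S M ◁ fA s sC) ≫ b)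
    (h₂ : (AMonS S M ◁ gB s sC) ≫ a = (AMonS S M ◁ gB s sC) ≫ b) : a = b := by
  have := isIso_univPoint (N := M) C sC
  rw [← cancel_epi (univPoint M C sC (𝟙 _))]
  apply Over.OverMorphism.ext
  refine (mapSq (M := M) s).hom_ext _ _ ?_ ?_
  · show ((σ M s.f (fA s sC) rfl) ≫ univPoint M C sC (𝟙 _) ≫ a).left = ((σ M s.f (fA s sC) rfl) ≫ univPoint M C sC (𝟙 _) ≫ b).left
    rw [reassoc_of% (σ_univPoint M s.f (fA s sC) rfl), reassoc_of% (σ_univPoint M s.f (fA s sC) rfl), h₁]
  · show ((σ M s.g (gB s sC) rfl) ≫ univPoint M C sC (𝟙 _) ≫ a).left = ((σ M s.g (gB s sC) rfl) ≫ univPoint M C sC (𝟙 _) ≫ b).left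
    rw [reassoc_of% (σ_univPoint M s.g (gB s sC) rfl), reassoc_of% (σ_univPoint M s.g (gB s sC) rfl), h₂]

theorem desc₁ (a : AMonS S M ⊗ Over.mk (sp s.f ≫ sC) ⟶ X) (b : AMonS S M ⊗ Over.mk (sp s.g ≫ sC) ⟶ X)
    (w : (AMonS S M ◁ qA s sC) ≫ a = (AMonS S M ◁ pB s sC) ≫ b) :
    ∃ c : AMonS S M ⊗ Over.mk sC ⟶ X, (AMonS S M ◁ fA s sC) ≫ c = a ∧ (AMonS S M ◁ gB s sC) ≫ c = b := by
  have := isIso_univPoint (N := M) C sC
  have := isIso_univPoint (N := M) A (sp s.f ≫ sC)
  have := isIso_univPoint (N := M) B (sp s.g ≫ sC)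
  let a' := univPoint M A (sp s.f ≫ sC) (𝟙 _) ≫ a
  let b' := univPoint M B (sp s.g ≫ sC) (𝟙 _) ≫ b
  have w' : σ M s.q (qA s sC) rfl ≫ a' = σ M s.p (pB s sC) rfl ≫ b' := by
    rw [reassoc_of% (σ_univPoint M s.q (qA s sC) rfl), reassoc_of% (σ_univPoint M s.p (pB s sC) rfl), w]
  obtain ⟨m, hm₁, hm₂⟩ := (mapSq (M := M) s).exists_hom a'.left b'.left (congrArg Over.Hom.left w')
  have hm : m ≫ X.hom = univBase M C sC := (mapSq (M := M) s).hom_ext _ _
    (by rw [← Category.assoc, hm₁, Over.w a']; exact (Over.w (σ M s.f (fA s sC) rfl)).symm)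
    (by rw [← Category.assoc, hm₂, Over.w b']; exact (Over.w (σ M s.g (gB s sC) rfl)).symm)
  refine ⟨inv (univPoint M C sC (𝟙 _)) ≫ Over.homMk m hm, ?_, ?_⟩
  · rw [← cancel_epi (univPoint M A (sp s.f ≫ sC) (𝟙 _)), ← reassoc_of% (σ_univPoint M s.f (fA s sC) rfl),
      IsIso.hom_inv_id_assoc]
    exact Over.OverMorphism.ext hm₁
  · rw [← cancel_epi (univPoint M B (sp s.g ≫ sC) (𝟙 _)), ← reassoc_of% (σ_univPoint M s.g (gB s sC) rfl),
      IsIso.hom_inv_id_assoc]
    exact Over.OverMorphism.ext hm₂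

theorem hom_ext₂ (a b : AMonS S M ⊗ (AMonS S M ⊗ Over.mk sC) ⟶ X)
    (h₁ : (AMonS S M ◁ (AMonS S M ◁ fA s sC)) ≫ a = (AMonS S M ◁ (AMonS S M ◁ fA s sC)) ≫ b)
    (h₂ : (AMonS S M ◁ (AMonS S M ◁ gB s sC)) ≫ a = (AMonS S M ◁ (AMonS S M ◁ gB s sC)) ≫ b) : a = b := by
  have := isIso_univPoint (N := M) C sC
  rw [← cancel_epi (AMonS S M ◁ univPoint M C sC (𝟙 _))]
  refine hom_ext₁ (mapSq (M := M) s) (univBase M C sC) _ _ ?_ ?_
  · let k : Over.mk (sp (mapSq (M := M) s).f ≫ univBase M C sC) ⟶ Over.mk (univBase M A (sp s.f ≫ sC)) :=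
      Over.homMk (𝟙 _) (by
        rw [Category.id_comp]
        exact (Over.w (σ M s.f (fA s sC) rfl)).symm)
    have e : fA (mapSq (M := M) s) (univBase M C sC) = k ≫ σ M s.f (fA s sC) rfl :=
      Over.OverMorphism.ext (Category.id_comp _).symm
    simp only [← MonoidalCategory.whiskerLeft_comp_assoc, e, Category.assoc, σ_univPoint]
    simp only [MonoidalCategory.whiskerLeft_comp, Category.assoc, h₁]
  · let k : Over.mk (sp (mapSq (M := M) s).g ≫ univBase M C sC) ⟶ Over.mk (univBase M B (sp s.g ≫ sC)) :=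
      Over.homMk (𝟙 _) (by
        rw [Category.id_comp]
        exact (Over.w (σ M s.g (gB s sC) rfl)).symm)
    have e : gB (mapSq (M := M) s) (univBase M C sC) = k ≫ σ M s.g (gB s sC) rfl :=
      Over.OverMorphism.ext (Category.id_comp _).symm
    simp only [← MonoidalCategory.whiskerLeft_comp_assoc, e, Category.assoc, σ_univPoint]
    simp only [MonoidalCategory.whiskerLeft_comp, Category.assoc, h₂]

/-- the push-out of two actions along the square -/
theorem exists_action (aA : MonAct (AMonS S M) (Over.mk (sp s.f ≫ sC)))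
    (aB : MonAct (AMonS S M) (Over.mk (sp s.g ≫ sC))) (aD : MonAct (AMonS S M) (Over.mk (sp s.q ≫ sp s.f ≫ sC)))
    (hq : MonAct.IsEquivariant aD aA (qA s sC)) (hp : MonAct.IsEquivariant aD aB (pB s sC)) :
    ∃ aC : MonAct (AMonS S M) (Over.mk sC),
      MonAct.IsEquivariant aA aC (fA s sC) ∧ MonAct.IsEquivariant aB aC (gB s sC) := by
  unfold MonAct.IsEquivariant at hq hp ⊢
  have hw : qA s sC ≫ fA s sC = pB s sC ≫ gB s sC := (isPushout₀ s sC).w
  obtain ⟨act, h₁, h₂⟩ := desc₁ s sC (aA.act ≫ fA s sC) (aB.act ≫ gB s sC) (by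
    rw [← reassoc_of% hq, ← reassoc_of% hp, hw])
  have hone : (η[AMonS S M] ▷ Over.mk sC) ≫ act = (λ_ (Over.mk sC)).hom := by
    rw [← cancel_epi (λ_ (Over.mk sC)).inv, Iso.inv_hom_id]
    refine hom_ext₀ s sC _ _ ?_ ?_
    · rw [Category.comp_id, leftUnitor_inv_naturality_assoc, whisker_exchange_assoc, h₁, reassoc_of% aA.one_act,
        Iso.inv_hom_id_assoc]
    · rw [Category.comp_id, leftUnitor_inv_naturality_assoc, whisker_exchange_assoc, h₂, reassoc_of% aB.one_act,
        Iso.inv_hom_id_assoc]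
  have hmul : (μ[AMonS S M] ▷ Over.mk sC) ≫ act =
      (α_ (AMonS S M) (AMonS S M) (Over.mk sC)).hom ≫ (AMonS S M ◁ act) ≫ act := by
    rw [← cancel_epi (α_ (AMonS S M) (AMonS S M) (Over.mk sC)).inv, Iso.inv_hom_id_assoc]
    refine hom_ext₂ s sC _ _ ?_ ?_
    · rw [← MonoidalCategory.whiskerLeft_comp_assoc, h₁, associator_inv_naturality_right_assoc,
        whisker_exchange_assoc, h₁, reassoc_of% aA.mul_act, Iso.inv_hom_id_assoc,
        MonoidalCategory.whiskerLeft_comp, Category.assoc, h₁]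
    · rw [← MonoidalCategory.whiskerLeft_comp_assoc, h₂, associator_inv_naturality_right_assoc,
        whisker_exchange_assoc, h₂, reassoc_of% aB.mul_act, Iso.inv_hom_id_assoc,
        MonoidalCategory.whiskerLeft_comp, Category.assoc, h₂]
  exact ⟨⟨act, hone, hmul⟩, h₁.symm, h₂.symm⟩

/-- equivariance is detected on the two pieces -/
theorem isEquivariant_of (aC : MonAct (AMonS S M) (Over.mk sC)) (aX : MonAct (AMonS S M) X)
    {aA : MonAct (AMonS S M) (Over.mk (sp s.f ≫ sC))} {aB : MonAct (AMonS S M) (Over.mk (sp s.g ≫ sC))}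
    (hf : MonAct.IsEquivariant aA aC (fA s sC)) (hg : MonAct.IsEquivariant aB aC (gB s sC))
    (φ : Over.mk sC ⟶ X) (h₁ : MonAct.IsEquivariant aA aX (fA s sC ≫ φ))
    (h₂ : MonAct.IsEquivariant aB aX (gB s sC ≫ φ)) : MonAct.IsEquivariant aC aX φ := by
  unfold MonAct.IsEquivariant at hf hg h₁ h₂ ⊢
  refine hom_ext₁ s sC _ _ ?_ ?_
  · rw [← reassoc_of% hf, h₁, MonoidalCategory.whiskerLeft_comp_assoc]
  · rw [← reassoc_of% hg, h₂, MonoidalCategory.whiskerLeft_comp_assoc]

end sch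

/-- transport an action along an isomorphism -/
def conjAct {𝒞 : Type*} [Category 𝒞] [CartesianMonoidalCategory 𝒞] {A X Y : 𝒞} [MonObj A] (a : MonAct A X) (e : Y ≅ X) :
    MonAct A Y where
  act := (A ◁ e.hom) ≫ a.act ≫ e.inv
  one_act := by
    rw [← whisker_exchange_assoc, reassoc_of% a.one_act, leftUnitor_naturality_assoc, Iso.hom_inv_id,
      Category.comp_id]
  mul_act := by
    rw [← whisker_exchange_assoc, reassoc_of% a.mul_act, MonoidalCategory.whiskerLeft_comp_assoc,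
      MonoidalCategory.whiskerLeft_comp_assoc, associator_naturality_right_assoc]
    rw [← MonoidalCategory.whiskerLeft_comp_assoc A e.inv, Iso.inv_hom_id, MonoidalCategory.whiskerLeft_id, Category.id_comp]

theorem conjAct_isEquivariant {𝒞 : Type*} [Category 𝒞] [CartesianMonoidalCategory 𝒞] {A X Y : 𝒞} [MonObj A]
    (a : MonAct A X) (e : Y ≅ X) : MonAct.IsEquivariant (conjAct a e) a e.hom := by
  unfold MonAct.IsEquivariant conjAct
  simp

end Groth.Agent.Misc15.SqStable

namespace Groth.Agent.Misc15.SqStable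

theorem conjAct_equivariant_of {𝒞 : Type*} [Category 𝒞] [CartesianMonoidalCategory 𝒞] {A X Y X' Y' : 𝒞} [MonObj A]
    (a : MonAct A X) (a' : MonAct A X') (e : Y ≅ X) (e' : Y' ≅ X') (f : Y ⟶ Y') (g : X ⟶ X')
    (h : f ≫ e'.hom = e.hom ≫ g) (hg : MonAct.IsEquivariant a a' g) :
    MonAct.IsEquivariant (conjAct a e) (conjAct a' e') f := by
  unfold MonAct.IsEquivariant conjAct at *
  simp only [Category.assoc]
  rw [← MonoidalCategory.whiskerLeft_comp_assoc, h, MonoidalCategory.whiskerLeft_comp_assoc, ← reassoc_of% hg]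
  congr 2
  rw [← cancel_mono e'.hom, Category.assoc, Category.assoc, h, Iso.inv_hom_id_assoc, Iso.inv_hom_id, Category.comp_id]

theorem equivariant_conjAct_inv {𝒞 : Type*} [Category 𝒞] [CartesianMonoidalCategory 𝒞] {A X Y : 𝒞} [MonObj A]
    (a : MonAct A X) (e : Y ≅ X) : MonAct.IsEquivariant a (conjAct a e) e.inv := by
  unfold MonAct.IsEquivariant conjAct
  simp [← MonoidalCategory.whiskerLeft_comp_assoc]

end Groth.Agent.Misc15.SqStable
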