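import Groth.Agent.Misc15.AMonCover

/-! Points of `A(N)_S` with values in an arbitrary scheme given by characters into global functions; homotheties. -/

set_option autoImplicit false
universe u

noncomputable section

open CategoryTheory CategoryTheory.Limits MonoidalCategory CartesianMonoidalCategory MonObj AlgebraicGeometry Opposite
open Magnet

namespace Groth.Agent.Misc15.TPoints

open Groth.Agent.Misc15.MagnetPoints (Z algZ charEquiv)
open Groth.Agent.Misc15.MagnetPointsS Groth.Agent.Misc15.AMonCover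

variable {S : Scheme.{u}} {N : Type} [AddCommMonoid N] {T : Over S}

/-- the point given by a character into global functions -/
def Pt (χ : Multiplicative N →* Γ(T.left, ⊤)) : T ⟶ AMonS S N :=
  letI := algZ Γ(T.left, ⊤)
  (Over.mapPullbackAdj (fS S)).homEquiv _ _
    (Over.homMk (T.left.toSpecΓ ≫ (CoactBr.pt (charEquiv Γ(T.left, ⊤) N χ)).left)
      (specULiftZIsTerminal.hom_ext _ _) : (Over.map (fS S)).obj T ⟶ AMon Z.{u} N)

theorem comp_Pt {K : Type u} [CommRing K] {sK : Spec (CommRingCat.of K) ⟶ S} (r : Over.mk sK ⟶ T)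
    (χ : Multiplicative N →* Γ(T.left, ⊤)) :
    r ≫ Pt χ = P sK ((↑((Scheme.ΓSpecIso (CommRingCat.of K)).hom.hom.comp r.left.appTop.hom) : _ →* K).comp χ) := by
  letI := algZ Γ(T.left, ⊤)
  letI := algZ K
  unfold Pt P
  rw [← Adjunction.homEquiv_naturality_left]
  congr 1
  ext1
  show r.left ≫ T.left.toSpecΓ ≫ Spec.map (CommRingCat.ofHom (charEquiv Γ(T.left, ⊤) N χ).toRingHom) =
    𝟙 _ ≫ Spec.map (CommRingCat.ofHom _)
  rw [Category.id_comp, ← Category.assoc]
  erw [Scheme.toSpecΓ_naturality]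
  show ((Spec (CommRingCat.of K)).toSpecΓ ≫ Spec.map r.left.appTop) ≫ _ = _
  rw [← SpecMap_ΓSpecIso_hom (CommRingCat.of K), Category.assoc, ← Spec.map_comp, ← Spec.map_comp]
  congr 1
  ext1
  apply MonoidAlgebra.ringHom_ext
  · rintro ⟨k⟩
    simp [charEquiv, Algebra.smul_def]
    show (Scheme.ΓSpecIso (CommRingCat.of K)).hom.hom (r.left.appTop.hom ((k : ℤ) : Γ(T.left, ⊤))) = ((k : ℤ) : K)
    rw [map_intCast, map_intCast]
  · intro m
    simp [charEquiv, Algebra.smul_def]

theorem Pt_one : Pt (1 : Multiplicative N →* Γ(T.left, ⊤)) = (1 : T ⟶ AMonS S N) := by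
  refine hom_ext_affine _ _ fun K _ sK r => ?_
  rw [comp_Pt, MonObj.comp_one, Hom.one_def, ← P_one]
  congr 1
  ext
  simp

theorem Pt_comp_map {N' : Type} [AddCommMonoid N'] (f : N' →+ N) (χ : Multiplicative N →* Γ(T.left, ⊤)) :
    Pt χ ≫ AMonS.map S f = Pt (χ.comp (AddMonoidHom.toMultiplicative f)) := by
  refine hom_ext_affine _ _ fun K _ sK r => ?_
  rw [← Category.assoc, comp_Pt, comp_Pt, P_comp_map]
  rfl

theorem comp_Pt' {T' : Over S} (t : T' ⟶ T) (χ : Multiplicative N →* Γ(T.left, ⊤)) :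
    t ≫ Pt χ = Pt ((↑t.left.appTop.hom : _ →* Γ(T'.left, ⊤)).comp χ) := by
  refine hom_ext_affine _ _ fun K _ sK r => ?_
  rw [← Category.assoc, comp_Pt, comp_Pt]
  rfl

theorem P_comp_faceMap {M : Type} [AddCommMonoid M] {N₀ F : AddSubmonoid M} (hF : IsFace N₀ F) {K : Type u} [CommRing K]
    (sK : Spec (CommRingCat.of K) ⟶ S) (χ : Multiplicative F →* K) :
    letI := algZ K
    P sK χ ≫ AMonS.faceMap S hF =
      P sK ((charEquiv K N₀).symm ((charEquiv K F χ).comp (faceAlgHom Z.{u} hF))) := by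
  letI := algZ K
  unfold P AMonS.faceMap
  rw [← Adjunction.homEquiv_naturality_right, Category.assoc, AMon.pt_comp_faceMap]
  rw [Equiv.apply_symm_apply]

end Groth.Agent.Misc15.TPoints
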